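import Cfsg.Agent.Lib.Block.Cover
import Cfsg.Agent.Lib.Char.BrauerApp
import Cfsg.Prelude.Def_BlockRank

/-!
Contributions of the trivial subsection and the Brauer-Feit bounds.
-/

namespace Cfsg.Agent.Blk

open MonoidAlgebra
open Cfsg.Agent.Char hiding cj cj_mul cj_inv_cj cj_cj_inv sum_cj_eq
open scoped ComplexConjugate

theorem exists_pmod (p : ℕ) [hp : Fact p.Prime] : ∃ M : Ideal AlgInt, PMod M p := by
  have h : Ideal.span {(p : AlgInt)} ≠ ⊤ := by
    rw [Ne, Ideal.span_singleton_eq_top, isUnit_iff_exists_inv]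
    rintro ⟨b, hb⟩
    have h1 : (p : ℂ) * (b : ℂ) = 1 := by exact_mod_cast congrArg Subtype.val hb
    have h0 : (p : ℂ) ≠ 0 := by exact_mod_cast hp.out.ne_zero
    have h2 : IsIntegral ℤ (((1 : ℕ) : ℂ) / p) := by
      rw [show ((1 : ℕ) : ℂ) / p = b by field_simp; exact_mod_cast h1.symm]
      exact b.2
    exact hp.out.not_dvd_one (nat_dvd_of_isIntegral_div hp.out.ne_zero h2)
  obtain ⟨M, hM, hle⟩ := Ideal.exists_le_maximal _ h
  exact ⟨M, ⟨hp.out, hM, hle (Ideal.mem_span_singleton_self _)⟩⟩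

section Fs

variable {G : Type*} [Group G] [Finite G]

open Classical in
/-- A set of irreducible characters as a finite set. -/
noncomputable def fs (A : Set (IrrCharacter G)) : Finset (IrrCharacter G) :=
  Finset.univ.filter (· ∈ A)

@[simp] theorem mem_fs {A : Set (IrrCharacter G)} {χ : IrrCharacter G} : χ ∈ fs A ↔ χ ∈ A := by
  simp [fs]

theorem coe_fs (A : Set (IrrCharacter G)) : (fs A : Set (IrrCharacter G)) = A := by
  ext; simp

theorem sum_ite_fs {β : Type*} [AddCommMonoid β] (A : Set (IrrCharacter G))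
    (f : IrrCharacter G → β) [DecidablePred (· ∈ A)] :
    (∑ χ, if χ ∈ A then f χ else 0) = ∑ χ ∈ fs A, f χ := by
  rw [← Finset.sum_filter]; congr 1; ext; simp

theorem finsum_fs {β : Type*} [AddCommMonoid β] (A : Set (IrrCharacter G))
    (f : IrrCharacter G → β) : ∑ᶠ χ ∈ A, f χ = ∑ χ ∈ fs A, f χ := by
  rw [← finsum_mem_coe_finset, coe_fs]

theorem card_fs (A : Set (IrrCharacter G)) : Nat.card A = (fs A).card := by
  rw [← Nat.card_eq_finsetCard]; congr 1; simp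

theorem card_subtype_fs (P : IrrCharacter G → Prop) :
    Nat.card {χ : IrrCharacter G // P χ} = (fs {χ | P χ}).card := card_fs {χ | P χ}

theorem sum_fs_eq_univ {β : Type*} [AddCommMonoid β] (A : Set (IrrCharacter G))
    {f : IrrCharacter G → β} (h : ∀ χ, χ ∉ A → f χ = 0) : ∑ χ ∈ fs A, f χ = ∑ χ, f χ :=
  Finset.sum_subset (Finset.subset_univ _) fun χ _ hχ => h χ (by simpa using hχ)

theorem blockPart_fs [Fintype G] (A : Set (IrrCharacter G)) (θ : G → ℂ) :
    blockPart A θ = ∑ χ ∈ fs A, classInner θ χ • (χ : G → ℂ) := by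
  classical
  funext g
  rw [blockPart_eq, sum_ite_fs, Finset.sum_apply]; rfl

theorem blockCoeff_fs (A : Set (IrrCharacter G)) (g : G) : blockCoeff A g =
    (Nat.card G : ℂ)⁻¹ * ∑ χ ∈ fs A, (χ : G → ℂ) 1 * conj ((χ : G → ℂ) g) := by
  classical
  rw [blockCoeff_eq, sum_ite_fs]

theorem classInner_sum_fs [Fintype G] (A : Set (IrrCharacter G)) (c : IrrCharacter G → ℂ)
    (ψ : IrrCharacter G) [Decidable (ψ ∈ A)] :
    classInner (∑ χ ∈ fs A, c χ • (χ : G → ℂ)) ψ = if ψ ∈ A then c ψ else 0 := by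
  classical
  rw [classInner_sum_left]
  simp only [classInner_smul_left, classInner_irr, mul_ite, mul_one, mul_zero]
  rw [Finset.sum_ite_eq']
  simp

end Fs

section Arith

variable {M : Ideal AlgInt} {p : ℕ} [PMod M p]

theorem intDiv_eq_natAbs (n : ℤ) (m : ℕ) :
    (n : ℂ) / m = (n.natAbs : ℂ) / m ∨ (n : ℂ) / m = -((n.natAbs : ℂ) / m) := by
  rcases Int.natAbs_eq n with h | h
  · left; rw [← Int.cast_natCast (R := ℂ) n.natAbs, ← h]
  · right; rw [← Int.cast_natCast (R := ℂ) n.natAbs, ← neg_div, ← Int.cast_neg, ← h]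

theorem intDiv_mem_O_iff {n : ℤ} {m : ℕ} (hm : m ≠ 0) :
    (n : ℂ) / m ∈ O M ↔ (p : ℤ) ^ m.factorization p ∣ n := by
  have hp := PMod.prime M
  by_cases hn : n = 0
  · subst hn; simp
  have h1 : (n : ℂ) / m ∈ O M ↔ (n.natAbs : ℂ) / m ∈ O M := by
    rcases intDiv_eq_natAbs n m with h | h <;> rw [h]
    exact neg_mem_iff
  have h0 : n.natAbs ≠ 0 := Int.natAbs_ne_zero.2 hn
  rw [h1, natDiv_mem_O_iff h0 hm, ← hp.pow_dvd_iff_le_factorization h0, ← Int.natCast_dvd,
    Nat.cast_pow]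

theorem LI_intDiv_iff {n : ℤ} {m : ℕ} (hm : m ≠ 0) :
    MemLocalIdeal M ((n : ℂ) / m) ↔ (p : ℤ) ^ (m.factorization p + 1) ∣ n := by
  have hp := PMod.prime M
  by_cases hn : n = 0
  · subst hn; simp [LI_zero]
  have h1 : MemLocalIdeal M ((n : ℂ) / m) ↔ MemLocalIdeal M ((n.natAbs : ℂ) / m) := by
    rcases intDiv_eq_natAbs n m with h | h <;> rw [h]
    exact LI_neg_iff
  have h0 : n.natAbs ≠ 0 := Int.natAbs_ne_zero.2 hn
  rw [h1, LI_natDiv_iff h0 hm, Nat.lt_iff_add_one_le, ← hp.pow_dvd_iff_le_factorization h0,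
    ← Int.natCast_dvd, Nat.cast_pow]

/-- A rational number with `p`-power denominator which is a local integer is an integer. -/
theorem exists_int_of_pow_mul {z : ℂ} (hz : z ∈ O M) {n : ℤ} {k : ℕ} (h : (p : ℂ) ^ k * z = n) :
    ∃ m : ℤ, z = m := by
  have := Fact.mk (PMod.prime M)
  have h0 : (p : ℂ) ^ k ≠ 0 := pow_ne_zero _ (p_ne_zero M)
  have h1 : z = (n : ℂ) / (p ^ k : ℕ) := by rw [← h]; push_cast; field_simp
  rw [h1, intDiv_mem_O_iff (pow_ne_zero _ (PMod.prime M).ne_zero), factorization_pow_self] at hz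
  obtain ⟨m, rfl⟩ := hz
  refine ⟨m, ?_⟩
  rw [h1]; push_cast; field_simp

end Arith

variable {G : Type*} [Group G] {M : Ideal AlgInt} {p : ℕ}

theorem reg_of_preg {θ : G → ℂ} {x : G} (h : ¬ p ∣ orderOf x) : reg p θ x = θ x := if_neg h

theorem reg_of_dvd {θ : G → ℂ} {x : G} (h : p ∣ orderOf x) : reg p θ x = 0 := if_pos h

theorem reg_reg (θ : G → ℂ) : reg p (reg p θ) = reg p θ := funext fun x => by
  by_cases h : p ∣ orderOf x <;> simp [reg, h]

theorem reg_add (θ φ : G → ℂ) : reg p (θ + φ) = reg p θ + reg p φ := funext fun x => by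
  by_cases h : p ∣ orderOf x <;> simp [reg, h]

theorem reg_sub (θ φ : G → ℂ) : reg p (θ - φ) = reg p θ - reg p φ := funext fun x => by
  by_cases h : p ∣ orderOf x <;> simp [reg, h]

theorem reg_smul (c : ℂ) (θ : G → ℂ) : reg p (c • θ) = c • reg p θ := funext fun x => by
  by_cases h : p ∣ orderOf x <;> simp [reg, h]

theorem reg_zero : reg p (0 : G → ℂ) = 0 := funext fun x => by simp [reg]

/-- Truncation to `p`-regular elements as a linear map. -/
noncomputable def regL (p : ℕ) : (G → ℂ) →ₗ[ℂ] (G → ℂ) where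
  toFun := reg p
  map_add' := reg_add
  map_smul' := reg_smul

theorem reg_sum {ι : Type*} (s : Finset ι) (f : ι → G → ℂ) :
    reg p (∑ i ∈ s, f i) = ∑ i ∈ s, reg p (f i) := map_sum (regL p) f s

theorem reg_congr {θ φ : G → ℂ} (h : ∀ x, ¬ p ∣ orderOf x → θ x = φ x) : reg p θ = reg p φ :=
  funext fun x => by
    by_cases hx : p ∣ orderOf x
    · rw [reg_of_dvd hx, reg_of_dvd hx]
    · rw [reg_of_preg hx, reg_of_preg hx, h x hx]

theorem reg_eq_self {θ : G → ℂ} (h : ∀ x, p ∣ orderOf x → θ x = 0) : reg p θ = θ :=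
  funext fun x => by
    by_cases hx : p ∣ orderOf x
    · rw [reg_of_dvd hx, h x hx]
    · rw [reg_of_preg hx]

theorem pRegularPart_eq (θ : G → ℂ) : pRegularPart p θ = reg p θ := funext fun x => by
  by_cases h : p ∣ orderOf x <;> simp [reg, pRegularPart, IsPRegular, h]

theorem ite_eq_smul_reg (c : ℂ) (θ : G → ℂ) :
    (fun x : G => if p ∣ orderOf x then 0 else c * θ x) = c • reg p θ := funext fun x => by
  by_cases h : p ∣ orderOf x <;> simp [reg, h]

theorem classInner_reg_comm [Fintype G] (θ φ : G → ℂ) :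
    classInner (reg p θ) φ = classInner θ (reg p φ) := by
  unfold classInner
  congr 1
  refine Finset.sum_congr rfl fun x _ => ?_
  by_cases h : p ∣ orderOf x <;> simp [reg, h]

theorem classInner_reg_reg [Fintype G] (θ φ : G → ℂ) :
    classInner (reg p θ) (reg p φ) = classInner (reg p θ) φ := by
  rw [← classInner_reg_comm, reg_reg]

theorem conj_classInner_reg [Fintype G] {θ φ : G → ℂ} (hθ : IsGeneralizedCharacter G θ)
    (hφ : IsGeneralizedCharacter G φ) :
    conj (classInner (reg p θ) φ) = classInner (reg p θ) φ := by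
  rw [conj_classInner, classInner, classInner]
  congr 1
  refine Fintype.sum_equiv (Equiv.inv G) _ _ fun x => ?_
  by_cases h : p ∣ orderOf x <;> simp [reg, h, hθ.apply_inv, hφ.apply_inv, mul_comm]

variable [Finite G]

/-- `p ^ a` times the truncation of a generalized character is a generalized character. -/
theorem isGen_pow_reg [hp : Fact p.Prime] {θ : G → ℂ} (hθ : IsGeneralizedCharacter G θ) :
    IsGeneralizedCharacter G (((p ^ (Nat.card G).factorization p : ℕ) : ℂ) • reg p θ) := by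
  classical
  refine brauer_char_nilpotent ((isClassFunction_reg p hθ.isClassFunction).smul _) fun E hE => ?_
  obtain ⟨A, B, -, hB, h1, h2, h3, h4⟩ := nilpotent_split E {p}
  have := Fintype.ofFinite E
  obtain ⟨k, hk⟩ := IsPGroup.iff_card.1 (Solv.isPGroup_of_forall_prime_dvd h3)
  have hidx : B.index = p ^ k := by rw [← hk, h1.index_eq_card]
  have hka : k ≤ (Nat.card G).factorization p := by
    rw [← hp.out.pow_dvd_iff_le_factorization Nat.card_pos.ne', ← hidx]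
    exact (Subgroup.index_dvd_card B).trans (Subgroup.card_subgroup_dvd_card E)
  have h5 := ((isCharacter_one.ind (H := B)).isGen.mul (hθ.res E)).natCast_smul
    (p ^ ((Nat.card G).factorization p - k))
  convert h5 using 1
  funext e
  simp only [Pi.smul_apply, Pi.mul_apply, smul_eq_mul]
  by_cases he : e ∈ B
  · have h6 : ¬ p ∣ orderOf (e : G) :=
      (isPiElt_compl_singleton_iff hp.out).1 (isPiElt_coe.2 (isPiElt_of_mem h4 he))
    have h7 := res_indFun_of_invariant (N := B) (θ := fun _ => (1 : ℂ)) (fun g => rfl) ⟨e, he⟩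
    rw [reg_of_preg h6, h7, hidx, ← mul_assoc, mul_one, ← Nat.cast_mul, ← pow_add,
      Nat.sub_add_cancel hka]
  · rw [indFun_normal_of_not_mem _ he, reg_of_dvd, mul_zero, zero_mul, mul_zero]
    by_contra h
    exact he (mem_of_preg_of_index hidx (by rwa [← Subgroup.orderOf_coe]))

theorem exists_int_reg [Fact p.Prime] [Fintype G] {θ φ : G → ℂ} (hθ : IsGeneralizedCharacter G θ)
    (hφ : IsGeneralizedCharacter G φ) : ∃ n : ℤ,
      (p : ℂ) ^ (Nat.card G).factorization p * classInner (reg p θ) φ = n := by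
  obtain ⟨n, hn⟩ := (isGen_pow_reg (p := p) hθ).classInner_eq_int hφ
  exact ⟨n, by rw [← hn, classInner_smul_left, Nat.cast_pow]⟩

theorem om_zr_eq [Fintype G] (χ ψ : IrrCharacter G) : om χ (zr p ψ.1) =
    (p : ℂ) ^ (Nat.card G).factorization p * classInner (reg p χ.1) ψ.1 /
      charDegree (χ : G → ℂ) := by
  rw [om, ch_zr_eq_reg _ ψ.2.isCharacter, cast_deg, Nat.cast_pow]

/-- `p ^ (a - ν(χ(1)))` times the truncation is still a generalized character. -/
theorem exists_int_reg_irr [Fact p.Prime] [Fintype G] (χ ψ : IrrCharacter G) : ∃ n : ℤ,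
    (p : ℂ) ^ ((Nat.card G).factorization p - nu p χ) * classInner (reg p χ.1) ψ.1 = n := by
  obtain ⟨M, hM⟩ := exists_pmod p
  obtain ⟨n, hn⟩ := exists_int_reg (p := p) χ.2.isGen ψ.2.isGen
  have h1 := om_zr_mem M χ ψ
  rw [om_zr_eq, hn, intDiv_mem_O_iff (charDegree_ne_zero χ)] at h1
  obtain ⟨m, rfl⟩ := h1
  refine ⟨m, mul_left_cancel₀ (pow_ne_zero (nu p χ) (p_ne_zero M)) ?_⟩
  rw [← mul_assoc, ← pow_add, Nat.add_sub_cancel' (nu_le p χ), hn]
  push_cast; rfl

theorem isGen_pow_reg_irr [Fact p.Prime] (χ : IrrCharacter G) : IsGeneralizedCharacter G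
    ((p : ℂ) ^ ((Nat.card G).factorization p - nu p χ) • reg p χ.1) := by
  have := Fintype.ofFinite G
  refine ((isClassFunction_reg p χ.2.isClassFunction).smul _).isGen_of_int fun ψ hψ => ?_
  rw [classInner_smul_left]
  exact exists_int_reg_irr χ ⟨ψ, hψ⟩

theorem exists_degree_of_sing [hp : Fact p.Prime] {χ : G → ℂ} (hχ : IsGeneralizedCharacter G χ)
    (h : ∀ x, p ∣ orderOf x → χ x = 0) :
    ∃ n : ℤ, χ 1 = (p : ℂ) ^ (Nat.card G).factorization p * n := by
  obtain ⟨P⟩ : Nonempty (Sylow p G) := inferInstance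
  obtain ⟨n, hn⟩ := exists_degree_eq_of_vanish hχ P fun x hx h1 =>
    h x (dvd_orderOf_of_pelt (pelt_of_mem P.isPGroup' hx) h1)
  exact ⟨n, by rw [hn, P.card_eq_multiplicity, Nat.cast_pow]⟩

theorem isGen_sum_int {ι : Type*} (s : Finset ι) (c : ι → ℤ) {f : ι → G → ℂ}
    (hf : ∀ i ∈ s, IsGeneralizedCharacter G (f i)) :
    IsGeneralizedCharacter G (∑ i ∈ s, (c i : ℂ) • f i) :=
  IsGeneralizedCharacter.sum fun i hi => (hf i hi).intCast_smul _

theorem IsUB.sum_degree_mul_eq_zero [PMod M p] {A : Set (IrrCharacter G)} (hA : IsUB M A) {y : G}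
    (hy : p ∣ orderOf y) : ∑ χ ∈ fs A, (χ : G → ℂ) 1 * (χ : G → ℂ) y = 0 := by
  classical
  have := Fact.mk (PMod.prime M)
  have h := hA.weak_orthogonality (x := 1) (y := y⁻¹) preg_one (by rwa [orderOf_inv])
  rw [sum_ite_fs] at h
  rw [← h]
  exact Finset.sum_congr rfl fun χ _ => by rw [χ.2.isCharacter.apply_inv, Complex.conj_conj]

theorem pow_mnu_dvd [hp : Fact p.Prime] {B : Set (IrrCharacter G)} {χ : IrrCharacter G}
    (hχ : χ ∈ B) : p ^ mnu p B ∣ charDegree (χ : G → ℂ) :=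
  (hp.out.pow_dvd_iff_le_factorization (charDegree_ne_zero χ)).2 (mnu_le p hχ)

/-- The integral contribution matrix of the trivial subsection. -/
noncomputable def am [Fintype G] (p : ℕ) (B : Set (IrrCharacter G)) (χ ψ : IrrCharacter G) : ℤ :=
  ⌊((p : ℂ) ^ blockDefect p B * classInner (reg p χ.1) ψ.1).re⌋

section Am

variable [Fintype G] {B : Set (IrrCharacter G)} {χ ψ η : IrrCharacter G}

theorem defect_eq_add (hχ : χ ∈ B) :
    blockDefect p B = ((Nat.card G).factorization p - nu p χ) + blockHeight p B χ := by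
  have h1 := defect_add_mnu (p := p) ⟨χ, hχ⟩
  have h2 := height_add_mnu (p := p) hχ
  have h3 := nu_le p χ
  omega

theorem height_le_defect (hχ : χ ∈ B) : blockHeight p B χ ≤ blockDefect p B := by
  rw [defect_eq_add hχ]; omega

theorem exists_am [Fact p.Prime] (hχ : χ ∈ B) (ψ : IrrCharacter G) : ∃ n : ℤ,
    (p : ℂ) ^ blockDefect p B * classInner (reg p χ.1) ψ.1 = (p ^ blockHeight p B χ * n : ℤ) ∧
    (p : ℂ) ^ ((Nat.card G).factorization p - nu p χ) * classInner (reg p χ.1) ψ.1 = n := by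
  obtain ⟨n, hn⟩ := exists_int_reg_irr (p := p) χ ψ
  refine ⟨n, ?_, hn⟩
  rw [defect_eq_add hχ, pow_add]
  push_cast
  rw [← hn]; ring

theorem am_cast [Fact p.Prime] (hχ : χ ∈ B) (ψ : IrrCharacter G) :
    (am p B χ ψ : ℂ) = (p : ℂ) ^ blockDefect p B * classInner (reg p χ.1) ψ.1 := by
  obtain ⟨n, hn, -⟩ := exists_am (p := p) hχ ψ
  rw [am, hn, Complex.intCast_re, Int.floor_intCast]

theorem am_comm (χ ψ : IrrCharacter G) : am p B χ ψ = am p B ψ χ := by
  rw [am, am, ← conj_classInner_reg χ.2.isGen ψ.2.isGen, conj_classInner, classInner_reg_comm]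

theorem pow_height_dvd_am [Fact p.Prime] (hχ : χ ∈ B) (ψ : IrrCharacter G) :
    (p : ℤ) ^ blockHeight p B χ ∣ am p B χ ψ := by
  obtain ⟨n, hn, -⟩ := exists_am (p := p) hχ ψ
  rw [← am_cast hχ] at hn
  exact ⟨n, by exact_mod_cast hn⟩

theorem sum_am_smul [Fact p.Prime] (hχ : χ ∈ B) :
    ∑ ψ : IrrCharacter G, (am p B χ ψ : ℂ) • (ψ : G → ℂ) =
      (p : ℂ) ^ blockDefect p B • reg p χ.1 := by
  conv_rhs => rw [((isClassFunction_reg p χ.2.isClassFunction).smul _).eq_sum]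
  exact Finset.sum_congr rfl fun ψ _ => by rw [am_cast hχ, classInner_smul_left]

theorem sum_am_mul_univ [Fact p.Prime] (hχ : χ ∈ B) (hη : η ∈ B) :
    ∑ ψ : IrrCharacter G, am p B χ ψ * am p B η ψ = p ^ blockDefect p B * am p B χ η := by
  have h1 := (isClassFunction_reg p χ.2.isClassFunction).classInner_eq_sum (reg p η.1)
  rw [classInner_reg_reg] at h1
  apply Int.cast_injective (α := ℂ)
  push_cast
  rw [am_cast hχ, h1, Finset.mul_sum, Finset.mul_sum]
  refine Finset.sum_congr rfl fun ψ _ => ?_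
  rw [am_cast hχ, am_cast hη, conj_classInner_reg η.2.isGen ψ.2.isGen]; ring

theorem om_zr_eq_am [Fact p.Prime] (hχ : χ ∈ B) (ψ : IrrCharacter G) : om χ (zr p ψ.1) =
    ((p ^ mnu p B * am p B χ ψ : ℤ) : ℂ) / charDegree (χ : G → ℂ) := by
  rw [om_zr_eq, ← defect_add_mnu (p := p) ⟨χ, hχ⟩]
  push_cast
  rw [am_cast hχ]; ring

end Am

end Cfsg.Agent.Blk

namespace Cfsg.IsPBlock

open Cfsg.Agent.Blk MonoidAlgebra
open Cfsg.Agent.Char hiding cj cj_mul cj_inv_cj cj_cj_inv sum_cj_eq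
open scoped ComplexConjugate

variable {G : Type*} [Group G] [Fintype G] {M : Ideal AlgInt} {p : ℕ} [PMod M p]
  {B : Set (IrrCharacter G)} {χ ψ η : IrrCharacter G}

theorem classInner_reg_eq_zero (hB : IsPBlock M B) (hχ : χ ∈ B) (hψ : ψ ∉ B) :
    classInner (reg p χ.1) ψ.1 = 0 :=
  Agent.Blk.classInner_reg_eq_zero (M := M) fun h => hψ (hB.mem_iff.2 (h ▸ hB.blk_eq hχ))

theorem am_eq_zero (hB : IsPBlock M B) (hχ : χ ∈ B) (hψ : ψ ∉ B) : am p B χ ψ = 0 := by
  rw [am, hB.classInner_reg_eq_zero hχ hψ]; simp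

theorem sum_am_mul (hB : IsPBlock M B) (hχ : χ ∈ B) (hη : η ∈ B) :
    ∑ ψ ∈ fs B, am p B χ ψ * am p B η ψ = p ^ blockDefect p B * am p B χ η := by
  have := Fact.mk (PMod.prime M)
  rw [← sum_am_mul_univ hχ hη]
  exact sum_fs_eq_univ _ fun ψ hψ => by rw [hB.am_eq_zero hχ hψ, zero_mul]

theorem sum_am_smul (hB : IsPBlock M B) (hχ : χ ∈ B) :
    ∑ ψ ∈ fs B, (am p B χ ψ : ℂ) • (ψ : G → ℂ) = (p : ℂ) ^ blockDefect p B • reg p χ.1 := by
  have := Fact.mk (PMod.prime M)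
  rw [← Agent.Blk.sum_am_smul hχ]
  exact sum_fs_eq_univ _ fun ψ hψ => by rw [hB.am_eq_zero hχ hψ, Int.cast_zero, zero_smul]

theorem pow_succ_dvd_am_iff (hB : IsPBlock M B) (hχ : χ ∈ B) (hψ : ψ ∈ B) :
    (p : ℤ) ^ (blockHeight p B χ + 1) ∣ am p B χ ψ ↔ blockHeight p B ψ ≠ 0 := by
  have := Fact.mk (PMod.prime M)
  have h1 := hB.not_LI_om_zr_iff (p := p) (χ := ψ) hχ
  have h0 : (p : ℤ) ^ mnu p B ≠ 0 := pow_ne_zero _ (by exact_mod_cast (PMod.prime M).ne_zero)
  rw [om_zr_eq_am hχ, LI_intDiv_iff (charDegree_ne_zero χ),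
    show (charDegree (χ : G → ℂ)).factorization p + 1 = mnu p B + (blockHeight p B χ + 1) by
      have := height_add_mnu (p := p) hχ; unfold nu at this; omega,
    pow_add, mul_dvd_mul_iff_left h0] at h1
  tauto

theorem am_ne_zero (hB : IsPBlock M B) (hχ : χ ∈ B) (hψ : ψ ∈ B) (h0 : blockHeight p B ψ = 0) :
    am p B χ ψ ≠ 0 := fun h => (hB.pow_succ_dvd_am_iff hχ hψ).1 (h ▸ dvd_zero _) h0

theorem pow_le_am_sq (hB : IsPBlock M B) (hχ : χ ∈ B) (hψ : ψ ∈ B) (h0 : blockHeight p B ψ = 0) :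
    (p : ℤ) ^ (2 * blockHeight p B χ) ≤ am p B χ ψ ^ 2 := by
  have := Fact.mk (PMod.prime M)
  obtain ⟨n, hn⟩ := pow_height_dvd_am (p := p) hχ ψ
  have h1 : n ≠ 0 := fun h => hB.am_ne_zero hχ hψ h0 (by rw [hn, h, mul_zero])
  rw [hn, mul_pow, ← pow_mul, mul_comm 2]
  exact le_mul_of_one_le_right (by positivity) ((one_le_sq_iff_one_le_abs n).2 (Int.one_le_abs h1))

open Classical in
theorem sum_erase_am_sq (hB : IsPBlock M B) (hχ : χ ∈ B) :
    ∑ ψ ∈ (fs B).erase χ, am p B χ ψ ^ 2 = am p B χ χ * (p ^ blockDefect p B - am p B χ χ) := by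
  have h1 := hB.sum_am_mul (p := p) hχ hχ
  rw [← Finset.add_sum_erase _ _ (mem_fs.2 hχ)] at h1
  simp only [sq]
  linear_combination h1

open Classical in
theorem four_mul_sum_erase_le (hB : IsPBlock M B) (hχ : χ ∈ B) :
    4 * ∑ ψ ∈ (fs B).erase χ, am p B χ ψ ^ 2 ≤ (p ^ blockDefect p B) ^ 2 := by
  rw [hB.sum_erase_am_sq hχ]
  nlinarith [sq_nonneg ((p : ℤ) ^ blockDefect p B - 2 * am p B χ χ)]

/-- The Brauer-Feit inequality. -/
theorem brauer_feit (hB : IsPBlock M B) :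
    4 * ∑ χ ∈ fs B, p ^ (2 * blockHeight p B χ) ≤ (p ^ blockDefect p B) ^ 2 + 4 := by
  classical
  obtain ⟨ψ, hψ, h0⟩ := exists_height_zero p hB.nonempty
  have h1 := hB.four_mul_sum_erase_le (p := p) hψ
  have h2 : ∑ χ ∈ (fs B).erase ψ, (p : ℤ) ^ (2 * blockHeight p B χ) ≤
      ∑ χ ∈ (fs B).erase ψ, am p B ψ χ ^ 2 := Finset.sum_le_sum fun χ hχ => by
    rw [am_comm]; exact hB.pow_le_am_sq (mem_fs.1 (Finset.mem_of_mem_erase hχ)) hψ h0
  rw [← Finset.add_sum_erase _ _ (mem_fs.2 hψ), h0, mul_zero, pow_zero]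
  zify
  linarith

theorem height_add_two_le (hB : IsPBlock M B) (hχ : χ ∈ B) (h : blockHeight p B χ ≠ 0) :
    blockHeight p B χ + 2 ≤ blockDefect p B := by
  classical
  have hp := PMod.prime M
  obtain ⟨ψ, hψ, h0⟩ := exists_height_zero p hB.nonempty
  have hne : ψ ≠ χ := fun e => h (e ▸ h0)
  have h1 : 0 < ∑ ψ ∈ (fs B).erase χ, am p B χ ψ ^ 2 :=
    Finset.sum_pos' (fun _ _ => sq_nonneg _) ⟨ψ, Finset.mem_erase.2 ⟨hne, mem_fs.2 hψ⟩,
      sq_pos_of_ne_zero (hB.am_ne_zero hχ hψ h0)⟩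
  rw [hB.sum_erase_am_sq hχ] at h1
  have hq : (0 : ℤ) < p ^ blockDefect p B := by have := hp.pos; positivity
  have h2 : 0 < am p B χ χ := by nlinarith
  have h3 : am p B χ χ < p ^ blockDefect p B := by nlinarith
  have h4 := (Int.le_of_dvd h2 ((hB.pow_succ_dvd_am_iff hχ hχ).2 h)).trans_lt h3
  have h5 := (pow_lt_pow_iff_right₀ (by exact_mod_cast hp.one_lt : (1 : ℤ) < p)).1 h4
  omega

theorem height_eq_zero_of_defect_le (hB : IsPBlock M B) (hχ : χ ∈ B) (h : blockDefect p B ≤ 2) :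
    blockHeight p B χ = 0 := by
  by_contra h1
  have := hB.height_add_two_le hχ h1
  omega

theorem two_mul_card_le (hB : IsPBlock M B) (hχ : χ ∈ B) (h : blockHeight p B χ ≠ 0) :
    2 * (fs B).card ≤ p ^ (2 * blockDefect p B - 2) := by
  classical
  have hp := PMod.prime M
  have hd := hB.height_add_two_le hχ h
  set S := (fs B).filter fun ψ : IrrCharacter G => blockHeight p B ψ = 0 with hS
  set T := (fs B).filter fun ψ : IrrCharacter G => ¬ blockHeight p B ψ = 0 with hT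
  have hc : S.card + T.card = (fs B).card := Finset.card_filter_add_card_filter_not _
  have hq : (p ^ blockDefect p B) ^ 2 = p ^ 2 * p ^ (2 * blockDefect p B - 2) := by
    rw [← pow_add, ← pow_mul]; congr 1; omega
  have hp2 : ∀ k : ℕ, k ≠ 0 → p ^ 2 ≤ p ^ (2 * k) := fun k hk =>
    Nat.pow_le_pow_right hp.pos (by omega)
  have h1 : 4 * (p ^ 2 * S.card) ≤ (p ^ blockDefect p B) ^ 2 := by
    have h2 := hB.four_mul_sum_erase_le (p := p) hχ
    have h3 : ∑ ψ ∈ S, (p : ℤ) ^ 2 ≤ ∑ ψ ∈ (fs B).erase χ, am p B χ ψ ^ 2 := by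
      refine (Finset.sum_le_sum fun ψ hψ => ?_).trans
        (Finset.sum_le_sum_of_subset_of_nonneg (fun ψ hψ => ?_) fun _ _ _ => sq_nonneg _)
      · obtain ⟨h4, h5⟩ := Finset.mem_filter.1 hψ
        refine le_trans ?_ (hB.pow_le_am_sq hχ (mem_fs.1 h4) h5)
        exact_mod_cast hp2 _ h
      · obtain ⟨h4, h5⟩ := Finset.mem_filter.1 hψ
        exact Finset.mem_erase.2 ⟨fun e => h (e ▸ h5), h4⟩
    rw [Finset.sum_const, nsmul_eq_mul] at h3
    zify
    linarith
  have h2 : 4 * (p ^ 2 * T.card) ≤ (p ^ blockDefect p B) ^ 2 := by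
    have h3 := hB.brauer_feit (p := p)
    rw [← Finset.sum_filter_add_sum_filter_not (fs B)
      (fun ψ : IrrCharacter G => blockHeight p B ψ = 0), ← hS, ← hT] at h3
    have h4 : ∑ ψ ∈ T, p ^ 2 ≤ ∑ ψ ∈ T, p ^ (2 * blockHeight p B ψ) :=
      Finset.sum_le_sum fun ψ hψ => hp2 _ (Finset.mem_filter.1 hψ).2
    obtain ⟨ψ, hψ, h0⟩ := exists_height_zero p hB.nonempty
    have h5 : p ^ (2 * blockHeight p B ψ) ≤ ∑ ψ ∈ S, p ^ (2 * blockHeight p B ψ) :=
      Finset.single_le_sum (f := fun ψ : IrrCharacter G => p ^ (2 * blockHeight p B ψ)) (fun _ _ => Nat.zero_le _)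
        (Finset.mem_filter.2 ⟨mem_fs.2 hψ, h0⟩)
    rw [h0] at h5
    rw [Finset.sum_const, smul_eq_mul] at h4
    simp only [mul_zero, pow_zero] at h5
    rw [mul_comm (p ^ 2)]
    omega
  rw [hq] at h1 h2
  have h0 : 0 < p ^ 2 := pow_pos hp.pos _
  have h3 : 4 * S.card ≤ p ^ (2 * blockDefect p B - 2) :=
    Nat.le_of_mul_le_mul_left (by linarith) h0
  have h4 : 4 * T.card ≤ p ^ (2 * blockDefect p B - 2) :=
    Nat.le_of_mul_le_mul_left (by linarith) h0
  omega

theorem factorization_sum_sq (hB : IsPBlock M B) :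
    (∑ χ ∈ fs B, charDegree (χ : G → ℂ) ^ 2).factorization p =
      2 * (Nat.card G).factorization p - blockDefect p B := by
  classical
  have hp := PMod.prime M
  have := Fact.mk hp
  obtain ⟨ψ, hψ, h0⟩ := exists_height_zero p hB.nonempty
  have hm0 : (p : ℂ) ^ mnu p B ≠ 0 := pow_ne_zero _ (p_ne_zero M)
  set g : IrrCharacter G → ℕ := fun χ => charDegree (χ : G → ℂ) / p ^ mnu p B with hg
  have hg1 : ∀ χ ∈ B, charDegree (χ : G → ℂ) = p ^ mnu p B * g χ := fun χ hχ =>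
    (Nat.mul_div_cancel' (pow_mnu_dvd hχ)).symm
  have hg2 : ∀ χ ∈ B, (χ : G → ℂ) 1 = p ^ mnu p B * g χ := fun χ hχ => by
    rw [← cast_deg, hg1 χ hχ]; push_cast; rfl
  have hg0 : ∀ χ ∈ B, (g χ : ℂ) ≠ 0 := fun χ hχ h => χ.2.apply_one_ne_zero (by
    rw [hg2 χ hχ, h, mul_zero])
  have h1 : ∀ χ ∈ B, (p : ℤ) ∣ am p B ψ ψ * g χ - g ψ * am p B ψ χ := fun χ hχ => by
    have h2 := LI_om_sub_om ((hB.blk_eq hψ).trans (hB.blk_eq hχ).symm)
      (zr_mem ψ.2.isClassFunction) (isInt_zr_irr (p := p) ψ)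
    rw [om_zr_eq_am hψ, om_zr_eq_am hχ, cast_deg, cast_deg, hg2 χ hχ, hg2 ψ hψ] at h2
    have h3 := LI_mul_left (natCast_mem (O M) (g χ * g ψ)) h2
    rw [← LI_intCast_iff (M := M)]
    convert h3 using 1
    have := hg0 χ hχ
    have := hg0 ψ hψ
    rw [am_comm χ ψ]
    push_cast
    field_simp
  choose! c hc using h1
  have h2 := isGen_sum_int (fs B) c (f := fun χ => χ.1) fun χ _ => χ.2.isGen
  have h3 : ∀ y, (p : ℂ) * (∑ χ ∈ fs B, (c χ : ℂ) • χ.1) y =
      am p B ψ ψ * (∑ χ ∈ fs B, χ.1 1 * χ.1 y) / p ^ mnu p B -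
        g ψ * (p ^ blockDefect p B * reg p ψ.1 y) := fun y => by
    have h4 := congrFun (hB.sum_am_smul (p := p) hψ) y
    simp only [Finset.sum_apply, Pi.smul_apply, smul_eq_mul] at h4 ⊢
    rw [← h4, Finset.mul_sum, Finset.mul_sum, Finset.mul_sum, Finset.sum_div,
      ← Finset.sum_sub_distrib]
    refine Finset.sum_congr rfl fun χ hχ => ?_
    have h5 : (am p B ψ ψ : ℂ) * g χ - g ψ * am p B ψ χ = p * c χ := by
      exact_mod_cast hc χ (mem_fs.1 hχ)
    rw [hg2 χ (mem_fs.1 hχ), ← mul_assoc, ← h5]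
    field_simp
  obtain ⟨n, hn⟩ := exists_degree_of_sing (p := p) h2 fun y hy => by
    have h4 := h3 y
    rw [hB.isUB.sum_degree_mul_eq_zero hy, reg_of_dvd hy] at h4
    exact (mul_eq_zero.1 (by simpa using h4)).resolve_left (p_ne_zero M)
  have h4 := h3 1
  have h5 : ∑ χ ∈ fs B, χ.1 1 * χ.1 1 = (p ^ mnu p B) ^ 2 * ∑ χ ∈ fs B, (g χ : ℂ) ^ 2 := by
    rw [Finset.mul_sum]
    exact Finset.sum_congr rfl fun χ hχ => by rw [hg2 χ (mem_fs.1 hχ)]; ring
  rw [hn, h5, reg_of_preg preg_one, hg2 ψ hψ, ← defect_add_mnu (p := p) hB.nonempty] at h4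
  have h6 : am p B ψ ψ * (∑ χ ∈ fs B, g χ ^ 2 : ℕ) = p ^ blockDefect p B * (p * n + g ψ ^ 2) := by
    apply Int.cast_injective (α := ℂ)
    apply mul_left_cancel₀ hm0
    push_cast
    field_simp at h4
    linear_combination -h4
  have h7 : ¬ (p : ℤ) ∣ am p B ψ ψ := fun h => (hB.pow_succ_dvd_am_iff hψ hψ).1
    (by rwa [h0, zero_add, pow_one]) h0
  have h8 : ¬ p ∣ g ψ := fun h => by
    have h9 : p ^ (mnu p B + 1) ∣ charDegree (ψ : G → ℂ) := by
      rw [hg1 ψ hψ, pow_succ]; exact Nat.mul_dvd_mul_left _ h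
    have := (hp.pow_dvd_iff_le_factorization (charDegree_ne_zero ψ)).1 h9
    have := (height_eq_zero_iff hψ).1 h0
    unfold nu at this
    omega
  have hpi : Prime (p : ℤ) := Nat.prime_iff_prime_int.1 hp
  have h9 : ¬ (p : ℤ) ∣ p * n + g ψ ^ 2 := fun h => h8 (Int.natCast_dvd_natCast.1
    (hpi.dvd_of_dvd_pow ((dvd_add_right (dvd_mul_right _ _)).1 h)))
  set S := ∑ χ ∈ fs B, g χ ^ 2 with hS
  have hS0 : S ≠ 0 := by
    rintro h
    rw [h, Nat.cast_zero, mul_zero, eq_comm, mul_eq_zero] at h6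
    rcases h6 with h6 | h6
    · exact hpi.ne_zero (pow_eq_zero_iff'.1 h6).1
    · exact h9 (h6 ▸ dvd_zero _)
  have h10 : S.factorization p = blockDefect p B := by
    apply le_antisymm
    · by_contra h
      have h11 : (p : ℤ) ^ (blockDefect p B + 1) ∣ S := by
        exact_mod_cast (hp.pow_dvd_iff_le_factorization hS0).2 (by omega)
      have h12 := h11.mul_left (am p B ψ ψ)
      rw [h6, pow_succ, mul_dvd_mul_iff_left (pow_ne_zero _ hpi.ne_zero)] at h12
      exact h9 h12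
    · rw [← hp.pow_dvd_iff_le_factorization hS0, ← Int.natCast_dvd_natCast, Nat.cast_pow]
      exact hpi.pow_dvd_of_dvd_mul_left _ h7 (h6 ▸ dvd_mul_right _ _)
  have h11 : ∑ χ ∈ fs B, charDegree (χ : G → ℂ) ^ 2 = p ^ (2 * mnu p B) * S := by
    rw [hS, Finset.mul_sum]
    exact Finset.sum_congr rfl fun χ hχ => by rw [hg1 χ (mem_fs.1 hχ)]; ring
  rw [h11, Nat.factorization_mul (pow_ne_zero _ hp.ne_zero) hS0, Finsupp.add_apply,
    factorization_pow_self, h10, ← defect_add_mnu (p := p) hB.nonempty]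
  omega

end Cfsg.IsPBlock
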