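import Cfsg.Agent.Lib.Block.Fong
import Cfsg.Agent.Lib.Solv.Coprime
import Cfsg.Agent.Lib.Solv.PGrp

/-!
Group-theoretic complements for blocks with abelian or cyclic defect groups.
-/

namespace Cfsg.Agent.Blk

open MonoidAlgebra

variable {G : Type*} [Group G] [Finite G] {k : Type*} [Field k] {p : ℕ} [hp : Fact p.Prime]
  {H P Q : Subgroup G} {e B : k[G]}

omit [Finite G] hp in
theorem le_Ce_self_of_isCyclic (h : IsCyclic P) : P ≤ Ce P := fun x hx => mem_Ce.2 fun y hy =>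
  congrArg Subtype.val ((h.isMulCommutative).is_comm.comm (⟨y, hy⟩ : P) ⟨x, hx⟩)

theorem coprime_card_zpowers {y : G} (hy : ¬ p ∣ orderOf y) (hP : IsPGroup p P) :
    (Nat.card (Subgroup.zpowers y)).Coprime (Nat.card P) := by
  obtain ⟨n, hn⟩ := hP.exists_card_eq
  rw [Nat.card_zpowers, hn]
  exact ((hp.out.coprime_iff_not_dvd.2 hy).symm).pow_right n

theorem le_of_isCyclic_of_card_prime (hc : IsCyclic P) (hP : IsPGroup p P) {Z : Subgroup G}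
    (hZ : Z ≤ P) (hZc : (Nat.card Z).Prime) (hQ : Q ≤ P) (hQ1 : Q ≠ ⊥) : Z ≤ Q := by
  refine Solv.le_of_isCyclic_of_card_dvd hc hZ hQ ?_
  obtain ⟨n, hn⟩ := (isPGroup_le hP hZ).exists_card_eq
  obtain ⟨m, hm⟩ := (isPGroup_le hP hQ).exists_card_eq
  rw [hn] at hZc
  rw [hn, hm, hZc.eq_one_of_pow, pow_one]
  refine dvd_pow_self p fun h => hQ1 ?_
  rw [h, pow_zero] at hm
  exact Subgroup.eq_bot_of_card_eq Q hm

theorem mem_Ce_of_preg_of_fix (hc : IsCyclic P) (hP : IsPGroup p P) {y x : G} (hy : y ∈ No P)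
    (hyp : ¬ p ∣ orderOf y) (hx : x ∈ P) (hx1 : x ≠ 1) (h : y * x * y⁻¹ = x) : y ∈ Ce P := by
  refine Solv.zpowers_le_centralizer_iff.1 (Solv.coprime_abelian_le_centralizer hc.isMulCommutative
    (Subgroup.zpowers_le.2 hy) (coprime_card_zpowers hyp hP) fun v hv hvp a ha => ?_)
  have h1 : v ∈ Subgroup.zpowers x := le_of_isCyclic_of_card_prime hc hP (Subgroup.zpowers_le.2 hv)
    (by rwa [Nat.card_zpowers]) (Subgroup.zpowers_le.2 hx) (by rwa [Ne, Subgroup.zpowers_eq_bot])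
    (Subgroup.mem_zpowers v)
  obtain ⟨i, rfl⟩ := h1
  obtain ⟨j, rfl⟩ := ha
  exact (Commute.zpow_zpow (mul_inv_eq_iff_eq_mul.1 h) j i).eq

variable [CharP k p] [IsAlgClosed k]

theorem IsMP.ppart_mem_Ce (hm : IsMP p H B P e) (hP : P ≤ Ce P) {g s : G}
    (hg : g ∈ stab (H ⊓ No P) e) (hs : IsPPart p g s) : s ∈ Ce P :=
  sup_le hP inf_le_right (hm.le_sup hs.isPGroup (Subgroup.zpowers_le.2 (hs.mem hg))
    (Subgroup.mem_zpowers s))

theorem IsMP.mem_Ce_of_fix (hm : IsMP p H B P e) (hc : IsCyclic P) {g x : G}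
    (hg : g ∈ stab (H ⊓ No P) e) (hx : x ∈ P) (hx1 : x ≠ 1) (h : g * x * g⁻¹ = x) : g ∈ Ce P := by
  obtain ⟨s, hs⟩ := exists_isPPart p g
  have h1 := hm.ppart_mem_Ce (le_Ce_self_of_isCyclic hc) hg hs
  have h2 : s⁻¹ * g ∈ Ce P := mem_Ce_of_preg_of_fix hc hm.bp.pg
    ((No P).mul_mem ((No P).inv_mem (Ce_le_No P h1)) hg.1.2) hs.preg hx hx1 (by
      calc s⁻¹ * g * x * (s⁻¹ * g)⁻¹ = s⁻¹ * (g * x * g⁻¹) * s⁻¹⁻¹ := by group
        _ = x := by rw [h, conj_eq_of_mem_Ce ((Ce P).inv_mem h1) hx])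
  simpa using (Ce P).mul_mem h1 h2

end Cfsg.Agent.Blk
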