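import Cfsg.Agent.Lib.Block.PDict

/-!
Covering of blocks: dictionary, the Fong-Reynolds correspondence, Harris-Knörr.
-/

namespace Cfsg.Agent.Blk

open MonoidAlgebra
open Cfsg.Agent.Char hiding cj cj_mul cj_inv_cj cj_cj_inv sum_cj_eq

section alg
variable {G : Type*} [Group G] {k : Type*} [Field k] {p : ℕ} [Finite G]
  {N L T P Q D H K : Subgroup G} {b B B' c e f : k[G]}

theorem eq_zero_of_graded {I : k[G] → Prop} (hI : ∀ v ∈ inv k N, ∀ y, I y → I (v * y))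
    (hnil : ∀ z ∈ Z k N, I z → IsNilpotent z) {i : k[G]} (hi : IsIdempotentElem i)
    (hdec : i ∈ AddSubmonoid.closure {y | I y ∧ ∃ e ∈ No N, Homog N e y}) : i = 0 := by
  classical
  let S : ℕ → Set k[G] := fun n => {x | (∃ u ∈ inv k N, ∃ z ∈ Z k N, IsNilpotent z ∧ x = u * z) ∨
    (x ∈ inv k N ∧ ∃ (T : Finset (G ⧸ N)) (d : G), T.card = n ∧ ∀ τ ∈ T, ∃ t : G,
      (t : G ⧸ N) = τ ∧ ∃ u ∈ inv k N, ∃ v, Homog N (t⁻¹ * d) v ∧ x = u * v)}
  have step : ∀ n, ∀ x ∈ S n, ∀ e ∈ No N, ∀ y, Homog N e y → I y → x * y ∈ S (n + 1) := by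
    intro n x hx e he y hy hy0
    rcases hx with ⟨u, hu, z, hz, hzn, rfl⟩ | ⟨hx, T, d, hT, hx'⟩
    · refine Or.inl ⟨u * y, mul_mem hu hy.1, z, hz, hzn, ?_⟩
      rw [mul_assoc, mul_assoc, (commute_of_mem hy.1 (mem_Z.1 hz).1).eq]
    · by_cases hmem : ((d * e : G) : G ⧸ N) ∈ T
      · obtain ⟨t, ht, u, hu, v, hv, rfl⟩ := hx' _ hmem
        have h4 := hv.mul hy he
        have h5 : t⁻¹ * d * e ∈ N := by rw [mul_assoc]; exact QuotientGroup.eq.1 ht
        have h6 : v * y ∈ Z k N := mem_Z.2 ⟨mem_sup.2 fun g hg => by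
          by_contra h7
          exact hg (by simpa only [mul_inv_cancel_left] using N.mul_mem h5 (h4.2 g h7)), h4.1⟩
        exact Or.inl ⟨u, hu, v * y, h6, hnil _ h6 (hI v hv.1 y hy0), mul_assoc _ _ _⟩
      · refine Or.inr ⟨mul_mem hx hy.1, insert ((d * e : G) : G ⧸ N) T, d * e,
          by rw [Finset.card_insert_of_notMem hmem, hT], fun τ hτ => ?_⟩
        rcases Finset.mem_insert.1 hτ with rfl | hτ
        · refine ⟨d * e, rfl, x * y, mul_mem hx hy.1, 1, ⟨one_mem _, fun g hg => ?_⟩,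
            (mul_one _).symm⟩
          rw [coeff_one'] at hg
          have : 1 = g := by by_contra h; exact hg (if_neg h)
          rw [← this]; simp
        · obtain ⟨t, ht, u, hu, v, hv, rfl⟩ := hx' _ hτ
          exact ⟨t, ht, u, hu, v * y, by rw [← mul_assoc]; exact hv.mul hy he, mul_assoc _ _ _⟩
  have step2 : ∀ n, ∀ x ∈ S n, x * i ∈ AddSubmonoid.closure (S (n + 1)) := by
    intro n x hx
    refine AddSubmonoid.closure_induction (motive := fun z _ =>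
      x * z ∈ AddSubmonoid.closure (S (n + 1))) ?_ (by simp)
      (fun a c _ _ ha hc => by rw [mul_add]; exact add_mem ha hc) hdec
    rintro y ⟨h1, e, he, h2⟩
    exact AddSubmonoid.subset_closure (step n x hx e he y h2 h1)
  have step3 : ∀ n, i ^ n ∈ AddSubmonoid.closure (S n) := by
    intro n
    induction n with
    | zero => exact AddSubmonoid.subset_closure (Or.inr ⟨by simp, ∅, 1, rfl, by simp⟩)
    | succ n ih =>
      rw [pow_succ]
      refine AddSubmonoid.closure_induction (motive := fun x _ =>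
        x * i ∈ AddSubmonoid.closure (S (n + 1))) (step2 n) (by simp)
        (fun a c _ _ ha hc => by rw [add_mul]; exact add_mem ha hc) ih
  have := Fintype.ofFinite (G ⧸ N)
  have key : i ^ (Fintype.card (G ⧸ N) + 1) ∈ inv k N ∧ ∀ y ∈ inv k N, IsNilpotent y →
      IsNilpotent (y + i ^ (Fintype.card (G ⧸ N) + 1)) := by
    refine AddSubmonoid.closure_induction (motive := fun x _ => x ∈ inv k N ∧
      ∀ y ∈ inv k N, IsNilpotent y → IsNilpotent (y + x)) ?_ ⟨zero_mem _, by simp⟩ ?_ (step3 _)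
    · rintro x (⟨u, hu, z, hz, hzn, rfl⟩ | ⟨-, T, d, hT, -⟩)
      · exact ⟨mul_mem hu (mem_Z.1 hz).2, fun y hy hyn => nilpotent_add_mul hy hu hz hyn hzn⟩
      · exact absurd (T.card_le_univ) (by omega)
    · intro a c _ _ ha hc
      exact ⟨add_mem ha.1 hc.1, fun y hy hyn => by
        rw [← add_assoc]; exact hc.2 _ (add_mem hy ha.1) (ha.2 y hy hyn)⟩
  have h4 := key.2 0 (zero_mem _) IsNilpotent.zero
  rw [zero_add, hi.pow_succ_eq] at h4
  exact idem_eq_zero_of_nilpotent hi h4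

section coset
variable {R : Type*} [CommRing R]

theorem tr_coset_mul (g : G) (a : R[G]) {c : R[G]} (hc : c ∈ sup R N) :
    tr {h | g⁻¹ * h ∈ N} (a * c) = tr {h | g⁻¹ * h ∈ N} a * c := by
  classical
  have := Fintype.ofFinite G
  refine ext' fun x => ?_
  rw [coeff_tr, coeff_mul_right, coeff_mul_right]
  have key : ∀ h, c.coeff h ≠ 0 → (g⁻¹ * (x * h⁻¹) ∈ N ↔ g⁻¹ * x ∈ N) := fun h hh => by
    rw [← mul_assoc]; exact N.mul_mem_cancel_right (N.inv_mem (mem_of_coeff_ne_zero hc hh))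
  split_ifs with hx
  · refine Finset.sum_congr rfl fun h _ => ?_
    by_cases hh : c.coeff h = 0
    · rw [hh, mul_zero, mul_zero]
    · rw [coeff_tr_of_mem (S := {h | g⁻¹ * h ∈ N}) (g := x * h⁻¹) _ ((key h hh).2 hx)]
  · refine (Finset.sum_eq_zero fun h _ => ?_).symm
    by_cases hh : c.coeff h = 0
    · rw [hh, mul_zero]
    · rw [coeff_tr_of_notMem (S := {h | g⁻¹ * h ∈ N}) (g := x * h⁻¹) _
        (fun h1 => hx ((key h hh).1 h1)), zero_mul]

theorem tr_coset_mem_inv {g : G} (hg : g ∈ No N) {a : R[G]} (ha : a ∈ inv R N) :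
    tr {h | g⁻¹ * h ∈ N} a ∈ inv R N :=
  tr_mem_inv_of_set ha fun x hx h => by
    have h1 : g⁻¹ * (x * h * x⁻¹) = (g⁻¹ * x * g) * (g⁻¹ * h) * x⁻¹ := by group
    simp only [Set.mem_ofPred_eq]
    rw [h1, N.mul_mem_cancel_right (N.inv_mem hx), N.mul_mem_cancel_left (conj_mem_of_No' hg hx)]

theorem eq_sum_tr_coset (N : Subgroup G) [Fintype (G ⧸ N)] (a : R[G]) :
    a = ∑ τ : G ⧸ N, tr {h | τ.out⁻¹ * h ∈ N} a := by
  classical
  refine ext' fun x => ?_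
  rw [coeff_sum', Finset.sum_eq_single (x : G ⧸ N)]
  · exact (coeff_tr_of_mem (S := {h | (x : G ⧸ N).out⁻¹ * h ∈ N}) (g := x) a
      (QuotientGroup.eq.1 (QuotientGroup.out_eq' _))).symm
  · intro τ _ hτ
    exact coeff_tr_of_notMem a fun h => hτ ((QuotientGroup.out_eq' τ).symm.trans (QuotientGroup.eq.2 h))
  · simp

end coset

omit [Finite G] in
theorem IsBlock.mul_cj_eq_zero (hb : IsBlock N b) (h2 : L ≤ No N) {x : G} (hx : x ∈ L)
    (h : x ∉ stab L b) : b * Blk.cj x b = 0 :=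
  hb.mul_eq_zero (hb.cj_of_mem_No (h2 hx)) fun h1 => h ⟨hx, h1.symm⟩

theorem IsBlock.mul_mul_eq_tr (hb : IsBlock N b) (h2 : L ≤ No N) {a : k[G]}
    (ha : a ∈ Blk.sup k L) : b * a * b = b * tr (stab L b : Set G) a * b := by
  classical
  have := Fintype.ofFinite G
  conv_lhs => rw [eq_sum_single a]
  conv_rhs => rw [eq_sum_single (tr (stab L b : Set G) a)]
  simp only [Finset.mul_sum, Finset.sum_mul, mul_smul_comm, smul_mul_assoc]
  refine Finset.sum_congr rfl fun g _ => ?_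
  rw [coeff_tr]
  split_ifs with hg
  · rfl
  · by_cases h0 : a.coeff g = 0
    · rw [h0]
    · have h1 : b * single g (1 : k) * b = b * Blk.cj g b * single g 1 := by
        rw [Blk.cj_eq, mul_assoc, mul_assoc, mul_assoc, single_mul_single, inv_mul_cancel, mul_one,
          ← one_def, mul_one]
      rw [h1, hb.mul_cj_eq_zero h2 (mem_of_coeff_ne_zero ha h0) hg]; simp

omit [Finite G] in
theorem IsBlock.le_stab' (hb : IsBlock N b) (h1 : N ≤ L) : N ≤ stab L b := le_stab.2 ⟨h1, hb.inv⟩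

omit [Finite G] in
theorem IsBlock.mem_Z_stab (hb : IsBlock N b) (h1 : N ≤ L) : b ∈ Z k (stab L b) :=
  mem_Z.2 ⟨sup_mono (hb.le_stab' h1) hb.sup, mem_inv_stab L b⟩

theorem IsBlock.mul_eq_tr_mul (hb : IsBlock N b) (h1 : N ≤ L) (h2 : L ≤ No N) {z : k[G]}
    (hz : z ∈ Z k L) : z * b = tr (stab L b : Set G) z * b := by
  have h3 := hb.mul_mul_eq_tr h2 (mem_Z.1 hz).1
  rwa [← (commute_of_mem (inv_anti h1 (mem_Z.1 hz).2) hb.sup).eq,
    (Z_comm (hb.mem_Z_stab h1) (tr_mem_Z (stab_le L b) hz)).eq, mul_assoc, mul_assoc,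
    hb.mul_self] at h3

theorem IsBlock.mul_mem_Z_stab (hb : IsBlock N b) (h1 : N ≤ L) (h2 : L ≤ No N) {z : k[G]}
    (hz : z ∈ Z k L) : z * b ∈ Z k (stab L b) := by
  rw [hb.mul_eq_tr_mul h1 h2 hz]
  exact mul_mem (tr_mem_Z (stab_le L b) hz) (hb.mem_Z_stab h1)

omit [Finite G] in
theorem IsBlock.mul_eq_of_cover_stab (hb : IsBlock N b) (h1 : N ≤ L)
    (hB' : IsBlock (stab L b) B') (h : B' * b ≠ 0) : b * B' = B' :=
  hb.mul_eq_of_stable (hb.le_stab' h1) hB' h (mem_inv_stab L b)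

theorem IsBlock.FR_eq (hb : IsBlock N b) (h1 : N ≤ L) (h2 : L ≤ No N) (hB : IsBlock L B)
    (hB' : IsBlock (stab L b) B') (h : B' * b ≠ 0) (h3 : B * B' ≠ 0) :
    B = orb L B' ∧ B' = B * b := by
  classical
  have h4 := hb.mul_eq_of_cover_stab h1 hB' h
  have h4' : B' * b = B' := by rw [← (Z_comm (hb.mem_Z_stab h1) hB'.mem).eq, h4]
  have h5 : B * B' = B' := by
    have := hB'.mul_eq_self_of_ne_zero (hb.mul_mem_Z_stab h1 h2 hB.mem)
      (hB.idem.mul_of_commute (commute_of_mem (inv_anti h1 hB.inv) hb.sup) hb.idem)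
      (by rwa [mul_assoc, h4])
    rwa [mul_assoc, h4] at this
  have h6 : ∀ f ∈ orbit L B', f ≠ B' → f * b = 0 := by
    intro f hf hne
    obtain ⟨x, hx, rfl⟩ := mem_orbit.1 hf
    have h7 : x ∉ stab L b := fun h7 => hne (hB'.cj_eq h7)
    rw [← h4', map_mul, mul_assoc, (Z_comm (hb.cj_of_mem_No (h2 hx)).mem hb.mem).eq,
      hb.mul_cj_eq_zero h2 hx h7, mul_zero]
  have h7 : orb L B' * b = B' := by
    rw [orb, Finset.sum_mul, Finset.sum_eq_single B' h6 (fun h => absurd (mem_orbit_self L B') h), h4']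
  have h8 : orb L B' * B' = B' := by
    conv_lhs => rw [← h4, ← mul_assoc, h4, h7, hB'.mul_self]
  have h9 : IsIdempotentElem (orb L B') := mul_orb_eq (orb_mem_inv L B') h8
  have h10 : orb L B' ∈ Z k L := mem_Z.2 ⟨orb_mem_sup (le_No L) (sup_mono (stab_le L b) hB'.sup),
    orb_mem_inv L B'⟩
  have h11 := mul_orb_eq hB.inv h5
  have h12 : B = orb L B' := by
    have := hB.mul_eq_self_of_ne_zero h10 h9 (by
      rw [(Z_comm h10 hB.mem).eq, h11]
      exact fun h0 => hB'.ne (by rw [← h8, h0, zero_mul]))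
    rw [← this, (Z_comm h10 hB.mem).eq, h11]
  exact ⟨h12, by rw [h12, h7]⟩

theorem IsBlock.isBlock_mul_stab (hb : IsBlock N b) (h1 : N ≤ L) (h2 : L ≤ No N)
    (hB : IsBlock L B) (h : B * b ≠ 0) : IsBlock (stab L b) (B * b) := by
  obtain ⟨B', hB', h3⟩ := exists_block_mul_eq (hb.mul_mem_Z_stab h1 h2 hB.mem)
    (hB.idem.mul_of_commute (commute_of_mem (inv_anti h1 hB.inv) hb.sup) hb.idem) h
  have h4 : b * B' ≠ 0 := fun h0 => hB'.ne (by rw [← h3, mul_assoc, h0, mul_zero])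
  have h5 : B' * b ≠ 0 := by rwa [← (Z_comm (hb.mem_Z_stab h1) hB'.mem).eq]
  rw [mul_assoc, hb.mul_eq_of_cover_stab h1 hB' h5] at h3
  rwa [← (hb.FR_eq h1 h2 hB hB' h5 (h3.symm ▸ hB'.ne)).2]

variable [IsAlgClosed k]

theorem IsBlock.FR_ind_iff (hb : IsBlock N b) (h1 : N ≤ L) (h2 : L ≤ No N) (hB : IsBlock L B)
    (hB' : IsBlock (stab L b) B') (h : B' * b ≠ 0) : Ind L (stab L b) B' B ↔ B * B' ≠ 0 := by
  have h4 := hb.mul_eq_of_cover_stab h1 hB' h
  have key : ∀ z ∈ Z k L, lam B' (tr (stab L b : Set G) z) = lam B' (z * b) := fun z hz => by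
    rw [hb.mul_eq_tr_mul h1 h2 hz, hB'.lam_mul (tr_mem_Z (stab_le L b) hz) (hb.mem_Z_stab h1),
      hB'.lam_eq_one_of_mul (hb.mem_Z_stab h1) h4, mul_one]
  constructor
  · intro h5 h0
    have h6 := h5.lam_tr_self hB
    rw [key B hB.mem, hB'.lam_eq_zero_of_mul (hb.mul_mem_Z_stab h1 h2 hB.mem)
      (by rw [mul_assoc, h4, h0])] at h6
    exact zero_ne_one h6
  · intro h5 z hz
    rw [key z hz]
    refine hB'.lam_eq (hb.mul_mem_Z_stab h1 h2 hz) ?_
    have h6 : B * B' = B' := by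
      conv_rhs => rw [(hb.FR_eq h1 h2 hB hB' h h5).2]
      conv_lhs => rw [(hb.FR_eq h1 h2 hB hB' h h5).2, ← mul_assoc, hB.mul_self]
    have h7 : (z * b - algebraMap k _ (lam B z)) * B' = (z - algebraMap k _ (lam B z)) * B * B' := by
      rw [mul_assoc, h6, sub_mul, sub_mul, mul_assoc, h4]
    rw [h7]
    exact (commute_of_mem (mem_Z.1 (mul_mem (sub_mem hz (Subalgebra.algebraMap_mem _ _)) hB.mem)).2
      (sup_mono (stab_le L b) hB'.sup)).isNilpotent_mul_right (hB.lam_spec hz)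

variable [Fact p.Prime] [CharP k p]

theorem IsBlock.FR_isDef (hb : IsBlock N b) (h1 : N ≤ L) (h2 : L ≤ No N) (hB : IsBlock L B)
    (h : B * b ≠ 0) (hD : IsDef p (stab L b) (B * b) D) : IsDef p L B D := by
  obtain ⟨P, hP⟩ := hB.exists_isDef p
  have hDL := hD.le.trans (stab_le L b)
  have h3 := hD.ne
  rw [Br_mul hD.pg (inv_anti hDL hB.inv) (inv_anti hD.le (mem_inv_stab L b))] at h3
  refine hP.of_card hB.inv hDL hD.pg (left_ne_zero_of_mul h3) ?_
  obtain ⟨x, hx, h4, h5⟩ := hb.exists_stable_conj h1 h2 hB h hP.pg hP.le hP.ne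
  rw [← Br_mul hP.pg h4 (inv_anti hP.le hB.inv)] at h5
  have h6 := Br_cs_ne_zero h5 x⁻¹
  rw [map_mul, cj_inv_cj, hB.cj_eq (L.inv_mem hx),
    ← (commute_of_mem (inv_anti h1 hB.inv) hb.sup).eq] at h6
  rw [← card_cs x⁻¹ P]
  refine hD.card_le (le_stab.2 ⟨?_, by simpa using cj_mem_inv x⁻¹ h4⟩) (isPGroup_cs _ hP.pg) h6
  rw [← cs_eq_of_mem (L.inv_mem hx)]; exact cs_mono _ hP.le

/-- The Harris-Knörr step: a block of `N_L(Q)` under a block covering a block of defect group `Q`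
has the same defect groups. -/
theorem IsBlock.HK_isMP (hb : IsBlock N b) (h1 : N ≤ L) (h2 : L ≤ No N) (hB : IsBlock L B)
    (h : B * b ≠ 0) (hQ : IsDef p N b Q) (hc : IsBlock (L ⊓ No Q) c) (h3 : Br Q B * c = c)
    (hP : IsMP p (L ⊓ No Q) c P e) : IsMP p L B P e ∧ P ⊓ N = Q := by
  have hQL := hQ.le.trans h1
  have hQP : Q ≤ P := hc.le_of_isDef hP.isDef hQ.pg (le_inf hQL (le_No Q)) inf_le_right
  have h4 := inf_Ce_le_inf_No L Q
  have he := hP.bp.of_sub h4 inf_le_left hQP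
  have h5 : Br P B * e = e := by
    rw [← hP.eq, ← mul_assoc, ← Br_Br_of_le hQP B, ← Br_mul hP.bp.pg
      (Br_mem_inv (inv_anti he.le hB.inv) (hP.bp.le.trans inf_le_right))
      (inv_anti hP.bp.le hc.inv), h3]
  have key : ∀ R : Subgroup G, IsPGroup p R → R ≤ L → Q ≤ R → Br R B ≠ 0 → R ⊓ N = Q := fun R hR hRL hQR h6 =>
    (Subgroup.eq_of_le_of_card_ge (le_inf hQR hQ.le) (hb.card_inf_le h1 h2 hB h hR hRL h6 hQ)).symm
  refine ⟨isMP_of_max he hB h5 fun R g hR => hP.max (hR.to_sub h4 inf_le_left hQP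
    (le_inf hR.leH ?_)).ple, key P he.pg he.le hQP (Br_ne_zero_of_mul_eq he.blk.ne h5)⟩
  rw [← key R hR.pg hR.leH (hQP.trans hR.le) (Br_ne_zero_of_mul_eq hR.blke.ne
    ((hR.ple.Br_mul_iff_Z hR.leH hB.mem hB.idem).2 h5))]
  exact le_trans (le_inf (le_No R) (hR.leH.trans h2)) (No_inf_le _ _)

theorem IsBlock.HK_unique (hb : IsBlock N b) (h1 : N ≤ L) (h2 : L ≤ No N) (hB : IsBlock L B)
    (h : B * b ≠ 0) (hQ : IsDef p N b Q) {c' : k[G]} (hc : IsBlock (L ⊓ No Q) c)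
    (hc' : IsBlock (L ⊓ No Q) c') (h3 : Br Q B * c = c) (h3' : Br Q B * c' = c') : c = c' := by
  obtain ⟨P, hP⟩ := hc.exists_isDef p
  obtain ⟨e, he⟩ := hP.exists_isMP hc
  obtain ⟨P', hP'⟩ := hc'.exists_isDef p
  obtain ⟨e', he'⟩ := hP'.exists_isMP hc'
  obtain ⟨h4, h5⟩ := hb.HK_isMP h1 h2 hB h hQ hc h3 he
  obtain ⟨h4', h5'⟩ := hb.HK_isMP h1 h2 hB h hQ hc' h3' he'
  obtain ⟨x, hx, rfl, rfl⟩ := h4.conj h4'
  have h6 : x ∈ L ⊓ No Q := ⟨hx, mem_No.2 (by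
    conv_lhs => rw [← h5', cs_inf, mem_No.1 (h2 hx), h5])⟩
  have h7 := (he'.cs h6).eq
  refine hc.eq_of_mul_ne_zero hc' fun h0 => he.bp.blk.ne ?_
  rw [← he.eq, ← h7, ← mul_assoc, ← Br_mul hP.pg (inv_anti hP.le hc.inv) (inv_anti hP.le hc'.inv),
    h0, map_zero, zero_mul]

end alg

variable {G : Type*} [Group G] [Finite G] {M : Ideal AlgInt} {p : ℕ}
  {N K T L : Subgroup G} {b : Set (IrrCharacter N)} {B : Set (IrrCharacter G)}

section dict
variable [M.IsMaximal]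

theorem _root_.Cfsg.IsPBlock.forall_irrMap_mem_iff (hb : IsPBlock M b) {x : G} (h : cs x N = N) :
    (∀ θ ∈ b, irrMap (conjIso h) θ ∈ b) ↔ cj x (barS M N b) = barS M N b := by
  rw [← barS_image_conj h]
  have hb' := (isPBlock_image_iff (conjIso h)).2 hb
  constructor
  · intro h1
    obtain ⟨θ, hθ⟩ := hb.nonempty
    rw [hb'.eq_of_mem hb ⟨θ, hθ, rfl⟩ (h1 θ hθ)]
  · intro h1 θ hθ
    rw [← hb'.barS_inj hb h1]; exact ⟨θ, hθ, rfl⟩

theorem _root_.Cfsg.IsPBlock.forall_conj_mem_iff (hb : IsPBlock M b) {x : G} (hx : x ∈ No N) :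
    (∀ θ ∈ b, ∀ θ' : IrrCharacter N, (∀ h h' : N, (h' : G) = x * h * x⁻¹ →
      (θ' : N → ℂ) h' = (θ : N → ℂ) h) → θ' ∈ b) ↔ cj x (barS M N b) = barS M N b := by
  rw [← hb.forall_irrMap_mem_iff (mem_No.1 hx)]
  simp only [conj_iff_eq_irrMap (mem_No.1 hx), forall_eq]

theorem eq_irrMap_inv_iff [hN : N.Normal] (g : G) {θ θ' : IrrCharacter N} :
    (∀ n : N, (θ' : N → ℂ) n = (θ : N → ℂ) ⟨g * n * g⁻¹, hN.conj_mem n n.2 g⟩) ↔
      θ' = irrMap (conjIso (cs_normal g⁻¹ N)) θ := by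
  have : ∀ n : N, (irrMap (conjIso (cs_normal g⁻¹ N)) θ : N → ℂ) n =
      (θ : N → ℂ) ⟨g * n * g⁻¹, hN.conj_mem n n.2 g⟩ := fun n => by
    rw [irrMap_apply]
    exact congrArg _ (Subtype.ext (by rw [coe_conjIso_symm, inv_inv]))
  exact ⟨fun h => Subtype.ext (funext fun n => (h n).trans (this n).symm), fun h => h ▸ this⟩

theorem _root_.Cfsg.IsPBlock.forall_conj_normal_iff [hN : N.Normal] (hb : IsPBlock M b) (g : G) :
    (∀ θ ∈ b, ∀ θ' : IrrCharacter N, (∀ n : N, (θ' : N → ℂ) n =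
      (θ : N → ℂ) ⟨g * n * g⁻¹, hN.conj_mem n n.2 g⟩) → θ' ∈ b) ↔ g ∈ stab ⊤ (barS M N b) := by
  simp only [eq_irrMap_inv_iff, forall_eq]
  rw [hb.forall_irrMap_mem_iff, ← Subgroup.inv_mem_iff, mem_stab,
    and_iff_right (Subgroup.mem_top _)]

theorem _root_.Cfsg.IsPBlock.stabilizes_normal_iff [N.Normal] (hb : IsPBlock M b) (g : G) :
    StabilizesBlock N b g ↔ g ∈ stab ⊤ (barS M N b) := by
  rw [hb.isUB.stabilizesBlock_iff, mem_stab, and_iff_right (Subgroup.mem_top _),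
    and_iff_right (top_le_No N trivial)]

theorem es_barS_subgroupOf (h : N ≤ T) (b : Set (IrrCharacter N)) :
    es T (barS M (N.subgroupOf T) (irrMap (Subgroup.subgroupOfEquivOfLe h).symm '' b)) =
      barS M N b := by
  rw [barS, barS, bar_image, emb_emb, emb_emb]; rfl

theorem IsUB.cover_iffS [Fintype N] (h : N ≤ T) {B' : Set (IrrCharacter T)} (hB : IsUB M B')
    (hb : IsUB M b) : (∃ ψ ∈ B', ∃ θ ∈ b, classInner (fun n : N => (ψ : T → ℂ) ⟨n, h n.2⟩)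
      (θ : N → ℂ) ≠ 0) ↔ barS M T B' * barS M N b ≠ 0 := by
  have := Fintype.ofFinite (N.subgroupOf T)
  rw [← es_barS_subgroupOf h b, barS, ← map_mul (es T), map_ne_zero_iff _ (es_injective T),
    ← hB.cover_iff ((isUB_image_iff _).2 hb)]
  refine exists_congr fun ψ => and_congr_right fun _ => ?_
  simp only [Set.mem_image, exists_exists_and_eq_and]
  refine exists_congr fun θ => and_congr_right fun _ => ?_
  rw [← classInner_subgroupOf h]; rfl

theorem blk_mul_ne_zeroS [Fintype N] (h : N ≤ T) {ψ : IrrCharacter T} {θ : IrrCharacter N}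
    (h1 : classInner (fun n : N => (ψ : T → ℂ) ⟨n, h n.2⟩) (θ : N → ℂ) ≠ 0) :
    es T (blk M ψ) * es N (blk M θ) ≠ 0 := by
  rw [← barS_blockOf, ← barS_blockOf]
  exact ((isUB_blockOf ψ).cover_iffS h (isUB_blockOf θ)).1
    ⟨ψ, mem_blockOf_self ψ, θ, mem_blockOf_self θ, h1⟩

/-- Every character of a covered block lies under a character of the covering block. -/
theorem _root_.Cfsg.IsPBlock.exists_over_of_cover [N.Normal] [Fintype N] (hb : IsPBlock M b)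
    (hB : IsUB M B) (h : bar M B * barS M N b ≠ 0) {θ : IrrCharacter N} (hθ : θ ∈ b) :
    ∃ χ ∈ B, classInner (fun n : N => (χ : G → ℂ) n) (θ : N → ℂ) ≠ 0 := by
  classical
  by_contra hcon
  have h0 : fC B * es N (fC {θ}) = 0 := by
    by_contra h0
    obtain ⟨χ, hχ, θ', rfl, h1⟩ := (fC_mul_es_ne_zero_iff N B {θ}).1 h0
    exact hcon ⟨χ, hχ, h1⟩
  have hbS := hb.isBlockS
  refine h (eq_zero_of_graded (N := N) (I := fun y => y * barS M N b = y ∧ ∃ y' ∈ inv (O M) N,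
    toK M y' = y ∧ toC M y' * es N (fC {θ}) = 0) ?_ ?_
    (hB.bar_idem.mul_of_commute (Z_top_comm (bar_mem B) _) hbS.idem) ?_)
  · rintro v hv y ⟨h1, y', hy', rfl, h2⟩
    obtain ⟨v', -, hv', rfl⟩ := exists_cf_eq_of_mem res_surjective (mem_sup_top v) hv
    exact ⟨by rw [mul_assoc, h1], v' * y', mul_mem hv' hy', map_mul _ _ _,
      by rw [map_mul, mul_assoc, h2, mul_zero]⟩
  · rintro z hz ⟨h1, y', hy', rfl, h2⟩
    rw [← h1, ← hbS.lam_eq_zero_iff hz, ← tr_of_mem_sup (mem_Z.1 hz).1, hb.lam_tr hθ hy']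
    have h3 := congrArg (fun a => ch (θ : N → ℂ) (rs N a)) h2
    simp only [rs_mul_right _ (es_mem_sup N _), rs_es, map_zero] at h3
    rw [← (Z_top_comm (fC_mem _) _).eq, ch_fC_mul_of_mem (Set.mem_singleton θ)] at h3
    rw [om, h3, zero_div, rd_zero]
  · have := Fintype.ofFinite (G ⧸ N)
    rw [eq_sum_tr_coset N (bar M B * barS M N b)]
    refine AddSubmonoid.sum_mem _ fun τ _ => AddSubmonoid.subset_closure ⟨⟨?_,
      tr {h | τ.out⁻¹ * h ∈ N} (fO M B * fOS M N b), tr_coset_mem_inv (top_le_No N trivial)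
        (mul_mem (inv_anti le_top (mem_Z.1 (fO_mem B)).2) (mem_Z.1 (fOS_mem N b)).2), ?_, ?_⟩,
      τ.out, top_le_No N trivial, tr_coset_mem_inv (top_le_No N trivial)
        (mul_mem (inv_anti le_top (mem_Z.1 (bar_mem B)).2) hbS.inv), fun g hg => ?_⟩
    · rw [← tr_coset_mul _ _ hbS.sup, mul_assoc, hbS.mul_self]
    · rw [cf_tr, map_mul, toK_fO, toK_fOS]
    · rw [cf_tr, ← tr_coset_mul _ _ (es_mem_sup N _), map_mul (toC M), hB.toC_fO, hb.isUB.toC_fOS,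
        mul_assoc, ← map_mul (es N), (Z_top_comm (fC_mem b) _).eq, map_mul (es N), ← mul_assoc, h0,
        zero_mul, map_zero]
    · by_contra h1
      exact hg (coeff_tr_of_notMem _ h1)

theorem ind_blk_of_indFun [Fintype G] {ψ : IrrCharacter T} {χ : IrrCharacter G}
    (h : (χ : G → ℂ) = indFun T (ψ : T → ℂ)) : Ind ⊤ T (es T (blk M ψ)) (blk M χ) := by
  intro z hz
  obtain ⟨z, hz', rfl⟩ := exists_toK_eq_Z hz
  rw [lam_es_blk_tr ψ (inv_anti le_top (mem_Z.1 hz').2), lam_blk χ hz', h,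
    om_indFun T _ (toC_mem_Z hz')]

omit [M.IsMaximal] in
theorem isIrr_indFun_of_inertia_le [Fintype G] [N.Normal] [Fintype N] {θ : N → ℂ}
    (hθ : IsIrrCharacter N θ) (hNT : N ≤ T) (hT : inertia N θ ≤ T) {ψ : T → ℂ}
    (hψ : IsIrrCharacter T ψ) (h : classInner (fun n : N => ψ ⟨n, hNT n.2⟩) θ ≠ 0) :
    IsIrrCharacter G (indFun T ψ) := by
  have := Fintype.ofFinite T
  have := Fintype.ofFinite (N.subgroupOf T)
  have hθ' : IsIrrCharacter (N.subgroupOf T)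
      (fun x => θ ⟨(x : T), Subgroup.mem_subgroupOf.mp x.2⟩) :=
    hθ.comp_equiv (Subgroup.subgroupOfEquivOfLe hNT)
  rw [← classInner_subgroupOf hNT] at h
  obtain ⟨η, hη, h1, h2⟩ := hθ'.clifford_surj rfl (le_inertia hθ'.isClassFunction) hψ h
  have h3 : (inertia (N.subgroupOf T) fun x => θ ⟨(x : T), Subgroup.mem_subgroupOf.mp x.2⟩).map
      T.subtype = inertia N θ := by
    ext g
    constructor
    · rintro ⟨t, ht, rfl⟩
      exact mem_inertia'.2 fun n => mem_inertia'.1 ht ⟨⟨n, hNT n.2⟩, n.2⟩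
    · intro hg
      exact ⟨⟨g, hT hg⟩, mem_inertia'.2 fun n => mem_inertia'.1 hg ⟨(n : T), n.2⟩, rfl⟩
  rw [← h1, indFun_indFun_map]
  refine (hθ.clifford_ind h3 (h3 ▸ le_inertia hθ.isClassFunction) (hη.comp_equiv _) ?_).1
  rw [← classInner_subgroupOf hNT]
  convert h2.trans_ne h using 3 with x
  congr 1
  rw [MulEquiv.symm_apply_eq]
  rfl

theorem _root_.Cfsg.IsPBlock.inertia_le_stab [N.Normal] (hb : IsPBlock M b) {θ : IrrCharacter N}
    (hθ : θ ∈ b) : inertia N (θ : N → ℂ) ≤ stab ⊤ (barS M N b) := by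
  intro g hg
  have h1 : θ = irrMap (conjIso (cs_normal g⁻¹ N)) θ :=
    (eq_irrMap_inv_iff g).1 fun n => (mem_inertia'.1 hg n).symm
  rw [← Subgroup.inv_mem_iff]
  refine ⟨trivial, ?_⟩
  rw [← barS_image_conj (cs_normal g⁻¹ N),
    ((isPBlock_image_iff _).2 hb).eq_of_mem hb ⟨θ, hθ, h1.symm⟩ hθ]

theorem _root_.Cfsg.IsPBlock.exists_under_mem [N.Normal] [Fintype N] (hb : IsPBlock M b)
    (hB : IsPBlock M B) (h : bar M B * barS M N b ≠ 0) {χ : IrrCharacter G} (hχ : χ ∈ B) :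
    ∃ θ ∈ b, classInner (fun n : N => (χ : G → ℂ) n) (θ : N → ℂ) ≠ 0 := by
  obtain ⟨θ, hθ⟩ := exists_under χ N
  have h1 := blk_mul_ne_zero (M := M) hθ
  rw [hB.blk_eq hχ, ← barS_blockOf] at h1
  obtain ⟨x, hx⟩ := exists_conj_of_cover hB.isBlock (isPBlock_blockOf θ) hb h1 h
  exact ⟨irrMap (conjIso (cs_normal x N)) θ, hx ▸ ⟨θ, mem_blockOf_self θ, rfl⟩,
    by rwa [classInner_res_irrMap χ.2.isClassFunction]⟩

theorem _root_.Cfsg.IsPBlock.exists_under_memS [Fintype N] (hb : IsPBlock M b) (hNT : N ≤ T)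
    (hinv : barS M N b ∈ inv (kk M) T) {B' : Set (IrrCharacter T)} (hB' : IsPBlock M B')
    (h : barS M T B' * barS M N b ≠ 0) {ψ : IrrCharacter T} (hψ : ψ ∈ B') :
    ∃ θ ∈ b, classInner (fun n : N => (ψ : T → ℂ) ⟨n, hNT n.2⟩) (θ : N → ℂ) ≠ 0 := by
  obtain ⟨θ, hθ, h1⟩ := (ψ.2.isCharacter.res_le hNT).exists_irr_constituent fun h0 =>
    ψ.2.apply_one_ne_zero (congrFun h0 1)
  have h2 := blk_mul_ne_zeroS (M := M) hNT (θ := ⟨θ, hθ⟩) h1
  rw [hB'.es_blk_eq hψ, ← hb.isBlockS.mul_eq_of_stable hNT hB'.isBlockS h hinv,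
    ← (commute_of_mem (inv_anti hNT hB'.isBlockS.inv) hb.isBlockS.sup).eq, mul_assoc] at h2
  exact ⟨⟨θ, hθ⟩, hb.mem_iffS.2 (hb.isBlockS.eq_of_mul_ne_zero (isBlock_es_blk _)
    (right_ne_zero_of_mul h2)).symm, h1⟩

/-- Fong-Reynolds: characters of a block of the stabiliser induce irreducibly. -/
theorem _root_.Cfsg.IsPBlock.FR_ind [Fintype G] [N.Normal] [Fintype N] (hb : IsPBlock M b)
    (hT : T = stab ⊤ (barS M N b)) {B' : Set (IrrCharacter T)} (hB' : IsPBlock M B')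
    (h : barS M T B' * barS M N b ≠ 0) (hind : IsInducedBlock M T B' B) {ψ : IrrCharacter T}
    (hψ : ψ ∈ B') : ∃ χ ∈ B, (χ : G → ℂ) = indFun T (ψ : T → ℂ) := by
  have hNT : N ≤ T := hT ▸ hb.isBlockS.le_stab' le_top
  obtain ⟨θ, hθ, h1⟩ := hb.exists_under_memS hNT (hT ▸ mem_inv_stab _ _) hB' h hψ
  have h2 := isIrr_indFun_of_inertia_le θ.2 hNT (hT ▸ hb.inertia_le_stab hθ) ψ.2 h1
  obtain ⟨-, hB, h3⟩ := isInducedBlock_iff.1 hind
  refine ⟨⟨_, h2⟩, hB.mem_iff.2 ?_, rfl⟩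
  have h4 := ind_blk_of_indFun (M := M) (χ := ⟨_, h2⟩) rfl
  rw [hB'.es_blk_eq hψ] at h4
  exact h4.unique h3 (isBlock_blk _) hB.isBlock

theorem _root_.Cfsg.IsPBlock.FR_surj [Fintype G] [N.Normal] [Fintype N] (hb : IsPBlock M b)
    (hT : T = stab ⊤ (barS M N b)) {B' : Set (IrrCharacter T)} (hB' : IsPBlock M B')
    (h : barS M T B' * barS M N b ≠ 0) (hind : IsInducedBlock M T B' B) {χ : IrrCharacter G}
    (hχ : χ ∈ B) : ∃ ψ ∈ B', (χ : G → ℂ) = indFun T (ψ : T → ℂ) := by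
  subst hT
  have := Fintype.ofFinite (stab ⊤ (barS M N b))
  have hbS := hb.isBlockS
  have hNT := hbS.le_stab' le_top
  obtain ⟨-, hB, h3⟩ := isInducedBlock_iff.1 hind
  have h4 := (hbS.FR_eq le_top (top_le_No N) hB.isBlock hB'.isBlockS h
    ((hbS.FR_ind_iff le_top (top_le_No N) hB.isBlock hB'.isBlockS h).1 h3)).2
  obtain ⟨θ, hθ, h5⟩ := hb.exists_under_mem hB (h4 ▸ hB'.isBlockS.ne) hχ
  obtain ⟨ψ, hψ, h6, h7⟩ := χ.2.isCharacter.exists_between hNT h5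
  have h8 := isIrr_indFun_of_inertia_le θ.2 hNT (hb.inertia_le_stab hθ) hψ h7
  have h9 := χ.2.eq_of_classInner_ne_zero h8 (by rwa [frobenius_right _ _ χ.2.isClassFunction])
  refine ⟨⟨ψ, hψ⟩, hB'.mem_iffS.2 ?_, h9⟩
  have h10 := blk_mul_ne_zeroS (M := M) hNT (ψ := ⟨ψ, hψ⟩) h7
  have h11 := blk_mul_ne_zero (M := M) (θ := ⟨ψ, hψ⟩) h6
  rw [hb.es_blk_eq hθ] at h10
  rw [hB.blk_eq hχ] at h11
  rw [h4, (hbS.FR_eq le_top (top_le_No N) hB.isBlock (isBlock_es_blk _) h10 h11).2]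

end dict

end Cfsg.Agent.Blk
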