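import Cfsg.Agent.Lib.Block.Sect
import Cfsg.Agent.Lib.Block.Cyc
import Cfsg.Agent.Lib.Block.Fong

/-! Central characters on sections, major subsections, and class sums. -/

set_option autoImplicit false

namespace Cfsg.Agent.Blk

open MonoidAlgebra
open Cfsg.Agent.Char hiding cj cj_mul cj_inv_cj cj_cj_inv sum_cj_eq
open scoped ComplexConjugate

section
variable {G : Type*} [Group G] {R : Type*} [CommRing R] {H K : Subgroup G} {x : G}

theorem mi1 (h : x ∈ H ⊓ K) : x ∈ H := h.1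
theorem mi2 (h : x ∈ H ⊓ K) : x ∈ K := h.2
theorem mi (h : x ∈ H) (h' : x ∈ K) : x ∈ H ⊓ K := ⟨h, h'⟩

theorem coeff_trS (a : R[G]) (h : x ∈ K) : (tr (K : Set G) a).coeff x = a.coeff x :=
  coeff_tr_of_mem a h

theorem coeff_trS_of_notMem (a : R[G]) (h : x ∉ K) : (tr (K : Set G) a).coeff x = 0 :=
  coeff_tr_of_notMem a h

theorem coeff_Br (a : R[G]) (h : x ∈ Ce K) : (Br K a).coeff x = a.coeff x :=
  coeff_tr_of_mem a h

theorem coeff_Br_of_notMem (a : R[G]) (h : x ∉ Ce K) : (Br K a).coeff x = 0 :=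
  coeff_tr_of_notMem a h

theorem mem_Ce_inf_Ce {P : Subgroup G} (h : x ∈ P) : x ∈ Ce (H ⊓ Ce P) :=
  mem_Ce.2 fun _ hq => (mem_Ce.1 (mi2 hq) x h).symm

end

section
variable {G : Type*} [Group G] [Finite G] {k : Type*} [Field k] {p : ℕ} [Fact p.Prime] [CharP k p]

omit [Finite G] in
theorem single_mem_Z {R : Type*} [CommRing R] {K : Subgroup G} {u : G} (h1 : u ∈ K)
    (h2 : u ∈ Ce K) (r : R) : single u r ∈ Z R K :=
  mem_Z.2 ⟨single_mem_sup h1 r, single_mem_inv h2 r⟩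

omit [Finite G] in
theorem nilpotent_single_sub_one {u : G} (hu : ∃ n : ℕ, orderOf u = p ^ n) :
    IsNilpotent (single u (1 : k) - 1) := by
  obtain ⟨n, hn⟩ := pelt_iff.1 hu
  refine ⟨p ^ n, ?_⟩
  have : CharP k[G] p := charP_of_injective_algebraMap (algebraMap k k[G]).injective p
  rw [sub_pow_char_pow_of_commute _ _ (Commute.one_right _), single_pow, hn, one_pow, one_pow]
  exact sub_self _

theorem IsBlock.lam_single [IsAlgClosed k] {K : Subgroup G} {e : k[G]} (he : IsBlock K e) {u : G}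
    (h1 : u ∈ K) (h2 : u ∈ Ce K) (hu : ∃ n : ℕ, orderOf u = p ^ n) : lam e (single u 1) = 1 := by
  have h3 := single_mem_Z h1 h2 (1 : k)
  have h4 := he.lam_eq_zero_of_nilpotent' (sub_mem h3 (one_mem _)) (nilpotent_single_sub_one hu)
  rwa [he.lam_sub h3 (one_mem _), he.lam_one, sub_eq_zero] at h4

end

section
variable {G : Type*} [Group G] [Finite G] {M : Ideal AlgInt} {p : ℕ} [PMod M p]

omit [Finite G] [PMod M p] in
theorem apply_ne_zero_of_centralChar [M.IsPrime] {χ : G → ℂ} {g : G}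
    (h : ¬ MemLocalIdeal M (centralChar χ g)) : χ g ≠ 0 := by
  intro h0
  apply h
  rw [centralChar, h0]
  simpa using LI_zero

theorem IsBlock.ppart_mem_of_lam_cls {K D : Subgroup G} {e : (kk M)[G]} (he : IsBlock K e)
    (hD : IsDef p K e D) (hK : K ≤ No D) {x u : G} (hx : x ∈ K)
    (h : lam e (cls (kk M) K x) ≠ 0) (hu : IsPPart p x u) : u ∈ D := by
  have := Fact.mk (PMod.prime M)
  obtain ⟨b, hb, rfl⟩ := exists_isPBlock_barS_eq he
  obtain ⟨ξ, hξ⟩ := hb.nonempty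
  have h1 := hb.lam_clsS hξ ⟨x, hx⟩
  rw [h1, Ne, rd_eq_zero_iff (centralChar_mem_O ξ.2 _)] at h
  have h2 := (hb.isDefectGroup_subgroupOf_iff hD.le).2 hD
  rw [hb.isDefectGroup_iff] at h2
  have : (D.subgroupOf K).Normal :=
    (Subgroup.normal_subgroupOf_iff_le_normalizer hD.le).2 hK
  exact hb.mem_of_apply_ne_zero h2 hξ (g := ⟨x, hx⟩) (x := ⟨u, hu.mem hx⟩) hu.of_coe
    (apply_ne_zero_of_centralChar h)

variable {H P : Subgroup G} {B e z : (kk M)[G]}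

theorem IsMP.isDef_Ce (hm : IsMP p H B P e) : IsDef p (H ⊓ Ce P) e (P ⊓ Ce P) := by
  have := Fact.mk (PMod.prime M)
  have := hm.isDef_self (inf_Ce_le_inf_No H P) hm.bp.blk
  rwa [inf_inf_Ce hm.bp.le] at this

theorem inf_Ce_le_No_inf (H P : Subgroup G) : H ⊓ Ce P ≤ No (P ⊓ Ce P) :=
  (inf_le_right.trans (Ce_anti inf_le_left)).trans (Ce_le_No _)

theorem IsMP.lam_Br (hm : IsMP p H B P e) (hz : z ∈ Z (kk M) H) : lam e (Br P z) = lam B z := by
  have := Fact.mk (PMod.prime M)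
  exact Blk.lam_Br hm.bp.pg hm.bp.le le_rfl inf_le_left (inf_le_right.trans (Ce_le_No _)) hm.blkB
    hm.bp.blk hm.eq hz

theorem IsMP.exists_of_lam (hm : IsMP p H B P e) (hz : z ∈ Z (kk M) H) (h : lam B z ≠ 0) :
    ∃ x ∈ H ⊓ Ce P, z.coeff x ≠ 0 ∧ ∀ u, IsPPart p x u → u ∈ P ⊓ Ce P := by
  have := Fact.mk (PMod.prime M)
  rw [← hm.lam_Br hz] at h
  obtain ⟨x, hx, h1, h2⟩ := hm.bp.blk.exists_cls_lam_ne_zero
    (Br_mem_Z le_rfl inf_le_left (inf_le_right.trans (Ce_le_No _)) hz) h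
  refine ⟨x, hx, ?_, fun u hu =>
    hm.bp.blk.ppart_mem_of_lam_cls hm.isDef_Ce (inf_Ce_le_No_inf H P) hx h2 hu⟩
  rwa [coeff_Br _ (mi2 hx)] at h1

theorem IsBlock.exists_of_lam (hB : IsBlock H B) (hP : IsDef p H B P) (hz : z ∈ Z (kk M) H)
    (h : lam B z ≠ 0) : ∃ x ∈ H ⊓ Ce P, z.coeff x ≠ 0 ∧ ∀ u, IsPPart p x u → u ∈ P ⊓ Ce P := by
  have := Fact.mk (PMod.prime M)
  obtain ⟨e, he⟩ := hP.exists_isMP hB
  exact he.exists_of_lam hz h

open Classical in
theorem IsBlock.lam_of_pelt [Fintype G] (hB : IsBlock H B) (hP : IsDef p H B P)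
    (hz : z ∈ Z (kk M) H) (h : ∀ g, z.coeff g ≠ 0 → ∃ n : ℕ, orderOf g = p ^ n) :
    lam B z = ∑ x ∈ Finset.univ.filter (fun x : G => x ∈ P ⊓ Ce P), z.coeff x := by
  have := Fact.mk (PMod.prime M)
  obtain ⟨e, hm⟩ := hP.exists_isMP hB
  have hb := hm.bp.blk
  have hZ : ∀ x ∈ P ⊓ Ce P, single x (1 : kk M) ∈ Z (kk M) (H ⊓ Ce P) := fun x hx =>
    single_mem_Z (mi (hP.le hx.1) hx.2) (mem_Ce_inf_Ce hx.1) 1
  set w : (kk M)[G] :=
    ∑ x ∈ Finset.univ.filter (fun x : G => x ∈ P ⊓ Ce P), z.coeff x • single x 1 with hw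
  have hwZ : w ∈ Z (kk M) (H ⊓ Ce P) :=
    sum_mem fun x hx => Subalgebra.smul_mem _ (hZ x (by simpa using hx)) _
  have hcw : ∀ g, w.coeff g = if g ∈ P ⊓ Ce P then z.coeff g else 0 := by
    intro g
    rw [hw, coeff_sum']
    simp only [coeff_smul', coeff_single', mul_ite, mul_one, mul_zero]
    rw [Finset.sum_ite_eq']
    simp
  have hBz := Br_mem_Z le_rfl inf_le_left (inf_le_right.trans (Ce_le_No P)) hz
  have h1 : lam e (Br P z - w) = 0 := by
    by_contra h1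
    obtain ⟨x, hx, h2, h3⟩ := hb.exists_cls_lam_ne_zero (sub_mem hBz hwZ) h1
    rw [coeff_sub', coeff_Br _ (mi2 hx), hcw] at h2
    have h4 : z.coeff x ≠ 0 := by
      intro h4; apply h2; simp [h4]
    have h5 := hb.ppart_mem_of_lam_cls hm.isDef_Ce (inf_Ce_le_No_inf H P) hx h3
      (isPPart_self (h x h4))
    apply h2
    rw [if_pos h5, sub_self]
  rw [hb.lam_sub hBz hwZ, sub_eq_zero, hm.lam_Br hz] at h1
  rw [h1, hw, hb.lam_sum _ _ fun x hx => Subalgebra.smul_mem _ (hZ x (by simpa using hx)) _]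
  refine Finset.sum_congr rfl fun x hx => ?_
  have hx : x ∈ P ⊓ Ce P := by simpa using hx
  rw [hb.lam_smul _ (hZ x hx), hb.lam_single (mi (hP.le hx.1) hx.2)
    (mem_Ce_inf_Ce hx.1) (pelt_of_mem hP.pg hx.1), mul_one]

end

section
variable {G : Type*} [Group G] [Finite G] {M : Ideal AlgInt} {p : ℕ}

/-- The central element `∑ conj (θ g) g`. -/
noncomputable def zf (θ : G → ℂ) : ℂ[G] := ofFun fun g => conj (θ g)

theorem coeff_zf (θ : G → ℂ) (g : G) : (zf θ).coeff g = conj (θ g) := coeff_ofFun _ _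

theorem zf_mem {θ : G → ℂ} (hθ : IsClassFunction G θ) : zf θ ∈ Z ℂ (⊤ : Subgroup G) :=
  ofFun_mem_Z fun x g => by rw [hθ.apply_conj]

theorem ch_zf [Fintype G] (χ θ : G → ℂ) : ch χ (zf θ) = Nat.card G * classInner χ θ := by
  rw [ch_eq_sum, classInner, ← mul_assoc, mul_inv_cancel₀ (card_ne_zero' G), one_mul]
  exact Finset.sum_congr rfl fun g _ => by rw [coeff_zf, mul_comm]

theorem om_zf [Fintype G] (χ : IrrCharacter G) (θ : G → ℂ) :
    om χ (zf θ) = (Nat.card G : ℂ) / charDegree (χ : G → ℂ) * classInner (χ : G → ℂ) θ := by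
  rw [om, ch_zf, cast_deg]; ring

variable [PMod M p]

theorem card_div_deg_eq (M : Ideal AlgInt) {p : ℕ} [PMod M p] {B : Set (IrrCharacter G)}
    {χ : IrrCharacter G} (hχ : χ ∈ B) : ∃ u : ℂ, u ∈ O M ∧ ¬ MemLocalIdeal M u ∧
      (p : ℂ) ^ blockHeight p B χ * ((Nat.card G : ℂ) / charDegree (χ : G → ℂ)) =
        (p : ℂ) ^ blockDefect p B * u := by
  have := Fintype.ofFinite G
  obtain ⟨u, hu, hu', h⟩ := natDiv_eq M (Nat.card_pos (α := G)).ne' (charDegree_ne_zero χ)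
  refine ⟨u, hu, hu', ?_⟩
  have h1 := defect_eq_add (p := p) hχ
  have h2 := nu_le p χ
  have h3 : (p : ℂ) ^ (Nat.card G).factorization p =
      (p : ℂ) ^ ((Nat.card G).factorization p - nu p χ) * (p : ℂ) ^ nu p χ := by
    rw [← pow_add, Nat.sub_add_cancel h2]
  have := p_ne_zero M
  rw [h, h1, h3, pow_add]
  field_simp

theorem _root_.Cfsg.IsPBlock.exists_major {B : Set (IrrCharacter G)} (hB : IsPBlock M B)
    {P : Subgroup G} (hP : IsDef p ⊤ (bar M B) P) {x : G} (hx : x ∈ P ⊓ Ce P) :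
    ∃ b : Set (IrrCharacter (Ce1 x)), IsInducedBlock M (Ce1 x) b B ∧
      IsDef p (Ce1 x) (barS M (Ce1 x) b) P ∧ blockDefect p b = blockDefect p B := by
  have := Fact.mk (PMod.prime M)
  obtain ⟨e, hm⟩ := hP.exists_isMP hB.isBlock
  obtain ⟨f, hf⟩ := hm.bp.exists_PLe (Q := Subgroup.zpowers x) (by simpa using hx.1)
  have h1 : P ≤ Ce (Subgroup.zpowers x) := by
    rw [Ce_zpowers]; exact mem_Ce_iff_le.1 hx.2
  have h2 := hm.isDef_Ce_of_le hf h1
  have h3 := (hf.left hm.bp).blk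
  rw [top_inf_eq, Ce_zpowers] at h2 h3
  obtain ⟨b, hb, rfl⟩ := exists_isPBlock_barS_eq h3
  refine ⟨b, (isInducedBlock_Ce1_iff (pelt_of_mem hP.pg hx.1) hB hb).2 (hm.eq_of_PLe hf), h2, ?_⟩
  have := (hb.card_isDefS h2).symm.trans (hB.card_isDef hP)
  exact Nat.pow_right_injective (PMod.prime M).two_le this

theorem gen_mem_O (M : Ideal AlgInt) [M.IsPrime] {θ : G → ℂ} (hθ : IsGeneralizedCharacter G θ)
    (g : G) : θ g ∈ O M := mem_O_of_isIntegral M (hθ.isIntegral g)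

omit [PMod M p] in
theorem isIntegral_loc {u : G} (e : Set (IrrCharacter (Ce1 u))) {θ : G → ℂ}
    (hθ : IsGeneralizedCharacter G θ) (s : Ce1 u) : IsIntegral ℤ (loc p u e θ s) := by
  classical
  have := Fintype.ofFinite (Ce1 u)
  by_cases hs : p ∣ orderOf s
  · rw [loc, reg_of_dvd hs]; exact isIntegral_zero
  rw [loc, reg_of_preg hs, blockPart_fs, Finset.sum_apply]
  refine IsIntegral.sum _ fun ξ _ => ?_
  obtain ⟨ω, h1, -, h3⟩ := exists_coeff_Ru ξ
  obtain ⟨n, hn⟩ := (hθ.res (Ce1 u)).classInner_eq_int ξ.2.isGen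
  rw [Pi.smul_apply, smul_eq_mul, h3, hn]
  exact ((isIntegral_of_pow_eq_one (orderOf_pos u).ne' h1).mul (isIntegral_intCast n)).mul
    (ξ.2.isCharacter.isIntegral s)

omit [PMod M p] in
theorem Iu_mem [Fintype G] [Fact p.Prime] (R : Subring ℂ) {u : G}
    (hu : ∃ k : ℕ, orderOf u = p ^ k) {φ : Ce1 u → ℂ} (hφ : IsClassFunction (Ce1 u) φ)
    (h : ∀ s, ¬ p ∣ orderOf s → φ s ∈ R) (g : G) : Iu p u φ g ∈ R := by
  obtain ⟨x, hx⟩ := exists_isPPart p g
  by_cases hc : IsConj u x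
  · obtain ⟨c, rfl⟩ := isConj_iff.1 hc
    have h1 := hx.conj c⁻¹
    simp only [inv_inv, mul_assoc, inv_mul_cancel_left, inv_mul_cancel, mul_one] at h1
    have h2 : u⁻¹ * (c⁻¹ * (g * c)) ∈ Ce1 u := h1.Ce1_le_reg.trans' le_rfl |> fun _ =>
      mem_Ce1.2 ((Commute.refl u).inv_left.mul_left h1.commute.symm)
    have h3 := Iu_apply hu hφ (s := ⟨_, h2⟩) (by rw [← Subgroup.orderOf_coe]; exact h1.preg)
    simp only [mul_inv_cancel_left] at h3
    rw [← (isClassFunction_Iu (p := p) u φ).apply_conj' g c, mul_assoc, h3]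
    exact h _ (by rw [← Subgroup.orderOf_coe]; exact h1.preg)
  · rw [Iu_eq_zero hu φ hx hc]; exact zero_mem _

omit [PMod M p] in
theorem isIntegral_sec [Fintype G] [Fact p.Prime] {u : G} (hu : ∃ k : ℕ, orderOf u = p ^ k)
    (e : Set (IrrCharacter (Ce1 u))) {θ : G → ℂ} (hθ : IsGeneralizedCharacter G θ) (g : G) :
    IsIntegral ℤ (sec p u e θ g) := by
  exact Iu_mem (integralClosure ℤ ℂ).toSubring hu (isClassFunction_loc _ _ _)
    (fun s _ => isIntegral_loc e hθ s) g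

theorem isIntegral_conj {z : ℂ} (hz : IsIntegral ℤ z) : IsIntegral ℤ (conj z) :=
  hz.map (starRingEnd ℂ).toIntAlgHom

theorem isInt_zf (M : Ideal AlgInt) [M.IsMaximal] {θ : G → ℂ} (h : ∀ g, IsIntegral ℤ (θ g)) :
    IsInt M (zf θ) := fun g => by
  rw [coeff_zf]; exact mem_O_of_isIntegral M (isIntegral_conj (h g))

/-- A central element supported on the section of `x` on which the central character of `B` does
not vanish. -/
theorem _root_.Cfsg.IsPBlock.exists_lam_section {B : Set (IrrCharacter G)} (hB : IsPBlock M B)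
    {P : Subgroup G} (hP : IsDef p ⊤ (bar M B) P) {x : G} (hx : x ∈ P ⊓ Ce P) :
    ∃ z ∈ Z (kk M) (⊤ : Subgroup G), lam (bar M B) z ≠ 0 ∧
      ∀ g u, z.coeff g ≠ 0 → IsPPart p g u → IsConj x u := by
  have := Fact.mk (PMod.prime M)
  have := Fintype.ofFinite G
  have := Fintype.ofFinite (Ce1 x)
  obtain ⟨b, hb, -, hd⟩ := hB.exists_major hP hx
  have hxp := pelt_of_mem hP.pg hx.1
  obtain ⟨χ, hχ, h0⟩ := exists_height_zero p hB.nonempty
  have hb' := (isInducedBlock_iff.1 hb).1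
  have hi := isInt_zf M (isIntegral_sec hxp b χ.2.isGen)
  have hz := liftO_mem_Z (zf_mem (isClassFunction_sec b χ.1)) hi
  refine ⟨toK M _, toK_mem_Z hz, ?_, fun g u h hu => ?_⟩
  · rw [hB.lam_toK hχ hz, Ne, rd_eq_zero_iff (om_toC_mem_O χ.2 hz), toC_liftO hi, om_zf,
      ← conj_classInner, hb'.isUB.classInner_sec χ.2.isClassFunction χ.2.isClassFunction,
      conj_classInner]
    obtain ⟨v, hv, hv', h⟩ := card_div_deg_eq M hχ
    rw [h0, pow_zero, one_mul] at h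
    rw [h, mul_right_comm, LI_mul_unit_iff hv hv', ← hd]
    exact (hb.not_LI_cm_iff hxp χ χ).2 ⟨⟨hχ, h0⟩, hχ, h0⟩
  · by_contra hc
    apply h
    rw [coeff_toK_liftO, coeff_zf, sec, Iu_eq_zero hxp _ hu hc, map_zero, rd_zero]

theorem Ind.exists_conj_center {H D P : Subgroup G} {b B : (kk M)[G]} (hb : IsBlock H b)
    (hB : IsBlock ⊤ B) (h : Ind ⊤ H b B) (hD : IsDef p H b D) (hP : IsDef p ⊤ B P) {x : G}
    (hx : x ∈ P ⊓ Ce P) : ∃ g, g * x * g⁻¹ ∈ D ⊓ Ce D := by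
  have := Fact.mk (PMod.prime M)
  obtain ⟨B, hB', rfl⟩ := exists_isPBlock_bar_eq hB
  obtain ⟨z, hz, h1, h2⟩ := hB'.exists_lam_section hP hx
  rw [← h z hz] at h1
  obtain ⟨y, hy, h3, h4⟩ := hb.exists_of_lam hD (tr_mem_Z le_top hz) h1
  rw [coeff_trS _ (mi1 hy)] at h3
  obtain ⟨u, hu⟩ := exists_isPPart p y
  obtain ⟨g, hg⟩ := isConj_iff.1 (h2 y u h3 hu)
  exact ⟨g, hg ▸ h4 u hu⟩

theorem eq_bot_of_inf_Ce [Fact p.Prime] {P : Subgroup G} (hP : IsPGroup p P)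
    (h : P ⊓ Ce P = ⊥) : P = ⊥ := by
  by_contra hne
  have : Nontrivial P := (Subgroup.nontrivial_iff_ne_bot P).2 hne
  have := hP.center_nontrivial
  obtain ⟨⟨z, hz⟩, hz1⟩ := exists_ne (1 : Subgroup.center P)
  have : (z : G) ∈ P ⊓ Ce P :=
    ⟨z.2, mem_Ce.2 fun q hq => congrArg Subtype.val (Subgroup.mem_center_iff.1 hz ⟨q, hq⟩)⟩
  rw [h, Subgroup.mem_bot] at this
  exact hz1 (Subtype.ext (Subtype.ext this))

end

end Cfsg.Agent.Blk
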