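import Cfsg.Agent.Lib.Block.Cent
import Cfsg.Agent.Lib.Char.Degree
import Cfsg.Agent.Lib.Char.LinChar

/-! Galois action on blocks. -/

set_option autoImplicit false

namespace Cfsg.Agent.Blk
open MonoidAlgebra
open Cfsg.Agent.Char hiding cj cj_mul cj_inv_cj cj_cj_inv sum_cj_eq
open scoped ComplexConjugate

variable {G : Type*} [Group G] [Finite G] {M : Ideal AlgInt} {p : ℕ}

theorem gal_apply (σ : ℂ ≃+* ℂ) (χ : IrrCharacter G) (g : G) :
    (irrGalois σ χ : G → ℂ) g = σ ((χ : G → ℂ) g) := rfl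

theorem gal_symm (σ : ℂ ≃+* ℂ) :
    (irrGalois σ : IrrCharacter G ≃ IrrCharacter G).symm = irrGalois σ.symm := rfl

theorem gal_symm_gal (σ : ℂ ≃+* ℂ) (χ : IrrCharacter G) :
    irrGalois σ.symm (irrGalois σ χ) = χ := (irrGalois σ).symm_apply_apply χ

theorem gal_gal_symm (σ : ℂ ≃+* ℂ) (χ : IrrCharacter G) :
    irrGalois σ (irrGalois σ.symm χ) = χ := (irrGalois σ).apply_symm_apply χ

theorem gal_trans (σ τ : ℂ ≃+* ℂ) (χ : IrrCharacter G) :
    irrGalois τ (irrGalois σ χ) = irrGalois (σ.trans τ) χ := rfl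

theorem gal_one (σ : ℂ ≃+* ℂ) (χ : IrrCharacter G) :
    (irrGalois σ χ : G → ℂ) 1 = (χ : G → ℂ) 1 := by
  rw [gal_apply, ← cast_deg, map_natCast]

theorem charDegree_gal (σ : ℂ ≃+* ℂ) (χ : IrrCharacter G) :
    charDegree (irrGalois σ χ : G → ℂ) = charDegree (χ : G → ℂ) := by
  unfold charDegree; rw [gal_one]

theorem nu_gal (p : ℕ) (σ : ℂ ≃+* ℂ) (χ : IrrCharacter G) : nu p (irrGalois σ χ) = nu p χ := by
  change (charDegree _).factorization p = (charDegree _).factorization p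
  rw [charDegree_gal]

theorem height_gal (B : Set (IrrCharacter G)) (σ : ℂ ≃+* ℂ) (χ : IrrCharacter G) :
    blockHeight p B (irrGalois σ χ : G → ℂ) = blockHeight p B (χ : G → ℂ) := by
  unfold blockHeight; rw [charDegree_gal]

theorem gal_irrOne (σ : ℂ ≃+* ℂ) : irrGalois σ (irrOne G) = irrOne G := by
  ext g; rw [gal_apply]; simp

theorem gal_eq_irrOne_iff (σ : ℂ ≃+* ℂ) {χ : IrrCharacter G} :
    irrGalois σ χ = irrOne G ↔ χ = irrOne G := by
  rw [← gal_irrOne σ, (irrGalois σ).apply_eq_iff_eq, gal_irrOne]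

theorem map_conj_irr (σ : ℂ ≃+* ℂ) (χ : IrrCharacter G) (g : G) :
    σ (conj ((χ : G → ℂ) g)) = conj ((irrGalois σ χ : G → ℂ) g) := by
  rw [← χ.2.isCharacter.apply_inv, ← (irrGalois σ χ).2.isCharacter.apply_inv, gal_apply]

theorem charKer_gal (σ : ℂ ≃+* ℂ) (χ : IrrCharacter G) :
    charKer (irrGalois σ χ : G → ℂ) = charKer (χ : G → ℂ) := by
  ext g; simp [mem_charKer, gal_apply]

theorem reg_gal (σ : ℂ ≃+* ℂ) (χ : IrrCharacter G) :
    reg p (irrGalois σ χ).1 = fun g => σ (reg p χ.1 g) := by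
  ext g
  by_cases h : p ∣ orderOf g
  · rw [reg_of_dvd h, reg_of_dvd h, map_zero]
  · rw [reg_of_preg h, reg_of_preg h]; rfl

theorem classInner_reg_gal [Fintype G] (σ : ℂ ≃+* ℂ) (χ ψ : IrrCharacter G) :
    classInner (reg p (irrGalois σ χ).1) (irrGalois σ ψ).1 = σ (classInner (reg p χ.1) ψ.1) := by
  rw [reg_gal]
  exact ψ.2.isGen.classInner_map_ringHom _ σ.toRingHom

theorem classInner_res_gal {N : Subgroup G} [Fintype N] (σ : ℂ ≃+* ℂ) (χ : IrrCharacter G)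
    (θ : IrrCharacter N) :
    classInner (fun n : N => (irrGalois σ χ).1 n) (irrGalois σ θ).1 =
      classInner (fun n : N => χ.1 n) θ.1 := by
  have h := θ.2.isGen.classInner_map_ringHom (fun n : N => χ.1 n) σ.toRingHom
  obtain ⟨n, hn⟩ := (χ.2.isCharacter.res N).classInner_eq_nat θ.2.isCharacter
  rw [hn, map_natCast] at h
  rw [hn]; exact h

theorem centralChar_gal (σ : ℂ ≃+* ℂ) (χ : IrrCharacter G) (g : G) :
    centralChar (irrGalois σ χ : G → ℂ) g = σ (centralChar (χ : G → ℂ) g) := by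
  unfold centralChar
  simp only [gal_apply, map_div₀, map_mul, map_natCast]

theorem blockCoeff_gal (σ : ℂ ≃+* ℂ) (A : Set (IrrCharacter G)) (g : G) :
    blockCoeff (irrGalois σ '' A) g = σ (blockCoeff A g) := by
  classical
  rw [blockCoeff_eq, blockCoeff_eq, map_mul, map_inv₀, map_natCast, map_sum,
    ← (irrGalois σ).sum_comp]
  congr 1
  refine Finset.sum_congr rfl fun χ _ => ?_
  by_cases h : χ ∈ A
  · rw [if_pos h, if_pos (Set.mem_image_of_mem _ h), map_mul, map_conj_irr, gal_apply]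
  · rw [if_neg h, if_neg (by simpa using h), map_zero]

theorem classInner_reg_self_ne_zero [Fintype G] [Fact p.Prime] (χ : IrrCharacter G) :
    classInner (reg p χ.1) χ.1 ≠ 0 := by
  rw [← classInner_reg_reg, Ne, classInner_self_eq_zero]
  intro h
  have := congrFun h 1
  rw [reg_of_preg preg_one] at this
  exact χ.2.apply_one_ne_zero this

/-- For `k` prime to the group order there is a field automorphism acting as `g ↦ g ^ k` on the
characters of all groups of order dividing `n`. -/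
theorem exists_gal_pow {n k : ℕ} (hn : n ≠ 0) (hk : k.Coprime n) :
    ∃ σ : ℂ ≃+* ℂ, ∀ z : ℂ, z ^ n = 1 → σ z = z ^ k := exists_ringEquiv_pow hn hk

theorem gal_apply_pow {σ : ℂ ≃+* ℂ} {n k : ℕ} (hσ : ∀ z : ℂ, z ^ n = 1 → σ z = z ^ k)
    (χ : IrrCharacter G) {g : G} (hg : orderOf g ∣ n) :
    (irrGalois σ χ : G → ℂ) g = (χ : G → ℂ) (g ^ k) :=
  χ.2.isCharacter.ringHom_apply σ.toRingHom g fun z hz => hσ z (pow_eq_one_of_orderOf_dvd hg hz)

theorem gal_apply_pow_card {σ : ℂ ≃+* ℂ} {n k : ℕ} (hσ : ∀ z : ℂ, z ^ n = 1 → σ z = z ^ k)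
    (hn : Nat.card G ∣ n) (χ : IrrCharacter G) (g : G) :
    (irrGalois σ χ : G → ℂ) g = (χ : G → ℂ) (g ^ k) :=
  gal_apply_pow hσ χ ((orderOf_dvd_natCard g).trans hn)

theorem gal_eq_iff_pow {σ : ℂ ≃+* ℂ} {n k : ℕ} (hσ : ∀ z : ℂ, z ^ n = 1 → σ z = z ^ k)
    (hn : Nat.card G ∣ n) (χ : IrrCharacter G) :
    irrGalois σ χ = χ ↔ ∀ g, (χ : G → ℂ) (g ^ k) = (χ : G → ℂ) g := by
  constructor
  · intro h g; rw [← gal_apply_pow_card hσ hn, h]
  · intro h; ext g; rw [gal_apply_pow_card hσ hn, h]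

/-- The order of a `p`-regular element divides the `p'`-part of the group order. -/
theorem orderOf_dvd_pcompl [hp : Fact p.Prime] {g : G} (hg : ¬ p ∣ orderOf g) :
    orderOf g ∣ Nat.card G / p ^ (Nat.card G).factorization p := by
  have h1 := orderOf_dvd_natCard g
  have h2 := Nat.ordProj_mul_ordCompl_eq_self (Nat.card G) p
  rw [← h2] at h1
  exact Nat.Coprime.dvd_of_dvd_mul_left
    (Nat.Coprime.pow_right _ ((hp.out.coprime_iff_not_dvd.2 hg).symm)) h1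

theorem pcompl_ne_zero (p : ℕ) (G : Type*) [Group G] [Finite G] :
    Nat.card G / p ^ (Nat.card G).factorization p ≠ 0 :=
  (Nat.ordCompl_pos p Nat.card_pos.ne').ne'

variable [PMod M p]

theorem blk_eq_of_classInner_reg [Fintype G] {χ ψ : IrrCharacter G}
    (h : classInner (reg p χ.1) ψ.1 ≠ 0) : blk M χ = blk M ψ :=
  by_contra fun hn => h (classInner_reg_eq_zero hn)

theorem blk_eq_of_reg_eq {χ ψ : IrrCharacter G}
    (h : ∀ x, ¬ p ∣ orderOf x → χ.1 x = ψ.1 x) : blk M χ = blk M ψ := by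
  have := Fintype.ofFinite G
  have := Fact.mk (PMod.prime M)
  refine blk_eq_of_classInner_reg (p := p) ?_
  rw [reg_congr h]
  exact classInner_reg_self_ne_zero ψ

theorem _root_.Cfsg.IsPBlock.classInner_reg_ne_zero [Fintype G] {B : Set (IrrCharacter G)}
    (hB : IsPBlock M B) {χ ξ : IrrCharacter G} (hχ : χ ∈ B) (hξ : ξ ∈ B)
    (h0 : blockHeight p B ξ = 0) : classInner (reg p χ.1) ξ.1 ≠ 0 := by
  have := Fact.mk (PMod.prime M)
  have h := hB.am_ne_zero hχ hξ h0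
  intro h1
  have h2 := am_cast (p := p) hχ ξ
  rw [h1, mul_zero] at h2
  exact h (by exact_mod_cast h2)

theorem blk_gal_congr (σ : ℂ ≃+* ℂ) {χ ψ : IrrCharacter G} (h : blk M χ = blk M ψ) :
    blk M (irrGalois σ χ) = blk M (irrGalois σ ψ) := by
  have := Fintype.ofFinite G
  have hB := isPBlock_blockOf (M := M) ψ
  obtain ⟨ξ, hξ, h0⟩ := exists_height_zero p hB.nonempty
  have h1 : ∀ φ ∈ blockOf M (ψ : G → ℂ), blk M (irrGalois σ φ) = blk M (irrGalois σ ξ) :=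
    fun φ hφ => blk_eq_of_classInner_reg (p := p) (by
      rw [classInner_reg_gal, Ne, map_eq_zero]
      exact hB.classInner_reg_ne_zero hφ hξ h0)
  rw [h1 χ (mem_blockOf.2 h), h1 ψ (mem_blockOf_self ψ)]

theorem blk_gal_eq_iff (σ : ℂ ≃+* ℂ) {χ ψ : IrrCharacter G} :
    blk M (irrGalois σ χ) = blk M (irrGalois σ ψ) ↔ blk M χ = blk M ψ :=
  ⟨fun h => by simpa only [gal_symm_gal] using blk_gal_congr σ.symm h, blk_gal_congr σ⟩

theorem image_gal_blockOf (M : Ideal AlgInt) {p : ℕ} [PMod M p] (σ : ℂ ≃+* ℂ) (χ : IrrCharacter G) :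
    irrGalois σ '' blockOf M (χ : G → ℂ) = blockOf M (irrGalois σ χ : G → ℂ) := by
  ext ψ
  obtain ⟨ψ, rfl⟩ := (irrGalois σ).surjective ψ
  rw [(irrGalois σ).injective.mem_set_image, mem_blockOf, mem_blockOf, blk_gal_eq_iff]

theorem _root_.Cfsg.IsPBlock.image_gal {M : Ideal AlgInt} {p : ℕ} [PMod M p] {B : Set (IrrCharacter G)} (hB : IsPBlock M B)
    (σ : ℂ ≃+* ℂ) : IsPBlock M (irrGalois σ '' B) := by
  obtain ⟨χ, rfl⟩ := hB
  exact ⟨_, image_gal_blockOf M σ χ⟩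

theorem gal_mem_principal_iff {M : Ideal AlgInt} {p : ℕ} [PMod M p] (σ : ℂ ≃+* ℂ) {χ : IrrCharacter G} :
    irrGalois σ χ ∈ principalBlock M G ↔ χ ∈ principalBlock M G := by
  rw [principalBlock_eq, mem_blockOf, mem_blockOf, ← blk_gal_eq_iff σ (χ := χ), gal_irrOne]

theorem blk_gal_of_fix {σ : ℂ ≃+* ℂ}
    (hσ : ∀ z : ℂ, z ^ (Nat.card G / p ^ (Nat.card G).factorization p) = 1 → σ z = z)
    (χ : IrrCharacter G) : blk M (irrGalois σ χ) = blk M χ := by
  have := Fact.mk (PMod.prime M)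
  refine blk_eq_of_reg_eq (p := p) fun x hx => ?_
  rw [gal_apply_pow (k := 1) (by simpa using hσ) χ (orderOf_dvd_pcompl hx), pow_one]

theorem _root_.Cfsg.IsPBlock.gal_mem_iff {B : Set (IrrCharacter G)} (hB : IsPBlock M B)
    {σ : ℂ ≃+* ℂ} {χ : IrrCharacter G}
    (h : ∀ x, ¬ p ∣ orderOf x → σ (χ.1 x) = χ.1 x) : irrGalois σ χ ∈ B ↔ χ ∈ B := by
  rw [hB.mem_iff, hB.mem_iff, blk_eq_of_reg_eq (p := p) (χ := irrGalois σ χ) h]

/-- A block meeting its Galois conjugate is Galois stable. -/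
theorem _root_.Cfsg.IsPBlock.gal_mem_iff_of {M : Ideal AlgInt} {p : ℕ} [PMod M p] {B : Set (IrrCharacter G)} (hB : IsPBlock M B)
    {σ : ℂ ≃+* ℂ} {ξ : IrrCharacter G} (h1 : ξ ∈ B) (h2 : irrGalois σ ξ ∈ B)
    {χ : IrrCharacter G} : irrGalois σ χ ∈ B ↔ χ ∈ B := by
  rw [hB.mem_iff, hB.mem_iff, ← hB.blk_eq h2, blk_gal_eq_iff, hB.blk_eq h1, hB.blk_eq h2]

end Cfsg.Agent.Blk
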