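import Cfsg.Agent.Lib.Block.Subs
import Cfsg.Agent.Lib.Char.LinChar

/-! The action of stable linear characters on the characters of a block. -/

set_option autoImplicit false

namespace Cfsg.Agent.Blk

open MonoidAlgebra
open Cfsg.Agent.Char hiding cj cj_mul cj_inv_cj cj_cj_inv sum_cj_eq om
open scoped ComplexConjugate

section Annih
variable {W : Type*} [Group W]

/-- linear characters trivial on a subgroup -/
def annih (N : Subgroup W) : Subgroup (W →* ℂˣ) where
  carrier := {l | ∀ x ∈ N, l x = 1}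
  mul_mem' ha hb x hx := by rw [MonoidHom.mul_apply, ha x hx, hb x hx, mul_one]
  one_mem' _ _ := rfl
  inv_mem' ha x hx := by rw [MonoidHom.inv_apply, ha x hx, inv_one]

theorem mem_annih {N : Subgroup W} {l : W →* ℂˣ} : l ∈ annih N ↔ ∀ x ∈ N, l x = 1 := Iff.rfl

theorem annih_anti {N K : Subgroup W} (h : N ≤ K) : annih K ≤ annih N := fun _ hl x hx => hl x (h hx)

theorem card_annih [Finite W] {N : Subgroup W} (h : commutator W ≤ N) :
    Nat.card (annih N) = N.index := by
  have : N.Normal := ⟨fun n hn g => by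
    have := N.mul_mem (h (Subgroup.commutator_mem_commutator (Subgroup.mem_top g)
      (Subgroup.mem_top n))) hn
    rwa [commutatorElement_def, inv_mul_cancel_right] at this⟩
  rw [Subgroup.index, ← card_lc (W := W ⧸ N)]
  · refine Nat.card_congr ⟨fun l => QuotientGroup.lift N l.1 l.2,
      fun l => ⟨l.comp (QuotientGroup.mk' N), fun x hx => ?_⟩, fun l => ?_, fun l => ?_⟩
    · rw [MonoidHom.comp_apply, QuotientGroup.mk'_apply, (QuotientGroup.eq_one_iff x).2 hx, map_one]
    · ext; rfl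
    · ext; rfl
  · rintro ⟨a⟩ ⟨b⟩
    refine QuotientGroup.eq.2 (h ?_)
    have := Subgroup.commutator_mem_commutator (Subgroup.mem_top b⁻¹) (Subgroup.mem_top a⁻¹)
    simpa [commutator, commutatorElement_def, mul_assoc] using this

theorem relIndex_annih [Finite W] {N K : Subgroup W} (h : commutator W ≤ N) (hNK : N ≤ K) :
    (annih K).relIndex (annih N) = N.relIndex K := by
  have h1 := Subgroup.relIndex_mul_relIndex ⊥ _ _ bot_le (annih_anti hNK)
  rw [Subgroup.relIndex_bot_left, Subgroup.relIndex_bot_left, card_annih h, card_annih (h.trans hNK),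
    ← Subgroup.relIndex_mul_index hNK, mul_comm] at h1
  exact Nat.eq_of_mul_eq_mul_right (Nat.pos_of_ne_zero Subgroup.index_ne_zero_of_finite) h1

theorem index_dvd_card_of_stabilizer_le {X : Type*} [Finite X] [MulAction W X] {K : Subgroup W}
    (h : ∀ x : X, MulAction.stabilizer W x ≤ K) : K.index ∣ Nat.card X := by
  classical
  have := Fintype.ofFinite X
  have := Fintype.ofFinite (MulAction.orbitRel.Quotient W X)
  rw [Nat.card_congr (MulAction.selfEquivSigmaOrbits W X), Nat.card_sigma]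
  refine Finset.dvd_sum fun ω _ => ?_
  rw [Nat.card_coe_set_eq, ← MulAction.index_stabilizer]
  exact Subgroup.index_dvd_of_le (h _)

end Annih

variable {G : Type*} [Group G] [Finite G] {M : Ideal AlgInt} {p : ℕ} [PMod M p]
  {B : Set (IrrCharacter G)} {P : Subgroup G} {e : (kk M)[G]} {u v x : G} {θ φ : G → ℂ}
  {η η' : P → ℂ} {χ ψ : IrrCharacter G} {l : P →* ℂˣ}

omit [PMod M p] in
theorem mem_of_blockPart_eq (h : blockPart B χ.1 = χ.1) : χ ∈ B := by
  by_contra h1
  rw [blockPart_irr_of_notMem h1] at h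
  exact χ.2.apply_one_ne_zero (congrFun h 1).symm

omit [PMod M p] in
theorem height_congr (h : χ.1 1 = ψ.1 1) : blockHeight p B χ = blockHeight p B ψ := by
  have : charDegree χ.1 = charDegree ψ.1 := Nat.cast_injective (R := ℂ) (by
    rw [cast_deg, cast_deg]; exact h)
  simp only [blockHeight]
  rw [this]

theorem lc_mul_conj {W : Type*} [Group W] [Finite W] (l : W →* ℂˣ) (w : W) :
    (l w : ℂ) * conj (l w : ℂ) = 1 := by
  have := congrFun (conjFun_lc l) w
  rw [conjFun_apply, lc_apply, lc_apply] at this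
  rw [this, MonoidHom.inv_apply, Units.mul_inv]

namespace MP

theorem classInner_st_lc [Fintype G] (h : MP p B P e) (hl : Stable p P e (lc l))
    (hθ : blockPart B θ = θ) (hφ : IsClassFunction G φ) :
    classInner (st p P e (lc l) θ) (st p P e (lc l) φ) = classInner θ φ := by
  have := Fintype.ofFinite P
  have : ∀ u : G, Fintype (Ce1 u) := fun _ => Fintype.ofFinite _
  rw [h.classInner_st hl hl (hθ ▸ isClassFunction_blockPart B θ) hφ, h.classInner_eq hθ hφ]
  exact Finset.sum_congr rfl fun u _ => by rw [lc_apply, lc_mul_conj, one_mul]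

theorem isIrr_st_lc (h : MP p B P e) (hl : Stable p P e (lc l)) (hχ : χ ∈ B) :
    IsIrrCharacter G (st p P e (lc l) χ) := by
  have := Fintype.ofFinite G
  refine (h.isGen_st hl (isIrr_lc l).isGen χ.2.isGen).isIrr_of_re_nonneg ?_ ?_
  · rw [h.classInner_st_lc hl (blockPart_irr_of_mem hχ) χ.2.isClassFunction, χ.2.classInner_self]
  · rw [h.st_apply_one hl (blockPart_irr_of_mem hχ), lc_apply, map_one, Units.val_one, one_mul]
    exact χ.2.isCharacter.degree_re_nonneg

theorem loc_ne_zero_of_height (h : MP p B P e) (hu : u ∈ P) (hχ : χ ∈ B)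
    (h0 : blockHeight p B χ = 0) : loc p u (sb p P e u) χ.1 ≠ 0 := fun h1 => by
  have := Fintype.ofFinite (Ce1 u)
  refine ((h.sb_ind hu).not_LI_cm_iff (h.pelt hu) χ χ).2 ⟨⟨hχ, h0⟩, hχ, h0⟩ ?_
  rw [cm, h1, classInner_zero_left, mul_zero]
  exact LI_zero

theorem isDef_sb (h : MP p B P e) (hu : u ∈ P ⊓ Ce P) :
    IsDef p (Ce1 u) (barS M (Ce1 u) (sb p P e u)) P := by
  haveI : Fact p.Prime := ⟨PMod.prime M⟩
  have := h.mp.isDef_Ce_of_le (h.sb_ple hu.1) (by
    rw [Ce_zpowers]; exact mem_Ce_iff_le.1 hu.2)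
  rwa [top_inf_eq, Ce_zpowers] at this

theorem defect_sb (h : MP p B P e) (hu : u ∈ P ⊓ Ce P) :
    blockDefect p (sb p P e u) = blockDefect p B :=
  Nat.pow_right_injective (PMod.prime M).two_le
    (((h.sb_blk hu.1).card_isDefS (h.isDef_sb hu)).symm.trans h.card_eq)

theorem loc_ne_zero_of_central (h : MP p B P e) (hu : u ∈ P ⊓ Ce P) (hχ : χ ∈ B) :
    loc p u (sb p P e u) χ.1 ≠ 0 :=
  have := Fintype.ofFinite (Ce1 u)
  (h.sb_ind hu.1).loc_ne_zero (h.pelt hu.1) (h.defect_sb hu) hχ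

theorem stable_of_annih {N : Subgroup P} (hN : ∀ u v : P, FC p P e u v → u⁻¹ * v ∈ N)
    (hl : l ∈ annih N) : Stable p P e (lc l) := fun u v huv => by
  have := hl _ (hN u v huv)
  rw [map_mul, map_inv, inv_mul_eq_one] at this
  rw [lc_apply, lc_apply, this]

theorem commutator_le (h : MP p B P e) {N : Subgroup P}
    (hN : ∀ u v : P, FC p P e u v → u⁻¹ * v ∈ N) : commutator P ≤ N := by
  haveI : Fact p.Prime := ⟨PMod.prime M⟩
  rw [commutator, Subgroup.commutator_le]
  intro a _ b _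
  have := hN a⁻¹ (b * a⁻¹ * b⁻¹) (h.bp.fc_conj (a⁻¹).2 b.2)
  rwa [inv_inv, ← mul_assoc, ← mul_assoc] at this

theorem eq_one_of_st_eq (h : MP p B P e) (hη : Stable p P e η) (hθ : IsClassFunction G θ)
    (h1 : st p P e η θ = θ) (u : P) (h2 : loc p (u : G) (sb p P e u) θ ≠ 0) : η u = 1 := by
  have := h.loc_st hη hθ u
  rw [h1] at this
  by_contra h3
  exact h2 ((smul_eq_zero.1 (show (η u - 1) • loc p (u : G) (sb p P e u) θ = 0 by
    rw [sub_smul, one_smul, ← this, sub_self])).resolve_left (sub_ne_zero.2 h3))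

/-- the action of stable linear characters -/
noncomputable def act (h : MP p B P e) {Λ : Subgroup (P →* ℂˣ)}
    (hΛ : ∀ l ∈ Λ, Stable p P e (lc l)) {T : IrrCharacter G → Prop} (hT : ∀ χ, T χ → χ ∈ B)
    (hT' : ∀ χ ψ, T χ → ψ ∈ B → ψ.1 1 = χ.1 1 → T ψ) : MulAction Λ {χ // T χ} where
  smul l χ := ⟨⟨st p P e (lc l.1) χ.1, h.isIrr_st_lc (hΛ _ l.2) (hT _ χ.2)⟩,
    hT' _ _ χ.2 (mem_of_blockPart_eq (h.blockPart_st (hΛ _ l.2) χ.1.2.isClassFunction)) 
      ((h.st_apply_one (hΛ _ l.2) (blockPart_irr_of_mem (hT _ χ.2))).trans (by simp))⟩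
  one_smul χ := Subtype.ext (Subtype.ext (by
    change st p P e (lc 1) χ.1 = _
    rw [lc_one, h.st_one χ.1.2.isClassFunction, blockPart_irr_of_mem (hT _ χ.2)]))
  mul_smul l m χ := Subtype.ext (Subtype.ext (by
    change st p P e (lc (l.1 * m.1)) χ.1 = st p P e (lc l.1) (st p P e (lc m.1) χ.1)
    rw [h.st_st (hΛ _ l.2) (hΛ _ m.2) χ.1.2.isClassFunction, lc_mul]))

theorem relIndex_dvd (h : MP p B P e) {N Z : Subgroup P}
    (hN : ∀ u v : P, FC p P e u v → u⁻¹ * v ∈ N) {T : IrrCharacter G → Prop}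
    (hT : ∀ χ, T χ → χ ∈ B) (hT' : ∀ χ ψ, T χ → ψ ∈ B → ψ.1 1 = χ.1 1 → T ψ)
    (hZ : ∀ χ, T χ → ∀ u ∈ Z, loc p (u : G) (sb p P e u) χ.1 ≠ 0) :
    N.relIndex Z ∣ Nat.card {χ // T χ} := by
  have hc := h.commutator_le hN
  have : N.Normal := ⟨fun n hn g => by
    have := N.mul_mem (hc (Subgroup.commutator_mem_commutator (Subgroup.mem_top g)
      (Subgroup.mem_top n))) hn
    rwa [commutatorElement_def, inv_mul_cancel_right] at this⟩
  rw [← Subgroup.relIndex_sup_right, ← relIndex_annih hc le_sup_right]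
  letI := h.act (fun l hl => stable_of_annih hN hl) hT hT'
  refine index_dvd_card_of_stabilizer_le fun χ l hl => ?_
  have h1 : Z ⊔ N ≤ l.1.ker := sup_le (fun u hu => Units.ext (h.eq_one_of_st_eq
    (stable_of_annih hN l.2) χ.1.2.isClassFunction (congrArg (fun χ => χ.1.1) hl) u
      (hZ _ χ.2 u hu))) l.2
  exact fun x hx => h1 hx

theorem mem_foc {F : FusionSystem P} (hF : IsBFS p ⊤ P e F) (u v : P) (huv : FC p P e u v) :
    u⁻¹ * v ∈ F.focalSubgroup.subgroupOf P := by
  obtain ⟨x, h1, h2⟩ := huv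
  obtain ⟨φ, h3, h4⟩ := (hF _ fun y => x * y * x⁻¹).2 ⟨x, h1, fun _ _ => rfl⟩
  exact Subgroup.subset_closure ⟨_, φ, ⟨u, Subgroup.mem_zpowers _⟩, h3, by
    rw [h4]; exact congrArg ((u : G)⁻¹ * ·) h2.symm⟩

end MP

end Cfsg.Agent.Blk
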