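import Cfsg.Agent.Lib.Block.Res
import Cfsg.Agent.Lib.Block.Gal
import Cfsg.Agent.Lib.Block.Lin
import Cfsg.Agent.Lib.Char.Glaub
import Cfsg.Agent.Lib.Char.Down
import Cfsg.Agent.Lib.Char.Brauer

set_option autoImplicit false

/-! The Alperin–Dade isomorphism of principal blocks. -/

namespace Cfsg.Agent.Blk

open MonoidAlgebra
open Cfsg.Agent.Char hiding cj cj_mul cj_inv_cj cj_cj_inv sum_cj_eq om
open scoped ComplexConjugate
attribute [local instance] _root_.Classical.propDecidable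
open Subgroup (zpowers mem_zpowers)

section Core

variable {G H K : Type*} [Group G] [Group H] [Group K] {p : ℕ}

/-- Restriction along `f` is a bijection of principal blocks. -/
def ADf (M : Ideal AlgInt) (f : K →* H) : Prop :=
  (∀ χ ∈ principalBlock M H, ∃ θ ∈ principalBlock M K, ∀ k, χ.1 (f k) = θ.1 k) ∧
    ∀ θ ∈ principalBlock M K, ∃! χ : IrrCharacter H, χ ∈ principalBlock M H ∧ ∀ k, χ.1 (f k) = θ.1 k

theorem ADf.comp {M : Ideal AlgInt} {f : K →* H} {g : H →* G} (hf : ADf M f) (hg : ADf M g) :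
    ADf M (g.comp f) := by
  refine ⟨fun χ hχ => ?_, fun θ hθ => ?_⟩
  · obtain ⟨η, h1, h2⟩ := hg.1 χ hχ
    obtain ⟨θ, h3, h4⟩ := hf.1 η h1
    exact ⟨θ, h3, fun k => (h2 _).trans (h4 k)⟩
  · obtain ⟨η, ⟨h1, h2⟩, h3⟩ := hf.2 θ hθ
    obtain ⟨χ, ⟨h4, h5⟩, h6⟩ := hg.2 η h1
    refine ⟨χ, ⟨h4, fun k => (h5 _).trans (h2 k)⟩, fun ψ hψ => ?_⟩
    obtain ⟨ζ, h7, h8⟩ := hg.1 ψ hψ.1
    obtain rfl := h3 ζ ⟨h7, fun k => (h8 _).symm.trans (hψ.2 k)⟩
    exact h6 ψ ⟨hψ.1, h8⟩

theorem irrMap_mem_principal_iff [Finite H] [Finite K] {M : Ideal AlgInt} (ε : K ≃* H)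
    {θ : IrrCharacter K} : irrMap ε θ ∈ principalBlock M H ↔ θ ∈ principalBlock M K := by
  rw [← image_principalBlock ε, (irrMap ε).injective.mem_set_image]

theorem ADf.equiv [Finite H] [Finite K] (M : Ideal AlgInt) (ε : K ≃* H) :
    ADf M ε.toMonoidHom := by
  refine ⟨fun χ hχ => ⟨irrMap ε.symm χ, (irrMap_mem_principal_iff _).2 hχ, fun _ => rfl⟩,
    fun θ hθ => ⟨irrMap ε θ, ⟨(irrMap_mem_principal_iff _).2 hθ, irrMap_apply' ε θ⟩,
      fun ψ hψ => Subtype.ext (funext fun h => ?_)⟩⟩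
  rw [irrMap_apply, ← hψ.2]
  simp

/-- The hypothesis of the Alperin–Dade theorem. -/
structure ADH (p : ℕ) (N Q : Subgroup G) : Prop where
  le : Q ≤ N
  idx : ¬ p ∣ Q.index
  sup : ∀ g, ∃ n ∈ N, ∃ c ∈ Ce Q, g = n * c

theorem ADH.mono {N Q L : Subgroup G} (h : ADH p N Q) (hL : N ≤ L) : ADH p L Q :=
  ⟨h.le.trans hL, h.idx, fun g => by
    obtain ⟨n, hn, c, hc, rfl⟩ := h.sup g
    exact ⟨n, hL hn, c, hc, rfl⟩⟩

theorem adh_sub {N Q L : Subgroup G} (hQ : Q ≤ N) (hL : N ≤ L) (hi : ¬ p ∣ Q.relIndex L)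
    (h : ∀ g ∈ L, ∃ n ∈ N, ∃ c ∈ Ce Q, g = n * c) :
    ADH p (N.subgroupOf L) (Q.subgroupOf L) := by
  refine ⟨fun x hx => hQ hx, hi, fun g => ?_⟩
  obtain ⟨n, hn, c, hc, h1⟩ := h g g.2
  have h2 : c ∈ L := by
    have := L.mul_mem (L.inv_mem (hL hn)) g.2
    rwa [h1, inv_mul_cancel_left] at this
  refine ⟨⟨n, hL hn⟩, hn, ⟨c, h2⟩, ?_, Subtype.ext h1⟩
  exact Subgroup.mem_centralizer_iff.2 fun x hx =>
    Subtype.ext (Subgroup.mem_centralizer_iff.1 hc x hx)

theorem ADH.sub {N Q L : Subgroup G} (h : ADH p N Q) (hL : N ≤ L) :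
    ADH p (N.subgroupOf L) (Q.subgroupOf L) :=
  adh_sub h.le hL (fun hd => h.idx (hd.trans
    (Dvd.intro _ (Subgroup.relIndex_mul_index (h.le.trans hL))))) fun g _ => h.sup g

theorem ADH.not_dvd {N Q : Subgroup G} (h : ADH p N Q) : ¬ p ∣ N.index := fun hd =>
  h.idx (hd.trans (Subgroup.index_dvd_of_le h.le))

variable [Finite G] {M : Ideal AlgInt} [PMod M p] {N Q : Subgroup G}

omit [PMod M p] in
theorem LI_centralChar_of_principal [M.IsMaximal] {χ : IrrCharacter G} (hχ : χ ∈ principalBlock M G) (g : G) :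
    MemLocalIdeal M (((Ce1 g).index : ℂ) - centralChar χ.1 g) := by
  rw [principalBlock_eq, ← ilc_one] at hχ
  have := hχ g
  rw [centralChar_ilc] at this
  simpa using this

theorem ADH.eq_one_of_mul [N.Normal] (h : ADH p N Q) {χ ψ : IrrCharacter G}
    (hχ : χ ∈ principalBlock M G) (hψ : ψ ∈ principalBlock M G) {l : G →* ℂˣ}
    (hl : ∀ n : N, l n = 1) (he : ∀ g, ψ.1 g = l g * χ.1 g) : l = 1 := by
  ext g
  obtain ⟨n, hn, c, hc, rfl⟩ := h.sup g
  rw [map_mul, hl ⟨n, hn⟩, one_mul]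
  have h1 : ¬ p ∣ (Ce1 c).index := fun hd => h.idx (hd.trans (Subgroup.index_dvd_of_le
    fun x hx => mem_Ce1.2 (Subgroup.mem_centralizer_iff.1 hc x hx)))
  have h2 : centralChar ψ.1 c = l c * centralChar χ.1 c := by
    simp only [centralChar, he, map_one, Units.val_one, one_mul]
    ring
  have h3 := LI_sub (LI_centralChar_of_principal hψ c)
    (LI_mul_left (units_mem_O M l c) (LI_centralChar_of_principal hχ c))
  rw [h2] at h3
  have h4 : MemLocalIdeal M (((l c : ℂ) - 1) * (Ce1 c).index) := by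
    rw [← LI_neg_iff]
    convert h3 using 1
    ring
  rw [LI_mul_unit_iff (natCast_mem _ _) (LI_natCast_iff.not.2 h1)] at h4
  refine eq_one_of_LI_sub_one h.not_dvd ?_ h4
  haveI : IsMulCommutative ℂˣ := inferInstance
  rw [← Units.val_pow_eq_pow_val, pow_index_eq_one_of_trivial l hl, Units.val_one]

theorem ADH.adf_of_comm [N.Normal] (h : ADH p N Q) (hab : commutator G ≤ N) :
    ADf M N.subtype := by
  have := Fintype.ofFinite N
  have h1 : ∀ χ ∈ principalBlock M G, ∃ θ ∈ principalBlock M N, ∀ k : N, χ.1 k = θ.1 k := by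
    intro χ hχ
    rcases χ.2.res_irr_or_vanish hab with h1 | ⟨U, hU, hNU, h1⟩
    · exact ⟨⟨_, h1⟩, mem_principal_of_em hχ
        (by rw [em_of_res_self (θ := ⟨_, h1⟩) fun _ => rfl]; exact one_ne_zero), fun _ => rfl⟩
    · exfalso
      have h2 := card_annih (hab.trans hNU)
      have h3 : annih U ≠ ⊥ := fun h3 => hU (Subgroup.index_eq_one.1 (by simp [← h2, h3]))
      obtain ⟨l, hl, hl1⟩ := (Subgroup.bot_or_exists_ne_one _).resolve_left h3
      refine hl1 (h.eq_one_of_mul hχ hχ (fun n => mem_annih.1 hl _ (hNU n.2)) fun g => ?_)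
      by_cases hg : g ∈ U
      · simp [mem_annih.1 hl g hg]
      · simp [h1 g hg]
  refine ⟨h1, fun θ hθ => ?_⟩
  obtain ⟨χ, hχ, h2⟩ := exists_em_principal hθ
  obtain ⟨φ, -, h3⟩ := h1 χ hχ
  obtain rfl := eq_of_res_of_em h3 h2
  refine ⟨χ, ⟨hχ, h3⟩, fun ψ hψ => ?_⟩
  obtain ⟨l, hl, h4⟩ := ψ.2.exists_eq_mul_of_comm χ.2 hab (by
    rw [funext h3, funext (show ∀ n : N, ψ.1 n = θ.1 n from hψ.2), θ.2.classInner_self]
    exact one_ne_zero)
  obtain rfl := h.eq_one_of_mul hχ hψ.1 hl (congrFun h4)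
  exact Subtype.ext (h4.trans (by simp))

end Core

universe u in
theorem ADH.adf_of_derived {p : ℕ} {M : Ideal AlgInt} [PMod M p] (k : ℕ) :
    ∀ {G : Type u} [Group G] [Finite G] {N Q : Subgroup G} [N.Normal], ADH p N Q →
      derivedSeries G k ≤ N → ADf M N.subtype := by
  induction k with
  | zero => intro G _ _ N Q _ h hk; exact h.adf_of_comm (le_top.trans hk)
  | succ k ih =>
    intro G _ _ N Q _ h hk
    set L := N ⊔ commutator G
    have hNL : N ≤ L := le_sup_left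
    have h1 : ADf M L.subtype := (h.mono hNL).adf_of_comm le_sup_right
    have h2 : ADf M (N.subgroupOf L).subtype := by
      refine ih (h.sub hNL) ?_
      have h3 : ∀ j, (derivedSeries L j).map L.subtype ≤ N ⊔ derivedSeries G (j + 1) := by
        intro j
        induction j with
        | zero => exact Subgroup.map_subtype_le _
        | succ j ih =>
          rw [derivedSeries_succ, Subgroup.map_commutator, derivedSeries_succ G (j + 1)]
          refine (Subgroup.commutator_mono ih ih).trans (Subgroup.commutator_le.2 ?_)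
          intro a ha b hb
          rw [← QuotientGroup.ker_mk' N, sup_comm, ← Subgroup.comap_map_eq] at ha hb ⊢
          rw [Subgroup.mem_comap, map_commutatorElement, Subgroup.map_commutator]
          exact Subgroup.commutator_mem_commutator ha hb
      intro x hx
      have := h3 k ⟨x, hx, rfl⟩
      rwa [sup_eq_left.2 hk] at this
    exact ((ADf.equiv M (Subgroup.subgroupOfEquivOfLe hNL).symm).comp h2).comp h1

section Coset

variable {G : Type*} [Group G] {N H : Subgroup G} {p : ℕ}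

/-- The sum over a coset. -/
noncomputable def cS (N : Subgroup G) (F : G → ℂ) (g : G) : ℂ := ∑ᶠ n : N, F (n * g)

theorem cS_eq [Fintype N] (F : G → ℂ) (g : G) : cS N F g = ∑ n : N, F (n * g) :=
  finsum_eq_sum_of_fintype _

theorem cS_congr {F F' : G → ℂ} {g : G} (h : ∀ n : N, F (n * g) = F' (n * g)) :
    cS N F g = cS N F' g := finsum_congr h

theorem cS_sub (hNH : N ≤ H) (F : G → ℂ) (g : H) :
    cS (N.subgroupOf H) (fun x : H => F x) g = cS N F g :=
  finsum_comp_equiv (Subgroup.subgroupOfEquivOfLe hNH).toEquiv (f := fun n : N => F (n * g))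

theorem cS_mul_left (F : G → ℂ) {n : G} (hn : n ∈ N) (g : G) : cS N F (n * g) = cS N F g := by
  have := finsum_comp_equiv (Equiv.mulRight (⟨n, hn⟩ : N)) (f := fun m : N => F (m * g))
  simpa [cS, mul_assoc] using this

theorem cS_conj [hN : N.Normal] (F : G → ℂ) (x g : G) :
    cS N (fun y => F (x * y * x⁻¹)) g = cS N F (x * g * x⁻¹) := by
  have := finsum_comp_equiv (MulAut.conjNormal (H := N) x).toEquiv
    (f := fun m : N => F (m * (x * g * x⁻¹)))
  simpa [cS, mul_assoc] using this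

theorem sum_cS [Fintype G] (F : G → ℂ) : ∑ g, cS N F g = Nat.card N * ∑ g, F g := by
  have := Fintype.ofFinite N
  simp only [cS_eq]
  rw [Finset.sum_comm, Finset.sum_congr rfl fun (n : N) _ =>
    show ∑ x, F (n * x) = ∑ x, F x from Equiv.sum_comp (Equiv.mulLeft (n : G)) F]
  simp

theorem reg_res (H : Subgroup G) (F : G → ℂ) :
    reg p (fun x : H => F x) = fun x : H => reg p F x := by
  ext x; simp [reg]

theorem reg_conj (F : G → ℂ) (x : G) :
    reg p (fun y => F (x * y * x⁻¹)) = fun y => reg p F (x * y * x⁻¹) := by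
  ext y; simp [reg, orderOf_conj']

theorem cS_reg_mul [Finite G] {β χ : G → ℂ} {g : G} (h : ∀ n : N, β (n * g) = β g) :
    cS N (reg p (β * χ)) g = β g * cS N (reg p χ) g := by
  have := Fintype.ofFinite N
  rw [cS_eq, cS_eq, Finset.mul_sum]
  refine Finset.sum_congr rfl fun n _ => ?_
  simp only [reg, Pi.mul_apply, h]
  split_ifs <;> simp

theorem cS_reg_one {η : G → ℂ} {θ : N → ℂ} [Fintype N] (h : ∀ n : N, η n = θ n) :
    cS N (reg p η) 1 = ∑ n, reg p θ n := by
  rw [cS_eq]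
  refine Finset.sum_congr rfl fun n _ => ?_
  simp [reg, h]

variable [Finite G] [hN : N.Normal]

theorem isIrr_res_of_ext {η : G → ℂ} {θ : IrrCharacter N} (h : ∀ n : N, η n = θ.1 n) :
    IsIrrCharacter N fun n : N => η n := by
  rw [funext h]; exact θ.2

theorem exists_lc_of_ext {χ ψ : G → ℂ} {θ : IrrCharacter N} (hχ : IsCharacter G χ)
    (hψ : IsCharacter G ψ) (h : ∀ n : N, χ n = θ.1 n) (h' : ∀ n : N, ψ n = θ.1 n) :
    ∃ l : G →* ℂˣ, (∀ n : N, l n = 1) ∧ ∀ g, ψ g = l g * χ g := by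
  have := Fintype.ofFinite N
  obtain ⟨β, h1, h2, h3⟩ := (hψ.isIrr_of_res N (isIrr_res_of_ext h')).exists_eq_mul_of_over hχ
    (isIrr_res_of_ext h) (by rw [funext h, funext h', θ.2.classInner_self]; exact one_ne_zero)
  have h4 : β 1 = 1 := by
    have h5 := congrFun h3 1
    rw [Pi.mul_apply, show ψ 1 = θ.1 1 from h' 1, show χ 1 = θ.1 1 from h 1] at h5
    exact (mul_eq_right₀ θ.2.apply_one_ne_zero).1 h5.symm
  obtain ⟨l, rfl⟩ := h1.isCharacter.exists_units_of_apply_one h4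
  refine ⟨l, fun n => Units.ext ?_, congrFun h3⟩
  simpa using h1.isCharacter.mem_charKer.1 (h2 n.2)

variable {M : Ideal AlgInt} [PMod M p]

omit hN in
theorem cS_reg_one_ne_zero {η : G → ℂ} {θ : IrrCharacter N} (hθ : θ ∈ principalBlock M N)
    (h : ∀ n : N, η n = θ.1 n) : cS N (reg p η) 1 ≠ 0 := by
  have := Fintype.ofFinite N
  rw [cS_reg_one h]
  exact mem_principal_iff_sum.1 hθ

theorem ADf.cS_eq (h : ADf M N.subtype) {χ : IrrCharacter G} (hχ : χ ∈ principalBlock M G) (g : G) :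
    cS N (reg p χ.1) g = cS N (reg p χ.1) 1 := by
  have := Fintype.ofFinite N
  have := Fintype.ofFinite G
  obtain ⟨θ, hθ, he⟩ := h.1 χ hχ
  have h1 : ∀ g, (Nat.card N : ℂ)⁻¹ * cS N (reg p χ.1) g = classInner (reg p χ.1) (irrOne G).1 := by
    intro g
    rw [Blk.cS_eq, coset_average (isClassFunction_reg p χ.2.isClassFunction),
      Finset.sum_eq_single (irrOne G)]
    · simp
    · intro β hβ hne
      have h2 : N ≤ charKer β.1 := by simpa using hβ
      have h3 : N ≤ charKer fun g => conj (β.1 g) := fun n hn x => by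
        simp only [h2 hn x]
      have h4 := β.2.conj.mul_of_le_charKer h3 χ.2.isCharacter (isIrr_res_of_ext he)
      refine mul_eq_zero_of_left ?_ _
      by_contra h5
      have h6 : (⟨_, h4⟩ : IrrCharacter G) ∈ principalBlock M G := by
        rw [mem_principal_iff_sum]
        intro h6
        refine h5 ?_
        rw [classInner]
        refine mul_eq_zero_of_right _ (Eq.trans (Finset.sum_congr rfl fun x _ => ?_) h6)
        simp only [reg, Pi.mul_apply]
        split_ifs <;> simp [mul_comm]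
      obtain ⟨φ, -, h7⟩ := h.1 _ h6
      have h8 : φ = θ := by
        by_contra h8
        have h9 := φ.2.classInner_of_ne θ.2 fun h => h8 (Subtype.ext h)
        have h10 : φ.1 = conj (β.1 1) • θ.1 := by
          ext n
          have := h2 n.2 1
          rw [mul_one] at this
          rw [← h7]
          simp only [Pi.mul_apply, Pi.smul_apply, smul_eq_mul, ← he, Subgroup.coe_subtype, this]
        rw [h10, classInner_smul_left, θ.2.classInner_self, mul_one, map_eq_zero] at h9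
        exact β.2.apply_one_ne_zero h9
      subst h8
      have h9 := (h.2 φ hθ).unique ⟨h6, h7⟩ ⟨hχ, he⟩
      have h10 := eq_of_mul_eq_of_le_charKer β.2.conj h3 isIrrCharacter_one (fun _ _ _ => rfl)
        χ.2.isCharacter (isIrr_res_of_ext he) ((congrArg Subtype.val h9).trans (by ext; simp))
      refine hne (Subtype.ext (funext fun x => ?_))
      have := congrArg conj (congrFun h10 x)
      simpa using this
    · intro h1
      exact absurd (Finset.mem_filter.2 ⟨Finset.mem_univ _, fun _ _ _ => rfl⟩) h1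
  exact mul_left_cancel₀ (inv_ne_zero (card_ne_zero' N)) ((h1 g).trans (h1 1).symm)

omit hN in
theorem mem_principal_of_cS {χ : IrrCharacter G} {θ : IrrCharacter N}
    (hθ : θ ∈ principalBlock M N) (he : ∀ n : N, χ.1 n = θ.1 n)
    (h : ∀ g, ¬ p ∣ orderOf g → cS N (reg p χ.1) g = cS N (reg p χ.1) 1) :
    χ ∈ principalBlock M G := by
  have := Fintype.ofFinite G
  haveI : Fact p.Prime := ⟨PMod.prime M⟩
  rw [mem_principal_iff_sum]
  intro h0
  have h1 := sum_cS (N := N) (reg p χ.1)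
  have h2 : ∀ g, cS N (reg p χ.1) g =
      if ∃ n : N, ¬ p ∣ orderOf (n * g) then cS N (reg p χ.1) 1 else 0 := by
    intro g
    split_ifs with h2
    · obtain ⟨n, hn⟩ := h2
      rw [← h _ hn, cS_mul_left _ n.2]
    · push Not at h2
      rw [cS_congr (F' := 0) fun n => by simp [reg, h2 n]]
      simp [cS]
  rw [h0, mul_zero, Finset.sum_congr rfl fun g _ => h2 g, ← Finset.sum_filter, Finset.sum_const,
    nsmul_eq_mul, mul_eq_zero, Nat.cast_eq_zero, Finset.card_eq_zero,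
    Finset.filter_eq_empty_iff] at h1
  rcases h1 with h1 | h1
  · exact h1 (Finset.mem_univ 1) ⟨1, by simpa using preg_one (G := G)⟩
  · exact cS_reg_one_ne_zero hθ he h1

theorem eq_of_cS {χ ψ : IrrCharacter G} {θ : IrrCharacter N}
    (he : ∀ n : N, χ.1 n = θ.1 n) (h : ∀ g, cS N (reg p χ.1) g = cS N (reg p χ.1) 1)
    (hψ : ψ ∈ principalBlock M G) (hem : em N ψ θ ≠ 0) : ψ = χ := by
  have := Fintype.ofFinite G
  have := Fintype.ofFinite N
  obtain ⟨β, h1, h2, h3⟩ := ψ.2.exists_eq_mul_of_over χ.2.isCharacter (isIrr_res_of_ext he)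
    (by rw [funext he]; exact em_ne_zero_iff.1 hem)
  have h4 := mul_ne_zero (card_ne_zero' N) (mem_principal_iff_sum.1 hψ)
  rw [← sum_cS, h3, Finset.sum_congr rfl fun g _ => cS_reg_mul fun n => h2 n.2 g,
    Finset.sum_congr rfl fun g _ => by rw [h g], ← Finset.sum_mul] at h4
  have h5 : β = fun _ => 1 := h1.eq_of_classInner_ne_zero isIrrCharacter_one (by
    rw [classInner]
    simpa using left_ne_zero_of_mul h4)
  exact Subtype.ext (h3.trans (by ext; simp [h5]))

end Coset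

section Glue

variable {G : Type*} [Group G] [Finite G] {N H J : Subgroup G} [hN : N.Normal] {p : ℕ}

omit [Finite G] in
theorem le_cs_of_le (h : N ≤ H) (x : G) : N ≤ cs x H := fun n hn =>
  mem_cs.2 (h (by simpa using hN.conj_mem n hn x⁻¹))

omit [Finite G] hN in
theorem nilp_zpowers (g : G) : Group.IsNilpotent (zpowers g) :=
  letI := IsCyclic.commGroup (α := zpowers g)
  CommGroup.isNilpotent

omit [Finite G] hN in
theorem mem_sup_zpowers (g : G) : g ∈ N ⊔ zpowers g := Subgroup.mem_sup_right (mem_zpowers g)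

omit hN in
theorem isCharacter_res_le {η : G → ℂ} (h : IsCharacter H fun x => η x) (hJ : J ≤ H) :
    IsCharacter J fun x => η x := h.comp (Subgroup.inclusion hJ)

omit hN in
theorem isCharacter_res_conj {η : G → ℂ} (h : IsCharacter H fun x => η x) (x : G) :
    IsCharacter (cs x⁻¹ H) fun y => η (x * y * x⁻¹) := by
  have := h.comp (conjIso (K := H) (x := x⁻¹) rfl).symm.toMonoidHom
  simpa [coe_conjIso_symm] using this

theorem cS_norm {η : G → ℂ} {θ : IrrCharacter N} (hNH : N ≤ H) (h : IsCharacter H fun x => η x)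
    (he : ∀ n : N, η n = θ.1 n) {g : G} (hg : g ∈ H) :
    cS N (fun x => η x * conj (η x)) g = Nat.card N := by
  have := Fintype.ofFinite (N.subgroupOf H)
  have h1 := coset_average_norm (N := N.subgroupOf H) h
    (by convert (isIrr_subgroupOf_iff hNH).2 θ.2 using 2 with n; exact he ⟨_, n.2⟩) ⟨g, hg⟩
  rw [← cS_sub hNH _ ⟨g, hg⟩, cS_eq, ← Nat.card_congr (Subgroup.subgroupOfEquivOfLe hNH).toEquiv]
  exact ((inv_mul_eq_one₀ (card_ne_zero' _)).1 h1).symm

/-- Gluing extensions by Brauer's characterization of characters. -/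
theorem glue_ext (θ : IrrCharacter N) (Pr : Subgroup G → (G → ℂ) → Prop)
    (hchar : ∀ H η, Pr H η → (IsCharacter H fun h => η h) ∧ ∀ n : N, η n = θ.1 n)
    (hex : ∀ E : Subgroup G, Group.IsNilpotent E → ∃ η, Pr (N ⊔ E) η)
    (hres : ∀ H J η, N ≤ J → J ≤ H → Pr H η → Pr J η)
    (huniq : ∀ H η η', N ≤ H → Pr H η → Pr H η' → ∀ h ∈ H, η h = η' h)
    (hconj : ∀ H η x, N ≤ H → Pr H η → Pr (cs x⁻¹ H) fun g => η (x * g * x⁻¹)) :
    ∃ χ : IrrCharacter G, ∀ H η, N ≤ H → Pr H η → ∀ h ∈ H, χ.1 h = η h := by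
  have := Fintype.ofFinite G
  choose e he using fun g : G => hex _ (nilp_zpowers g)
  have key : ∀ H η, N ≤ H → Pr H η → ∀ h ∈ H, e h h = η h := fun H η h1 h2 h h3 =>
    huniq _ _ _ le_sup_left (he h)
      (hres _ _ _ le_sup_left (sup_le h1 (Subgroup.zpowers_le_of_mem h3)) h2) _ (mem_sup_zpowers h)
  have h1 : IsClassFunction G fun g => e g g := fun x g =>
    (key _ _ (le_cs_of_le le_sup_left _) (hconj _ _ g le_sup_left (he (g * x * g⁻¹))) x
      (mem_cs.2 (by simpa using mem_sup_zpowers (g * x * g⁻¹)))).symm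
  have h2 : IsGeneralizedCharacter G fun g => e g g := brauer_char_nilpotent h1 fun E hE => by
    obtain ⟨η, hη⟩ := hex E hE
    rw [funext fun x : E => key _ _ le_sup_left hη x (Subgroup.mem_sup_right x.2)]
    exact (isCharacter_res_le (hchar _ _ hη).1 le_sup_right).isGen
  refine ⟨⟨_, h2.isIrr_of_re_nonneg ?_ ?_⟩, key⟩
  · have h3 := sum_cS (N := N) fun g => e g g * conj (e g g)
    rw [Finset.sum_congr rfl (g := fun _ => (Nat.card N : ℂ)) fun g _ => by
      rw [← cS_norm le_sup_left (hchar _ _ (he g)).1 (hchar _ _ (he g)).2 (mem_sup_zpowers g)]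
      exact cS_congr fun n => by
        rw [key _ _ le_sup_left (he g) _ (Subgroup.mul_mem_sup n.2 (mem_zpowers g))],
      Finset.sum_const, Finset.card_univ, nsmul_eq_mul, mul_comm, ← Nat.card_eq_fintype_card] at h3
    rw [classInner, ← mul_left_cancel₀ (card_ne_zero' N) h3, inv_mul_cancel₀ (card_ne_zero' G)]
  · have h3 := (hchar _ _ (he 1)).2 1
    rw [Subgroup.coe_one] at h3
    rw [h3, ← cast_deg]
    simp

/-- A good extension of `θ` to `H`. -/
structure Good (p : ℕ) (N : Subgroup G) (θ : N → ℂ) (H : Subgroup G) (η : G → ℂ) : Prop where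
  char : IsCharacter H fun h => η h
  ext : ∀ n : N, η n = θ n
  sum : ∀ h ∈ H, ¬ p ∣ orderOf h → cS N (reg p η) h = cS N (reg p η) 1

variable {θ : IrrCharacter N} {η η' : G → ℂ}

omit hN in
theorem Good.res (h : Good p N θ.1 H η) (hJ : J ≤ H) : Good p N θ.1 J η :=
  ⟨isCharacter_res_le h.char hJ, h.ext, fun x hx => h.sum x (hJ hx)⟩

theorem Good.conj (h : Good p N θ.1 H η) {x : G} (hx : icj N x θ = θ) :
    Good p N θ.1 (cs x⁻¹ H) fun g => η (x * g * x⁻¹) := by
  refine ⟨isCharacter_res_conj h.char x, fun n => ?_, fun y hy h1 => ?_⟩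
  · conv_rhs => rw [← hx, icj_apply, ← h.ext]
  · rw [reg_conj, cS_conj, cS_conj, h.sum _ (by simpa using mem_cs.1 hy) (by rwa [orderOf_conj'])]
    simp

omit hN in
theorem Good.gal (h : Good p N θ.1 H η) {σ : ℂ ≃+* ℂ} (hσ : ∀ n, σ (θ.1 n) = θ.1 n) :
    Good p N θ.1 H fun g => σ (η g) := by
  have := Fintype.ofFinite N
  have h1 : ∀ g, cS N (reg p fun g => σ (η g)) g = σ (cS N (reg p η) g) := fun g => by
    rw [cS_eq, cS_eq, map_sum]
    refine Finset.sum_congr rfl fun n _ => ?_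
    simp only [reg]
    split_ifs <;> simp
  exact ⟨h.char.map_ringHom (σ : ℂ →+* ℂ), fun n => by rw [h.ext, hσ],
    fun y hy h2 => by rw [h1, h1, h.sum y hy h2]⟩

omit [Finite G] hN in
theorem Good.congr (h : Good p N θ.1 H η) (hNH : N ≤ H) (he : ∀ x ∈ H, η' x = η x) :
    Good p N θ.1 H η' := by
  have h1 : ∀ x ∈ H, cS N (reg p η') x = cS N (reg p η) x := fun x hx =>
    cS_congr fun n => by simp only [reg, he _ (H.mul_mem (hNH n.2) hx)]
  refine ⟨?_, fun n => (he _ (hNH n.2)).trans (h.ext n), fun y hy h2 => ?_⟩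
  · rw [funext fun x : H => he x x.2]; exact h.char
  · rw [h1 y hy, h1 1 H.one_mem, h.sum y hy h2]

theorem exists_lc_of_ext_sub (hNH : N ≤ H) (h1 : IsCharacter H fun h => η h)
    (h2 : IsCharacter H fun h => η' h) (h3 : ∀ n : N, η n = θ.1 n) (h4 : ∀ n : N, η' n = θ.1 n) :
    ∃ l : H →* ℂˣ, (∀ x : H, (x : G) ∈ N → l x = 1) ∧ ∀ x : H, η' x = l x * η x := by
  obtain ⟨l, h5, h6⟩ := exists_lc_of_ext (N := N.subgroupOf H)
    (θ := ⟨_, (isIrr_subgroupOf_iff hNH).2 θ.2⟩) h1 h2 (fun n => h3 ⟨_, n.2⟩) (fun n => h4 ⟨_, n.2⟩)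
  exact ⟨l, fun x hx => h5 ⟨x, hx⟩, h6⟩

omit hN in
theorem cS_reg_lc (hNH : N ≤ H) {l : H →* ℂˣ} (h1 : ∀ x : H, (x : G) ∈ N → l x = 1)
    (h2 : ∀ x : H, η' x = l x * η x) (x : H) : cS N (reg p η') x = l x * cS N (reg p η) x := by
  have := Fintype.ofFinite N
  rw [cS_eq, cS_eq, Finset.mul_sum]
  refine Finset.sum_congr rfl fun n _ => ?_
  have := h2 (⟨n, hNH n.2⟩ * x)
  rw [map_mul, h1 _ n.2, one_mul] at this
  simp only [reg]
  split_ifs
  · simp
  · exact this

variable {M : Ideal AlgInt} [PMod M p]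

theorem Good.exists_lc (hθ : θ ∈ principalBlock M N) (hNH : N ≤ H) (h : Good p N θ.1 H η)
    (h' : Good p N θ.1 H η') : ∃ l : H →* ℂˣ, (∀ x : H, (x : G) ∈ N → l x = 1) ∧
      (∀ x : H, ¬ p ∣ orderOf x → l x = 1) ∧ ∀ x : H, η' x = l x * η x := by
  have := Fintype.ofFinite N
  obtain ⟨l, h1, h2⟩ := exists_lc_of_ext_sub hNH h.char h'.char h.ext h'.ext
  refine ⟨l, h1, fun x hx => Units.ext ?_, h2⟩
  have h3 := cS_reg_lc (p := p) hNH h1 h2 x
  rw [← Subgroup.orderOf_coe] at hx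
  rw [h.sum _ x.2 hx, h'.sum _ x.2 hx, cS_reg_one h'.ext, ← cS_reg_one h.ext] at h3
  exact (mul_eq_right₀ (cS_reg_one_ne_zero hθ h.ext)).1 h3.symm

omit [PMod M p] in
theorem pelt_mem_of_not_dvd [hp : Fact p.Prime] (hi : ¬ p ∣ N.index) {x : G}
    (hx : ∃ k, orderOf x = p ^ k) : x ∈ N := by
  obtain ⟨k, hk⟩ := hx
  rw [← QuotientGroup.eq_one_iff, ← orderOf_eq_one_iff]
  exact Nat.eq_one_of_dvd_coprimes ((hp.out.coprime_iff_not_dvd.2 hi).pow_left k)
    (hk ▸ orderOf_map_dvd (QuotientGroup.mk' N) x) (orderOf_dvd_natCard _)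

omit [PMod M p] in
theorem preg_mem_of_index [hp : Fact p.Prime] {a : ℕ} (hi : N.index = p ^ a) {x : G}
    (hx : ¬ p ∣ orderOf x) : x ∈ N := by
  rw [← QuotientGroup.eq_one_iff, ← orderOf_eq_one_iff]
  exact Nat.eq_one_of_dvd_coprimes ((hp.out.coprime_iff_not_dvd.2 hx).pow_left a)
    (hi ▸ orderOf_dvd_natCard _) (orderOf_map_dvd (QuotientGroup.mk' N) x)

theorem Good.unique (hθ : θ ∈ principalBlock M N) (hNH : N ≤ H) (hi : ¬ p ∣ N.relIndex H)
    (h : Good p N θ.1 H η) (h' : Good p N θ.1 H η') : ∀ x ∈ H, η x = η' x := by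
  haveI : Fact p.Prime := ⟨PMod.prime M⟩
  obtain ⟨l, h1, h2, h3⟩ := h.exists_lc hθ hNH h'
  intro x hx
  obtain ⟨y, hy⟩ := exists_isPPart p (⟨x, hx⟩ : H)
  have h4 : l ⟨x, hx⟩ = 1 := by
    rw [← mul_inv_cancel_left y ⟨x, hx⟩, map_mul, h2 _ hy.preg,
      h1 _ (pelt_mem_of_not_dvd (N := N.subgroupOf H) hi hy.pelt), one_mul]
  rw [h3 ⟨x, hx⟩, h4]
  simp

omit hN in
theorem Good.mem_principal (hθ : θ ∈ principalBlock M N) (hNH : N ≤ H) (h : Good p N θ.1 H η)
    {ξ : IrrCharacter H} (hξ : ∀ x : H, ξ.1 x = η x) : ξ ∈ principalBlock M H := by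
  refine mem_principal_of_cS (N := N.subgroupOf H)
    ((irrMap_mem_principal_iff (Subgroup.subgroupOfEquivOfLe hNH).symm).2 hθ)
    (fun n => (hξ _).trans (h.ext ⟨_, n.2⟩)) fun g hg => ?_
  rw [funext hξ, reg_res, cS_sub hNH, cS_sub hNH]
  exact h.sum g g.2 (by simpa using hg)

omit [PMod M p] hN in
theorem derivedSeries_sup_le [hN : N.Normal] (E : Subgroup G) (j : ℕ) :
    (derivedSeries (N ⊔ E : Subgroup G) j).map (N ⊔ E).subtype ≤
      N ⊔ (derivedSeries E j).map E.subtype := by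
  induction j with
  | zero => simp [← MonoidHom.range_eq_map]
  | succ j ih =>
    rw [derivedSeries_succ, Subgroup.map_commutator, derivedSeries_succ E j,
      Subgroup.map_commutator]
    refine (Subgroup.commutator_mono ih ih).trans (Subgroup.commutator_le.2 ?_)
    intro a ha b hb
    rw [← QuotientGroup.ker_mk' N, sup_comm, ← Subgroup.comap_map_eq] at ha hb ⊢
    rw [Subgroup.mem_comap, map_commutatorElement, Subgroup.map_commutator]
    exact Subgroup.commutator_mem_commutator ha hb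

omit [Finite G] hN [PMod M p] in
theorem exists_extend (f : H → ℂ) : ∃ η : G → ℂ, (fun x : H => η x) = f :=
  ⟨fun g => if hg : g ∈ H then f ⟨g, hg⟩ else 0, by ext x; simp⟩

theorem exists_good (hθ : θ ∈ principalBlock M N) {Q E : Subgroup G} [Group.IsSolvable E]
    (h : ADH p (N.subgroupOf (N ⊔ E)) (Q.subgroupOf (N ⊔ E))) : ∃ η, Good p N θ.1 (N ⊔ E) η := by
  obtain ⟨k, hk⟩ := (isSolvable_def E).1 inferInstance
  have h1 : ADf M (N.subgroupOf (N ⊔ E)).subtype := h.adf_of_derived k fun x hx => by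
    have := derivedSeries_sup_le (N := N) E k ⟨x, hx, rfl⟩
    rwa [hk, Subgroup.map_bot, sup_bot_eq] at this
  obtain ⟨χ, ⟨h2, h3⟩, -⟩ := h1.2 _
    ((irrMap_mem_principal_iff (Subgroup.subgroupOfEquivOfLe le_sup_left).symm).2 hθ)
  obtain ⟨η, h4⟩ := exists_extend χ.1
  refine ⟨η, h4 ▸ χ.2.isCharacter, fun n => ?_, fun x hx _ => ?_⟩
  · exact (congrFun h4 ⟨n, Subgroup.mem_sup_left n.2⟩).trans (h3 ⟨⟨n, _⟩, n.2⟩)
  · have h5 := h1.cS_eq h2 ⟨x, hx⟩
    rw [← h4, reg_res, cS_sub le_sup_left, cS_sub le_sup_left] at h5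
    exact h5

omit [PMod M p] in
theorem icj_eq_of_ext (hNH : N ≤ H) (h1 : IsCharacter H fun h => η h) (h2 : ∀ n : N, η n = θ.1 n)
    {x : G} (hx : x ∈ H) : icj N x θ = θ := by
  refine Subtype.ext (funext fun n => ?_)
  rw [icj_apply, ← h2, ← h2]
  exact h1.isClassFunction.apply_conj (⟨n, hNH n.2⟩ : H) ⟨x, hx⟩

theorem ADH.exists_good_top {Q : Subgroup G} (h : ADH p N Q) (hθ : θ ∈ principalBlock M N) :
    ∃ χ : IrrCharacter G, (∀ n : N, χ.1 n = θ.1 n) ∧
      ∀ g, cS N (reg p χ.1) g = cS N (reg p χ.1) 1 := by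
  haveI : Fact p.Prime := ⟨PMod.prime M⟩
  have hex : ∀ E : Subgroup G, Group.IsNilpotent E → ∃ η, Good p N θ.1 (N ⊔ E) η := fun E hE =>
    exists_good hθ (h.sub le_sup_left)
  have hinv : ∀ x, icj N x θ = θ := fun x => by
    obtain ⟨η, hη⟩ := hex _ (nilp_zpowers x)
    exact icj_eq_of_ext le_sup_left hη.char hη.ext (mem_sup_zpowers x)
  obtain ⟨χ, hχ⟩ := glue_ext θ (Good p N θ.1) (fun _ _ h => ⟨h.char, h.ext⟩) hex
    (fun _ _ _ _ h1 h2 => h2.res h1)
    (fun H _ _ h1 h2 h3 => h2.unique hθ h1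
      (fun hd => h.not_dvd (hd.trans (Subgroup.relIndex_dvd_index_of_le h1))) h3)
    (fun _ _ x _ h2 => h2.conj (hinv x))
  have h1 : ∀ g, Good p N θ.1 (N ⊔ zpowers g) χ.1 := fun g => by
    obtain ⟨η, hη⟩ := hex _ (nilp_zpowers g)
    exact hη.congr le_sup_left (hχ _ _ le_sup_left hη)
  refine ⟨χ, (h1 1).ext, fun g => ?_⟩
  obtain ⟨y, hy⟩ := exists_isPPart p g
  rw [← mul_inv_cancel_left y g, cS_mul_left _ (pelt_mem_of_not_dvd h.not_dvd hy.pelt)]
  exact (h1 _).sum _ (mem_sup_zpowers _) hy.preg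

/-- The Alperin–Dade theorem. -/
theorem ADH.adf {Q : Subgroup G} (h : ADH p N Q) : ADf M N.subtype := by
  refine ⟨fun ψ hψ => ?_, fun θ hθ => ?_⟩
  · obtain ⟨θ, h1⟩ := exists_em_under ψ N
    have h2 := mem_principal_of_em hψ h1
    obtain ⟨χ, h3, h4⟩ := h.exists_good_top h2
    obtain rfl := eq_of_cS h3 h4 hψ h1
    exact ⟨θ, h2, h3⟩
  · obtain ⟨χ, h3, h4⟩ := h.exists_good_top hθ
    exact ⟨χ, ⟨mem_principal_of_cS hθ h3 fun g _ => h4 g, h3⟩, fun ψ hψ =>
      eq_of_cS h3 h4 hψ.1 (by rw [em_of_res_self hψ.2]; exact one_ne_zero)⟩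

end Glue

end Cfsg.Agent.Blk
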