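import Cfsg.Agent.Lib.Block.AD
import Cfsg.Agent.Lib.Transfer.Hall

set_option autoImplicit false

/-! Consequences of the Alperin–Dade isomorphism. -/

namespace Cfsg.Agent.Blk

open MonoidAlgebra
open Cfsg.Agent.Char hiding cj cj_mul cj_inv_cj cj_cj_inv sum_cj_eq om
open scoped ComplexConjugate
attribute [local instance] _root_.Classical.propDecidable
open Subgroup (zpowers mem_zpowers)

variable {G : Type*} [Group G] [Finite G] {N H J Q : Subgroup G} {p : ℕ}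

theorem exists_preg_sub [hp : Fact p.Prime] {E : Subgroup G} (hE : Group.IsNilpotent E) :
    ∃ R ≤ E, ∀ x ∈ E, x ∈ R ↔ ¬ p ∣ orderOf x := by
  have h1 := Transfer.hasNPC_iff_not_dvd.1 (Transfer.hasNPC_of_nilpotent (p := p) (G := E))
  refine ⟨(pResidual p E).map E.subtype, Subgroup.map_subtype_le _, fun x hx => ⟨?_, fun h => ?_⟩⟩
  · rintro ⟨y, hy, rfl⟩ hd
    refine h1 (hd.trans ?_)
    rw [Subgroup.coe_subtype, Subgroup.orderOf_coe]
    exact Subgroup.orderOf_dvd_natCard _ hy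
  · refine ⟨⟨x, hx⟩, Subgroup.subset_closure ?_, rfl⟩
    rw [Set.mem_setOf_eq, ← Subgroup.orderOf_coe]
    exact (hp.out.coprime_iff_not_dvd.2 h).symm

theorem index_eq_pow_of_preg [hp : Fact p.Prime] (h : ∀ x, ¬ p ∣ orderOf x → x ∈ N) :
    ∃ a, N.index = p ^ a := by
  obtain ⟨n, hn⟩ := Transfer.index_pResidual (p := p) (G := G)
  have h1 : pResidual p G ≤ N := (Subgroup.closure_le _).2 fun x hx =>
    h x (hp.out.coprime_iff_not_dvd.1 (Nat.Coprime.symm hx))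
  obtain ⟨a, -, ha⟩ := (Nat.dvd_prime_pow hp.out).1 (hn ▸ Subgroup.index_dvd_of_le h1)
  exact ⟨a, ha⟩

theorem lc_eq_one_of_preg [hp : Fact p.Prime] {l : G →* ℂˣ} (h : ∀ x, ¬ p ∣ orderOf x → l x = 1)
    {x : G} {m : ℕ} (hm : ¬ p ∣ m) (h1 : l x ^ m = 1) : l x = 1 := by
  obtain ⟨y, hy⟩ := exists_isPPart p x
  have h2 : l x = l y := by rw [← mul_inv_cancel_left y x, map_mul, h _ hy.preg, mul_one]
  obtain ⟨k, hk⟩ := hy.pelt
  rw [← orderOf_eq_one_iff]
  exact Nat.eq_one_of_dvd_coprimes ((hp.out.coprime_iff_not_dvd.2 hm).pow_left k)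
    (h2 ▸ hk ▸ orderOf_map_dvd l y) (orderOf_dvd_of_pow_eq_one h1)

variable [hN : N.Normal]

omit [Finite G] in
theorem exists_mul_of_mem_nsup {x : G} (h : x ∈ N ⊔ H) : ∃ n ∈ N, ∃ c ∈ H, x = n * c := by
  obtain ⟨n, hn, c, hc, rfl⟩ := Subgroup.mem_sup_of_normal_left.1 h
  exact ⟨n, hn, c, hc, rfl⟩

theorem not_dvd_detOrder_of_res [hp : Fact p.Prime] {χ : G → ℂ} (hχ : IsCharacter G χ)
    (hi : ¬ p ∣ N.index) (h : ¬ p ∣ detOrder fun n : N => χ n) : ¬ p ∣ detOrder χ := by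
  obtain ⟨δ, hδ⟩ := hχ.exists_detChar
  intro hd
  refine (hp.out.dvd_mul.1 (hd.trans ?_)).elim h hi
  rw [detOrder, hδ, orderOf_units_fun, orderOf_dvd_iff_pow_eq_one]
  ext g
  have h1 := pow_index_eq_one_of_trivial (N := N) (δ ^ detOrder fun n : N => χ n) (fun n => by
    have := congrFun (pow_orderOf_eq_one (detChar fun n : N => χ n)) n
    rw [Pi.pow_apply, hχ.detChar_res, hδ] at this
    exact Units.ext (by simpa [detOrder] using this)) g
  rw [pow_mul, MonoidHom.pow_apply, h1, MonoidHom.one_apply]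

variable {θ : IrrCharacter N} {η η' : G → ℂ}

theorem exists_ne_zero_coset (hNH : N ≤ H) (h : IsCharacter H fun x => η x)
    (he : ∀ n : N, η n = θ.1 n) {g : G} (hg : g ∈ H) : ∃ n : N, η (n * g) ≠ 0 := by
  by_contra h1
  push Not at h1
  have h2 := cS_norm hNH h he hg
  rw [cS_congr (F' := 0) fun n => by simp [h1 n]] at h2
  exact card_ne_zero' N (h2.symm.trans (by simp [cS]))

omit hN in
theorem good_of_forall {χ : IrrCharacter G}
    (h : ∀ g, ∃ η, Good p N θ.1 (N ⊔ zpowers g) η ∧ ∀ x ∈ N ⊔ zpowers g, χ.1 x = η x)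
    (J : Subgroup G) : Good p N θ.1 J χ.1 := by
  have h1 : ∀ g, Good p N θ.1 (N ⊔ zpowers g) χ.1 := fun g => by
    obtain ⟨η, h1, h2⟩ := h g
    exact h1.congr le_sup_left h2
  exact ⟨χ.2.isCharacter.res J, (h1 1).ext, fun x _ hx => (h1 x).sum x (mem_sup_zpowers x) hx⟩

omit [Finite G] hN in
theorem Good.of_mid {H0 : Subgroup G} {η0 : G → ℂ} (h : Good p N θ.1 H0 η0) (hNH : N ≤ H0)
    (h1 : ∀ x ∈ H, ¬ p ∣ orderOf x → x ∈ H0) (h2 : IsCharacter H fun x => η x)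
    (h3 : ∀ x ∈ H0, η x = η0 x) : Good p N θ.1 H η :=
  ⟨h2, (h.congr hNH h3).ext, fun x hx hp => (h.congr hNH h3).sum x (h1 x hx hp) hp⟩

variable {M : Ideal AlgInt} [PMod M p]

omit hN in
theorem Good.mem_principal_top {χ : IrrCharacter G} (hθ : θ ∈ principalBlock M N)
    (h : Good p N θ.1 ⊤ χ.1) : χ ∈ principalBlock M G :=
  mem_principal_of_cS hθ h.ext fun g hg => h.sum g trivial hg

theorem exists_good_mid (hθ : θ ∈ principalBlock M N) (hQ : Q ≤ N) (hi : ¬ p ∣ Q.relIndex N)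
    (hreg : ∀ x, ¬ p ∣ orderOf x → x ∈ N ⊔ Ce Q) (hinv : ∀ x, icj N x θ = θ) {E : Subgroup G}
    (hE : Group.IsNilpotent E) : ∃ (H0 : Subgroup G) (η0 : G → ℂ), N ≤ H0 ∧ H0 ≤ N ⊔ E ∧
      (H0.subgroupOf (N ⊔ E)).Normal ∧ ¬ p ∣ N.relIndex H0 ∧
      (∀ x ∈ N ⊔ E, ¬ p ∣ orderOf x → x ∈ H0) ∧ Good p N θ.1 H0 η0 ∧
      ∀ x ∈ N ⊔ E, ∀ y ∈ H0, η0 (x * y * x⁻¹) = η0 y := by
  haveI hp : Fact p.Prime := ⟨PMod.prime M⟩
  obtain ⟨R, hRE, hR⟩ := exists_preg_sub (p := p) hE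
  have h1 : ¬ p ∣ Nat.card R := fun hd => by
    obtain ⟨x, hx⟩ := exists_prime_orderOf_dvd_card' p hd
    exact (hR x (hRE x.2)).1 x.2 (by rw [Subgroup.orderOf_coe, hx])
  have h2 : ¬ p ∣ N.relIndex (N ⊔ R) := fun hd => h1 (by
    rw [Subgroup.relIndex_sup_left] at hd
    exact hd.trans (Subgroup.relIndex_dvd_card _ _))
  have h3 : N ⊔ E ≤ No (N ⊔ R) := by
    refine sup_le (le_sup_left.trans (le_No _)) fun x hx => No_sup_le _ _ ⟨?_, ?_⟩
    · exact mem_No.2 (cs_normal x N)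
    · refine mem_No.2 (cs_eq_of_cs_le (y := 1) (fun y hy => ?_) (by simp))
      have h4 := mem_cs.1 hy
      have h5 : y ∈ E := by
        have := E.mul_mem (E.mul_mem hx (hRE h4)) (E.inv_mem hx)
        simpa [mul_assoc] using this
      refine (hR y h5).2 ?_
      have := (hR _ (hRE h4)).1 h4
      rwa [show x⁻¹ * y * x = x⁻¹ * y * x⁻¹⁻¹ by simp, orderOf_conj'] at this
  haveI : Group.IsSolvable R :=
    solvable_of_solvable_injective (Subgroup.inclusion_injective hRE)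
  obtain ⟨η0, h4⟩ := exists_good (E := R) hθ (adh_sub hQ le_sup_left (fun hd => by
    rw [← Subgroup.relIndex_mul_relIndex _ _ _ hQ le_sup_left] at hd
    exact (hp.out.dvd_mul.1 hd).elim hi h2) fun g hg => exists_mul_of_mem_nsup
      ((sup_le le_sup_left fun x hx => hreg x ((hR x (hRE hx)).1 hx) : N ⊔ R ≤ N ⊔ Ce Q) hg))
  refine ⟨N ⊔ R, η0, le_sup_left, sup_le_sup_left hRE _,
    (Subgroup.normal_subgroupOf_iff_le_normalizer (sup_le_sup_left hRE _)).2 h3, h2,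
    fun x hx hx' => ?_, h4, fun x hx y hy => ?_⟩
  · obtain ⟨n, hn, e, he, rfl⟩ := exists_mul_of_mem_nsup hx
    obtain ⟨y, hy⟩ := exists_isPPart p e
    have h5 : y ∈ N := by
      have h6 := hy.map (QuotientGroup.mk' N)
      rw [← QuotientGroup.eq_one_iff]
      refine h6.eq_one_iff.2 fun hd => hx' (hd.trans ?_)
      have h7 : QuotientGroup.mk' N e = QuotientGroup.mk' N (n * e) := by
        simp [(QuotientGroup.eq_one_iff n).2 hn]
      exact h7 ▸ orderOf_map_dvd _ _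
    rw [← mul_inv_cancel_left y e, ← mul_assoc]
    exact Subgroup.mul_mem_sup (N.mul_mem hn h5)
      ((hR _ (E.mul_mem (E.inv_mem (hy.mem he)) he)).2 hy.preg)
  · have h5 := h4.conj (hinv x)
    rw [mem_No.1 (h3 ((N ⊔ E).inv_mem hx))] at h5
    exact h5.unique hθ le_sup_left h2 h4 y hy

/-- Extension in the principal block, given some extension. -/
theorem exists_good_of_ext (hθ : θ ∈ principalBlock M N) (hQ : Q ≤ N) (hi : ¬ p ∣ Q.relIndex N)
    (hreg : ∀ x, ¬ p ∣ orderOf x → x ∈ N ⊔ Ce Q) {ψ : IrrCharacter G}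
    (hψ : ∀ n : N, ψ.1 n = θ.1 n) : ∃ χ : IrrCharacter G, ∀ J, Good p N θ.1 J χ.1 := by
  haveI hp : Fact p.Prime := ⟨PMod.prime M⟩
  have hinv := icj_eq_of_res hψ
  let Pr : Subgroup G → (G → ℂ) → Prop := fun H η => Good p N θ.1 H η ∧
    ∃ l : H →* ℂˣ, ¬ p ∣ orderOf l ∧ ∀ x : H, η x = l x * ψ.1 x
  have hcomp : ∀ {A B : Subgroup G} (l : A →* ℂˣ) (f : B →* A), ¬ p ∣ orderOf l →
      ¬ p ∣ orderOf (l.comp f) := fun l f h hd => h (hd.trans (orderOf_dvd_of_pow_eq_one (by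
    ext x
    rw [MonoidHom.pow_apply, MonoidHom.comp_apply, ← MonoidHom.pow_apply, pow_orderOf_eq_one]
    rfl)))
  have hex : ∀ E : Subgroup G, Group.IsNilpotent E → ∃ η, Pr (N ⊔ E) η := by
    intro E hE
    obtain ⟨H0, η0, h1, h2, h3, h4, h5, h6, h7⟩ := exists_good_mid hθ hQ hi hreg hinv hE
    obtain ⟨l, h8, h9⟩ := exists_lc_of_ext_sub h1 (ψ.2.isCharacter.res H0) h6.char hψ h6.ext
    have h10 : ¬ p ∣ orderOf l := fun hd => h4 (hd.trans (orderOf_dvd_of_pow_eq_one (by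
      ext x
      rw [MonoidHom.pow_apply, Subgroup.relIndex,
        pow_index_eq_one_of_trivial (N := N.subgroupOf H0) l fun n => h8 _ n.2]
      rfl)))
    obtain ⟨a, ha⟩ := index_eq_pow_of_preg (p := p) (N := H0.subgroupOf (N ⊔ E))
      fun x hx => h5 x x.2 (by simpa using hx)
    obtain ⟨μ, h11, h12⟩ := exists_ext_orderOf_eq (N := H0.subgroupOf (N ⊔ E))
      (lam := l.comp (Subgroup.subgroupOfEquivOfLe h2).toMonoidHom) (fun x y => by
        have hy : ((y : (N ⊔ E : Subgroup G)) : G) ∈ H0 := y.2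
        obtain ⟨n, hn⟩ := exists_ne_zero_coset h1 (ψ.2.isCharacter.res H0) hψ hy
        have h11 : (x : G) * y * (x : G)⁻¹ ∈ H0 := h3.conj_mem y y.2 x
        have h12 : (x : G) * n * (x : G)⁻¹ ∈ N := hN.conj_mem n n.2 x
        have h13 := h9 (⟨_, h1 h12⟩ * ⟨_, h11⟩)
        have h14 := h9 (⟨_, h1 n.2⟩ * ⟨_, hy⟩)
        rw [map_mul, h8 _ h12, one_mul] at h13
        rw [map_mul, h8 _ n.2, one_mul] at h14
        have h15 : (x : G) * n * (x : G)⁻¹ * ((x : G) * y * (x : G)⁻¹) =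
          (x : G) * (n * y) * (x : G)⁻¹ := by group
        simp only [MulMemClass.mk_mul_mk, h15] at h13 h14
        rw [h7 _ x.2 _ (H0.mul_mem (h1 n.2) hy), h14, ψ.2.isClassFunction.apply_conj] at h13
        exact Units.ext (mul_right_cancel₀ hn h13).symm)
      (ha ▸ ((hp.out.coprime_iff_not_dvd.2 fun hd => h10 (hd.trans (orderOf_dvd_of_pow_eq_one (by
        ext x
        rw [MonoidHom.pow_apply, MonoidHom.comp_apply, ← MonoidHom.pow_apply, pow_orderOf_eq_one]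
        rfl)))).pow_left a))
    obtain ⟨η, hη⟩ := exists_extend (fun x : (N ⊔ E : Subgroup G) => μ x * ψ.1 x)
    refine ⟨η, h6.of_mid h1 h5 (hη ▸ (isIrrCharacter_units μ).isCharacter.mul
      (ψ.2.isCharacter.res _)) fun x hx => ?_, μ, fun hd => h10 (hd.trans ?_), congrFun hη⟩
    · rw [congrFun hη ⟨x, h2 hx⟩, h9 ⟨x, hx⟩, h11 ⟨⟨x, h2 hx⟩, hx⟩]
      rfl
    · rw [h12]
      refine orderOf_dvd_of_pow_eq_one ?_
      ext x
      rw [MonoidHom.pow_apply, MonoidHom.comp_apply, ← MonoidHom.pow_apply, pow_orderOf_eq_one]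
      rfl
  obtain ⟨χ, hχ⟩ := glue_ext θ Pr (fun _ _ h => ⟨h.1.char, h.1.ext⟩) hex
    (fun H J η _ h1 ⟨h2, l, h3, h4⟩ => ⟨h2.res h1, l.comp (Subgroup.inclusion h1), hcomp _ _ h3,
      fun x => h4 ⟨x, h1 x.2⟩⟩)
    (fun H η η' h1 ⟨h2, l, h3, h4⟩ ⟨h5, l', h6, h7⟩ x hx => by
      obtain ⟨β, h8, h9, h10⟩ := h2.exists_lc hθ h1 h5
      obtain ⟨n, hn⟩ := exists_ne_zero_coset h1 (ψ.2.isCharacter.res H) hψ hx
      have h11 := h10 (⟨n, h1 n.2⟩ * ⟨x, hx⟩)
      rw [h4, h7, ← mul_assoc] at h11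
      have h12 : l' (⟨n, h1 n.2⟩ * ⟨x, hx⟩) = (β * l) (⟨n, h1 n.2⟩ * ⟨x, hx⟩) :=
        Units.ext (mul_right_cancel₀ hn h11)
      have h13 : β (⟨n, h1 n.2⟩ * ⟨x, hx⟩) = 1 := by
        refine lc_eq_one_of_preg h9 (m := orderOf l * orderOf l')
          (fun hd => (hp.out.dvd_mul.1 hd).elim h3 h6) ?_
        have h14 := congrArg (· ^ (orderOf l * orderOf l')) h12
        simp only [MonoidHom.mul_apply, mul_pow] at h14
        rw [← MonoidHom.pow_apply l', ← MonoidHom.pow_apply l, pow_mul l, pow_mul' l',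
          pow_orderOf_eq_one, pow_orderOf_eq_one, one_pow, one_pow] at h14
        simpa using h14.symm
      rw [map_mul, h8 _ n.2, one_mul] at h13
      rw [h10 ⟨x, hx⟩, h13]
      simp)
    (fun H η x _ ⟨h2, l, h3, h4⟩ => ⟨h2.conj (hinv x),
      l.comp (conjIso (K := H) (x := x⁻¹) rfl).symm.toMonoidHom, hcomp _ _ h3, fun y => by
        have := h4 ((conjIso (K := H) (x := x⁻¹) rfl).symm y)
        rw [coe_conjIso_symm, inv_inv, ψ.2.isClassFunction.apply_conj] at this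
        exact this⟩)
  refine ⟨χ, good_of_forall fun g => ?_⟩
  obtain ⟨η, hη⟩ := hex _ (nilp_zpowers g)
  exact ⟨η, hη.1, hχ _ _ le_sup_left hη⟩

/-- The canonical extension in the principal block. -/
theorem exists_good_canon (hθ : θ ∈ principalBlock M N) (hQ : Q ≤ N) (hi : ¬ p ∣ Q.relIndex N)
    (hreg : ∀ x, ¬ p ∣ orderOf x → x ∈ N ⊔ Ce Q) (hinv : ∀ x, icj N x θ = θ)
    (hdeg : ¬ p ∣ charDegree θ.1) (hdet : ¬ p ∣ detOrder θ.1) :
    ∃ χ : IrrCharacter G, (∀ J, Good p N θ.1 J χ.1) ∧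
      ∀ σ : ℂ ≃+* ℂ, (∀ n, σ (θ.1 n) = θ.1 n) → ∀ g, σ (χ.1 g) = χ.1 g := by
  haveI hp : Fact p.Prime := ⟨PMod.prime M⟩
  let Pr : Subgroup G → (G → ℂ) → Prop := fun H η => Good p N θ.1 H η ∧
    ¬ p ∣ detOrder fun x : H => η x
  have hex : ∀ E : Subgroup G, Group.IsNilpotent E → ∃ η, Pr (N ⊔ E) η := by
    intro E hE
    obtain ⟨H0, η0, h1, h2, h3, h4, h5, h6, h7⟩ := exists_good_mid hθ hQ hi hreg hinv hE
    obtain ⟨a, ha⟩ := index_eq_pow_of_preg (p := p) (N := H0.subgroupOf (N ⊔ E))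
      fun x hx => h5 x x.2 (by simpa using hx)
    have h8 : IsIrrCharacter H0 fun x => η0 x :=
      h6.char.isIrr_of_res_le h1 (isIrr_res_of_ext h6.ext)
    have h9 : ¬ p ∣ detOrder fun x : H0 => η0 x :=
      not_dvd_detOrder_of_res (N := N.subgroupOf H0) h6.char h4 fun hd => hdet (hd.trans (by
        have := θ.2.isCharacter.detOrder_comp_dvd (Subgroup.subgroupOfEquivOfLe h1).toMonoidHom
        rw [← funext h6.ext] at this ⊢
        exact this))
    obtain ⟨ξ, ⟨h10, h11⟩, -⟩ := existsUnique_canon ha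
      (θ := ⟨_, (isIrr_subgroupOf_iff h2).2 h8⟩)
      (fun x => Subtype.ext (funext fun y => h7 _ x.2 _ y.2))
      (by rwa [charDegree, ← h6.ext 1] at hdeg)
      fun hd => h9 (hd.trans
        (h6.char.detOrder_comp_dvd (Subgroup.subgroupOfEquivOfLe h2).toMonoidHom))
    obtain ⟨η, hη⟩ := exists_extend ξ.1
    exact ⟨η, h6.of_mid h1 h5 (hη ▸ ξ.2.isCharacter) fun x hx =>
      (congrFun hη ⟨x, h2 hx⟩).trans (h11 ⟨⟨x, h2 hx⟩, hx⟩), hη ▸ h10⟩
  obtain ⟨χ, hχ⟩ := glue_ext θ Pr (fun _ _ h => ⟨h.1.char, h.1.ext⟩) hex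
    (fun H J η _ h1 ⟨h2, h3⟩ => ⟨h2.res h1, fun hd => h3 (hd.trans
      (h2.char.detOrder_comp_dvd (Subgroup.inclusion h1)))⟩)
    (fun H η η' h1 ⟨h2, h3⟩ ⟨h5, h6⟩ x hx => by
      obtain ⟨β, h8, h9, h10⟩ := h2.exists_lc hθ h1 h5
      have h11 := h2.char.detChar_units_mul β (d := charDegree θ.1)
        ((h2.ext 1).trans (cast_deg θ).symm) ⟨x, hx⟩
      rw [← funext h10] at h11
      have h13 : β ⟨x, hx⟩ = 1 := by
        refine lc_eq_one_of_preg h9
          (m := charDegree θ.1 * ((detOrder fun x : H => η x) * detOrder fun x : H => η' x))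
          (fun hd => (hp.out.dvd_mul.1 hd).elim hdeg fun hd =>
            (hp.out.dvd_mul.1 hd).elim h3 h6) (Units.ext ?_)
        have h14 := congrArg
          (· ^ ((detOrder fun x : H => η x) * detOrder fun x : H => η' x)) h11
        have h15 := congrFun (pow_orderOf_eq_one (detChar fun x : H => η x)) ⟨x, hx⟩
        have h16 := congrFun (pow_orderOf_eq_one (detChar fun x : H => η' x)) ⟨x, hx⟩
        simp only [Pi.pow_apply, Pi.one_apply] at h15 h16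
        simp only [mul_pow] at h14
        rw [pow_mul' (detChar _ _), pow_mul (detChar _ _), detOrder, detOrder, h15, h16, one_pow,
          one_pow, mul_one, ← pow_mul] at h14
        simpa [detOrder] using h14.symm
      rw [h10 ⟨x, hx⟩, h13]
      simp)
    (fun H η x _ ⟨h2, h3⟩ => ⟨h2.conj (hinv x), fun hd => h3 (hd.trans (by
      have := h2.char.detOrder_comp_dvd (conjIso (K := H) (x := x⁻¹) rfl).symm.toMonoidHom
      simpa [coe_conjIso_symm] using this))⟩)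
  refine ⟨χ, good_of_forall fun g => ?_, fun σ hσ g => ?_⟩
  · obtain ⟨η, hη⟩ := hex _ (nilp_zpowers g)
    exact ⟨η, hη.1, hχ _ _ le_sup_left hη⟩
  · obtain ⟨η, hη⟩ := hex _ (nilp_zpowers g)
    rw [hχ _ _ le_sup_left hη g (mem_sup_zpowers g)]
    exact (hχ _ _ le_sup_left ⟨hη.1.gal hσ, fun hd => hη.2 (hd.trans
      (hη.1.char.detOrder_map_dvd (σ : ℂ →+* ℂ)))⟩ g (mem_sup_zpowers g)).symm.trans
      (hχ _ _ le_sup_left hη g (mem_sup_zpowers g))

omit hN in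
theorem isInducedBlock_principal {P K : Subgroup G} (hP : IsSyl p P ⊤) (h1 : P ≤ K)
    (h2 : Ce P ≤ K) : IsInducedBlock M K (principalBlock M K) (principalBlock M G) := by
  haveI hp : Fact p.Prime := ⟨PMod.prime M⟩
  obtain ⟨S, hS⟩ := (hP.of_le h1 le_top).exists_sylow
  have h3 : IsDef p K (barS M K (principalBlock M K)) P := by
    rw [← hS, barS, isDef_es_iff]
    exact isPBlock_principal.isDef_of_mnu mnu_principal (isSyl_sylow S)
  obtain ⟨B, hB, h4⟩ := exists_ind_of_isDef (H := ⊤) isPBlock_principal.isBlockS h3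
    (inf_le_right.trans h2) le_top
  obtain ⟨B, hB', rfl⟩ := exists_isPBlock_bar_eq hB
  have h5 := isInducedBlock_iff.2 ⟨isPBlock_principal, hB', h4⟩
  rwa [(third_main h5).2 rfl] at h5

theorem mem_adjoin_of_forall_fix {S : Set ℂ} (hS : ∀ s ∈ S, IsAlgebraic ℚ s) {z : ℂ}
    (hz : IsAlgebraic ℚ z) (h : ∀ σ : ℂ ≃+* ℂ, (∀ s ∈ S, σ s = s) → σ z = z) :
    z ∈ IntermediateField.adjoin ℚ S := by
  let K := algebraicClosure ℚ ℂ
  let z' : K := ⟨z, (mem_algebraicClosure_iff).2 hz⟩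
  have : IsAlgClosure ℚ K := algebraicClosure.isAlgClosure ℚ ℂ
  have : IsGalois ℚ K := inferInstance
  let F : IntermediateField ℚ K := (IntermediateField.adjoin ℚ S).comap K.val
  have h1 : z' ∈ F := by
    rw [← InfiniteGalois.fixedField_fixingSubgroup F, IntermediateField.mem_fixedField_iff]
    intro φ hφ
    obtain ⟨σ, hσ⟩ := exists_ringEquiv_extend φ.toRingEquiv
    apply (algebraMap K ℂ).injective
    refine (hσ z').symm.trans (h σ fun s hs => ?_)
    have h2 := (IntermediateField.mem_fixingSubgroup_iff _ _).1 hφ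
      ⟨s, (mem_algebraicClosure_iff).2 (hS s hs)⟩ (IntermediateField.subset_adjoin ℚ S hs)
    exact (hσ ⟨s, (mem_algebraicClosure_iff).2 (hS s hs)⟩).trans (congrArg (algebraMap K ℂ) h2)
  exact h1

theorem fix_of_mem_adjoin {S : Set ℂ} {σ : ℂ →+* ℂ} (h : ∀ s ∈ S, σ s = s) {z : ℂ}
    (hz : z ∈ IntermediateField.adjoin ℚ S) : σ z = z := by
  induction hz using IntermediateField.adjoin_induction with
  | mem x hx => exact h x hx
  | algebraMap x => simp
  | add x y _ _ hx hy => simp [hx, hy]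
  | inv x _ hx => simp [hx]
  | mul x y _ _ hx hy => simp [hx, hy]

end Cfsg.Agent.Blk
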