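import Cfsg.Agent.Lib.Block.Grp
import Mathlib.Algebra.MonoidAlgebra.Basic
import Mathlib.Algebra.MonoidAlgebra.Module
import Mathlib.Algebra.CharP.Basic
import Mathlib.Algebra.Algebra.Subalgebra.Lattice

/-!
The group algebra `R[G]`: conjugation, truncation, subalgebras of elements supported on a subgroup
or invariant under a subgroup, class sums, and the Brauer map.
-/

namespace Cfsg.Agent.Blk

open MonoidAlgebra

variable {R : Type*} [CommRing R] {G : Type*} [Group G]

/-- The element of the group algebra with given coefficients. -/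
noncomputable def ofFun [Finite G] (f : G → R) : R[G] :=
  .ofCoeff (Finsupp.equivFunOnFinite.symm f)

@[simp] theorem coeff_ofFun [Finite G] (f : G → R) (g : G) : (ofFun f).coeff g = f g := rfl

theorem ext' {a b : R[G]} (h : ∀ g, a.coeff g = b.coeff g) : a = b :=
  MonoidAlgebra.ext (Finsupp.ext h)

theorem coeff_mul_left [Fintype G] (a b : R[G]) (g : G) :
    (a * b).coeff g = ∑ h, a.coeff h * b.coeff (h⁻¹ * g) := by
  rw [coeff_mul_apply_left, Finsupp.sum_fintype]
  simp

theorem coeff_mul_right [Fintype G] (a b : R[G]) (g : G) :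
    (a * b).coeff g = ∑ h, a.coeff (g * h⁻¹) * b.coeff h := by
  rw [coeff_mul_apply_right, Finsupp.sum_fintype]
  simp

theorem coeff_sub' (a b : R[G]) (g : G) : (a - b).coeff g = a.coeff g - b.coeff g := rfl
theorem coeff_add' (a b : R[G]) (g : G) : (a + b).coeff g = a.coeff g + b.coeff g := rfl
theorem coeff_smul' (c : R) (a : R[G]) (g : G) : (c • a).coeff g = c * a.coeff g := rfl
theorem coeff_neg' (a : R[G]) (g : G) : (-a).coeff g = - a.coeff g := rfl
theorem coeff_zero' (g : G) : (0 : R[G]).coeff g = 0 := rfl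

theorem coeff_sum' {ι : Type*} (s : Finset ι) (f : ι → R[G]) (g : G) :
    (∑ i ∈ s, f i).coeff g = ∑ i ∈ s, (f i).coeff g := by
  rw [coeff_sum, Finsupp.finsetSum_apply]

open Classical in
theorem coeff_single' (g h : G) (r : R) : (single g r).coeff h = if g = h then r else 0 :=
  Finsupp.single_apply

open Classical in
theorem coeff_one' (g : G) : (1 : R[G]).coeff g = if 1 = g then 1 else 0 := coeff_single' 1 g 1

theorem eq_sum_single [Fintype G] (a : R[G]) : a = ∑ g, a.coeff g • single g (1 : R) := by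
  apply ext'
  intro g
  simp only [coeff_sum', coeff_smul', coeff_single', mul_ite, mul_one, mul_zero]
  classical
  rw [Finset.sum_eq_single g] <;> simp +contextual

theorem exists_coeff_ne_zero {a : R[G]} (h : a ≠ 0) : ∃ g, a.coeff g ≠ 0 := by
  by_contra hc
  push Not at hc
  exact h (ext' hc)

/-- Conjugation `a ↦ x a x⁻¹`. -/
noncomputable def cj (x : G) : R[G] ≃ₐ[R] R[G] := domCongr R R (MulAut.conj x)

@[simp] theorem coeff_cj (x : G) (a : R[G]) (g : G) : (cj x a).coeff g = a.coeff (x⁻¹ * g * x) := by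
  simp [cj]

@[simp] theorem cj_single (x g : G) (r : R) : cj x (single g r) = single (x * g * x⁻¹) r := by
  simp [cj]

@[simp] theorem cj_one' (a : R[G]) : cj (1 : G) a = a := ext' fun g => by simp

theorem cj_mul (x y : G) (a : R[G]) : cj (x * y) a = cj x (cj y a) :=
  ext' fun g => by simp [mul_assoc]

@[simp] theorem cj_inv_cj (x : G) (a : R[G]) : cj x⁻¹ (cj x a) = a := by rw [← cj_mul]; simp

@[simp] theorem cj_cj_inv (x : G) (a : R[G]) : cj x (cj x⁻¹ a) = a := by rw [← cj_mul]; simp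

theorem cj_eq (x : G) (a : R[G]) : cj x a = single x 1 * a * single x⁻¹ 1 :=
  ext' fun g => by simp [mul_assoc]

theorem cj_eq_iff_commute {x : G} {a : R[G]} : cj x a = a ↔ Commute (single x (1 : R)) a := by
  rw [cj_eq, Commute, SemiconjBy]
  constructor
  · intro h
    conv_rhs => rw [← h]
    simp [mul_assoc, ← one_def]
  · intro h
    rw [h]; simp [mul_assoc, ← one_def]

open Classical in
/-- Truncation to a subset. -/
noncomputable def tr (S : Set G) : R[G] →ₗ[R] R[G] where
  toFun a := .ofCoeff (a.coeff.filter (· ∈ S))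
  map_add' a b := by ext g; simp [Finsupp.filter_apply]
  map_smul' c a := by ext g; simp [Finsupp.filter_apply]

open Classical in
theorem coeff_tr (S : Set G) (a : R[G]) (g : G) :
    (tr S a).coeff g = if g ∈ S then a.coeff g else 0 := by
  simp [tr, Finsupp.filter_apply]

theorem coeff_tr_of_mem {S : Set G} (a : R[G]) {g : G} (h : g ∈ S) :
    (tr S a).coeff g = a.coeff g := by simp [coeff_tr, h]

theorem coeff_tr_of_notMem {S : Set G} (a : R[G]) {g : G} (h : g ∉ S) :
    (tr S a).coeff g = 0 := by simp [coeff_tr, h]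

theorem tr_tr (S T : Set G) (a : R[G]) : tr S (tr T a) = tr (S ∩ T) a :=
  ext' fun g => by
    by_cases h1 : g ∈ S <;> by_cases h2 : g ∈ T <;> simp [coeff_tr, h1, h2]

theorem tr_eq_self {S : Set G} {a : R[G]} (h : ∀ g, g ∉ S → a.coeff g = 0) : tr S a = a :=
  ext' fun g => by
    by_cases h1 : g ∈ S
    · exact coeff_tr_of_mem a h1
    · rw [coeff_tr_of_notMem a h1, h g h1]

theorem tr_eq_zero_iff {S : Set G} {a : R[G]} : tr S a = 0 ↔ ∀ g ∈ S, a.coeff g = 0 := by
  constructor
  · intro h g hg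
    rw [← coeff_tr_of_mem a hg, h]; rfl
  · intro h
    apply ext'
    intro g
    by_cases h1 : g ∈ S
    · rw [coeff_tr_of_mem a h1, h g h1]; rfl
    · exact coeff_tr_of_notMem a h1

theorem tr_ne_zero_iff {S : Set G} {a : R[G]} : tr S a ≠ 0 ↔ ∃ g ∈ S, a.coeff g ≠ 0 := by
  simp [tr_eq_zero_iff]

theorem tr_one {S : Set G} (h : (1 : G) ∈ S) : tr S (1 : R[G]) = 1 :=
  tr_eq_self fun g hg => by
    rw [coeff_one', if_neg]; rintro rfl; exact hg h

theorem cj_tr (x : G) (H : Subgroup G) (a : R[G]) :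
    cj x (tr (H : Set G) a) = tr (cs x H : Set G) (cj x a) :=
  ext' fun g => by
    rw [coeff_cj, coeff_tr, coeff_tr, coeff_cj]
    congr 1
    exact propext mem_cs.symm

variable (R) in
/-- Elements supported on the subgroup `H`. -/
noncomputable def sup (H : Subgroup G) : Subalgebra R R[G] where
  carrier := {a | ∀ g, g ∉ H → a.coeff g = 0}
  mul_mem' {a b} ha hb g hg := by
    rw [coeff_mul_apply_left, Finsupp.sum]
    apply Finset.sum_eq_zero
    intro h _
    by_cases hh : h ∈ H
    · rw [hb _ (fun h1 => hg (by simpa using H.mul_mem hh h1)), mul_zero]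
    · rw [ha h hh, zero_mul]
  add_mem' {a b} ha hb g hg := by rw [coeff_add', ha g hg, hb g hg, add_zero]
  algebraMap_mem' r g hg := by
    rw [coe_algebraMap, Function.comp, coeff_single', if_neg]
    rintro rfl; exact hg H.one_mem

variable (R) in
/-- Elements invariant under conjugation by the subgroup `K`. -/
noncomputable def inv (K : Subgroup G) : Subalgebra R R[G] where
  carrier := {a | ∀ x ∈ K, cj x a = a}
  mul_mem' {a b} ha hb x hx := by rw [map_mul, ha x hx, hb x hx]
  add_mem' {a b} ha hb x hx := by rw [map_add, ha x hx, hb x hx]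
  algebraMap_mem' r x _ := (cj x).commutes r

variable (R) in
/-- The centre of `R[H]`, inside `R[G]`. -/
noncomputable def Z (H : Subgroup G) : Subalgebra R R[G] := sup R H ⊓ inv R H

theorem mem_sup {H : Subgroup G} {a : R[G]} : a ∈ sup R H ↔ ∀ g, g ∉ H → a.coeff g = 0 := Iff.rfl

theorem mem_inv {K : Subgroup G} {a : R[G]} : a ∈ inv R K ↔ ∀ x ∈ K, cj x a = a := Iff.rfl

theorem mem_Z {H : Subgroup G} {a : R[G]} : a ∈ Z R H ↔ a ∈ sup R H ∧ a ∈ inv R H := Iff.rfl

theorem mem_inv' {K : Subgroup G} {a : R[G]} :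
    a ∈ inv R K ↔ ∀ x ∈ K, ∀ g, a.coeff (x * g * x⁻¹) = a.coeff g := by
  constructor
  · intro h x hx g
    conv_rhs => rw [← h x⁻¹ (K.inv_mem hx)]
    simp
  · intro h x hx
    apply ext'
    intro g
    simpa using h x⁻¹ (K.inv_mem hx) g

theorem mem_of_coeff_ne_zero {H : Subgroup G} {a : R[G]} (ha : a ∈ sup R H) {g : G}
    (hg : a.coeff g ≠ 0) : g ∈ H := by
  by_contra h; exact hg (ha g h)

theorem sup_mono {H K : Subgroup G} (h : H ≤ K) : sup R H ≤ sup R K :=
  fun _ ha g hg => ha g fun h1 => hg (h h1)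

theorem inv_anti {H K : Subgroup G} (h : H ≤ K) : inv R K ≤ inv R H :=
  fun _ ha x hx => ha x (h hx)

@[simp] theorem mem_sup_top (a : R[G]) : a ∈ sup R (⊤ : Subgroup G) :=
  fun _ h => (h trivial).elim

theorem mem_sup_inf {H K : Subgroup G} {a : R[G]} :
    a ∈ sup R (H ⊓ K) ↔ a ∈ sup R H ∧ a ∈ sup R K := by
  refine ⟨fun h => ⟨sup_mono inf_le_left h, sup_mono inf_le_right h⟩, fun h g hg => ?_⟩
  by_cases h1 : g ∈ H
  · exact h.2 g fun h2 => hg ⟨h1, h2⟩
  · exact h.1 g h1

theorem mem_inv_sup {H K : Subgroup G} {a : R[G]} :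
    a ∈ inv R (H ⊔ K) ↔ a ∈ inv R H ∧ a ∈ inv R K := by
  refine ⟨fun h => ⟨inv_anti le_sup_left h, inv_anti le_sup_right h⟩, fun h => ?_⟩
  let S : Subgroup G :=
    { carrier := {x | cj x a = a}
      mul_mem' := fun {x y} hx hy => by
        simp only [Set.mem_ofPred_eq] at *; rw [cj_mul, hy, hx]
      one_mem' := cj_one' a
      inv_mem' := fun {x} hx => by
        simp only [Set.mem_ofPred_eq] at *
        conv_lhs => rw [← hx]
        exact cj_inv_cj x a }
  have : H ⊔ K ≤ S := sup_le h.1 h.2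
  exact this

theorem mem_Z_top {a : R[G]} : a ∈ Z R (⊤ : Subgroup G) ↔ ∀ x g, a.coeff (x * g * x⁻¹) = a.coeff g := by
  simp [mem_Z, mem_inv']

theorem single_mem_sup {H : Subgroup G} {g : G} (hg : g ∈ H) (r : R) : single g r ∈ sup R H := by
  intro h hh
  rw [coeff_single', if_neg]
  rintro rfl; exact hh hg

theorem single_mem_inv {K : Subgroup G} {g : G} (hg : g ∈ Ce K) (r : R) :
    single g r ∈ inv R K := by
  intro x hx
  rw [cj_single, mem_Ce.1 hg x hx]; simp

theorem sup_le_inv_Ce (K : Subgroup G) : sup R (Ce K) ≤ inv R K := by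
  intro a ha
  rw [mem_inv']
  intro x hx g
  by_cases hg : g ∈ Ce K
  · rw [mem_Ce.1 hg x hx]; simp
  · rw [ha g hg, ha]
    intro h1
    apply hg
    have h2 := mem_Ce.1 h1 x⁻¹ (K.inv_mem hx)
    have : x * g * x⁻¹ = g := by
      have h3 : x * (x⁻¹ * (x * g * x⁻¹)) * x = x * (x * g * x⁻¹ * x⁻¹) * x := by rw [h2]
      have h4 : x * g = x * (x * g * x⁻¹) := by simpa [mul_assoc] using h3
      exact (mul_left_cancel h4).symm
    rwa [this] at h1

theorem commute_of_mem {H : Subgroup G} {a b : R[G]} (ha : a ∈ inv R H) (hb : b ∈ sup R H) :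
    Commute a b := by
  rw [← sum_coeff_single b, Finsupp.sum]
  apply Commute.sum_right
  intro g hg
  have hgH : g ∈ H := mem_of_coeff_ne_zero hb (Finsupp.mem_support_iff.1 hg)
  rw [← mul_one (b.coeff g), ← smul_single']
  exact ((cj_eq_iff_commute.1 (ha g hgH)).symm).smul_right _

theorem Z_comm {H : Subgroup G} {a b : R[G]} (ha : a ∈ Z R H) (hb : b ∈ Z R H) : Commute a b :=
  commute_of_mem ha.2 hb.1

theorem Z_top_comm {a : R[G]} (ha : a ∈ Z R (⊤ : Subgroup G)) (b : R[G]) : Commute a b :=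
  commute_of_mem ha.2 (mem_sup_top b)

noncomputable instance instCommRingZ (H : Subgroup G) : CommRing (Z R H) :=
  { (inferInstance : Ring (Z R H)) with
    mul_comm := fun a b => Subtype.ext (Z_comm a.2 b.2) }

theorem cj_mem_sup {H : Subgroup G} {a : R[G]} (x : G) (ha : a ∈ sup R H) :
    cj x a ∈ sup R (cs x H) := fun g hg => by
  rw [coeff_cj]; exact ha _ fun h => hg (mem_cs.2 h)

theorem cj_mem_inv {H : Subgroup G} {a : R[G]} (x : G) (ha : a ∈ inv R H) :
    cj x a ∈ inv R (cs x H) := fun y hy => by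
  have := ha _ (mem_cs.1 hy)
  rw [cj_mul, cj_mul] at this
  conv_rhs => rw [← this]
  simp

theorem cj_mem_Z {H : Subgroup G} {a : R[G]} (x : G) (ha : a ∈ Z R H) :
    cj x a ∈ Z R (cs x H) := ⟨cj_mem_sup x ha.1, cj_mem_inv x ha.2⟩

theorem tr_mem_sup (H : Subgroup G) (a : R[G]) : tr (H : Set G) a ∈ sup R H :=
  fun _ hg => coeff_tr_of_notMem a hg

theorem tr_mem_sup_of_mem {H : Subgroup G} (S : Set G) {a : R[G]} (ha : a ∈ sup R H) :
    tr S a ∈ sup R H := fun g hg => by
  rw [coeff_tr, ha g hg, ite_self]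

theorem tr_mem_inv {H K : Subgroup G} {a : R[G]} (ha : a ∈ inv R K) (hK : K ≤ No H) :
    tr (H : Set G) a ∈ inv R K := fun x hx => by
  rw [cj_tr, ha x hx, mem_No.1 (hK hx)]

theorem tr_mem_inv_of_set {K : Subgroup G} {S : Set G} {a : R[G]} (ha : a ∈ inv R K)
    (hS : ∀ x ∈ K, ∀ g, x * g * x⁻¹ ∈ S ↔ g ∈ S) : tr S a ∈ inv R K := by
  rw [mem_inv'] at *
  intro x hx g
  rw [coeff_tr, coeff_tr, ha x hx]
  congr 1
  exact propext (hS x hx g)

theorem tr_mem_Z {H K : Subgroup G} (hKH : K ≤ H) {a : R[G]} (ha : a ∈ Z R H) :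
    tr (K : Set G) a ∈ Z R K :=
  ⟨tr_mem_sup K a, tr_mem_inv (inv_anti hKH ha.2) (le_No K)⟩

theorem tr_of_mem_sup {H : Subgroup G} {a : R[G]} (ha : a ∈ sup R H) : tr (H : Set G) a = a :=
  tr_eq_self ha

/-- Truncation to `H` is a left `R[H]`-module map. -/
theorem tr_mul_left {H : Subgroup G} {a : R[G]} (ha : a ∈ sup R H) (b : R[G]) :
    tr (H : Set G) (a * b) = a * tr (H : Set G) b := by
  apply ext'
  intro g
  rw [coeff_tr, coeff_mul_apply_left, coeff_mul_apply_left, Finsupp.sum, Finsupp.sum]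
  split_ifs with hg
  · apply Finset.sum_congr rfl
    intro h hh
    have hH : h ∈ H := mem_of_coeff_ne_zero ha (Finsupp.mem_support_iff.1 hh)
    rw [coeff_tr_of_mem _ (H.mul_mem (H.inv_mem hH) hg)]
  · symm
    apply Finset.sum_eq_zero
    intro h hh
    have hH : h ∈ H := mem_of_coeff_ne_zero ha (Finsupp.mem_support_iff.1 hh)
    rw [coeff_tr_of_notMem, mul_zero]
    intro h1; exact hg (by simpa using H.mul_mem hH h1)

theorem tr_mul_right {H : Subgroup G} (a : R[G]) {b : R[G]} (hb : b ∈ sup R H) :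
    tr (H : Set G) (a * b) = tr (H : Set G) a * b := by
  apply ext'
  intro g
  rw [coeff_tr, coeff_mul_apply_right, coeff_mul_apply_right, Finsupp.sum, Finsupp.sum]
  split_ifs with hg
  · apply Finset.sum_congr rfl
    intro h hh
    have hH : h ∈ H := mem_of_coeff_ne_zero hb (Finsupp.mem_support_iff.1 hh)
    rw [coeff_tr_of_mem _ (H.mul_mem hg (H.inv_mem hH))]
  · symm
    apply Finset.sum_eq_zero
    intro h hh
    have hH : h ∈ H := mem_of_coeff_ne_zero hb (Finsupp.mem_support_iff.1 hh)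
    rw [coeff_tr_of_notMem, zero_mul]
    intro h1; exact hg (by simpa using H.mul_mem h1 hH)

/-! ### Class sums -/

variable (R) in
open Classical in
/-- The class sum of `g` under conjugation by `H`. -/
noncomputable def cls [Finite G] (H : Subgroup G) (g : G) : R[G] :=
  ofFun fun h => if ∃ x ∈ H, x * g * x⁻¹ = h then 1 else 0

open Classical in
theorem coeff_cls [Finite G] (H : Subgroup G) (g h : G) :
    (cls R H g).coeff h = if ∃ x ∈ H, x * g * x⁻¹ = h then 1 else 0 := rfl

theorem coeff_cls_self [Finite G] (H : Subgroup G) (g : G) : (cls R H g).coeff g = 1 := by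
  rw [coeff_cls, if_pos ⟨1, H.one_mem, by simp⟩]

theorem exists_of_coeff_cls_ne_zero [Finite G] {H : Subgroup G} {g h : G}
    (hh : (cls R H g).coeff h ≠ 0) : ∃ x ∈ H, x * g * x⁻¹ = h := by
  by_contra hc
  exact hh (by rw [coeff_cls, if_neg hc])

theorem cls_mem_inv [Finite G] (H : Subgroup G) (g : G) : cls R H g ∈ inv R H := by
  rw [mem_inv']
  intro y hy h
  rw [coeff_cls, coeff_cls]
  congr 1
  apply propext
  constructor
  · rintro ⟨x, hx, h1⟩
    refine ⟨y⁻¹ * x, H.mul_mem (H.inv_mem hy) hx, ?_⟩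
    have : y⁻¹ * (x * g * x⁻¹) * y = y⁻¹ * (y * h * y⁻¹) * y := by rw [h1]
    simpa [mul_assoc] using this
  · rintro ⟨x, hx, rfl⟩
    exact ⟨y * x, H.mul_mem hy hx, by simp [mul_assoc]⟩

theorem cls_mem_sup [Finite G] {H K : Subgroup G} (hHK : H ≤ No K) {g : G} (hg : g ∈ K) :
    cls R H g ∈ sup R K := by
  intro h hh
  rw [coeff_cls, if_neg]
  rintro ⟨x, hx, rfl⟩
  apply hh
  rw [← mem_No.1 (hHK hx)]
  exact conj_mem_cs.2 hg

theorem cls_mem_Z [Finite G] {H : Subgroup G} {g : G} (hg : g ∈ H) : cls R H g ∈ Z R H :=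
  ⟨cls_mem_sup (le_No H) hg, cls_mem_inv H g⟩

/-- Induction principle for `H`-invariant elements: they are combinations of class sums of
elements of their support. -/
theorem inv_induction [Finite G] {H : Subgroup G} {P : R[G] → Prop} {z : R[G]} (hz : z ∈ inv R H)
    (zero : P 0) (add : ∀ a b, a ∈ inv R H → b ∈ inv R H → P a → P b → P (a + b))
    (smul_cls : ∀ (g : G), z.coeff g ≠ 0 → P (z.coeff g • cls R H g)) : P z := by
  have key : ∀ n, ∀ w ∈ inv R H, (∀ g, w.coeff g ≠ 0 → w.coeff g = z.coeff g) →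
      w.coeff.support.card ≤ n → P w := by
    intro n
    induction n with
    | zero =>
      intro w _ _ hc
      have : w = 0 := by
        rw [Nat.le_zero, Finset.card_eq_zero, Finsupp.support_eq_empty] at hc
        exact coeff_eq_zero.1 hc
      rw [this]; exact zero
    | succ n ih =>
      intro w hw hwz hc
      by_cases h0 : w = 0
      · rw [h0]; exact zero
      obtain ⟨g, hg⟩ := exists_coeff_ne_zero h0
      have hm : w.coeff g • cls R H g ∈ inv R H := (inv R H).smul_mem (cls_mem_inv H g) _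
      have hsub : ∀ h, (w - w.coeff g • cls R H g).coeff h ≠ 0 → w.coeff h ≠ 0 ∧
          (w - w.coeff g • cls R H g).coeff h = w.coeff h ∧ h ≠ g := by
        intro h hh
        rw [coeff_sub', coeff_smul', coeff_cls] at hh ⊢
        split_ifs at hh ⊢ with h1
        · obtain ⟨x, hx, rfl⟩ := h1
          rw [mem_inv'.1 hw x hx] at hh
          simp at hh
        · refine ⟨by simpa using hh, by simp, ?_⟩
          rintro rfl
          exact h1 ⟨1, H.one_mem, by simp⟩
      have : w = (w - w.coeff g • cls R H g) + w.coeff g • cls R H g := by simp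
      rw [this]
      refine add _ _ ((inv R H).sub_mem hw hm) hm (ih _ ((inv R H).sub_mem hw hm)
        (fun h hh => (hsub h hh).2.1.trans (hwz h (hsub h hh).1)) ?_)
        (by rw [hwz g hg]; exact smul_cls g (hwz g hg ▸ hg))
      classical
      have hss : (w - w.coeff g • cls R H g).coeff.support ⊆ w.coeff.support.erase g := by
        intro h hh
        have := hsub h (Finsupp.mem_support_iff.1 hh)
        exact Finset.mem_erase.2 ⟨this.2.2, Finsupp.mem_support_iff.2 this.1⟩
      have := Finset.card_le_card hss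
      rw [Finset.card_erase_of_mem (Finsupp.mem_support_iff.2 hg)] at this
      omega
  exact key _ z hz (fun _ _ => rfl) le_rfl

/-! ### Sums over `p`-group orbits and the Brauer map -/

theorem sum_eq_sum_fixed {p : ℕ} [Fact p.Prime] [CharP R p] {P X : Type*} [Group P]
    [MulAction P X] [Fintype X] (hP : IsPGroup p P) (f : X → R)
    (hf : ∀ (x : P) (y : X), f (x • y) = f y) (s : Finset X)
    (hs : ∀ y, y ∈ s ↔ ∀ x : P, x • y = y) : ∑ y, f y = ∑ y ∈ s, f y := by
  classical
  rw [← Finset.sum_add_sum_compl s, add_eq_left]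
  rw [← Finset.sum_fiberwise_of_maps_to (t := Finset.univ)
    (g := fun y => (Quotient.mk'' y : MulAction.orbitRel.Quotient P X)) (fun _ _ => Finset.mem_univ _)]
  apply Finset.sum_eq_zero
  intro q _
  induction q using Quotient.inductionOn' with | _ y =>
  by_cases hy : y ∈ s
  · apply Finset.sum_eq_zero
    intro z hz
    simp only [Finset.mem_filter, Finset.mem_compl] at hz
    exfalso
    apply hz.1
    have h1 : z ∈ MulAction.orbit P y := by
      rw [← MulAction.orbitRel_apply]; exact Quotient.exact' hz.2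
    obtain ⟨x, rfl⟩ := h1
    simp only
    rw [(hs y).1 hy x]; exact hy
  · have hset : Finset.filter (fun z => (Quotient.mk'' z : MulAction.orbitRel.Quotient P X) =
        Quotient.mk'' y) sᶜ = (MulAction.orbit P y).toFinset := by
      ext z
      simp only [Finset.mem_filter, Finset.mem_compl, Set.mem_toFinset]
      constructor
      · rintro ⟨-, h⟩
        rw [← MulAction.orbitRel_apply]; exact Quotient.exact' h
      · intro h
        refine ⟨fun hz => hy ?_, Quotient.sound' (by rwa [MulAction.orbitRel_apply])⟩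
        obtain ⟨x, rfl⟩ := h
        have := (hs _).1 hz x⁻¹
        simp only [inv_smul_smul] at this
        rw [this]; exact hz
    rw [hset, Finset.sum_congr rfl (g := fun _ => f y)]
    · rw [Finset.sum_const, nsmul_eq_mul]
      obtain ⟨n, hn⟩ := hP.card_orbit y
      rw [Set.toFinset_card, ← Nat.card_eq_fintype_card, hn]
      rcases n with _ | n
      · exfalso
        apply hy
        rw [hs]
        intro x
        have h1 : Subsingleton (MulAction.orbit P y) := by
          rw [pow_zero, Nat.card_eq_one_iff_unique] at hn; exact hn.1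
        have := Subsingleton.elim (⟨x • y, MulAction.mem_orbit y x⟩ : MulAction.orbit P y)
          ⟨y, MulAction.mem_orbit_self y⟩
        exact congrArg Subtype.val this
      · rw [Nat.cast_pow, pow_succ, CharP.cast_eq_zero R p]; simp
    · intro z hz
      obtain ⟨x, rfl⟩ := Set.mem_toFinset.1 hz
      exact hf x y

open Classical in
theorem sum_eq_sum_Ce {p : ℕ} [Fact p.Prime] [CharP R p] [Fintype G] {P : Subgroup G}
    (hP : IsPGroup p P) (f : G → R) (hf : ∀ x ∈ P, ∀ g, f (x * g * x⁻¹) = f g) :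
    ∑ g, f g = ∑ g, if g ∈ Ce P then f g else 0 := by
  letI : MulAction P G := MulAction.compHom G ((MulAut.conj (G := G)).comp P.subtype)
  rw [← Finset.sum_filter]
  apply sum_eq_sum_fixed hP f (fun x y => hf x x.2 y)
  intro y
  rw [Finset.mem_filter, mem_Ce]
  simp only [Finset.mem_univ, true_and, Subtype.forall]
  refine forall₂_congr fun x hx => ?_
  change _ ↔ x * y * x⁻¹ = y
  rw [mul_inv_eq_iff_eq_mul]

/-- The Brauer map: truncation to the centralizer. -/
noncomputable abbrev Br (P : Subgroup G) : R[G] →ₗ[R] R[G] := tr (Ce P : Set G)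

theorem Br_mul {p : ℕ} [Fact p.Prime] [CharP R p] [Finite G] {P : Subgroup G} (hP : IsPGroup p P)
    {a b : R[G]} (ha : a ∈ inv R P) (hb : b ∈ inv R P) : Br P (a * b) = Br P a * Br P b := by
  have := Fintype.ofFinite G
  rw [← tr_mul_left (tr_mem_sup _ _)]
  apply ext'
  intro g
  rw [coeff_tr, coeff_tr]
  split_ifs with hg
  · rw [coeff_mul_left, coeff_mul_left, sum_eq_sum_Ce hP]
    · apply Finset.sum_congr rfl
      intro h _
      by_cases hh : h ∈ Ce P
      · rw [if_pos hh, coeff_tr_of_mem _ hh]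
      · rw [if_neg hh, coeff_tr_of_notMem _ hh, zero_mul]
    · intro x hx h
      rw [mem_inv'.1 ha x hx, ← mem_inv'.1 hb x hx (h⁻¹ * g)]
      congr 2
      have := mem_Ce.1 hg x⁻¹ (P.inv_mem hx)
      simp [mul_assoc, this]
  · rfl

theorem Br_one (P : Subgroup G) : Br P (1 : R[G]) = 1 := tr_one (Ce P).one_mem

theorem Br_algebraMap (P : Subgroup G) (c : R) : Br P (algebraMap R R[G] c) = algebraMap R R[G] c :=
  tr_of_mem_sup ((sup R _).algebraMap_mem c)

theorem Br_pow {p : ℕ} [Fact p.Prime] [CharP R p] [Finite G] {P : Subgroup G} (hP : IsPGroup p P)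
    {a : R[G]} (ha : a ∈ inv R P) (n : ℕ) : Br P (a ^ n) = Br P a ^ n := by
  induction n with
  | zero => simpa using Br_one P
  | succ n ih => rw [pow_succ, Br_mul hP ((inv R P).pow_mem ha n) ha, ih, pow_succ]

theorem Br_Br (P Q : Subgroup G) (a : R[G]) : Br P (Br Q a) = Br (P ⊔ Q) a := by
  rw [tr_tr, Br, Ce_sup]; rfl

theorem Br_Br_of_le {P Q : Subgroup G} (h : Q ≤ P) (a : R[G]) : Br P (Br Q a) = Br P a := by
  rw [Br_Br, sup_eq_left.2 h]

@[simp] theorem Br_bot (a : R[G]) : Br ⊥ a = a := tr_eq_self (by simp)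

theorem cj_Br (x : G) (P : Subgroup G) (a : R[G]) : cj x (Br P a) = Br (cs x P) (cj x a) := by
  rw [cj_tr, cs_Ce]

theorem Br_mem_sup (P : Subgroup G) (a : R[G]) : Br P a ∈ sup R (Ce P) := tr_mem_sup _ a

theorem Br_mem_sup_inf {H : Subgroup G} (P : Subgroup G) {a : R[G]} (ha : a ∈ sup R H) :
    Br P a ∈ sup R (H ⊓ Ce P) := mem_sup_inf.2 ⟨tr_mem_sup_of_mem _ ha, Br_mem_sup P a⟩

theorem Br_mem_inv {K P : Subgroup G} {a : R[G]} (ha : a ∈ inv R K) (hK : K ≤ No P) :
    Br P a ∈ inv R K := tr_mem_inv ha (hK.trans (No_le_No_Ce P))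

/-- The Brauer map sends `Z(H)` into `Z(K)` when `C_H(P) ≤ K ≤ N_H(P)`. -/
theorem Br_mem_Z {H K P : Subgroup G} (h1 : H ⊓ Ce P ≤ K) (h2 : K ≤ H) (h3 : K ≤ No P)
    {a : R[G]} (ha : a ∈ Z R H) : Br P a ∈ Z R K :=
  ⟨sup_mono h1 (Br_mem_sup_inf P ha.1), Br_mem_inv (inv_anti h2 ha.2) h3⟩

theorem Br_of_mem_sup {P : Subgroup G} {a : R[G]} (ha : a ∈ sup R (Ce P)) : Br P a = a :=
  tr_of_mem_sup ha

theorem Br_ne_zero_iff {P : Subgroup G} {a : R[G]} :
    Br P a ≠ 0 ↔ ∃ g ∈ Ce P, a.coeff g ≠ 0 := tr_ne_zero_iff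

theorem Br_ne_zero_of_le {P Q : Subgroup G} (h : Q ≤ P) {a : R[G]} (ha : Br P a ≠ 0) :
    Br Q a ≠ 0 := by
  obtain ⟨g, hg, h1⟩ := Br_ne_zero_iff.1 ha
  exact Br_ne_zero_iff.2 ⟨g, Ce_anti h hg, h1⟩

end Cfsg.Agent.Blk
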