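import Cfsg.Agent.Lib.Solv.Mod
import Cfsg.Agent.Lib.Solv.Frob
import Cfsg.Agent.Lib.Char.Down

/-! Average dimension of fixed point spaces. -/

set_option autoImplicit false

namespace Cfsg.Agent.Blk.Avg

open Module
attribute [local instance] _root_.Classical.propDecidable

universe u

section
variable {k : Type*} [Field k] {V : Type u} [AddCommGroup V] [Module k V] [FiniteDimensional k V]

/-- The fixed point space of an endomorphism. -/
def fx (f : End k V) : Submodule k V := LinearMap.ker (f - 1)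

omit [FiniteDimensional k V] in
theorem mem_fx {f : End k V} {v : V} : v ∈ fx f ↔ f v = v := by
  simp [fx, sub_eq_zero]

theorem finrank_fx_le {f : End k V} {W : Submodule k V} (h : W ≤ W.comap f) :
    finrank k (fx f) ≤ finrank k (fx (f.restrict h : End k W)) +
      finrank k (fx (W.mapQ W f h : End k (V ⧸ W))) := by
  let π : fx f →ₗ[k] V ⧸ W := W.mkQ.comp (fx f).subtype
  rw [← π.finrank_range_add_finrank_ker, add_comm]
  refine Nat.add_le_add ?_ (Submodule.finrank_mono ?_)
  · have hW : ∀ x : LinearMap.ker π, (x.1.1 : V) ∈ W := fun x =>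
      (Submodule.Quotient.mk_eq_zero W).1 x.2
    let ι : LinearMap.ker π →ₗ[k] fx (f.restrict h : End k W) :=
      { toFun := fun x => ⟨⟨x.1.1, hW x⟩, mem_fx.2 (Subtype.ext (mem_fx.1 x.1.2))⟩
        map_add' := fun _ _ => rfl
        map_smul' := fun _ _ => rfl }
    refine LinearMap.finrank_le_finrank_of_injective (f := ι) fun x y e => ?_
    exact Subtype.ext (Subtype.ext (congrArg (fun z => z.1.1) e))
  · rintro _ ⟨x, rfl⟩
    rw [mem_fx]
    show W.mapQ W f h (Submodule.Quotient.mk x.1) = Submodule.Quotient.mk x.1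
    rw [Submodule.mapQ_apply, mem_fx.1 x.2]

theorem finrank_add_le {U W : Submodule k V} (h : U ⊓ W = ⊥) :
    finrank k U + finrank k W ≤ finrank k V := by
  rw [← Submodule.finrank_sup_add_finrank_inf_eq, h, finrank_bot, add_zero]
  exact Submodule.finrank_le _

variable {A : Type*} [CommGroup A] [Fintype A]

/-- Fixed points of a subgroup. -/
def fxs (ρ : Representation k A V) (B : Subgroup A) : Submodule k V := ⨅ b ∈ B, fx (ρ b)

omit [FiniteDimensional k V] [Fintype A] in
theorem mem_fxs {ρ : Representation k A V} {B : Subgroup A} {v : V} :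
    v ∈ fxs ρ B ↔ ∀ b ∈ B, ρ b v = v := by
  simp [fxs, mem_fx]

/-- The norm map of a subgroup. -/
noncomputable def nm (ρ : Representation k A V) (B : Subgroup A) : End k V := ∑ b : B, ρ b

omit [FiniteDimensional k V] in
theorem nm_apply (ρ : Representation k A V) (B : Subgroup A) (v : V) :
    nm ρ B v = ∑ b : B, ρ b v := by simp [nm]

omit [FiniteDimensional k V] in
theorem rho_comm (ρ : Representation k A V) (a b : A) (v : V) : ρ a (ρ b v) = ρ b (ρ a v) := by
  rw [← End.mul_apply, ← map_mul, mul_comm, map_mul, End.mul_apply]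

omit [FiniteDimensional k V] in
theorem nm_rho (ρ : Representation k A V) (B : Subgroup A) (a : A) (v : V) :
    nm ρ B (ρ a v) = ρ a (nm ρ B v) := by
  simp only [nm_apply, map_sum, rho_comm ρ a]

omit [FiniteDimensional k V] in
theorem nm_mem (ρ : Representation k A V) (B : Subgroup A) (v : V) : nm ρ B v ∈ fxs ρ B := by
  rw [mem_fxs]
  intro b hb
  rw [nm_apply, map_sum]
  refine Fintype.sum_equiv (Equiv.mulLeft (⟨b, hb⟩ : B)) _ _ fun c => ?_
  rw [← End.mul_apply, ← map_mul]; rfl

omit [FiniteDimensional k V] in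
theorem nm_of_mem {ρ : Representation k A V} {B : Subgroup A} {v : V} (hv : v ∈ fxs ρ B) :
    nm ρ B v = (Nat.card B : k) • v := by
  rw [nm_apply, Finset.sum_congr rfl fun (b : B) _ => mem_fxs.1 hv b b.2, Finset.sum_const,
    Finset.card_univ, Nat.card_eq_fintype_card, Nat.cast_smul_eq_nsmul]

theorem avg_irr (hA : (Nat.card A : k) ≠ 0) (σ : A ≃* A) (ρ : Representation k A V) (γ : End k V)
    (hγ : ∀ a v, γ (ρ a v) = ρ (σ a) (γ v)) (hinj : Function.Injective γ)
    (hfix : fxs ρ ⊤ = ⊥) [Nontrivial V]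
    (hirr : ∀ W : Submodule k V, (∀ a, W ≤ W.comap (ρ a)) → W ≤ W.comap γ → W = ⊥ ∨ W = ⊤) :
    2 * ∑ a, finrank k (fx (γ * ρ a)) ≤ Nat.card A * finrank k V := by
  obtain ⟨B, -, hB, hmax⟩ := Finite.exists_le_maximal (p := fun B : Subgroup A => fxs ρ B ≠ ⊥)
    (a := ⊥) (by
      obtain ⟨v, hv⟩ := exists_ne (0 : V)
      exact (Submodule.ne_bot_iff _).2 ⟨v, mem_fxs.2 fun b hb => by simp [Subgroup.mem_bot.1 hb],
        hv⟩)
  have hB0 : (Nat.card B : k) ≠ 0 := fun h => hA (by
    rw [← B.index_mul_card, Nat.cast_mul, h, mul_zero])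
  have hmax' : ∀ a, a ∉ B → ∀ v ∈ fxs ρ B, ρ a v = v → v = 0 := by
    intro a ha v hv h
    by_contra h0
    refine ha (hmax (y := B ⊔ Subgroup.zpowers a) ((Submodule.ne_bot_iff _).2 ⟨v, ?_, h0⟩)
      le_sup_left (Subgroup.mem_sup_right (Subgroup.mem_zpowers a)))
    have h1 : B ⊔ Subgroup.zpowers a ≤
        { carrier := {b | ρ b v = v}
          mul_mem' := fun {x y} hx hy => by
            show ρ (x * y) v = v
            rw [map_mul, End.mul_apply, hy, hx]
          one_mem' := by simp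
          inv_mem' := fun {x} hx => by
            show ρ x⁻¹ v = v
            conv_lhs => rw [← hx]
            rw [← End.mul_apply, ← map_mul, inv_mul_cancel, map_one, End.one_apply] } :=
      sup_le (mem_fxs.1 hv) (Subgroup.zpowers_le.2 h)
    exact mem_fxs.2 h1
  have hinv : ∀ a, fxs ρ B ≤ (fxs ρ B).comap (ρ a) := fun a v hv =>
    mem_fxs.2 fun b hb => by rw [rho_comm, mem_fxs.1 hv b hb]
  by_cases hσ : ∀ b ∈ B, σ.symm b ∈ B
  · have h1 := (hirr (fxs ρ B) hinv fun v hv => mem_fxs.2 fun b hb => by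
      rw [← σ.apply_symm_apply b, ← hγ, mem_fxs.1 hv _ (hσ b hb)]).resolve_left hB
    obtain ⟨c, hc⟩ : ∃ c, c ∉ B := by
      by_contra h
      push Not at h
      exact hB (by rw [(Subgroup.eq_top_iff' B).2 h, hfix])
    have h2 : ∀ a, finrank k (fx (γ * ρ a)) + finrank k (fx (γ * ρ (a * c))) ≤ finrank k V := by
      intro a
      refine finrank_add_le ((Submodule.eq_bot_iff _).2 fun v hv => ?_)
      refine hmax' c hc v (h1 ▸ trivial) ?_
      have h3 := (mem_fx.1 hv.1).trans (mem_fx.1 hv.2).symm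
      rw [End.mul_apply, End.mul_apply, map_mul, End.mul_apply] at h3
      have h4 := congrArg (ρ a⁻¹) (hinj h3)
      simpa using h4.symm
    have h3 := Finset.sum_le_sum fun a (_ : a ∈ Finset.univ) => h2 a
    rw [Finset.sum_add_distrib, Fintype.sum_equiv (Equiv.mulRight c)
      (fun a => finrank k (fx (γ * ρ (a * c)))) (fun a => finrank k (fx (γ * ρ a)))
      (fun _ => rfl), Finset.sum_const, Finset.card_univ, smul_eq_mul] at h3
    rw [Nat.card_eq_fintype_card]
    omega
  · push Not at hσ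
    obtain ⟨b, hb, hb'⟩ := hσ
    have h1 : 2 * finrank k (fxs ρ B) ≤ finrank k V := by
      have h2 := finrank_add_le (U := fxs ρ B) (W := (fxs ρ B).comap γ)
        ((Submodule.eq_bot_iff _).2 fun v hv => hmax' _ hb' v hv.1 (hinj (by
          rw [hγ, σ.apply_symm_apply]; exact mem_fxs.1 hv.2 b hb)))
      have h3 : finrank k ((fxs ρ B).comap γ) = finrank k (fxs ρ B) :=
        ((LinearEquiv.ofInjectiveEndo γ hinj).ofSubmodule' _).finrank_eq
      omega
    have h2 : ∀ a, finrank k (fx (γ * ρ a)) ≤ finrank k (fxs ρ B) := by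
      intro a
      have h3 : ∀ n : ℕ, ∀ c, ∃ c', ∀ v, ((γ * ρ a) ^ n) (ρ c v) = ρ c' (((γ * ρ a) ^ n) v) := by
        intro n
        induction n with
        | zero => exact fun c => ⟨c, fun _ => rfl⟩
        | succ n ih =>
          intro c
          obtain ⟨c', h⟩ := ih (σ c)
          refine ⟨c', fun v => ?_⟩
          rw [pow_succ, End.mul_apply, End.mul_apply, End.mul_apply, End.mul_apply, rho_comm, hγ, h]
      set Y := ⨅ n : ℕ, (LinearMap.ker (nm ρ B)).comap ((γ * ρ a) ^ n) with hY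
      have hmY : ∀ v, v ∈ Y ↔ ∀ n : ℕ, nm ρ B (((γ * ρ a) ^ n) v) = 0 := fun v => by simp [hY]
      have h4 : ∀ c, Y ≤ Y.comap (ρ c) := fun c v hv => (hmY _).2 fun n => by
        obtain ⟨c', h⟩ := h3 n c
        rw [h, nm_rho, (hmY v).1 hv n, map_zero]
      have h5 := (hirr Y h4 fun v hv => (hmY _).2 fun n => by
        have := (hmY _).1 (h4 a⁻¹ hv) (n + 1)
        rw [pow_succ, End.mul_apply, End.mul_apply] at this
        simpa using this).resolve_right fun h => hB ((Submodule.eq_bot_iff _).2 fun v hv => by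
          have := (hmY v).1 (h ▸ trivial) 0
          rw [pow_zero, End.one_apply, nm_of_mem hv] at this
          exact (smul_eq_zero.1 this).resolve_left hB0)
      have h6 := finrank_add_le (U := fx (γ * ρ a)) (W := LinearMap.ker (nm ρ B))
        ((Submodule.eq_bot_iff _).2 fun v hv => (Submodule.mem_bot k).1 (h5 ▸ (hmY v).2 fun n => by
          rw [End.pow_apply, Function.iterate_fixed (mem_fx.1 hv.1)]; exact hv.2))
      have h7 := (nm ρ B).finrank_range_add_finrank_ker
      have h8 : finrank k (LinearMap.range (nm ρ B)) ≤ finrank k (fxs ρ B) :=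
        Submodule.finrank_mono (by rintro _ ⟨v, rfl⟩; exact nm_mem ρ B v)
      omega
    have h3 := Finset.sum_le_sum fun a (_ : a ∈ Finset.univ) => h2 a
    rw [Finset.sum_const, Finset.card_univ, smul_eq_mul] at h3
    rw [Nat.card_eq_fintype_card]
    nlinarith

end

theorem avg {k : Type*} [Field k] {A : Type*} [CommGroup A] [Fintype A]
    (hA : (Nat.card A : k) ≠ 0) (σ : A ≃* A) (n : ℕ) :
    ∀ (V : Type u) [AddCommGroup V] [Module k V] [FiniteDimensional k V], finrank k V = n →
      ∀ (ρ : Representation k A V) (γ : End k V), (∀ a v, γ (ρ a v) = ρ (σ a) (γ v)) →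
      (∃ m : ℕ, γ ^ (m + 1) = 1) → fxs ρ ⊤ = ⊥ →
      2 * ∑ a, finrank k (fx (γ * ρ a)) ≤ Nat.card A * n := by
  induction n using Nat.strong_induction_on with
  | _ n ih =>
  intro V _ _ _ hn ρ γ hγ ⟨m, hm⟩ hfix
  rcases subsingleton_or_nontrivial V with hV | hV
  · simp [finrank_zero_of_subsingleton]
  by_cases hirr : ∀ W : Submodule k V, (∀ a, W ≤ W.comap (ρ a)) → W ≤ W.comap γ → W = ⊥ ∨ W = ⊤
  · rw [← hn]
    refine avg_irr hA σ ρ γ hγ (fun v w e => ?_) hfix hirr
    have := congrArg (γ ^ m) e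
    rwa [← End.mul_apply, ← End.mul_apply, ← pow_succ, hm] at this
  push Not at hirr
  obtain ⟨W, h1, h2, h3, h4⟩ := hirr
  have h5 := W.finrank_quotient_add_finrank
  have h6 := Submodule.finrank_lt h4
  have h7 : 0 < finrank k W := Nat.pos_of_ne_zero fun h => h3 (Submodule.finrank_eq_zero.1 h)
  have e1 := ih _ (hn ▸ h6) W rfl (ρ.subrepresentation W h1) (γ.restrict h2)
    (fun a v => Subtype.ext (hγ a v)) ⟨m, by
      ext v
      rw [End.pow_restrict, LinearMap.restrict_coe_apply, hm]; rfl⟩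
    ((Submodule.eq_bot_iff _).2 fun v hv => Subtype.ext ((Submodule.mem_bot k).1 (hfix ▸
      mem_fxs.2 fun b hb => congrArg Subtype.val (mem_fxs.1 hv b hb))))
  have e2 := ih _ (by omega) (V ⧸ W) rfl (ρ.quotient W h1) (W.mapQ W γ h2)
    (fun a v => by
      obtain ⟨v, rfl⟩ := W.mkQ_surjective v
      exact congrArg W.mkQ (hγ a v))
    ⟨m, by rw [← Submodule.mapQ_pow]; simp only [hm]; exact W.mapQ_id⟩
    ((Submodule.eq_bot_iff _).2 fun v hv => by
      obtain ⟨v, rfl⟩ := W.mkQ_surjective v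
      have h8 : nm ρ ⊤ v = 0 := (Submodule.mem_bot k).1 (hfix ▸ nm_mem ρ ⊤ v)
      have h9 := nm_of_mem hv
      have h10 : nm (ρ.quotient W h1) ⊤ (W.mkQ v) = W.mkQ (nm ρ ⊤ v) := by
        rw [nm_apply, nm_apply, map_sum]; rfl
      rw [h10, h8, map_zero, Subgroup.card_top] at h9
      exact (smul_eq_zero.1 h9.symm).resolve_left hA)
  have e3 : ∀ a, finrank k (fx (γ * ρ a)) ≤
      finrank k (fx (γ.restrict h2 * ρ.subrepresentation W h1 a : End k W)) +
      finrank k (fx (W.mapQ W γ h2 * ρ.quotient W h1 a : End k (V ⧸ W))) := by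
    intro a
    have h8 : W ≤ W.comap (γ * ρ a) := fun v hv => h2 (h1 a hv)
    have h9 : W.mapQ W γ h2 * ρ.quotient W h1 a = W.mapQ W (γ * ρ a) h8 := by
      ext v; rfl
    rw [h9]
    exact finrank_fx_le h8
  have e4 := Finset.sum_le_sum fun a (_ : a ∈ Finset.univ) => e3 a
  rw [Finset.sum_add_distrib] at e4
  rw [← hn, ← h5, mul_add]
  omega

theorem avg_group {k : Type*} [Field k] {V : Type u} [AddCommGroup V] [Module k V]
    [FiniteDimensional k V] {Γ Ω : Type*} [Group Γ] [Fintype Γ] [Group Ω] [Finite Ω]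
    {π : Γ →* Ω} (hπ : Function.Surjective π) (ρ : Representation k Ω V) (A : Subgroup Ω)
    [A.Normal] (hc : ∀ a ∈ A, ∀ b ∈ A, a * b = b * a) (hA : (Nat.card A : k) ≠ 0)
    (hfix : ∀ v, (∀ a ∈ A, ρ a v = v) → v = 0) :
    2 * ∑ g, finrank k (fx (ρ (π g))) ≤ Nat.card Γ * finrank k V := by
  letI : CommGroup A := { (inferInstance : Group A) with
    mul_comm := fun a b => Subtype.ext (hc a a.2 b b.2) }
  letI := Fintype.ofFinite A
  have h1 : ∀ x : Ω, 2 * ∑ a : A, finrank k (fx (ρ (x * a))) ≤ Nat.card A * finrank k V := by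
    intro x
    have := avg hA (MulAut.conjNormal x) _ V rfl (ρ.comp A.subtype) (ρ x) (fun a v => by
      show ρ x (ρ a v) = ρ (x * a * x⁻¹) (ρ x v)
      rw [← End.mul_apply, ← End.mul_apply, ← map_mul, ← map_mul, inv_mul_cancel_right])
      ⟨orderOf x - 1, by
        rw [Nat.sub_add_cancel (orderOf_pos x), ← map_pow, pow_orderOf_eq_one, map_one]⟩
      ((Submodule.eq_bot_iff _).2 fun v hv => hfix v fun a ha => mem_fxs.1 hv ⟨a, ha⟩ trivial)
    rw [Finset.sum_congr rfl fun (a : A) _ => by rw [map_mul ρ x a]]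
    exact this
  have h2 : ∀ a : A, ∑ g, finrank k (fx (ρ (π g * a))) = ∑ g, finrank k (fx (ρ (π g))) := by
    intro a
    obtain ⟨b, hb⟩ := hπ a
    exact Fintype.sum_equiv (Equiv.mulRight b) _ _ fun g => by
      rw [Equiv.coe_mulRight, map_mul π, hb]
  have h3 := Finset.sum_le_sum fun g (_ : g ∈ Finset.univ) => h1 (π g)
  rw [← Finset.mul_sum, Finset.sum_comm, Finset.sum_congr rfl fun a _ => h2 a, Finset.sum_const,
    Finset.sum_const, Finset.card_univ, Finset.card_univ, smul_eq_mul, smul_eq_mul,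
    ← Nat.card_eq_fintype_card, ← Nat.card_eq_fintype_card] at h3
  refine Nat.le_of_mul_le_mul_left ?_ (Nat.card_pos (α := A))
  nlinarith

open Subgroup Cfsg.Agent.Solv Cfsg.Agent.Char
open scoped commutatorElement

theorem avg_min {Γ Ω : Type*} [Group Γ] [Fintype Γ] [Group Ω] [Finite Ω] [Group.IsSolvable Ω]
    {π : Γ →* Ω} (hπ : Function.Surjective π) {p : ℕ} [hp : Fact p.Prime] {V : Subgroup Ω}
    [hN : V.Normal] (hV : IsElementaryAbelian p V)
    (hmin : ∀ M : Subgroup Ω, M.Normal → M ≤ V → M = ⊥ ∨ M = V)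
    (hnc : centralizer (V : Set Ω) ≠ ⊤) :
    2 * ∑ g, (Nat.card (V ⊓ centralizer {π g} : Subgroup Ω)).factorization p ≤
      Nat.card Γ * (Nat.card V).factorization p := by
  set C := centralizer (V : Set Ω) with hC
  obtain ⟨A, hA, h1, -, h2⟩ := exists_chief_above (N := ⊤) hnc.lt_top
  obtain ⟨h3, q, hq, h4, n, h5⟩ := chief_elementary h1 h2 inferInstance
  have hno : ∀ x : Ω, x ∈ normalizer (V : Set Ω) := fun x => by rw [normalizer_eq_top]; trivial
  let ρ0 : Ω →* End (ZMod p) (EMod hV) := (EMod.rep hV).comp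
    ((MonoidHom.id Ω).codRestrict _ hno)
  have hρ0 : ∀ x v, (ρ0 x v).val = x * v.val * x⁻¹ := fun x v => EMod.val_rep _ _
  let ρ : Representation (ZMod p) (Ω ⧸ C) (EMod hV) := QuotientGroup.lift C ρ0 fun x hx =>
    EMod.rep_eq_one_iff.2 hx
  have hfixA : V ⊓ centralizer (A : Set Ω) = ⊥ := (hmin _ inferInstance inf_le_left).resolve_right
    fun h => h1.not_ge (le_centralizer_iff.1 (h.ge.trans inf_le_right))
  have hcard : Nat.card (A.map (QuotientGroup.mk' C)) = q ^ n := by
    rw [← relIndex_ker, QuotientGroup.ker_mk', h5]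
  have hfix : ∀ v, (∀ a ∈ A.map (QuotientGroup.mk' C), ρ a v = v) → v = 0 := by
    intro v hv
    rw [← EMod.val_eq_one, ← mem_bot, ← hfixA]
    refine ⟨v.val_mem, mem_centralizer_iff.2 fun a ha => ?_⟩
    have := congrArg EMod.val (hv _ (mem_map_of_mem _ ha))
    rw [show ρ (QuotientGroup.mk' C a) = ρ0 a from rfl, hρ0] at this
    exact mul_inv_eq_iff_eq_mul.1 this
  have hqp : q ≠ p := by
    rintro rfl
    have hP : IsPGroup q (A.map (QuotientGroup.mk' C)) := IsPGroup.of_card hcard
    letI : MulAction (A.map (QuotientGroup.mk' C)) (EMod hV) :=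
      { smul := fun a v => ρ a v
        one_smul := fun v => by
          show ρ 1 v = v
          simp
        mul_smul := fun a b v => by
          show ρ (a * b) v = ρ a (ρ b v)
          simp }
    have hV1 : V ≠ ⊥ := by
      rintro rfl
      exact hnc (by rw [hC, coe_bot, eq_top_iff]; intro x _; simp [mem_centralizer_iff])
    obtain ⟨v, hv, hv0⟩ := hP.exists_fixed_point_of_prime_dvd_card_of_fixed_point (EMod hV)
      (by
        rw [EMod.card_eq, EMod.card_eq_pow_finrank (h := hV)]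
        haveI := EMod.nontrivial (h := hV) hV1
        exact dvd_pow_self _ finrank_pos.ne') (a := 0) (fun a => map_zero (ρ a))
    exact hv0 (hfix v fun a ha => hv ⟨a, ha⟩).symm
  have := avg_group ((QuotientGroup.mk'_surjective C).comp hπ)
    (π := (QuotientGroup.mk' C).comp π) ρ (A.map (QuotientGroup.mk' C))
    (by
      rintro _ ⟨a, ha, rfl⟩ _ ⟨b, hb, rfl⟩
      rw [← commutatorElement_eq_one_iff_mul_comm, ← map_commutatorElement]
      exact (QuotientGroup.eq_one_iff _).2 (h3 (commutator_mem_commutator ha hb)))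
    (by
      rw [hcard, Ne, ZMod.natCast_eq_zero_iff]
      exact fun h => hqp ((Nat.prime_dvd_prime_iff_eq hp.out hq).1
        (hp.out.dvd_of_dvd_pow h)).symm) hfix
  rw [EMod.card_eq_pow_finrank (h := hV), Nat.Prime.factorization_pow hp.out,
    Finsupp.single_eq_same]
  refine le_trans (le_of_eq ?_) this
  congr 1
  refine Finset.sum_congr rfl fun g _ => ?_
  have h6 : fx (ρ ((QuotientGroup.mk' C).comp π g)) = EMod.sub hV (centralizer {π g}) := by
    ext v
    rw [mem_fx, EMod.mem_sub, mem_centralizer_singleton, ← EMod.val_injective.eq_iff,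
      show ρ ((QuotientGroup.mk' C).comp π g) = ρ0 (π g) from rfl, hρ0, mul_inv_eq_iff_eq_mul]
  rw [h6, ← EMod.grp_sub (h := hV), EMod.card_grp_eq_pow, Nat.Prime.factorization_pow hp.out,
    Finsupp.single_eq_same]

theorem fact_inf_le {G : Type*} [Group G] [Finite G] (p : ℕ) {K L : Subgroup G} [L.Normal]
    (hLK : L ≤ K) (g : G) :
    (Nat.card (K ⊓ centralizer {g} : Subgroup G)).factorization p ≤
      (Nat.card (L ⊓ centralizer {g} : Subgroup G)).factorization p +
      (Nat.card (K.map (QuotientGroup.mk' L) ⊓ centralizer {QuotientGroup.mk' L g} :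
        Subgroup (G ⧸ L))).factorization p := by
  set X := K ⊓ centralizer ({g} : Set G) with hX
  have h1 : Nat.card X = Nat.card (L ⊓ centralizer {g} : Subgroup G) *
      Nat.card (X.map (QuotientGroup.mk' L)) := by
    rw [← relIndex_ker, QuotientGroup.ker_mk', relIndex, mul_comm,
      ← index_mul_card (L.subgroupOf X)]
    congr 1
    have h2 : L ⊓ centralizer {g} = L ⊓ X := by
      rw [hX, ← inf_assoc, inf_eq_left.2 hLK]
    rw [h2, ← inf_subgroupOf_right]
    exact Nat.card_congr (subgroupOfEquivOfLe inf_le_right).toEquiv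
  have h2 : X.map (QuotientGroup.mk' L) ≤
      K.map (QuotientGroup.mk' L) ⊓ centralizer {QuotientGroup.mk' L g} := by
    rintro _ ⟨x, hx, rfl⟩
    refine ⟨mem_map_of_mem _ hx.1, mem_centralizer_singleton.2 ?_⟩
    rw [← map_mul, ← map_mul, mem_centralizer_singleton.1 hx.2]
  rw [h1, Nat.factorization_mul Nat.card_pos.ne' Nat.card_pos.ne', Finsupp.add_apply]
  exact Nat.add_le_add_left ((Nat.factorization_le_iff_dvd Nat.card_pos.ne' Nat.card_pos.ne').2
    (card_dvd_of_le h2) p) _

theorem exists_fun {G : Type*} [Group G] [Fintype G] [Group.IsSolvable G] {χ : G → ℂ}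
    (hχ : IsIrrCharacter G χ)
    (hh : ∀ N : Subgroup G, N.Normal →
      ∃ (φ : N → ℂ) (e : ℕ), IsIrrCharacter N φ ∧ (fun n : N => χ n) = (e : ℂ) • φ)
    (p : ℕ) [hp : Fact p.Prime] (R : Subgroup G)
    (hR : ∀ K L : Subgroup G, K.Normal → L.Normal → L < K →
      (∀ M : Subgroup G, M.Normal → L ≤ M → M ≤ K → M = L ∨ M = K) → (∀ x ∈ K, x ^ p ∈ L) →
      ∀ r ∈ R, ∀ x ∈ K, ⁅r, x⁆ ∈ L) (n : ℕ) :
    ∀ K : Subgroup G, K.Normal → Nat.card K = n → ∀ (θ : K → ℂ) (e d : ℕ), IsIrrCharacter K θ →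
      (fun x : K => χ x) = (e : ℂ) • θ → θ 1 = d → ∃ f : G → ℕ,
      (∀ x, ∀ r ∈ R, (Nat.card (K ⊓ centralizer {x * r} : Subgroup G)).factorization p ≤ f x) ∧
      ∑ x, f x + Nat.card G * d.factorization p ≤ Nat.card G * n.factorization p := by
  induction n using Nat.strong_induction_on with
  | _ n ih =>
  intro K hK hn θ e d hθ he hd
  by_cases hK1 : K = ⊥
  · subst hK1
    haveI := Fintype.ofFinite (⊥ : Subgroup G)
    have h1 := hθ.degree_dvd_card hd
    rw [card_bot, Nat.dvd_one] at h1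
    exact ⟨0, fun x r _ => by simp, by simp [h1]⟩
  obtain ⟨L, hL, -, hLK, hch⟩ := exists_chief_below (N := ⊥) (bot_lt_iff_ne_bot.2 hK1)
  obtain ⟨hab, q, hq, hxq, m, hm⟩ := chief_elementary hLK hch inferInstance
  have he0 : (e : ℂ) ≠ 0 := fun h => hχ.apply_one_ne_zero (by
    have := congrFun he 1
    rw [h, zero_smul] at this
    exact this)
  have hinv : ∀ g, cj K g θ = θ := fun g => by
    have := cj_res (N := K) hχ.isClassFunction g
    rw [he, cj_smul] at this
    exact smul_right_injective _ he0 this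
  have hlt : Nat.card L < n := by
    rw [← hn]
    exact lt_of_le_of_ne (card_le_of_le hLK.le) fun h => hLK.ne (eq_of_le_of_card_ge hLK.le h.ge)
  have hcard : n = Nat.card L * L.relIndex K := by
    rw [← hn, relIndex, mul_comm, ← index_mul_card (L.subgroupOf K)]
    congr 1
    exact Nat.card_congr (subgroupOfEquivOfLe hLK.le).toEquiv
  have hr0 : L.relIndex K ≠ 0 := by rw [hm]; exact (pow_pos hq.pos _).ne'
  have hfn : n.factorization p = (Nat.card L).factorization p + (L.relIndex K).factorization p := by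
    rw [hcard, Nat.factorization_mul Nat.card_pos.ne' hr0, Finsupp.add_apply]
  have hV : Nat.card (K.map (QuotientGroup.mk' L)) = L.relIndex K := by
    rw [← relIndex_ker, QuotientGroup.ker_mk']
  have hχL : (fun x : L => χ x) = (e : ℂ) • fun x : L => θ ⟨(x : G), hLK.le x.2⟩ :=
    funext fun x => congrFun he ⟨(x : G), hLK.le x.2⟩
  have triv : ∀ (φ : L → ℂ) (e' d' : ℕ), IsIrrCharacter L φ → (fun x : L => χ x) = (e' : ℂ) • φ →
      φ 1 = d' → d.factorization p = d'.factorization p → ∃ f : G → ℕ,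
      (∀ x, ∀ r ∈ R, (Nat.card (K ⊓ centralizer {x * r} : Subgroup G)).factorization p ≤ f x) ∧
      ∑ x, f x + Nat.card G * d.factorization p ≤ Nat.card G * n.factorization p := by
    intro φ e' d' h1 h2 h3 h4
    obtain ⟨f, h5, h6⟩ := ih _ hlt L hL rfl φ e' d' h1 h2 h3
    refine ⟨fun x => f x + (L.relIndex K).factorization p, fun x r hr => ?_, ?_⟩
    · refine (fact_inf_le p hLK.le _).trans (Nat.add_le_add (h5 x r hr) ?_)
      rw [← hV]
      exact (Nat.factorization_le_iff_dvd Nat.card_pos.ne' Nat.card_pos.ne').2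
        (card_dvd_of_le inf_le_left) p
    · rw [Finset.sum_add_distrib, Finset.sum_const, Finset.card_univ, smul_eq_mul,
        ← Nat.card_eq_fintype_card, hfn, h4, mul_add]
      omega
  rcases going_down hLK hch hab hθ hinv with h | ⟨φ, c, h1, h2, h3⟩ | ⟨F, h1, h2, h3⟩
  · exact triv _ e d h hχL hd rfl
  · obtain ⟨d', hd'⟩ := h1.isCharacter.exists_degree
    have h4 : d = c * d' := by
      have := congrFun h2 1
      rw [Pi.smul_apply, hd', smul_eq_mul] at this
      exact_mod_cast hd.symm.trans this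
    have hc0 : c ≠ 0 := fun h => hr0 (by rw [← h3, h]; rfl)
    have hd0 : d' ≠ 0 := fun h => h1.apply_one_ne_zero (by rw [hd', h, Nat.cast_zero])
    have h5 : d.factorization p = c.factorization p + d'.factorization p := by
      rw [h4, Nat.factorization_mul hc0 hd0, Finsupp.add_apply]
    have h6 : (L.relIndex K).factorization p = 2 * c.factorization p := by
      rw [← h3, Nat.factorization_pow, Finsupp.smul_apply, smul_eq_mul]
    have h7 : (fun x : L => χ x) = ((e * c : ℕ) : ℂ) • φ := by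
      rw [hχL, h2, smul_smul, Nat.cast_mul]
    by_cases hqp : q = p
    swap
    · refine triv φ _ d' h1 h7 hd' ?_
      rw [hm, Nat.Prime.factorization_pow hq, Finsupp.single_eq_of_ne (Ne.symm hqp)] at h6
      omega
    subst hqp
    obtain ⟨f, h8, h9⟩ := ih _ hlt L hL rfl φ _ d' h1 h7 hd'
    have hVe : IsElementaryAbelian q (K.map (QuotientGroup.mk' L)) := by
      refine ⟨⟨⟨?_⟩⟩, ?_⟩
      · rintro ⟨_, a, ha, rfl⟩ ⟨_, b, hb, rfl⟩
        refine Subtype.ext ?_
        show QuotientGroup.mk' L a * QuotientGroup.mk' L b =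
          QuotientGroup.mk' L b * QuotientGroup.mk' L a
        rw [← commutatorElement_eq_one_iff_mul_comm, ← map_commutatorElement]
        exact (QuotientGroup.eq_one_iff _).2 (hab (commutator_mem_commutator ha hb))
      · rintro _ ⟨a, ha, rfl⟩
        rw [← map_pow]
        exact (QuotientGroup.eq_one_iff _).2 (hxq a ha)
    have h10 := avg_min (QuotientGroup.mk'_surjective L) hVe (chief_map_mk hch hLK.le) (by
      intro hc
      obtain ⟨x, hx, hxL⟩ := SetLike.exists_of_lt hLK
      have hx1 : QuotientGroup.mk' L x ≠ 1 := fun h => hxL ((QuotientGroup.eq_one_iff _).1 h)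
      have hx2 := mem_map_of_mem (QuotientGroup.mk' L) hx
      have h11 := (chief_map_mk hch hLK.le (zpowers (QuotientGroup.mk' L x)) ⟨fun y hy g => by
        have : g ∈ centralizer ((K.map (QuotientGroup.mk' L) : Subgroup _) : Set (G ⧸ L)) :=
          hc ▸ trivial
        rwa [← mem_centralizer_iff.1 this y (zpowers_le.2 hx2 hy), mul_inv_cancel_right]⟩
        (zpowers_le.2 hx2)).resolve_left (by rwa [zpowers_eq_bot])
      rw [← hV, ← h11, Nat.card_zpowers, orderOf_eq_prime (hVe.2 _ hx2) hx1,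
        Nat.Prime.factorization_self hq] at h6
      omega)
    refine ⟨fun x => f x + (Nat.card (K.map (QuotientGroup.mk' L) ⊓
      centralizer {QuotientGroup.mk' L x} : Subgroup (G ⧸ L))).factorization q,
      fun x r hr => ?_, ?_⟩
    · refine (fact_inf_le q hLK.le _).trans (Nat.add_le_add (h8 x r hr) (le_of_eq ?_))
      refine congrArg (fun X : Subgroup (G ⧸ L) => (Nat.card X).factorization q) ?_
      ext v
      simp only [mem_inf, mem_centralizer_singleton]
      refine and_congr_right ?_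
      rintro ⟨y, hy, rfl⟩
      have h11 : QuotientGroup.mk' L r * QuotientGroup.mk' L y =
          QuotientGroup.mk' L y * QuotientGroup.mk' L r := by
        rw [← commutatorElement_eq_one_iff_mul_comm, ← map_commutatorElement]
        exact (QuotientGroup.eq_one_iff _).2 (hR K L hK hL hLK hch hxq r hr y hy)
      rw [map_mul, mul_assoc, h11, ← mul_assoc, ← mul_assoc, mul_left_inj]
    · rw [Finset.sum_add_distrib, hfn, h5, h6, mul_add, mul_add]
      rw [hV, h6] at h10
      nlinarith
  · exfalso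
    haveI := Fintype.ofFinite L
    obtain ⟨φ, c, h4, h5⟩ := hh L hL
    have h6 : ∀ ψ ∈ F, ψ = φ := by
      intro ψ hψ
      refine eq_of_constituent_of_smul h4 (h1 ψ hψ) (e := c) ?_
      rw [← h5, hχL, h3, classInner_smul_left, classInner_sum_left,
        Finset.sum_eq_single ψ (fun ψ' h h' => (h1 ψ' h).classInner_of_ne (h1 ψ hψ) h')
          (fun h => absurd hψ h), (h1 ψ hψ).classInner_self, mul_one]
      exact he0
    have h7 : F.card ≤ 1 := Finset.card_le_one.2 fun a ha b hb => (h6 a ha).trans (h6 b hb).symm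
    rw [h2] at h7
    exact hLK.not_ge (relIndex_eq_one.1 (by omega))

theorem exists_elt {G : Type*} [Group G] [Fintype G] [Group.IsSolvable G] (χ : IrrCharacter G)
    (hprim : ¬ ∃ (H : Subgroup G), H ≠ ⊤ ∧ ∃ θ : H → ℂ, IsCharacter H θ ∧ indFun H θ = χ.1)
    (p : ℕ) [hp : Fact p.Prime] (R : Subgroup G)
    (hR : ∀ K L : Subgroup G, K.Normal → L.Normal → L < K →
      (∀ M : Subgroup G, M.Normal → L ≤ M → M ≤ K → M = L ∨ M = K) → (∀ x ∈ K, x ^ p ∈ L) →
      ∀ r ∈ R, ∀ x ∈ K, ⁅r, x⁆ ∈ L) :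
    ∃ x : G, ∀ r ∈ R, (charDegree χ.1).factorization p ≤
      (centralizer ({x * r} : Set G)).index.factorization p := by
  have hirr : IsIrrCharacter (⊤ : Subgroup G) fun x => χ.1 x :=
    χ.2.res_of_sup_charCenter fun g => ⟨1, one_mem _, g, trivial, (one_mul g).symm⟩
  obtain ⟨f, h1, h2⟩ := exists_fun χ.2 (fun N hN => by
    by_contra h
    obtain ⟨T, ψ, h1, -, h2, h3⟩ := χ.2.exists_ind_of_not_homogeneous N h
    exact hprim ⟨T, h1, ψ, h2.isCharacter, h3⟩) p R hR _ ⊤ inferInstance rfl _ 1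
    (charDegree χ.1) hirr (by simp) χ.2.isCharacter.cast_charDegree.symm
  rw [card_top] at h2
  obtain ⟨x, -, hx⟩ := Finset.exists_min_image Finset.univ f ⟨1, Finset.mem_univ _⟩
  have h3 := Finset.card_nsmul_le_sum Finset.univ f (f x) hx
  rw [Finset.card_univ, ← Nat.card_eq_fintype_card, smul_eq_mul] at h3
  change _ ≤ ∑ x, f x at h3
  have h4 : f x + (charDegree χ.1).factorization p ≤ (Nat.card G).factorization p :=
    Nat.le_of_mul_le_mul_left (by rw [mul_add]; omega) (Nat.card_pos (α := G))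
  refine ⟨x, fun r hr => ?_⟩
  have h5 := h1 x r hr
  rw [top_inf_eq] at h5
  rw [← (centralizer ({x * r} : Set G)).index_mul_card, Nat.factorization_mul
    index_ne_zero_of_finite Nat.card_pos.ne', Finsupp.add_apply] at h4
  omega

end Cfsg.Agent.Blk.Avg
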