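import Cfsg.Agent.Lib.Block.Stab
import Cfsg.Agent.Lib.Fusion.Alperin
import Cfsg.Prelude.Def_BlockFusion

/-!
The fusion system of a block, its saturation, nilpotent blocks, and the dictionary to Brauer pairs
given by sets of characters.
-/

namespace Cfsg.Agent.Blk

open MonoidAlgebra
open Cfsg.Agent.Fusion (Mor img afun SysData SylowIn)
open Cfsg.FusionSystem (centralizerIn normalizerIn)

variable {G : Type*} [Group G] {k : Type*} [Field k] {p : ℕ}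
  {H K Q P R S D T : Subgroup G} {e f g h B : k[G]} {x y : G}

theorem mem_of_pow_mem_of_not_dvd [Finite G] [Fact p.Prime] (h1 : K ≤ T) (h2 : T ≤ No K)
    (h : ¬ p ∣ K.relIndex T) (hx : x ∈ T) {n : ℕ} (hn : x ^ p ^ n ∈ K) : x ∈ K := by
  obtain ⟨s, hs⟩ := exists_isPPart p x
  have h3 : s ∈ K := le_of_not_dvd_relIndex h1 h2 h hs.isPGroup
    (Subgroup.zpowers_le.2 (hs.mem hx)) (Subgroup.mem_zpowers s)
  have h4 : s⁻¹ * x ∈ K := by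
    refine mem_of_preg_of_pow_mem hs.preg (n := n) ?_
    obtain ⟨j, hj⟩ := hs.reg_mem_zpowers
    simp only at hj
    rw [← hj, ← zpow_natCast, ← zpow_mul, mul_comm, zpow_mul, zpow_natCast]
    exact K.zpow_mem hn j
  simpa using K.mul_mem h3 h4

theorem inf_Ce_eq_of_le (h1 : H ⊓ Ce Q ≤ K) (h2 : K ≤ H) (h3 : Q ≤ R) : K ⊓ Ce R = H ⊓ Ce R :=
  le_antisymm (inf_le_inf_right _ h2)
    (le_inf ((inf_le_inf_left H (Ce_anti h3)).trans h1) inf_le_right)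

theorem IsBP.of_sub (h : IsBP p K R g) (h1 : H ⊓ Ce Q ≤ K) (h2 : K ≤ H) (h3 : Q ≤ R) :
    IsBP p H R g := ⟨h.pg, h.le.trans h2, inf_Ce_eq_of_le h1 h2 h3 ▸ h.blk⟩

theorem IsBP.to_sub (h : IsBP p H R g) (h1 : H ⊓ Ce Q ≤ K) (h2 : K ≤ H) (h3 : Q ≤ R)
    (h4 : R ≤ K) : IsBP p K R g := ⟨h.pg, h4, (inf_Ce_eq_of_le h1 h2 h3).symm ▸ h.blk⟩

theorem NSub.of_sub (h : NSub p K R g S e) (h1 : H ⊓ Ce Q ≤ K) (h2 : K ≤ H) (h3 : Q ≤ R) :
    NSub p H R g S e :=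
  ⟨h.pg, h.leH.trans h2, (h.left.of_sub h1 h2 h3).blk,
    (h.right.of_sub h1 h2 (h3.trans h.le)).blk, h.le, h.no, h.inv, h.eq⟩

theorem NSub.to_sub (h : NSub p H R g S e) (h1 : H ⊓ Ce Q ≤ K) (h2 : K ≤ H) (h3 : Q ≤ R)
    (h4 : S ≤ K) : NSub p K R g S e :=
  ⟨h.pg, h4, (h.left.to_sub h1 h2 h3 (h.le.trans h4)).blk,
    (h.right.to_sub h1 h2 (h3.trans h.le) h4).blk, h.le, h.no, h.inv, h.eq⟩

theorem PLe.of_sub (h : PLe p K R g S e) (h1 : H ⊓ Ce Q ≤ K) (h2 : K ≤ H) (h3 : Q ≤ R) :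
    PLe p H R g S e :=
  h.head_induction (C := fun R g => Q ≤ R → PLe p H R g S e) (fun _ => PLe.refl _ _ _)
    (fun _ _ _ _ h4 _ ih h5 => (h4.of_sub h1 h2 h5).ple.trans (ih (h5.trans h4.le))) h3

theorem PLe.to_sub (h : PLe p H R g S e) (h1 : H ⊓ Ce Q ≤ K) (h2 : K ≤ H) (h3 : Q ≤ R)
    (h4 : S ≤ K) : PLe p K R g S e :=
  h.head_induction (C := fun R g => Q ≤ R → PLe p K R g S e) (fun _ => PLe.refl _ _ _)
    (fun _ _ _ _ h5 h6 ih h7 =>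
      (h5.to_sub h1 h2 h7 (h6.le.trans h4)).ple.trans (ih (h7.trans h5.le))) h3

variable (p) in
/-- Conjugation by `x` carries the subpair of `(P, e)` on `Q` to a subpair of `(P, e)`. -/
def Fus (H P : Subgroup G) (e : k[G]) (Q : Subgroup G) (x : G) : Prop :=
  x ∈ H ∧ ∃ f, PLe p H Q f P e ∧ PLe p H (cs x Q) (cj x f) P e

variable (p) in
/-- The maps of the fusion system of a Brauer pair. -/
def BMor (H P : Subgroup G) (e : k[G]) (Q : Subgroup G) (φ : G → G) : Prop :=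
  ∃ x, Fus p H P e Q x ∧ ∀ u ∈ Q, φ u = x * u * x⁻¹

variable (p) in
/-- `F` is the fusion system of the Brauer pair `(P, e)` of `H`. -/
def IsBFS (H P : Subgroup G) (e : k[G]) (F : FusionSystem P) : Prop :=
  ∀ Q φ, Mor F Q φ ↔ BMor p H P e Q φ

variable (p) in
/-- Nilpotent blocks. -/
def IsNilp (H : Subgroup G) (B : k[G]) : Prop :=
  IsBlock H B ∧ ∀ Q f, IsBP p H Q f → Br Q B * f = f → ∀ x ∈ stab (H ⊓ No Q) f,
    ¬ p ∣ orderOf x → x ∈ Ce Q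

theorem Fus.le (h : Fus p H P e Q x) : Q ≤ P := let ⟨_, _, h1, _⟩ := h; h1.le

theorem Fus.cs_le (h : Fus p H P e Q x) : cs x Q ≤ P := let ⟨_, _, _, h1⟩ := h; h1.le

theorem Fus.inv (h : Fus p H P e Q x) : Fus p H P e (cs x Q) x⁻¹ :=
  let ⟨hx, _, h1, h2⟩ := h
  ⟨H.inv_mem hx, _, h2, by rwa [cs_inv_cs, cj_inv_cj]⟩

theorem img_eq_cs {φ : G → G} (h : ∀ u ∈ Q, φ u = x * u * x⁻¹) : img φ Q = cs x Q := by
  rw [Fusion.img_congr h, Fusion.img_conj]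

theorem IsDef.of_sub [Finite G] [Fact p.Prime] [CharP k p] [IsAlgClosed k] (hD : IsDef p T f D)
    (h1 : D ≤ K) (h2 : K ≤ T) (hf : IsBlock K f) : IsDef p K f D := by
  obtain ⟨E, hE⟩ := hf.exists_isDef p
  exact hE.of_card hf.inv h1 hD.pg hD.ne (hD.card_le (hE.le.trans h2) hE.pg hE.ne)

variable [Finite G] [Fact p.Prime] [CharP k p]

theorem PLe.fus_iff (he : IsBP p H P e) (h : PLe p H Q f P e) :
    Fus p H P e Q x ↔ x ∈ H ∧ PLe p H (Blk.cs x Q) (cj x f) P e :=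
  and_congr_right fun _ => ⟨fun ⟨_, h1, h2⟩ => by rwa [PLe.unique he h h1], fun h2 => ⟨f, h, h2⟩⟩

theorem IsBP.fus_of_mem (he : IsBP p H P e) (hQ : Q ≤ P) (hx : x ∈ P) : Fus p H P e Q x :=
  let ⟨f, hf⟩ := he.exists_PLe hQ
  ⟨he.le hx, f, hf, hf.cs_of_mem he hx⟩

theorem Fus.mul (he : IsBP p H P e) (h1 : Fus p H P e Q x) (h2 : Fus p H P e R y)
    (h : cs x Q ≤ R) : Fus p H P e Q (y * x) := by
  obtain ⟨hx, f, h3, h4⟩ := h1
  obtain ⟨hy, g, h5, h6⟩ := h2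
  refine ⟨H.mul_mem hy hx, f, h3, ?_⟩
  rw [cs_mul, cj_mul]
  exact ((h4.of_le he h5 h).cs hy).trans h6

theorem PLe.fus_stab_iff (he : IsBP p H P e) (h : PLe p H Q f P e) :
    x ∈ stab (H ⊓ No Q) f ↔ Fus p H P e Q x ∧ x ∈ No Q := by
  rw [h.fus_iff he]
  constructor
  · rintro ⟨⟨h1, h2⟩, h3⟩
    exact ⟨⟨h1, by rwa [mem_No.1 h2, h3]⟩, h2⟩
  · rintro ⟨⟨h1, h2⟩, h3⟩
    rw [mem_No.1 h3] at h2
    exact ⟨⟨h1, h3⟩, PLe.unique he h2 h⟩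

theorem PLe.inf_stab (he : IsBP p H P e) (h : PLe p H Q f P e) :
    P ⊓ stab (H ⊓ No Q) f = P ⊓ No Q :=
  le_antisymm (inf_le_inf_left P ((stab_le _ _).trans inf_le_right))
    (le_inf inf_le_left (le_stab.2 ⟨inf_le_inf_right _ he.le, h.mem_inv he⟩))

theorem PLe.stab_le (he : IsBP p H P e) (h : PLe p H Q f P e) :
    stab (H ⊓ No P) e ⊓ No Q ≤ stab (H ⊓ No Q) f := by
  rintro x ⟨⟨⟨h1, h2⟩, h3⟩, h4⟩
  have := h.cs h1
  rw [mem_No.1 h2, h3, mem_No.1 h4] at this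
  exact ⟨⟨h1, h4⟩, PLe.unique he this h⟩

theorem IsBP.sysData (he : IsBP p H P e) : SysData P (BMor p H P e) where
  le := fun ⟨_, h, _⟩ => h.le
  mem := fun ⟨_, h, h1⟩ u hu => by rw [h1 u hu]; exact h.cs_le (conj_mem_cs.2 hu)
  map_mul := fun {Q} _ ⟨x, _, h1⟩ u hu v hv => by
    rw [h1 _ (Q.mul_mem hu hv), h1 u hu, h1 v hv]; group
  inj := fun ⟨x, _, h1⟩ u hu v hv h => by
    rw [h1 u hu, h1 v hv] at h
    exact mul_left_cancel (mul_right_cancel h)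
  congr := fun ⟨x, h, h1⟩ h2 => ⟨x, h, fun u hu => (h2 u hu).symm.trans (h1 u hu)⟩
  conj := fun hQ hs => ⟨_, he.fus_of_mem hQ hs, fun _ _ => rfl⟩
  comp := fun ⟨x, h, h1⟩ ⟨y, h', h2⟩ h3 => ⟨y * x, h.mul he h' fun v hv => by
      have := h3 _ (mem_cs.1 hv)
      rw [h1 _ (mem_cs.1 hv)] at this
      convert this using 1; group, fun u hu => by
    simp only
    rw [h2 _ (h3 u hu), h1 u hu]; group⟩
  inv := fun {Q φ} ⟨x, h, h1⟩ => ⟨fun u => x⁻¹ * u * x, ⟨x⁻¹, img_eq_cs h1 ▸ h.inv,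
    fun u _ => by rw [inv_inv]⟩, fun u hu => by rw [h1 u hu]; group⟩

theorem IsBP.exists_isBFS (he : IsBP p H P e) : ∃ F, IsBFS p H P e F :=
  ⟨he.sysData.sys, fun _ _ => he.sysData.mor_iff⟩

variable {F : FusionSystem P}

omit [Finite G] [Fact p.Prime] [CharP k p] in
theorem IsBFS.isConj_iff (hF : IsBFS p H P e F) :
    F.IsConj Q R ↔ ∃ x, Fus p H P e Q x ∧ Blk.cs x Q = R := by
  rw [Fusion.isConj_iff]
  constructor
  · rintro ⟨φ, h1, rfl⟩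
    obtain ⟨x, h2, h3⟩ := (hF _ _).1 h1
    exact ⟨x, h2, (img_eq_cs h3).symm⟩
  · rintro ⟨x, h1, rfl⟩
    exact ⟨fun u => x * u * x⁻¹, (hF _ _).2 ⟨x, h1, fun _ _ => rfl⟩, Fusion.img_conj x Q⟩

theorem IsBFS.forall_isConj (hF : IsBFS p H P e F) (he : IsBP p H P e) (h : PLe p H Q f P e)
    {C : Subgroup G → Prop} : (∀ R, F.IsConj Q R → C R) ↔
      ∀ x ∈ H, PLe p H (Blk.cs x Q) (cj x f) P e → C (Blk.cs x Q) := by
  constructor
  · intro h1 x hx h2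
    exact h1 _ (hF.isConj_iff.2 ⟨x, (h.fus_iff he).2 ⟨hx, h2⟩, rfl⟩)
  · intro h1 R hR
    obtain ⟨x, h2, rfl⟩ := hF.isConj_iff.1 hR
    exact h1 x h2.1 ((h.fus_iff he).1 h2).2

theorem IsBFS.autGroup_eq (hF : IsBFS p H P e F) (he : IsBP p H P e) (h : PLe p H Q f P e) :
    F.autGroup Q = autInducedBy (stab (H ⊓ No Q) f) Q := by
  ext α
  rw [Fusion.mem_autGroup h.le, hF, Fusion.mem_autInducedBy]
  constructor
  · rintro ⟨x, h1, h2⟩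
    exact ⟨x, (h.fus_stab_iff he).2 ⟨h1, Fusion.mem_normalizer_of_afun h2⟩, h2⟩
  · rintro ⟨x, h1, h2⟩
    exact ⟨x, ((h.fus_stab_iff he).1 h1).1, h2⟩

omit [Finite G] [Fact p.Prime] [CharP k p] in
theorem inf_inf_Ce (he : P ≤ H) : P ⊓ (H ⊓ Ce Q) = P ⊓ Ce Q := by
  rw [← inf_assoc, inf_eq_left.2 he]

variable [IsAlgClosed k]

theorem IsMP.fullyCentralized_iff (hm : IsMP p H B P e) (hF : IsBFS p H P e F)
    (h : PLe p H Q f P e) : F.IsFullyCentralized Q ↔ IsDef p (H ⊓ Ce Q) f (P ⊓ Ce Q) := by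
  rw [← inf_inf_Ce hm.bp.le, hm.isDef_inf_iff h (inf_Ce_le_inf_No H Q) (h.left hm.bp).blk,
    FusionSystem.IsFullyCentralized, and_iff_right h.le, hF.forall_isConj hm.bp h]
  refine forall_congr' fun x => forall_congr' fun hx => forall_congr' fun _ => ?_
  rw [cs_inf_Ce hx, inf_inf_Ce hm.bp.le, inf_inf_Ce hm.bp.le]; rfl

theorem IsMP.fullyNormalized_iff (hm : IsMP p H B P e) (hF : IsBFS p H P e F)
    (h : PLe p H Q f P e) :
    F.IsFullyNormalized Q ↔ IsDef p (stab (H ⊓ No Q) f) f (P ⊓ No Q) := by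
  rw [← h.inf_stab hm.bp, hm.isDef_inf_iff h (stab_le _ _) (h.left hm.bp).isBlock_stab,
    FusionSystem.IsFullyNormalized, and_iff_right h.le, hF.forall_isConj hm.bp h]
  refine forall_congr' fun x => forall_congr' fun hx => forall_congr' fun h1 => ?_
  rw [cs_stab, cs_inf_No hx, h1.inf_stab hm.bp, h.inf_stab hm.bp]; rfl

theorem IsMP.centric_iff (hm : IsMP p H B P e) (hF : IsBFS p H P e F)
    (h : PLe p H Q f P e) : F.IsCentric Q ↔ IsDef p (H ⊓ Ce Q) f (Q ⊓ Ce Q) := by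
  constructor
  · intro h1
    have h2 := (hm.fullyCentralized_iff hF h).1 (Fusion.IsCentric.fullyCentralized h1)
    have h3 : P ⊓ Ce Q = Q ⊓ Ce Q := le_antisymm
      (le_inf (Fusion.IsCentric.cent_le h1) inf_le_right) (inf_le_inf_right _ h.le)
    rwa [h3] at h2
  · intro h1
    refine ⟨h.le, (hF.forall_isConj hm.bp h).2 fun x hx h2 => ?_⟩
    have h3 := h1.cs x
    rw [cs_inf_Ce hx, cs_inf, cs_Ce] at h3
    exact (h3.eq_of_le (inf_le_inf_right _ hm.bp.le) (isPGroup_le hm.bp.pg inf_le_left)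
      (h2.Br_inf_ne hm.bp (Ce_le_No _)) (inf_le_inf_right _ h2.le)).le.trans inf_le_left

theorem IsMP.mem_sup_of_pow (hm : IsMP p H B P e) (hx : x ∈ stab (H ⊓ No P) e) {n : ℕ}
    (h : x ^ p ^ n ∈ Ce P) : x ∈ P ⊔ H ⊓ Ce P :=
  mem_of_pow_mem_of_not_dvd hm.bp.sup_le_stab ((stab_le _ _).trans (inf_No_le_No_sup H P))
    hm.not_dvd_index hx (Subgroup.mem_sup_right ⟨H.pow_mem hx.1.1 _, h⟩)

omit [Finite G] [Fact p.Prime] [CharP k p] [IsAlgClosed k] in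
theorem afun_pow {α : MulAut Q} (h : ∀ u ∈ Q, afun α u = x * u * x⁻¹) (n : ℕ) :
    ∀ u ∈ Q, afun (α ^ n) u = x ^ n * u * (x ^ n)⁻¹ := by
  induction n with
  | zero => intro u _; simp [Fusion.afun_one]
  | succ n ih =>
    intro u hu
    rw [pow_succ, Fusion.afun_mul _ _ hu, ih _ (Fusion.afun_mem α hu), h u hu, pow_succ]; group

omit [Finite G] [Fact p.Prime] [CharP k p] [IsAlgClosed k] in
theorem mem_Ce_of_conj_eq (h : ∀ u ∈ Q, u = x * u * x⁻¹) : x ∈ Ce Q :=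
  mem_Ce.2 fun u hu => by conv_lhs => rw [h u hu]
                          group

omit [Finite G] [Fact p.Prime] [CharP k p] [IsAlgClosed k] in
theorem conj_eq_of_mem_Ce (h : x ∈ Ce Q) {u : G} (hu : u ∈ Q) : x * u * x⁻¹ = u := by
  rw [← mem_Ce.1 h u hu]; group

omit [Finite G] [Fact p.Prime] [CharP k p] [IsAlgClosed k] in
theorem le_No_inf_Ce (hP : P ≤ H ⊓ No Q) : P ≤ No (H ⊓ Ce Q) :=
  hP.trans (inf_No_le_No_inf_Ce H Q)

theorem IsMP.fullyAutomized (hm : IsMP p H B P e) (hF : IsBFS p H P e F) :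
    F.IsFullyAutomized p P := by
  refine Fusion.isFullyAutomized_iff.2 ⟨le_rfl, Fusion.autInducedBy_le_autGroup F le_rfl,
    Fusion.autInducedBy_pgroup hm.bp.pg P, fun D hD hDp _ α hα => ?_⟩
  rw [hF.autGroup_eq hm.bp (PLe.refl _ _ _)] at hD
  obtain ⟨x, hx, h1⟩ := Fusion.mem_autInducedBy.1 (hD hα)
  obtain ⟨n, hn⟩ := hDp ⟨α, hα⟩
  have h2 : α ^ p ^ n = 1 := congrArg Subtype.val hn
  have h3 := afun_pow h1 (p ^ n)
  simp only [h2, Fusion.afun_one] at h3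
  obtain ⟨s, hs, c, hc, rfl⟩ := exists_mul_of_mem_sup
    (le_No_inf_Ce (le_inf hm.bp.le (le_No P))) (hm.mem_sup_of_pow hx (mem_Ce_of_conj_eq h3))
  refine Fusion.mem_autInducedBy.2 ⟨s, hs, fun u hu => ?_⟩
  rw [h1 u hu]
  conv_rhs => rw [← conj_eq_of_mem_Ce hc.2 hu]
  group

/-- A normal extension of a fully normalised subpair inside `N_P(Q) C_H(Q)` can be moved
into `(P, e)` by an element of `C_H(Q)`. -/
theorem IsMP.exists_Ce_PLe (hm : IsMP p H B P e) (h : PLe p H Q f P e)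
    (hD : IsDef p (stab (H ⊓ No Q) f) f (P ⊓ No Q)) (hR : NSub p H Q f R g)
    (hRK : R ≤ (P ⊓ No Q) ⊔ H ⊓ Ce Q) : ∃ c ∈ H ⊓ Ce Q, PLe p H (Blk.cs c R) (cj c g) P e := by
  have hf := h.left hm.bp
  have hK1 : (P ⊓ No Q) ⊔ H ⊓ Ce Q ≤ stab (H ⊓ No Q) f :=
    sup_le hD.le (le_sup_right.trans hf.sup_le_stab)
  have hK2 : (P ⊓ No Q) ⊔ H ⊓ Ce Q ≤ H ⊓ No Q := hK1.trans (stab_le _ _)
  have hK3 := hK2.trans inf_le_left
  have hfK : IsBlock ((P ⊓ No Q) ⊔ H ⊓ Ce Q) f := hf.isBlock_of_inv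
    (sup_le_sup_right (le_inf h.le (le_No Q)) _) hK2 (inv_anti hK1 (mem_inv_stab _ _))
  obtain ⟨g', h1, h2⟩ := h.exists_nsub_No hm.bp
  have hm' : IsMP p ((P ⊓ No Q) ⊔ H ⊓ Ce Q) f (P ⊓ No Q) g' :=
    ⟨h1.right.to_sub le_sup_right hK3 h1.le le_sup_left, hfK, h1.eq,
      hD.of_sub le_sup_left hK1 hfK⟩
  obtain ⟨y, hy, h3⟩ := hm'.exists_cs_PLe (hR.right.to_sub le_sup_right hK3 hR.le hRK) hR.eq
  obtain ⟨s, hs, c, hc, rfl⟩ := exists_mul_of_mem_sup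
    (le_No_inf_Ce (inf_le_inf_right _ hm.bp.le)) hy
  have h4 := h3.cs_of_mem hm'.bp ((P ⊓ No Q).inv_mem hs)
  rw [cs_mul, cj_mul, cs_inv_cs, cj_inv_cj] at h4
  refine ⟨c, hc, (h4.of_sub le_sup_right hK3 ?_).trans h2⟩
  rw [← mem_No.1 (Ce_le_No Q hc.2)]
  exact cs_mono c hR.le

theorem IsMP.receptive (hm : IsMP p H B P e) (hF : IsBFS p H P e F)
    (hQ : F.IsFullyNormalized Q) : F.IsReceptive Q := by
  refine Fusion.isReceptive_iff.2 ⟨hQ.1, fun R φ hφ hRQ => ?_⟩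
  obtain ⟨x, ⟨hx, g, h1, h2⟩, h3⟩ := (hF _ _).1 hφ
  rw [img_eq_cs h3] at hRQ
  subst hRQ
  obtain ⟨g', h4⟩ := hm.bp.exists_PLe (Q := Fusion.Next P R φ) Fusion.Next_le
  have h5 := h1.nsub_of_le hm.bp h4 hφ.le_Next (Fusion.Next_le_normalizerIn.trans inf_le_right)
  obtain ⟨c, hc, h6⟩ := hm.exists_Ce_PLe h2 ((hm.fullyNormalized_iff hF h2).1 hQ) (h5.cs hx) (by
    intro v hv
    obtain ⟨hv1, s, hs, hv2⟩ := Fusion.mem_Next.1 (mem_cs.1 hv)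
    have h7 : ∀ u ∈ Blk.cs x R, v * u * v⁻¹ = s * u * s⁻¹ := fun u hu => by
      have h8 := hv2 _ (mem_cs.1 hu)
      rw [h3 _ (conj_mem_of_No hv1.2 (mem_cs.1 hu)), h3 _ (mem_cs.1 hu)] at h8
      calc v * u * v⁻¹ = x * (x⁻¹ * v * x * (x⁻¹ * u * x) * (x⁻¹ * v * x)⁻¹) * x⁻¹ := by group
        _ = s * u * s⁻¹ := by rw [h8]; group
    have h8 : s⁻¹ * v ∈ Ce (Blk.cs x R) := mem_Ce_of_conj_eq fun u hu => by
      calc u = s⁻¹ * (s * u * s⁻¹) * s := by group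
        _ = _ := by rw [← h7 u hu]; group
    have h9 : v ∈ No (Blk.cs x R) := by rw [← cs_No]; exact mem_cs.2 hv1.2
    have h10 : v ∈ H := by
      have := H.mul_mem (H.mul_mem hx (hm.bp.le hv1.1)) (H.inv_mem hx)
      convert this using 1; group
    have h11 : s ∈ No (Blk.cs x R) := by
      have := (No _).mul_mem h9 ((No _).inv_mem (Ce_le_No _ h8))
      convert this using 1; group
    have : v = s * (s⁻¹ * v) := by group
    rw [this]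
    exact Subgroup.mul_mem _ (Subgroup.mem_sup_left ⟨hs, h11⟩) (Subgroup.mem_sup_right
      ⟨H.mul_mem (H.inv_mem (hm.bp.le hs)) h10, h8⟩))
  refine ⟨fun u => (c * x) * u * (c * x)⁻¹, (hF _ _).2 ⟨c * x, ⟨H.mul_mem hc.1 hx, g', h4, ?_⟩,
    fun _ _ => rfl⟩, fun u hu => ?_⟩
  · rwa [cs_mul, cj_mul]
  · rw [h3 u hu, ← conj_eq_of_mem_Ce hc.2 (conj_mem_cs.2 hu)]; group

theorem IsMP.saturated (hm : IsMP p H B P e) (hF : IsBFS p H P e F) : F.IsSaturated p :=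
  Fusion.isSaturated_of_stancu hm.bp.pg (hm.fullyAutomized hF) fun _ => hm.receptive hF

omit [CharP k p] [IsAlgClosed k] in
theorem pgroup_autInducedBy (h : ∀ x ∈ T, ¬ p ∣ orderOf x → x ∈ Ce Q) :
    IsPGroup p (autInducedBy T Q) := by
  rintro ⟨α, hα⟩
  obtain ⟨x, hx, h1⟩ := Fusion.mem_autInducedBy.1 hα
  obtain ⟨s, hs⟩ := exists_isPPart p x
  obtain ⟨n, hn⟩ := hs.pelt
  refine ⟨n, Subtype.ext (Fusion.aut_ext fun u hu => ?_)⟩
  have h2 : s⁻¹ * x ∈ Ce Q := h _ (T.mul_mem (T.inv_mem (hs.mem hx)) hx) hs.preg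
  have h3 : ∀ u ∈ Q, afun α u = s * u * s⁻¹ := fun u hu => by
    rw [h1 u hu]
    conv_rhs => rw [← conj_eq_of_mem_Ce h2 hu]
    group
  simp only [SubmonoidClass.coe_pow, OneMemClass.coe_one]
  rw [afun_pow h3 _ u hu, ← hn, pow_orderOf_eq_one, Fusion.afun_one]; group

theorem IsMP.nilp_of_forall (hm : IsMP p H B P e) (h : ∀ Q f, PLe p H Q f P e →
    ∀ x ∈ stab (H ⊓ No Q) f, ¬ p ∣ orderOf x → x ∈ Ce Q) : IsNilp p H B := by
  refine ⟨hm.blkB, fun Q f hf hBf x hx hxp => ?_⟩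
  obtain ⟨y, hy, h1⟩ := hm.exists_cs_PLe hf hBf
  have := h _ _ h1 (y * x * y⁻¹) (by rw [← cs_inf_No hy, ← cs_stab]; exact conj_mem_cs.2 hx)
    (by rwa [orderOf_conj'])
  rwa [← cs_Ce, conj_mem_cs] at this

theorem IsMP.nilp_iff_inner (hm : IsMP p H B P e) : IsNilp p H B ↔
    ∀ Q x, Fus p H P e Q x → ∃ s ∈ P, ∀ u ∈ Q, x * u * x⁻¹ = s * u * s⁻¹ := by
  constructor
  · intro hn Q x hx
    obtain ⟨F, hF⟩ := hm.bp.exists_isBFS
    have hle : F ≤ innerFusionSystem P := by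
      refine Fusion.alperin hm.bp.pg (hm.saturated hF) fun R hR α hα => ?_
      have h1 := (Fusion.alperin_family hm.bp.pg (hm.saturated hF) hR).1
      have h2 := (Fusion.isFullyAutomized_iff.1
        (Fusion.IsSaturated.fullyAutomized hm.bp.pg (hm.saturated hF) h1)).2
      obtain ⟨g, hg⟩ := hm.bp.exists_PLe h1.1
      refine Fusion.autInducedBy_le_autGroup _ h1.1 (h2.max _ le_rfl ?_ h2.le hα)
      rw [hF.autGroup_eq hm.bp hg]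
      exact pgroup_autInducedBy (hn.2 R g (hg.left hm.bp) (hm.eq_of_PLe hg))
    exact (Fusion.mor_inner_iff.1 (Fusion.le_iff_mor.1 hle Q (fun u => x * u * x⁻¹)
      ((hF _ _).2 ⟨x, hx, fun _ _ => rfl⟩))).2
  · intro h
    refine hm.nilp_of_forall fun Q f hf x hx hxp => ?_
    obtain ⟨s, hs, h1⟩ := h Q x ((hf.fus_stab_iff hm.bp).1 hx).1
    exact mem_Ce_of_preg_of_conj_eq hxp (pelt_of_mem hm.bp.pg hs) hx.1.2 h1

theorem IsMP.isDef_Ce_of_le (hm : IsMP p H B P e) (h : PLe p H Q f P e) (hP : P ≤ Ce Q) :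
    IsDef p (H ⊓ Ce Q) f P := by
  have h1 : P ⊓ (H ⊓ Ce Q) = P := inf_eq_left.2 (le_inf hm.bp.le hP)
  have := (hm.isDef_inf_iff h (inf_Ce_le_inf_No H Q) (h.left hm.bp).blk).2 fun x _ _ => by
    rw [h1]; exact Subgroup.card_le_of_le inf_le_left
  rwa [h1] at this

theorem IsMP.local_Ce (hm : IsMP p H B P e) (h : PLe p H Q f P e) (hP : P ≤ Ce Q) :
    IsMP p (H ⊓ Ce Q) f P e :=
  ⟨hm.bp.to_sub le_rfl inf_le_left h.le (le_inf hm.bp.le hP), (h.left hm.bp).blk,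
    (h.nsub hm.bp (hP.trans (Ce_le_No Q))).eq, hm.isDef_Ce_of_le h hP⟩

theorem IsMP.exists_mul_of_le_Ce (hm : IsMP p H B P e) (h : PLe p H Q f P e) (hP : P ≤ Ce Q)
    (hx : x ∈ stab (H ⊓ No Q) f) :
    ∃ y ∈ stab (H ⊓ No P) e, ∃ c ∈ H ⊓ Ce Q, x = y * c := by
  have h1 := hm.local_Ce h hP
  have hx' := (stab _ _).inv_mem hx
  have h2 := h.cs hx'.1.1
  rw [mem_No.1 hx'.1.2, hx'.2] at h2
  have h3 := (hm.cs hx'.1.1).local_Ce h2 (by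
    rw [← mem_No.1 hx'.1.2, ← cs_Ce]; exact cs_mono _ hP)
  obtain ⟨c, hc, h4, h5⟩ := h1.conj h3
  rw [← cs_mul] at h4
  rw [← cj_mul] at h5
  exact ⟨(c * x⁻¹)⁻¹, (stab _ _).inv_mem ⟨⟨H.mul_mem hc.1 hx'.1.1, mem_No.2 h4⟩, h5⟩, c, hc,
    by group⟩

theorem IsMP.nilp_iff_of_comm (hm : IsMP p H B P e) (hP : P ≤ Ce P) :
    IsNilp p H B ↔ stab (H ⊓ No P) e ≤ Ce P := by
  constructor
  · intro hn x hx
    obtain ⟨s, hs⟩ := exists_isPPart p x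
    have h1 := hn.2 P e hm.bp hm.eq _ (Subgroup.mul_mem _ (Subgroup.inv_mem _ (hs.mem hx)) hx)
      hs.preg
    have h2 : s ∈ Ce P := sup_le hP inf_le_right (hm.le_sup hs.isPGroup
      (Subgroup.zpowers_le.2 (hs.mem hx)) (Subgroup.mem_zpowers s))
    simpa using (Ce P).mul_mem h2 h1
  · intro h
    refine hm.nilp_of_forall fun Q f hf x hx _ => ?_
    obtain ⟨y, hy, c, hc, rfl⟩ := hm.exists_mul_of_le_Ce hf (hP.trans (Ce_anti hf.le)) hx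
    exact (Ce Q).mul_mem (Ce_anti hf.le (h hy)) hc.2

omit [IsAlgClosed k] in
theorem IsBP.nsub_sup (hf : IsBP p H Q f) (hg : IsBP p (H ⊓ Ce Q) R g) (h : Br R f * g = g) :
    NSub p H Q f (R ⊔ Q) g := by
  have h1 : R ≤ H ⊓ No Q := hg.le.trans (inf_Ce_le_inf_No H Q)
  refine ⟨isPGroup_sup hg.pg hf.pg (h1.trans inf_le_right),
    _root_.sup_le (h1.trans inf_le_left) hf.le, hf.blk, ?_, le_sup_right,
    _root_.sup_le (h1.trans inf_le_right) (le_No Q),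
    mem_inv_sup.2 ⟨inv_anti hg.le hf.blk.inv, hf.mem_inv⟩, by rwa [← Br_Br, hf.Br_self]⟩
  rw [Ce_sup, inf_comm (Ce R), ← inf_assoc]; exact hg.blk

omit [IsAlgClosed k] in
theorem IsNilp.local (hn : IsNilp p H B) (hf : IsBP p H Q f) (hBf : Br Q B * f = f) :
    IsNilp p (H ⊓ Ce Q) f := by
  refine ⟨hf.blk, fun R g hg h x hx hxp => ?_⟩
  have h1 := hf.nsub_sup hg h
  exact Ce_anti le_sup_left (hn.2 _ g h1.right
    ((h1.ple.Br_mul_iff_Z h1.leH hn.1.mem hn.1.idem).2 hBf) x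
    ⟨⟨hx.1.1.1, No_sup_le _ _ ⟨hx.1.2, Ce_le_No Q hx.1.1.2⟩⟩, hx.2⟩ hxp)

theorem IsMP.isDef_Ce_of_nilp (hm : IsMP p H B P e) (hn : IsNilp p H B) (h : PLe p H Q f P e) :
    IsDef p (H ⊓ Ce Q) f (P ⊓ Ce Q) := by
  rw [← inf_inf_Ce hm.bp.le]
  refine (hm.isDef_inf_iff h (inf_Ce_le_inf_No H Q) (h.left hm.bp).blk).2 fun x hx h1 => ?_
  obtain ⟨s, hs, h2⟩ := hm.nilp_iff_inner.1 hn Q x ((h.fus_iff hm.bp).2 ⟨hx, h1⟩)
  have h3 : Blk.cs x Q = Blk.cs s Q := by rw [← img_eq_cs h2, Fusion.img_conj]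
  rw [cs_inf_Ce hx, h3, ← cs_inf_Ce (hm.bp.le hs), ← card_cs s (P ⊓ (H ⊓ Ce Q)), cs_inf s P,
    cs_eq_of_mem hs]

omit [IsAlgClosed k] in
theorem isNilp_of_forall_le (hf : IsBlock K f) (hQ : IsPGroup p Q) (hK : K ≤ Q ⊔ Ce Q)
    (h : ∀ R ≤ K, IsPGroup p R → Br R f ≠ 0 → R ≤ Q) : IsNilp p K f := by
  refine ⟨hf, fun R g hg h1 x hx hxp => ?_⟩
  have h2 := h R hg.le hg.pg (Br_ne_zero_of_mul_eq hg.blk.ne h1)
  obtain ⟨s, hs, c, hc, rfl⟩ := exists_mul_of_mem_sup ((le_No Q).trans (No_le_No_Ce Q)) (hK hx.1.1)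
  refine mem_Ce_of_preg_of_conj_eq hxp (pelt_of_mem hQ hs) hx.1.2 fun u hu => ?_
  conv_rhs => rw [← conj_eq_of_mem_Ce hc (h2 hu)]
  group

end Cfsg.Agent.Blk
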