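import Cfsg.Agent.Lib.Block.Prime

/-! Small characters of groups with uniform centralizers (Brauer-Leonard). -/

set_option autoImplicit false

namespace Cfsg.Agent.Blk

open MonoidAlgebra
open Cfsg.Agent.Char hiding cj cj_mul cj_inv_cj cj_cj_inv sum_cj_eq om
open scoped ComplexConjugate Classical

section
variable {W : Type*} [Group W] [Fintype W] {f g : W → ℂ} {E F : Subgroup (MulAut W)}

theorem classInner_off (h : ∀ u, u ≠ 1 → f u = g u) (l : W →* ℂˣ) :
    classInner f (lc l) = classInner g (lc l) + (f 1 - g 1) / Nat.card W := by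
  have : f = g + ((f 1 - g 1) / Nat.card W) • regChar W := funext fun u => by
    by_cases hu : u = 1
    · rw [hu, Pi.add_apply, Pi.smul_apply, regChar_one, smul_eq_mul,
        div_mul_cancel₀ _ (card_ne_zero' W), add_sub_cancel]
    · simp [regChar_of_ne hu, h u hu]
  conv_lhs => rw [this]
  rw [classInner_add_left, classInner_smul_left, classInner_regChar_left]
  simp

theorem exists_nat_of_const (hc : ∀ a b : W, a * b = b * a) (hf : IsCharacter W f) {c : ℂ}
    (h : ∀ u, u ≠ 1 → f u = c) {u : W} (hu : u ≠ 1) :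
    ∃ a m : ℕ, c = a - m ∧ f 1 = c + m * Nat.card W ∧ classInner f (fun _ => 1) = a := by
  obtain ⟨l, hl⟩ := exists_lc_ne_one hc hu
  obtain ⟨a, ha⟩ := hf.classInner_eq_nat isCharacter_one
  obtain ⟨m, hm⟩ := hf.classInner_eq_nat (isIrr_lc l).isCharacter
  have h1 : ∀ l, classInner f (lc l) = c * (if 1 = l then 1 else 0) + (f 1 - c) / Nat.card W :=
    fun l => by
      rw [classInner_off (g := c • lc 1) (by simpa using h) l, classInner_smul_left, classInner_lc]
      simp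
  have h2 := h1 1
  rw [h1, if_neg hl.symm, mul_zero, zero_add] at hm
  rw [lc_one, ha, hm, if_pos rfl, mul_one] at h2
  refine ⟨a, m, by rw [h2]; ring, ?_, ha⟩
  rw [← hm, div_mul_cancel₀ _ (card_ne_zero' W), add_sub_cancel]

theorem eq_of_const (hc : ∀ a b : W, a * b = b * a) (hf : IsCharacter W f) {c : ℂ}
    (h : ∀ u, u ≠ 1 → f u = c) {n : ℕ} (hn : f 1 = n) (h1 : n + 1 < Nat.card W) (u : W) :
    f u = f 1 := by
  by_cases hu : u = 1
  · rw [hu]
  obtain ⟨a, m, h2, h3, -⟩ := exists_nat_of_const hc hf h hu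
  rw [hn, h2] at h3
  have h4 : (n : ℤ) = a - m + m * Nat.card W := by exact_mod_cast h3
  obtain rfl : m = 0 := by
    by_contra h5
    have : (1 : ℤ) ≤ m := by omega
    have h6 : (n : ℤ) + 1 < Nat.card W := by exact_mod_cast h1
    nlinarith
  rw [h u hu, hn, h3, h2]; simp

theorem eta_bot (l : W →* ℂˣ) (u : W) : eta ⊥ l u = l u := by
  rw [eta_eq_finsum, show {m | Orb ⊥ l m} = {l} from Set.ext fun m => ⟨fun ⟨σ, h1, h2⟩ => by
    rw [Subgroup.mem_bot.1 h1] at h2; exact h2.symm, fun h => h ▸ Orb.refl _⟩, finsum_mem_singleton]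

omit [Fintype W] in
theorem Orb.mono (h : E ≤ F) {l m : W →* ℂˣ} (h1 : Orb E l m) : Orb F l m := by
  obtain ⟨σ, h2, h3⟩ := h1
  exact ⟨σ, h h2, h3⟩

end

variable {G : Type*} [Group G] [Finite G] {M : Ideal AlgInt} {p : ℕ} [PMod M p]
  {B : Set (IrrCharacter G)} {P : Subgroup G} {e : (kk M)[G]} {θ φ : G → ℂ}
  {χ ψ : IrrCharacter G} {u v : P} {l m : P →* ℂˣ}

theorem UC.exists_mp (hU : UC P) (hP : IsSyl p P ⊤) (hB : IsPBlock M B) (hχ : χ ∈ B) (hu : u ≠ 1)
    (h : χ.1 u ≠ 0) : ∃ e : (kk M)[G], MP p B P e := by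
  haveI : Fact p.Prime := ⟨PMod.prime M⟩
  have h1 := Br_ne_zero_of_apply_ne_zero hB.isUB hχ (isPPart_self (pelt_of_mem hP.pg u.2)) h
  rw [Br, Ce_zpowers, hU.eq hu] at h1
  obtain ⟨D, h2, h3⟩ := hB.isBlock.exists_isDef_ge le_top hP.pg h1
  exact hB.exists_mp (hP.max D le_top h2.pg h3 ▸ h2)

omit [PMod M p] in
theorem IsSyl.exists_conj_sing [Fact p.Prime] (hP : IsSyl p P ⊤) {g : G} (hg : p ∣ orderOf g) :
    ∃ x, ∃ u : P, u ≠ 1 ∧ IsPPart p (x * g * x⁻¹) u := by
  obtain ⟨y, hy⟩ := exists_isPPart p g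
  obtain ⟨x, -, hx⟩ := hP.exists_cs_le hy.isPGroup le_top
  refine ⟨x, ⟨_, hx (conj_mem_cs.2 (Subgroup.mem_zpowers y))⟩, fun h => ?_, hy.conj x⟩
  exact hy.eq_one_iff.1 (by simpa using congrArg Subtype.val h) hg

theorem UC.apply_sing (hU : UC P) (hP : IsSyl p P ⊤) (hψ : ψ ∈ principalBlock M G) {c : ℂ}
    (h : ∀ u : P, u ≠ 1 → ψ.1 u = c) {g : G} (hg : p ∣ orderOf g) : ψ.1 g = c := by
  haveI : Fact p.Prime := ⟨PMod.prime M⟩
  obtain ⟨x, u, hu, h1⟩ := hP.exists_conj_sing hg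
  rw [← ψ.2.isClassFunction.apply_conj g x, (hU.fa0 M hP).apply_principal h1 u.2 (coe_ne_one hu) hψ,
    h u hu]

omit [PMod M p] in
theorem classInner_of_sing [Fintype G] (hθ : reg p θ = 0) {c : ℂ}
    (h : ∀ g, p ∣ orderOf g → φ g = c) : classInner θ φ = conj c * classInner θ fun _ => 1 := by
  rw [← classInner_smul_right, classInner, classInner]
  refine congrArg _ (Finset.sum_congr rfl fun g _ => ?_)
  by_cases hg : p ∣ orderOf g
  · simp [h g hg]
  · rw [← reg_of_preg (θ := θ) hg, hθ]; simp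

omit [PMod M p] in
theorem classInner_mul_sub [Fintype G] {χ' : IrrCharacter G} (h1 : χ' ≠ χ)
    (h2 : reg p χ'.1 = reg p χ.1) {c : ℤ} (h : ∀ g, p ∣ orderOf g → φ g = c) :
    classInner (χ.1 * fun g => conj (χ.1 g)) φ - classInner (χ'.1 * fun g => conj (χ.1 g)) φ = c := by
  rw [← classInner_sub_left, classInner_of_sing (p := p) _ h, classInner_sub_left,
    classInner_mul_left, classInner_mul_left]
  · have : ((fun g => conj (conj (χ.1 g))) * fun _ => (1 : ℂ)) = χ.1 := by ext; simp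
    rw [this, classInner_irr, classInner_irr, if_pos rfl, if_neg h1]; simp
  · funext g
    by_cases hg : p ∣ orderOf g
    · exact reg_of_dvd hg
    · have := congrFun h2 g
      rw [reg_of_preg hg, reg_of_preg hg] at this
      simp [reg_of_preg hg, this]

omit [PMod M p] in
theorem eq_irrOne_of_le (hK : ∀ K : Subgroup G, K.Normal → P ≤ K → K = ⊤)
    (h : ∀ u : P, ψ.1 u = ψ.1 1) : ψ = irrOne G := by
  have h1 := hK _ ψ.2.isCharacter.normal_charKer fun x hx => ψ.2.isCharacter.mem_charKer.2 (h ⟨x, hx⟩)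
  have := Fintype.ofFinite G
  by_contra h2
  have h3 := classInner_irr ψ (irrOne G)
  rw [if_neg h2, coe_irrOne, classInner_one_right, Finset.sum_congr rfl fun g _ =>
    ψ.2.isCharacter.mem_charKer.1 (h1 ▸ Subgroup.mem_top g)] at h3
  simp [ψ.2.apply_one_ne_zero] at h3

variable [Fintype P] {δ d : ℤ} {ζ : (P →* ℂˣ) → IrrCharacter G} {a : IrrCharacter G → ℤ}

theorem MP.exists_exc_of_not_const (h : MP p B P e) (hU : UC P) (hP : IsSyl p P ⊤)
    (hx : EXC B (autE P e) (fun χ => DU p P e χ.1) δ d ζ a) (hχ : χ ∈ B)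
    (h1 : ∀ c, ¬ ∀ u : P, u ≠ 1 → χ.1 u = c) :
    χ ∈ excSet ζ ∧ ¬ ∀ l m, l ≠ 1 → m ≠ 1 → Orb (autE P (e0 M P)) l m := by
  have h2 : χ ∈ excSet ζ := by
    by_contra h2
    exact h1 _ fun u hu => (eq_inv_mul_iff_mul_eq₀ (card_ne_zero' _)).2
      (h.apply_nexc hU hP hx hχ h2 hu)
  refine ⟨h2, fun h3 => ?_⟩
  obtain ⟨l, hl, rfl⟩ := mem_excSet.1 h2
  exact h1 _ fun u hu => (eq_inv_mul_iff_mul_eq₀ (card_ne_zero' _)).2
    (by rw [h.apply_exc hU hP hx hl hu, eta_of_orb (comm_of_le_Ce hU.comm) h3 hl hu])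

theorem brauer_leonard (M : Ideal AlgInt) [PMod M p] (hU : UC P) (hP : IsSyl p P ⊤)
    (hK : ∀ K : Subgroup G, K.Normal → P ≤ K → K = ⊤) (h1 : χ ≠ irrOne G)
    (h2 : charDegree χ.1 ^ 2 + 1 < Nat.card P) : No P ≤ Ce P ∧ charDegree χ.1 = 1 := by
  haveI : Fact p.Prime := ⟨PMod.prime M⟩
  have hc := comm_of_le_Ce hU.comm
  have k0 := Nat.one_le_iff_ne_zero.2 (charDegree_ne_zero χ)
  have k1 : ∀ ψ : IrrCharacter G, charDegree ψ.1 ≤ charDegree χ.1 ^ 2 → ∀ c,
      (∀ u : P, u ≠ 1 → ψ.1 u = c) → ψ = irrOne G := fun ψ h c h3 => eq_irrOne_of_le hK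
    (eq_of_const hc (ψ.2.isCharacter.res P) h3 (cast_deg ψ).symm (by omega))
  have k2 : ∀ c, ¬ ∀ u : P, u ≠ 1 → χ.1 u = c := fun c h => h1 (k1 χ (by nlinarith) c h)
  obtain ⟨u, hu, h3⟩ : ∃ u : P, u ≠ 1 ∧ χ.1 u ≠ 0 := by
    have := k2 0; push Not at this; exact this
  have h0 : P ≠ ⊥ := fun h => hu (Subtype.ext ((Subgroup.eq_bot_iff_forall _).1 h _ u.2))
  obtain ⟨e, hm⟩ := hU.exists_mp hP (isPBlock_blockOf (M := M) χ) (mem_blockOf_self χ) hu h3
  have hd := hm.exd_uc hU h0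
  obtain ⟨δ, d, ζ, a, hx⟩ := hd.exists_exc hm.blk.nonempty
  obtain ⟨h4, h5⟩ := hm.exists_exc_of_not_const hU hP hx (mem_blockOf_self χ) k2
  obtain ⟨χ', h6, h7⟩ := Finset.exists_mem_ne (not_le.1 fun h => h5 fun l m hl hm =>
    (hx.orb_of_card h l m hl hm).mono (autE_le e)) χ
  have h8 := hx.reg_eq' hd h6 h4
  have hf := hU.fa0 M hP
  have hd0 := hf.exd_principal
  obtain ⟨δ₀, d₀, ζ₀, a₀, hx₀⟩ := hd0.exists_exc hf.blk.nonempty
  have k3 : 1 < (excSet ζ₀).card := not_le.1 fun h => h5 (hx₀.orb_of_card h)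
  have k4 : irrOne G ∉ excSet ζ₀ := hx₀.notMem_of_const k3 (c := 1) fun _ _ => rfl
  have k5 : fs (principalBlock M G) \ excSet ζ₀ = {irrOne G} := by
    refine Finset.eq_singleton_iff_unique_mem.2 ⟨Finset.mem_sdiff.2
      ⟨mem_fs.2 irrOne_mem_principal, k4⟩, fun ψ hψ => ?_⟩
    rw [Finset.mem_sdiff, mem_fs] at hψ
    have := Fintype.ofFinite G
    have h9 := hx₀.nexc ψ hψ.1 (notMem_excSet.1 hψ.2)
    have h10 := classInner_mul_sub h7 h8 fun g => hU.apply_sing hP hψ.1 h9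
    have h11 : ∀ ξ : IrrCharacter G, ξ.1 1 = χ.1 1 →
        classInner (ξ.1 * fun g => conj (χ.1 g)) ψ.1 ≠ 0 → ψ = irrOne G := fun ξ h11 h12 => by
      have h13 := ξ.2.isCharacter.mul χ.2.isCharacter.conj
      obtain ⟨n, hn⟩ := h13.classInner_eq_nat ψ.2.isCharacter
      have h14 := h13.mul_degree_le ψ.2 hn (cast_deg ψ).symm (n := charDegree χ.1 ^ 2)
        (by simp [h11, ← cast_deg, sq])
      have h15 : n ≠ 0 := fun h => h12 (by rw [hn, h, Nat.cast_zero])
      exact k1 ψ (le_trans (Nat.le_mul_of_pos_left _ (Nat.pos_of_ne_zero h15)) h14) _ h9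
    by_contra h12
    rw [not_not.1 (mt (h11 χ rfl) h12), not_not.1 (mt (h11 χ' (by
      simpa [reg_of_preg preg_one] using congrFun h8 1)) h12), sub_zero] at h10
    exact hx₀.a_ne hd0 hu hψ.1 hψ.2 (by exact_mod_cast h10.symm)
  obtain ⟨l, hl, rfl⟩ := mem_excSet.1 h4
  have k6 : a₀ (irrOne G) = 1 := by
    exact_mod_cast (hx₀.nexc _ irrOne_mem_principal (notMem_excSet.1 k4) u hu).symm.trans
      (irrOne_apply _)
  have k7 := hx₀.norm_eq hd0 hl
  have k8 := congrFun (hx₀.reg_rel hd0 hl) 1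
  rw [k5, Finset.sum_singleton, k6] at k7 k8
  simp only [Pi.add_apply, Pi.smul_apply, reg_of_preg preg_one, ← cast_deg, smul_eq_mul,
    Pi.zero_apply] at k8
  rw [cast_deg (irrOne G), irrOne_apply] at k8
  have k9 : (((excSet ζ₀).card : ℤ) * d₀ - δ₀) * charDegree (ζ₀ l).1 = -1 := by
    have : ((((excSet ζ₀).card : ℤ) * d₀ - δ₀) * charDegree (ζ₀ l).1 + 1 : ℤ) = 0 := by
      exact_mod_cast k8
    omega
  have k10 : Nat.card (autE P (e0 M P)) = 1 := by
    have h10 : (2 : ℤ) ≤ (excSet ζ₀).card := by exact_mod_cast k3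
    have h9 : ((excSet ζ₀).card : ℤ) * d₀ - δ₀ = -1 := by
      rcases Int.eq_one_or_neg_one_of_mul_eq_neg_one' k9 with h | h
      · omega
      · exact h.1
    rcases hx₀.sign with rfl | rfl
    · obtain rfl : d₀ = 0 := (mul_eq_zero.1 (by omega : ((excSet ζ₀).card : ℤ) * d₀ = 0)).resolve_left
        (by omega)
      omega
    · obtain rfl : d₀ = -1 := by
        have : d₀ < 0 := by nlinarith
        have : -2 < d₀ := by nlinarith
        omega
      omega
  have k11 : autE P (e0 M P) = ⊥ := Subgroup.card_eq_one.1 k10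
  have k12 : autE P e = ⊥ := le_bot_iff.1 (k11 ▸ autE_le e)
  refine ⟨Subgroup.relIndex_eq_one.1 (card_autE_principal.symm.trans k10), ?_⟩
  by_contra h9
  have h10 := hx.norm_eq hd hl
  have h11 := hx.card_exc hd
  have h12 : Nat.card (autE P e) = 1 := Subgroup.card_eq_one.2 k12
  rw [h12] at h10 h11
  obtain rfl : d = 0 := by
    have h13 : 0 ≤ ∑ χ ∈ fs (blockOf M (ζ l).1) \ excSet ζ, a χ ^ 2 := by positivity
    have h14 : 4 ≤ charDegree (ζ l).1 ^ 2 := by nlinarith [lt_of_le_of_ne k0 (Ne.symm h9)]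
    have h15 : (5 : ℤ) ≤ (excSet ζ).card := by omega
    by_contra h16
    have := (one_le_sq_iff_one_le_abs d).2 (Int.one_le_abs h16)
    push_cast at h10
    nlinarith [sq_nonneg (d - δ), mul_le_mul_of_nonneg_left this (by omega : 0 ≤ ((excSet ζ).card : ℤ) - 1)]
  have h13 : ∀ u : P, (ζ l).1 u * conj (l u : ℂ) = (ζ l).1 1 := fun u => by
    have := eq_of_const hc (((ζ l).2.isCharacter.res P).mul (isIrr_lc l).isCharacter.conj)
      (c := cdg p P e * δ) (n := charDegree (ζ l).1) (fun v hv => by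
        have := hm.apply_exc hU hP hx hl hv
        rw [h12, k11, eta_bot] at this
        simp only [Nat.cast_one, one_mul, Int.cast_zero, mul_zero, zero_add] at this
        simp only [Pi.mul_apply, this, mul_assoc, lc_mul_conj, mul_one]) (by simp [cast_deg]) (by nlinarith) u
    simpa using this
  have h14 := hK _ (ζ l).2.isClassFunction.normal_charCenter fun x hx =>
    (ζ l).2.isCharacter.mem_charCenter.2 (by
      rw [← h13 ⟨x, hx⟩, norm_mul, Complex.norm_conj, norm_units_hom, mul_one])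
  have := (ζ l).2.degree_sq_le_index h14.ge (cast_deg _).symm
  rw [Subgroup.index_top] at this
  nlinarith [lt_of_le_of_ne k0 (Ne.symm h9)]

omit [PMod M p] [Fintype P]

omit [Finite G] in
theorem UC.subgroupOf (hU : UC P) (K : Subgroup G) (h : P ≤ K) : UC (P.subgroupOf K) :=
  fun u hu h1 => Subgroup.ext fun x => by
    rw [mem_Ce1, Subtype.ext_iff, Subgroup.coe_mul, Subgroup.coe_mul, ← mem_Ce1,
      hU u hu fun h => h1 (Subtype.ext h), mem_Ce, mem_Ce]
    exact ⟨fun h2 y hy => Subtype.ext (h2 y hy), fun h2 y hy =>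
      congrArg Subtype.val (h2 ⟨y, h hy⟩ hy)⟩

omit [Finite G] in
theorem IsSyl.subgroupOf_top (hP : IsSyl p P ⊤) (K : Subgroup G) (h : P ≤ K) :
    IsSyl p (P.subgroupOf K) ⊤ := by
  obtain ⟨S, rfl⟩ := (hP.of_le h le_top).exists_sylow
  rw [Subgroup.subgroupOf, Subgroup.comap_map_eq_self_of_injective K.subtype_injective]
  exact isSyl_sylow S

theorem IsSyl.normal_of [Fact p.Prime] (hP : IsSyl p P ⊤) {K : Subgroup G} [K.Normal] (h : P ≤ K)
    (h1 : (P.subgroupOf K).Normal) : P.Normal := normal_of_top_le_No fun g _ => by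
  have h2 := (hP.of_le h le_top).cs g
  rw [cs_normal g K] at h2
  exact mem_No.2 (Subgroup.eq_of_le_of_card_ge (h2.ge_of_le_No hP.pg h
    ((Subgroup.normal_subgroupOf_iff_le_normalizer h).1 h1)) (card_cs g P).le).symm

universe u in
theorem normal_of_faithful [Fact p.Prime] {c n : ℕ} (H : ∀ (G : Type u) [Group G] [Finite G]
    (P : Subgroup G), IsSyl p P ⊤ → UC P → Nat.card P = c →
      (∀ K : Subgroup G, K.Normal → P ≤ K → K = ⊤) → ∀ χ : IrrCharacter G, charDegree χ.1 ≤ n →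
        charDegree χ.1 = 1) (G : Type u) [Group G] [Finite G] (P : Subgroup G) (h1 : IsSyl p P ⊤)
    (h2 : UC P) (h3 : Nat.card P = c) {χ : G → ℂ} (h4 : IsCharacter G χ)
    (h5 : ∀ g, χ g = χ 1 → g = 1) (h6 : charDegree χ ≤ n) : P.Normal := by
  induction hn : Nat.card G using Nat.strong_induction_on generalizing G with
  | _ k ih =>
    by_cases hK : ∀ K : Subgroup G, K.Normal → P ≤ K → K = ⊤
    · have := Fintype.ofFinite G
      refine ⟨fun x hx g => ?_⟩
      have h7 : g * x * g⁻¹ * x⁻¹ = 1 := h5 _ (h4.mem_charKer.1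
        (h4.mem_charKer_of_forall_constituent fun ψ hψ h7 => ?_))
      · rwa [mul_inv_eq_one.1 h7]
      obtain ⟨m, hm⟩ := h4.classInner_eq_nat hψ.isCharacter
      have h8 := h4.mul_degree_le hψ hm hψ.isCharacter.cast_charDegree.symm h4.cast_charDegree.symm
      have h9 := H G P h1 h2 h3 hK ⟨ψ, hψ⟩ (((Nat.le_mul_of_pos_left _ (Nat.pos_of_ne_zero
        fun h => h7 (by rw [hm, h, Nat.cast_zero]))).trans h8).trans h6)
      obtain ⟨l, rfl⟩ := hψ.isCharacter.exists_units_of_apply_one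
        (by rw [← hψ.isCharacter.cast_charDegree, h9, Nat.cast_one])
      rw [hψ.isCharacter.mem_charKer]
      simp [mul_comm (l g : ℂ)]
    · push Not at hK
      obtain ⟨K, h7, h8, h9⟩ := hK
      refine h1.normal_of h8 (ih _ ?_ K _ (h1.subgroupOf_top K h8) (h2.subgroupOf K h8)
        ((Nat.card_congr (Subgroup.subgroupOfEquivOfLe h8).toEquiv).trans h3) (h4.res K)
        (fun g hg => Subtype.ext (h5 _ hg)) h6 rfl)
      exact hn ▸ lt_of_le_of_ne (Subgroup.card_le_card_group K) (mt (Subgroup.card_eq_iff_eq_top K).1 h9)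

end Cfsg.Agent.Blk
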