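import Cfsg.Agent.Lib.Char.LinChar
import Cfsg.Agent.Lib.Char.Kernel

/-! Jordan's theorem on finite linear groups (Frobenius' argument). -/

set_option autoImplicit false

namespace Cfsg.Agent.Blk

open Cfsg.Agent.Char
open scoped ComplexConjugate commutatorElement
attribute [local instance] _root_.Classical.propDecidable

variable {G : Type*} [Group G] {E : Type*} [NormedAddCommGroup E] [InnerProductSpace ℂ E]

/-- faithful unitary representations -/
structure Unit (u : G →* (E →L[ℂ] E)) : Prop where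
  inner : ∀ g v w, inner ℂ (u g v) (u g w) = inner ℂ v w
  inj : Function.Injective u

theorem exists_unit_aux {V : Type*} [AddCommGroup V] [Module ℂ V] [FiniteDimensional ℂ V]
    (ρ : Representation ℂ G V) (hρ : Function.Injective ρ) (ε : V ≃ₗ[ℂ] E)
    (h : ∀ g v w, inner ℂ (ε (ρ g v)) (ε (ρ g w)) = inner ℂ (ε v) (ε w)) :
    ∃ u : G →* (E →L[ℂ] E), Unit u := by
  have := ε.finiteDimensional
  refine ⟨⟨⟨fun g => LinearMap.toContinuousLinearMap (transport ρ ε g), by
    ext; simp⟩, fun a b => by ext; simp⟩, ⟨fun g v w => ?_, fun a b hab => hρ ?_⟩⟩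
  · obtain ⟨v, rfl⟩ := ε.surjective v
    obtain ⟨w, rfl⟩ := ε.surjective w
    simpa [transport_apply] using h g v w
  · refine LinearMap.ext fun v => ε.injective ?_
    simpa [transport_apply] using congrArg (fun f => f (ε v)) hab

theorem exists_unit [Finite G] {χ : G → ℂ} (hχ : IsCharacter G χ) (h : ∀ g, χ g = χ 1 → g = 1) :
    ∃ (m : ℕ) (E : Submodule ℂ (EuclideanSpace ℂ (Fin m))) (u : G →* (E →L[ℂ] E)),
      Unit (E := E) u ∧ Module.finrank ℂ E = charDegree χ := by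
  obtain ⟨n, ρ, rfl⟩ := hχ
  have := Fintype.ofFinite G
  obtain ⟨m, ⟨e⟩⟩ := Finite.exists_equiv_fin (G × Fin n)
  obtain ⟨ι, h1⟩ : ∃ ι : (Fin n → ℂ) →ₗ[ℂ] EuclideanSpace ℂ (Fin m),
      ∀ v j, ι v j = ρ (e.symm j).1 v (e.symm j).2 :=
    ⟨(WithLp.linearEquiv 2 ℂ _).symm.toLinearMap ∘ₗ
      LinearMap.pi fun j => LinearMap.proj (e.symm j).2 ∘ₗ ρ (e.symm j).1, fun _ _ => rfl⟩
  have h2 : Function.Injective ι := fun v w h => funext fun i => by
    have := congrArg (fun x => x (e (1, i))) h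
    simpa [h1] using this
  obtain ⟨u, hu⟩ := exists_unit_aux (E := LinearMap.range ι) ρ ((injective_iff_map_eq_one _).2 fun g hg => h g (by
    simp [Representation.character, hg])) (LinearEquiv.ofInjective ι h2) fun g v w => by
      simp only [Submodule.coe_inner, LinearEquiv.ofInjective_apply, PiLp.inner_apply, h1]
      exact Fintype.sum_equiv
        (e.symm.trans (((Equiv.mulRight g).prodCongr (Equiv.refl _)).trans e)) _ _ fun j => by simp
  refine ⟨m, _, u, hu, ?_⟩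
  rw [← (LinearEquiv.ofInjective ι h2).finrank_eq]
  simp [charDegree, Representation.character]

theorem norm_sum_sq {ι : Type*} [Fintype ι] {w : ι → E}
    (h : Pairwise fun i j => inner ℂ (w i) (w j) = 0) : ‖∑ i, w i‖ ^ 2 = ∑ i, ‖w i‖ ^ 2 := by
  rw [← inner_self_eq_norm_sq (𝕜 := ℂ), sum_inner, map_sum]
  refine Finset.sum_congr rfl fun i _ => ?_
  rw [inner_sum, Finset.sum_eq_single i (fun j _ hj => h hj.symm) (by simp), inner_self_eq_norm_sq]

/-- projections onto weight spaces -/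
noncomputable def wp (u : G →* (E →L[ℂ] E)) (H : Subgroup G) [Fintype H] (l : H →* ℂˣ) :
    E →L[ℂ] E := (Nat.card H : ℂ)⁻¹ • ∑ h : H, (l h⁻¹ : ℂ) • u h

theorem sum_wp (u : G →* (E →L[ℂ] E)) {H : Subgroup G} [Fintype H]
    (hH : ∀ a b : H, a * b = b * a) (v : E) : ∑ l, wp u H l v = v := by
  have : ∑ l, wp u H l = 1 := by
    simp only [wp]
    rw [← Finset.smul_sum, Finset.sum_comm]
    simp only [← Finset.sum_smul, sum_lc hH, inv_eq_one]
    rw [Finset.sum_eq_single 1 (fun b _ hb => by simp [hb]) (by simp)]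
    simp [smul_smul]
  rw [← ContinuousLinearMap.sum_apply, this, ContinuousLinearMap.one_apply]

theorem apply_wp (u : G →* (E →L[ℂ] E)) {H : Subgroup G} [Fintype H] (l : H →* ℂˣ) (h : H) (v : E) :
    u h (wp u H l v) = (l h : ℂ) • wp u H l v := by
  have : u h * wp u H l = (l h : ℂ) • wp u H l := by
    simp only [wp]
    rw [mul_smul_comm, smul_comm (l h : ℂ)]
    congr 1
    rw [Finset.mul_sum, Finset.smul_sum]
    refine Fintype.sum_equiv (Equiv.mulLeft h) _ (fun x : H => (l h : ℂ) • (l x⁻¹ : ℂ) • u x)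
      fun x => ?_
    simp [smul_smul, mul_left_comm (l h : ℂ)]
  exact congrArg (fun f => f v) this

namespace Unit

variable {u : G →* (E →L[ℂ] E)} {g x y : G} {v w : E} {c d : ℂ}

theorem norm_apply (h : Unit u) (g : G) (v : E) : ‖u g v‖ = ‖v‖ := by
  rw [norm_eq_sqrt_re_inner (𝕜 := ℂ), h.inner, ← norm_eq_sqrt_re_inner]

theorem norm_le (h : Unit u) (g : G) : ‖u g‖ ≤ 1 :=
  ContinuousLinearMap.opNorm_le_bound _ zero_le_one fun v => by rw [h.norm_apply, one_mul]

theorem orth (h : Unit u) {a b : ℂ} (h1 : u g v = a • v) (h2 : u g w = b • w) (ha : ‖a‖ = 1)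
    (hab : a ≠ b) : Inner.inner ℂ v w = 0 := by
  have h3 := h.inner g v w
  rw [h1, h2, inner_smul_left, inner_smul_right] at h3
  have h4 : a * conj a = 1 := by rw [Complex.mul_conj', ha]; simp
  refine (mul_eq_zero.1 ?_).resolve_left (sub_ne_zero.2 hab)
  linear_combination -a * h3 + b * Inner.inner ℂ v w * h4

theorem norm_comm_le (h : Unit u) (x y : G) (c d : ℂ) :
    ‖u ⁅x, y⁆ - (1 : ℂ) • 1‖ ≤ 2 * ‖u x - c • 1‖ * ‖u y - d • 1‖ := by
  have h1 : u ⁅x, y⁆ - (1 : ℂ) • 1 = ((u x - c • 1) * (u y - d • 1) -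
      (u y - d • 1) * (u x - c • 1)) * u (x⁻¹ * y⁻¹) := by
    have h2 : (u x - c • 1) * (u y - d • 1) - (u y - d • 1) * (u x - c • 1) =
        u (x * y) - u (y * x) := by
      simp only [sub_mul, mul_sub, smul_mul_assoc, mul_smul_comm, one_mul, mul_one, smul_smul,
        mul_comm c d, map_mul, smul_sub]
      abel
    rw [h2, sub_mul, ← map_mul, ← map_mul, commutatorElement_def]
    simp [mul_assoc]
  rw [h1]
  refine (norm_mul_le _ _).trans ((mul_le_of_le_one_right (norm_nonneg _) (h.norm_le _)).trans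
    ((norm_sub_le _ _).trans ?_))
  linarith [norm_mul_le (u x - c • 1) (u y - d • 1), norm_mul_le (u y - d • 1) (u x - c • 1)]

theorem eq_zero_of_inner (h : Unit u) (hy : ‖u y - d • 1‖ < 1 / 2)
    (h1 : Inner.inner ℂ (u y v) v = 0) : v = 0 := by
  have h2 := (u y - d • 1).le_opNorm v
  have h3 := norm_add_sq_eq_norm_sq_add_norm_sq_of_inner_eq_zero (𝕜 := ℂ) (u y v) (-d • v)
    (by rw [inner_smul_right, h1, mul_zero])
  rw [neg_smul, ← sub_eq_add_neg, h.norm_apply] at h3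
  simp only [ContinuousLinearMap.sub_apply, ContinuousLinearMap.smul_apply,
    ContinuousLinearMap.one_apply] at h2
  by_contra h4
  have h5 := norm_pos_iff.2 h4
  have h6 : ‖u y v - d • v‖ < ‖v‖ := by nlinarith
  nlinarith [norm_nonneg (u y v - d • v), mul_self_nonneg ‖-(d • v)‖]

variable [Finite G]

theorem comm_of_comm (h : Unit u) (hy : ‖u y - d • 1‖ < 1 / 2) (h1 : Commute x ⁅x, y⁆) :
    Commute x y := by
  have h2 : Commute x (y * x * y⁻¹) := by
    have := ((Commute.refl x).inv_right.mul_right h1).inv_right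
    simpa [commutatorElement_def, mul_assoc] using this
  let H := Subgroup.closure {x, y * x * y⁻¹}
  have := Fintype.ofFinite H
  have h3 : IsMulCommutative H := Subgroup.isMulCommutative_closure (by
    rintro _ (rfl | rfl) _ (rfl | rfl) <;> first | rfl | exact h2.eq | exact h2.eq.symm)
  let a : H := ⟨x, Subgroup.subset_closure (by simp)⟩
  let b : H := ⟨y * x * y⁻¹, Subgroup.subset_closure (by simp)⟩
  have h4 : u a = u b := ContinuousLinearMap.ext fun v => by
    rw [← sum_wp u h3.is_comm.comm v, map_sum, map_sum]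
    refine Finset.sum_congr rfl fun l _ => ?_
    by_cases h5 : (l a : ℂ) = l b
    · rw [apply_wp, apply_wp, h5]
    have h0 : ∀ a b w, u a (u b w) = u (a * b) w := fun a b w => by rw [map_mul]; rfl
    have h6 : u y (u y⁻¹ (wp u H l v)) = wp u H l v := by simp [h0]
    have h7 : u x (u y⁻¹ (wp u H l v)) = (l b : ℂ) • u y⁻¹ (wp u H l v) := by
      rw [← map_smul, ← apply_wp, h0, h0]
      simp [b, mul_assoc]
    have h8 := h.eq_zero_of_inner hy (v := u y⁻¹ (wp u H l v))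
      (by rw [h6]; exact h.orth (apply_wp u l a v) h7 (norm_units_hom l a) h5)
    rw [← h6, h8]; simp
  exact mul_inv_eq_iff_eq_mul.1 (h.inj h4).symm |>.symm

theorem commute (h : Unit u) (hx : ‖u x - c • 1‖ < 1 / 2) (hy : ‖u y - d • 1‖ < 1 / 2) :
    Commute x y := by
  have h1 : ∀ y, ‖u y - (1 : ℂ) • 1‖ < 1 / 2 → Commute x y := by
    by_contra! h1
    obtain ⟨y, ⟨h2, h3⟩, h4⟩ := Set.exists_min_image
      {y | ‖u y - (1 : ℂ) • 1‖ < 1 / 2 ∧ ¬ Commute x y} (fun y => ‖u y - (1 : ℂ) • 1‖)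
      (Set.toFinite _) h1
    have h5 : 0 < ‖u y - (1 : ℂ) • 1‖ := norm_pos_iff.2 fun h5 => h3 (by
      rw [h.inj (show u y = u 1 by simpa [sub_eq_zero] using h5)]; exact Commute.one_right x)
    have h6 := h.norm_comm_le x y c 1
    have h7 : ‖u ⁅x, y⁆ - (1 : ℂ) • 1‖ < ‖u y - (1 : ℂ) • 1‖ := by nlinarith
    exact (h4 _ ⟨h7.trans h2, fun h8 => h3 (h.comm_of_comm h2 h8)⟩).not_gt h7
  refine h.comm_of_comm hy (h1 _ ((h.norm_comm_le x y c d).trans_lt ?_))
  nlinarith [norm_nonneg (u x - c • 1), norm_nonneg (u y - d • 1)]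

variable {H : Subgroup G} [Fintype H]

theorem orth_wp (h : Unit u) {l m : H →* ℂˣ} (hl : l ≠ m) (v w : E) :
    Inner.inner ℂ (wp u H l v) (wp u H m w) = 0 := by
  obtain ⟨a, ha⟩ := DFunLike.ne_iff.1 hl
  exact h.orth (apply_wp u l a v) (apply_wp u m a w) (norm_units_hom l a) (Units.val_injective.ne ha)

theorem card_wp_le [FiniteDimensional ℂ E] (h : Unit u) :
    Nat.card {l // wp u H l ≠ 0} ≤ Module.finrank ℂ E := by
  choose v hv using fun l : {l // wp u H l ≠ 0} => DFunLike.ne_iff.1 l.2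
  rw [Nat.card_eq_fintype_card]
  exact (linearIndependent_of_ne_zero_of_inner_eq_zero (𝕜 := ℂ) hv fun l m hl =>
    h.orth_wp (Subtype.coe_injective.ne hl) _ _).fintype_card_le_finrank

theorem norm_lt (h : Unit u) (hH : ∀ a b : H, a * b = b * a) {a : H} {r : ℝ} (hr : 0 < r)
    (h1 : ∀ l, wp u H l ≠ 0 → ‖(l a : ℂ) - c‖ < r) : ‖u a - c • 1‖ < r := by
  let s := (Finset.univ.filter fun l => wp u H l ≠ 0).fold max 0 fun l => ‖(l a : ℂ) - c‖
  have h2 : 0 ≤ s := (Finset.le_fold_max _).2 (Or.inl le_rfl)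
  refine (ContinuousLinearMap.opNorm_le_bound _ h2 fun v => ?_).trans_lt
    ((Finset.fold_max_lt _).2 ⟨hr, fun l hl => h1 l (Finset.mem_filter.1 hl).2⟩)
  refine (abs_le_of_sq_le_sq' ?_ (mul_nonneg h2 (norm_nonneg _))).2
  have h3 : (u a - c • 1) v = ∑ l, ((l a : ℂ) - c) • wp u H l v := by
    conv_lhs => rw [← sum_wp u hH v, map_sum]
    simp [apply_wp, sub_smul]
  rw [h3, norm_sum_sq fun l m hl => by simp [inner_smul_left, inner_smul_right, h.orth_wp hl],
    mul_pow]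
  conv_rhs => rw [← sum_wp u hH v, norm_sum_sq fun l m hl => h.orth_wp hl _ _, Finset.mul_sum]
  refine Finset.sum_le_sum fun l _ => ?_
  by_cases h4 : wp u H l = 0
  · simp [h4]
  rw [norm_smul, mul_pow]
  gcongr
  exact (Finset.le_fold_max _).2 (Or.inr ⟨l, by simpa using h4, le_rfl⟩)

end Unit

theorem norm_div_sub_lt {z w : ℂ} (hz : ‖z‖ = 1) (hw : ‖w‖ = 1)
    (h : ⌈z.arg / (Real.pi / 6)⌉ = ⌈w.arg / (Real.pi / 6)⌉) :
    ‖z⁻¹ * w - (Real.cos (Real.pi / 6) : ℂ)‖ < 1 / 2 := by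
  have h0 := Real.pi_pos
  have h1 : |w.arg - z.arg| < Real.pi / 6 := by
    have := Int.abs_sub_lt_one_of_floor_eq_floor (a := -(z.arg / (Real.pi / 6)))
      (b := -(w.arg / (Real.pi / 6))) (by rw [Int.floor_neg, Int.floor_neg, h])
    rw [neg_sub_neg] at this
    rwa [← sub_div, abs_div, abs_of_pos (a := Real.pi / 6) (by positivity),
      div_lt_one (by positivity)] at this
  have h2 : z⁻¹ * w = Complex.exp ((w.arg - z.arg : ℝ) * Complex.I) := by
    conv_lhs => rw [← Complex.norm_mul_exp_arg_mul_I z, ← Complex.norm_mul_exp_arg_mul_I w]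
    rw [hz, hw, Complex.ofReal_sub, sub_mul, Complex.exp_sub]
    simp [div_eq_inv_mul]
  have h3 := Real.cos_lt_cos_of_nonneg_of_le_pi (abs_nonneg _) (by linarith) h1
  rw [Real.cos_abs] at h3
  have h4 := Real.sq_cos_pi_div_six
  have h5 : 0 < Real.cos (Real.pi / 6) := by rw [Real.cos_pi_div_six]; positivity
  refine abs_lt_of_sq_lt_sq' ?_ (by norm_num) |>.2
  rw [h2, Complex.sq_norm, Complex.normSq_apply]
  simp only [Complex.sub_re, Complex.sub_im, Complex.ofReal_re, Complex.ofReal_im,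
    Complex.exp_ofReal_mul_I_re, Complex.exp_ofReal_mul_I_im]
  nlinarith [Real.sin_sq_add_cos_sq (w.arg - z.arg)]

theorem ceil_arg_mem (z : ℂ) : ⌈z.arg / (Real.pi / 6)⌉ ∈ Finset.Ioc (-6 : ℤ) 6 := by
  have h0 : 0 < Real.pi / 6 := by have := Real.pi_pos; positivity
  rw [Finset.mem_Ioc, Int.lt_ceil, Int.ceil_le, lt_div_iff₀ h0, div_le_iff₀ h0]
  push_cast
  constructor <;> linarith [Complex.neg_pi_lt_arg z, Complex.arg_le_pi z]

theorem Unit.jordan [Finite G] [FiniteDimensional ℂ E] {u : G →* (E →L[ℂ] E)} (hu : Unit u) :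
    ∃ A : Subgroup G, A.Normal ∧ (∀ x ∈ A, ∀ y ∈ A, x * y = y * x) ∧ ∀ H : Subgroup G,
      (∀ x ∈ H, ∀ y ∈ H, x * y = y * x) → (A.subgroupOf H).index ≤ 12 ^ Module.finrank ℂ E := by
  let S : Set G := {g | ∃ c : ℂ, ‖u g - c • 1‖ < 1 / 2}
  have h1 : IsMulCommutative (Subgroup.closure S) := Subgroup.isMulCommutative_closure
    fun x ⟨_, hx⟩ y ⟨_, hy⟩ => (hu.commute hx hy).eq
  refine ⟨Subgroup.closure S, ?_,
    fun x hx y hy => congrArg Subtype.val (h1.is_comm.comm (⟨x, hx⟩ : Subgroup.closure S) ⟨y, hy⟩),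
    fun H hH => ?_⟩
  · refine ⟨fun x hx g => Subgroup.closure_induction (p := fun x _ => g * x * g⁻¹ ∈
      Subgroup.closure S) (fun x hx => ?_)
      (by simp) (fun x y _ _ h1 h2 => by simpa [mul_assoc] using mul_mem h1 h2)
      (fun x _ h1 => by simpa [mul_assoc] using inv_mem h1) hx⟩
    obtain ⟨c, hx⟩ := hx
    refine Subgroup.subset_closure ⟨c, lt_of_le_of_lt ?_ hx⟩
    have : u (g * x * g⁻¹) - c • 1 = u g * (u x - c • 1) * u g⁻¹ := by
      rw [mul_sub, sub_mul, mul_smul_comm, smul_mul_assoc]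
      simp [← map_mul]
    rw [this]
    exact (norm_mul_le _ _).trans ((mul_le_of_le_one_right (norm_nonneg _) (hu.norm_le _)).trans
      ((norm_mul_le _ _).trans (mul_le_of_le_one_left (norm_nonneg _) (hu.norm_le _))))
  have := Fintype.ofFinite H
  obtain ⟨f, hf⟩ : ∃ f : H → {l // wp u H l ≠ 0} → Finset.Ioc (-6 : ℤ) 6,
      ∀ a l, (f a l : ℤ) = ⌈(l.1 a : ℂ).arg / (Real.pi / 6)⌉ :=
    ⟨fun a l => ⟨_, ceil_arg_mem (l.1 a)⟩, fun _ _ => rfl⟩
  refine (Nat.card_le_card_of_injective (fun q => f q.out) fun q q' h2 => ?_).trans ?_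
  · rw [← q.out_eq, ← q'.out_eq]
    refine QuotientGroup.eq.2 (Subgroup.mem_subgroupOf.2 (Subgroup.subset_closure
      ⟨(Real.cos (Real.pi / 6) : ℂ), hu.norm_lt (a := q.out⁻¹ * q'.out)
      (fun a b => Subtype.ext (hH _ a.2 _ b.2)) one_half_pos fun l hl => ?_⟩))
    have h3 := congrArg Subtype.val (congrFun h2 ⟨l, hl⟩)
    rw [hf, hf] at h3
    rw [map_mul, map_inv, Units.val_mul, Units.val_inv_eq_inv_val]
    exact norm_div_sub_lt (norm_units_hom _ _) (norm_units_hom _ _) h3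
  · rw [Nat.card_fun, Nat.card_eq_fintype_card (α := Finset.Ioc (-6 : ℤ) 6), Fintype.card_coe,
      Int.card_Ioc]
    exact Nat.pow_le_pow_right (n := 12) (by norm_num) hu.card_wp_le

theorem jordan [Finite G] {χ : G → ℂ} (hχ : IsCharacter G χ) (h : ∀ g, χ g = χ 1 → g = 1) :
    ∃ A : Subgroup G, A.Normal ∧ (∀ x ∈ A, ∀ y ∈ A, x * y = y * x) ∧ ∀ H : Subgroup G,
      (∀ x ∈ H, ∀ y ∈ H, x * y = y * x) → (A.subgroupOf H).index ≤ 12 ^ charDegree χ := by
  obtain ⟨m, E, u, hu, hE⟩ := exists_unit hχ h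
  exact hE ▸ Unit.jordan (E := E) hu

end Cfsg.Agent.Blk
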