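import Cfsg.Agent.Lib.Block.Dade
import Cfsg.Agent.Lib.Block.Gal

/-! Blocks whose defect group has uniform centralizers. -/

set_option autoImplicit false

namespace Cfsg.Agent.Blk

open MonoidAlgebra
open Cfsg.Agent.Char hiding cj cj_mul cj_inv_cj cj_cj_inv sum_cj_eq om
open scoped ComplexConjugate Classical

section
variable {G : Type*} [Group G] [Finite G] {p : ℕ} {P : Subgroup G}

omit [Finite G] in
/-- uniform centralizers -/
def UC (P : Subgroup G) : Prop := ∀ u ∈ P, u ≠ 1 → Ce1 u = Ce P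

omit [Finite G] in
theorem UC.comm (h : UC P) : P ≤ Ce P := fun u hu => by
  by_cases h1 : u = 1
  · rw [h1]; exact one_mem _
  · rw [← h u hu h1]; exact mem_Ce1.2 rfl

omit [Finite G] in
theorem UC.eq (h : UC P) {u : P} (hu : u ≠ 1) : Ce1 (u : G) = Ce P :=
  h u u.2 fun h => hu (Subtype.ext h)

theorem zpowers_eq_of_card [hp : Fact p.Prime] (h : Nat.card P = p) {u : G} (hu : u ∈ P)
    (h1 : u ≠ 1) : Subgroup.zpowers u = P := by
  have h2 := Subgroup.card_dvd_of_le (zpowers_le' hu)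
  rw [h, Nat.dvd_prime hp.out] at h2
  refine Subgroup.eq_of_le_of_card_ge (zpowers_le' hu) ?_
  rcases h2 with h2 | h2
  · exact absurd (Subgroup.card_eq_one.1 h2) (Subgroup.zpowers_ne_bot.2 h1)
  · rw [h, h2]

theorem uc_of_card [Fact p.Prime] (h : Nat.card P = p) : UC P := fun u hu h1 => by
  rw [← Ce_zpowers, zpowers_eq_of_card h hu h1]

omit [Finite G] in
theorem UC.mem (h : UC P) {t u : G} (hu : u ∈ P) (h1 : u ≠ 1) (h2 : t * u * t⁻¹ = u) :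
    t ∈ Ce P := h u hu h1 ▸ mem_Ce1.2 (mul_inv_eq_iff_eq_mul.1 h2)

omit [Finite G] in
theorem coe_ne_one {u : P} (hu : u ≠ 1) : (u : G) ≠ 1 := fun h => hu (Subtype.ext h)

end

variable {G : Type*} [Group G] [Finite G] {M : Ideal AlgInt} {p : ℕ} [PMod M p]
  {B : Set (IrrCharacter G)} {P : Subgroup G} {e : (kk M)[G]} {θ φ : G → ℂ}
  {χ ψ : IrrCharacter G} {u v : P} {l m : P →* ℂˣ}

theorem MP.fa_of_uc (h : MP p B P e) (hU : UC P) : FA p B P e :=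
  ⟨h, hU.comm, freeAut_autE_iff.2 fun _ _ _ hu h1 h2 => hU.mem hu h1 h2⟩

variable (M) in
theorem UC.fa0 (hU : UC P) (hP : IsSyl p P ⊤) : FA p (principalBlock M G) P (e0 M P) :=
  (mp_principal hP).fa_of_uc hU

variable (p) in
/-- degree of the canonical character -/
noncomputable def cdg (P : Subgroup G) (e : (kk M)[G]) : ℕ :=
  charDegree (hz p (cb M (Ce P) e)).1

theorem cdg_ne_zero : cdg p P e ≠ 0 := charDegree_ne_zero _

variable (p) in
/-- generalized decomposition numbers -/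
noncomputable def DU (P : Subgroup G) (e : (kk M)[G]) (θ : G → ℂ) (v : P) : ℂ :=
  ch θ (es (Ce P) (fC (cb M (Ce P) e)) * single (v : G) 1) / cdg p P e

theorem MP.isBlock_Ce (h : MP p B P e) : IsBlock (Ce P) e := (isBP_top_iff.1 h.bp).2

theorem MP.sb_eq_cb (h : MP p B P e) (hU : UC P) (hu : u ≠ 1) :
    sb p P e (u : G) = cb M (Ce1 (u : G)) e := by
  haveI : Fact p.Prime := ⟨PMod.prime M⟩
  have h1 := (h.sb_ple u.2).nsub h.bp (hU.comm.trans (by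
    rw [← hU.eq hu]; exact Ce1_le_No _))
  have h2 := (h.sb_blk u.2).isBlockS
  have h3 : IsBlock (Ce P) (barS M (Ce1 (u : G)) (sb p P e u)) := hU.eq hu ▸ h2
  have h4 := h1.eq
  rw [Br_of_mem_sup h3.sup] at h4
  rw [← (h.sb_blk u.2).cb_barS, h3.eq_of_mul_ne_zero h.isBlock_Ce
    (by rw [h4]; exact h.isBlock_Ce.ne)]

theorem MP.phi_sb_one (h : MP p B P e) (hU : UC P) (hu : u ≠ 1) :
    phi p (sb p P e (u : G)) 1 = cdg p P e := by
  haveI : Fact p.Prime := ⟨PMod.prime M⟩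
  rw [phi_one, h.sb_eq_cb hU hu, cdg,
    congrArg (fun K : Subgroup G => charDegree (hz p (cb M K e)).1) (hU.eq hu)]

theorem MP.DU_eq (h : MP p B P e) (hU : UC P) (hθ : IsClassFunction G θ) (hu : u ≠ 1) :
    DU p P e θ u = dn p (u : G) (sb p P e u) θ := by
  haveI : Fact p.Prime := ⟨PMod.prime M⟩
  rw [dn, h.phi_sb_one hU hu, loc_apply _ hθ preg_one, h.sb_eq_cb hU hu, DU,
    congrArg (fun K : Subgroup G => es K (fC (cb M K e))) (hU.eq hu)]
  simp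

theorem FA.nilp_Ce (h : FA p B P e) (h1 : P ≠ ⊥) : IsNilpotentBlock p M (cb M (Ce P) e) :=
  (h.nilp h1 (PLe.refl _ _ _)).nilp_cb

theorem FA.reg_cb (h : FA p B P e) (h1 : P ≠ ⊥) {ξ : IrrCharacter (Ce P)}
    (hξ : ξ ∈ cb M (Ce P) e) : reg p ξ.1 = phi p (cb M (Ce P) e) :=
  (h.nilp_Ce h1).reg_eq_phi hξ ((h.sub (PLe.refl _ _ _) h.comm).height_nilp
    (isNilpotentBlock_iff.1 (h.nilp_Ce h1)).2
    (fun x _ => mem_Ce.2 fun y hy => Subtype.ext (mem_Ce.1 x.2 _ hy)) hξ)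

theorem FA.deg_cb (h : FA p B P e) (h1 : P ≠ ⊥) {ξ : IrrCharacter (Ce P)}
    (hξ : ξ ∈ cb M (Ce P) e) : ξ.1 1 = cdg p P e := by
  haveI : Fact p.Prime := ⟨PMod.prime M⟩
  rw [← reg_of_preg (p := p) (θ := ξ.1) preg_one, h.reg_cb h1 hξ, phi_one, cdg]

omit [PMod M p] in
theorem exists_lc_Ce (hc : P ≤ Ce P) (ξ : IrrCharacter (Ce P)) :
    ∃ l : P →* ℂˣ, ∀ (u : P) (c : Ce P), ξ.1 (⟨u, hc u.2⟩ * c) = l u * ξ.1 c := by
  obtain ⟨l, hl⟩ := ξ.2.isCharacter.exists_units_of_le_charCenter ξ.2.apply_one_ne_zero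
    (Z := P.subgroupOf (Ce P)) fun x hx => ξ.2.center_le_charCenter
      (Subgroup.mem_center_iff.2 fun y => Subtype.ext (mem_Ce.1 y.2 _ hx).symm)
  exact ⟨l.comp (Subgroup.subgroupOfEquivOfLe hc).symm.toMonoidHom, fun u c => hl ⟨_, u.2⟩ c⟩

theorem FA.isCharacter_DU (h : FA p B P e) (h1 : P ≠ ⊥) (hθ : IsCharacter G θ) :
    IsCharacter P (DU p P e θ) := by
  have := Fintype.ofFinite (Ce P)
  choose l hl using exists_lc_Ce h.comm
  choose n hn using fun ξ : IrrCharacter (Ce P) => (hθ.res (Ce P)).classInner_eq_nat ξ.2.isCharacter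
  have := IsCharacter.sum (s := fs (cb M (Ce P) e)) fun ξ _ =>
    (isIrr_lc (l ξ)).isCharacter.natCast_smul (n ξ)
  convert this using 1
  funext v
  rw [DU, ← es_single (Ce P) ⟨v, h.comm v.2⟩, ← map_mul, ch_es,
    ← blockPart_eq_ch (hθ.isClassFunction.res _), blockPart_fs, Finset.sum_apply, Finset.sum_apply,
    Finset.sum_div]
  refine Finset.sum_congr rfl fun ξ hξ => ?_
  have h2 := hl ξ v 1
  rw [mul_one, h.deg_cb h1 (mem_fs.1 hξ)] at h2
  rw [Pi.smul_apply, h2, hn, smul_eq_mul, Pi.smul_apply, smul_eq_mul, ← mul_assoc,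
    mul_div_cancel_right₀ _ (Nat.cast_ne_zero.2 cdg_ne_zero)]

theorem MP.hD_uc (h : MP p B P e) (hU : UC P) (χ : IrrCharacter G) (u : P) (hu : u ≠ 1) :
    DU p P e χ.1 u = 1 * dn p (u : G) (sb p P e u) χ.1 := by
  rw [one_mul, h.DU_eq hU χ.2.isClassFunction hu]

theorem MP.exd_uc [Fintype P] (h : MP p B P e) (hU : UC P) (h1 : P ≠ ⊥) :
    EXd p B (autE P e) fun χ => DU p P e χ.1 :=
  (h.fa_of_uc hU).exd (ε := fun _ => 1) (fun χ _ => h.hD_uc hU χ) (fun _ _ => by simp)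
    (fun χ _ => ((h.fa_of_uc hU).isCharacter_DU h1 χ.2.isCharacter).isGen) fun _ _ _ _ => rfl

variable (M) in
theorem UC.isConj_iff (hU : UC P) (hP : IsSyl p P ⊤) (u v : P) :
    IsConj (u : G) v ↔ ∃ σ ∈ autE P (e0 M P), σ u = v := by
  rw [← (hU.fa0 M hP).fc, fc_principal_iff hP.pg u.2 v.2]

omit [PMod M p] in
theorem Iu_self [Fintype G] [Fact p.Prime] {u : G} (hu : ∃ k : ℕ, orderOf u = p ^ k)
    {φ : Ce1 u → ℂ} (hφ : IsClassFunction (Ce1 u) φ) : Iu p u φ u = φ 1 := by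
  simpa using Iu_apply hu hφ (s := 1) preg_one

theorem MP.apply_eq_sum [Fintype (autE P (e0 M P))] (h : MP p B P e) (hU : UC P)
    (hP : IsSyl p P ⊤) (hθ : blockPart B θ = θ) (hu : u ≠ 1) :
    Nat.card (autE P e) * θ u = cdg p P e * ∑ σ : autE P (e0 M P), DU p P e θ (σ.1 u) := by
  haveI : Fact p.Prime := ⟨PMod.prime M⟩
  have := Fintype.ofFinite G
  have := Fintype.ofFinite P
  have h0 : IsClassFunction G θ := hθ ▸ isClassFunction_blockPart _ _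
  have hF := h.fa_of_uc hU
  rw [(hU.fa0 M hP).free.sum_elt hu, congrFun (h.eq_reg_add hθ) u, Pi.add_apply,
    reg_of_dvd (dvd_orderOf_of_pelt (h.pelt u.2) (coe_ne_one hu)), zero_add, Finset.sum_apply,
    Finset.mul_sum, Finset.mul_sum, Finset.sum_filter, ← Finset.sum_erase (a := 1) Finset.univ (by
      rw [if_neg]; rintro ⟨σ, -, h⟩; exact hu (by simpa using h))]
  refine Finset.sum_congr rfl fun v hv => ?_
  have hv1 := Finset.ne_of_mem_erase hv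
  rw [Pi.smul_apply, smul_eq_mul, hF.nF_eq hv1, mul_inv_cancel_left₀ (card_ne_zero' _)]
  split_ifs with h1 <;> rw [← hU.isConj_iff M hP] at h1
  · rw [(isClassFunction_Iu _ _).eq_of_isConj h1, Iu_self (h.pelt v.2) (isClassFunction_loc _ _ _),
      (hF.nilp_sb' hv1).loc_eq, Pi.smul_apply, h.phi_sb_one hU hv1, h.DU_eq hU h0 hv1,
      smul_eq_mul, mul_comm]
  · exact Iu_eq_zero (h.pelt v.2) _ (isPPart_self (h.pelt u.2)) fun h => h1 h.symm

theorem MP.ext_uc (h : MP p B P e) (hU : UC P) (hθ : blockPart B θ = θ) (hφ : blockPart B φ = φ)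
    (h1 : reg p θ = reg p φ) (h2 : ∀ u : P, u ≠ 1 → DU p P e θ u = DU p P e φ u) : θ = φ := by
  refine h.ext hθ hφ fun u hu => ?_
  by_cases h3 : u = 1
  · subst h3; rw [h.loc_one hθ, h.loc_one hφ, h1]
  · have h4 : (⟨u, hu⟩ : P) ≠ 1 := fun h => h3 (congrArg Subtype.val h)
    have h5 := h2 _ h4
    rw [h.DU_eq hU (hθ ▸ isClassFunction_blockPart _ _) h4,
      h.DU_eq hU (hφ ▸ isClassFunction_blockPart _ _) h4] at h5
    rw [((h.fa_of_uc hU).nilp_sb hu h3).loc_eq, ((h.fa_of_uc hU).nilp_sb hu h3).loc_eq, h5]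

theorem MP.DU_pow (h : MP p B P e) {k : ℕ} (hk : ∀ g : G, ¬ p ∣ orderOf g → g ^ k = g)
    (θ : G → ℂ) (v : P) : DU p P e (fun g => θ (g ^ k)) v = DU p P e θ (v ^ k) := by
  have := Fintype.ofFinite G
  rw [DU, DU, ch_mul_single, ch_mul_single]
  refine congrArg (· / _) (Finset.sum_congr rfl fun g _ => ?_)
  by_cases hg : g ∈ Ce P
  · by_cases h1 : p ∣ orderOf g
    · rw [coeff_es_of_mem _ hg, coeff_fC, h.isBlock_Ce.isPBlock_cb.1.isUB.blockCoeff_eq_zero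
        (by rwa [← Subgroup.orderOf_coe]), zero_mul, zero_mul]
    · rw [Commute.mul_pow (mem_Ce.1 hg _ v.2).symm, hk g h1, Subgroup.coe_pow]
  · rw [coeff_es_of_notMem _ hg, zero_mul, zero_mul]

section
omit [PMod M p]

variable (p G) in
/-- automorphisms fixing the `p'`-roots of unity -/
abbrev PFix (σ : ℂ ≃+* ℂ) : Prop :=
  σ (Complex.exp (2 * Real.pi * Complex.I / ((Nat.card G / p ^ (Nat.card G).factorization p) : ℕ))) =
    Complex.exp (2 * Real.pi * Complex.I / ((Nat.card G / p ^ (Nat.card G).factorization p) : ℕ))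

theorem PFix.exists_pow [Fact p.Prime] {σ : ℂ ≃+* ℂ} (h : PFix G p σ) :
    ∃ k : ℕ, k.Coprime (Nat.card G) ∧ (∀ g : G, ¬ p ∣ orderOf g → g ^ k = g) ∧
      ∀ χ : IrrCharacter G, (irrGalois σ χ).1 = fun g => χ.1 (g ^ k) := by
  obtain ⟨k, h1, h2⟩ := exists_pow_of_ringHom (Nat.card_pos (α := G)).ne' σ.toRingHom
  refine ⟨k, h1, fun g hg => ?_, fun χ => funext (gal_apply_pow_card h2 dvd_rfl χ)⟩
  have h3 := Complex.isPrimitiveRoot_exp _ (pcompl_ne_zero p G)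
  have h4 := h2 _ ((h3.pow_eq_one_iff_dvd _).2 (Nat.div_dvd_of_dvd (Nat.ordProj_dvd _ _)))
  rw [show σ.toRingHom _ = σ _ from rfl, h] at h4
  have h5 := (h3.isOfFinOrder (pcompl_ne_zero p G)).pow_eq_pow_iff_modEq.1
    (h4.symm.trans (pow_one _).symm)
  rw [← h3.eq_orderOf] at h5
  exact (pow_eq_pow_iff_modEq.2 (h5.of_dvd (orderOf_dvd_pcompl hg))).trans (pow_one g)

theorem exists_pfix [hp : Fact p.Prime] {j : ℕ} (hj : ¬ p ∣ j) : ∃ σ : ℂ ≃+* ℂ, PFix G p σ ∧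
    ∃ k : ℕ, k.Coprime (Nat.card G) ∧ (∀ g : G, ¬ p ∣ orderOf g → g ^ k = g) ∧
      (∀ χ : IrrCharacter G, (irrGalois σ χ).1 = fun g => χ.1 (g ^ k)) ∧
      k ≡ j [MOD p ^ (Nat.card G).factorization p] := by
  have h0 := (Nat.card_pos (α := G)).ne'
  have h1 : (p ^ (Nat.card G).factorization p).Coprime
      (Nat.card G / p ^ (Nat.card G).factorization p) := (Nat.coprime_ordCompl hp.out h0).pow_left _
  obtain ⟨k, h2, h3⟩ := Nat.chineseRemainder h1 j 1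
  have h4 : k.Coprime (Nat.card G) := by
    rw [← Nat.ordProj_mul_ordCompl_eq_self (Nat.card G) p]
    refine Nat.Coprime.mul_right ?_ ?_
    · rw [Nat.Coprime, h2.gcd_eq]
      exact ((Nat.Prime.coprime_iff_not_dvd hp.out).2 hj).symm.pow_right _
    · rw [Nat.Coprime, h3.gcd_eq, Nat.gcd_one_left]
  obtain ⟨σ, hσ⟩ := exists_gal_pow h0 h4
  have h5 := Complex.isPrimitiveRoot_exp _ (pcompl_ne_zero p G)
  refine ⟨σ, ?_, k, h4, fun g hg => ?_, fun χ => funext (gal_apply_pow_card hσ dvd_rfl χ), h2⟩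
  · rw [PFix, hσ _ ((h5.pow_eq_one_iff_dvd _).2 (Nat.div_dvd_of_dvd (Nat.ordProj_dvd _ _)))]
    exact ((h5.isOfFinOrder (pcompl_ne_zero p G)).pow_eq_pow_iff_modEq.2
      (by rwa [← h5.eq_orderOf])).trans (pow_one _)
  · exact (pow_eq_pow_iff_modEq.2 (h3.of_dvd (orderOf_dvd_pcompl hg))).trans (pow_one g)

theorem pow_ne_one_of_coprime {W : Type*} [Group W] {u : W} (hu : u ≠ 1) {k n : ℕ}
    (hk : k.Coprime n) (h : u ^ n = 1) : u ^ k ≠ 1 := fun h1 => hu (orderOf_eq_one_iff.1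
  (Nat.eq_one_of_dvd_coprimes hk (orderOf_dvd_of_pow_eq_one h1) (orderOf_dvd_of_pow_eq_one h)))

theorem FreeAut.eta_pow {W : Type*} [Group W] [Finite W] {E : Subgroup (MulAut W)} (hE : FreeAut E)
    (hc : ∀ a b : W, a * b = b * a) {l : W →* ℂˣ} (hl : l ≠ 1) {k : ℕ} (hk : l ^ k ≠ 1) (u : W) :
    eta E l (u ^ k) = eta E (l ^ k) u := by
  have := Fintype.ofFinite E
  rw [hE.eta_apply hc hl, hE.eta_apply hc hk]
  simp

theorem coprime_sub {k : ℕ} (hk : k.Coprime (Nat.card G)) (P : Subgroup G) :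
    k.Coprime (Nat.card P) := hk.coprime_dvd_right P.card_subgroup_dvd_card

theorem reg_comp_pow {k : ℕ} (hk : ∀ g : G, ¬ p ∣ orderOf g → g ^ k = g) (θ : G → ℂ) :
    reg p (fun g => θ (g ^ k)) = reg p θ := reg_congr fun g hg => by rw [hk g hg]

end

theorem _root_.Cfsg.IsPBlock.mem_of_reg_eq (hB : IsPBlock M B) (hχ : χ ∈ B)
    (h : reg p ψ.1 = reg p χ.1) : ψ ∈ B := by
  rw [hB.mem_iff, ← hB.blk_eq hχ]
  exact blk_eq_of_reg_eq fun x hx => by
    rw [← reg_of_preg (θ := ψ.1) hx, h, reg_of_preg hx]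

section
variable [Fintype P] {δ d : ℤ} {ζ : (P →* ℂˣ) → IrrCharacter G} {a : IrrCharacter G → ℤ} {k : ℕ}

theorem MP.gal_nexc (h : MP p B P e) (hU : UC P)
    (hx : EXC B (autE P e) (fun χ => DU p P e χ.1) δ d ζ a) (hk : k.Coprime (Nat.card G))
    (hk' : ∀ g : G, ¬ p ∣ orderOf g → g ^ k = g) (hχ : χ ∈ B) (h1 : χ ∉ excSet ζ)
    (h2 : ψ.1 = fun g => χ.1 (g ^ k)) : ψ = χ := by
  have h3 : reg p ψ.1 = reg p χ.1 := h2 ▸ reg_comp_pow hk' _
  refine Subtype.ext (h.ext_uc hU (blockPart_irr_of_mem (h.blk.mem_of_reg_eq hχ h3))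
    (blockPart_irr_of_mem hχ) h3 fun u hu => ?_)
  rw [h2, h.DU_pow hk', hx.nexc χ hχ (notMem_excSet.1 h1) u hu, hx.nexc χ hχ (notMem_excSet.1 h1) _
    (pow_ne_one_of_coprime hu (coprime_sub hk P) pow_card_eq_one')]

theorem MP.gal_exc (h : MP p B P e) (hU : UC P) (h0 : P ≠ ⊥)
    (hx : EXC B (autE P e) (fun χ => DU p P e χ.1) δ d ζ a) (hk : k.Coprime (Nat.card G))
    (hk' : ∀ g : G, ¬ p ∣ orderOf g → g ^ k = g) (hl : l ≠ 1)
    (h2 : ψ.1 = fun g => (ζ l).1 (g ^ k)) : l ^ k ≠ 1 ∧ ψ = ζ (l ^ k) := by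
  have h3 : reg p ψ.1 = reg p (ζ l).1 := h2 ▸ reg_comp_pow hk' _
  have h4 : l ^ k ≠ 1 := pow_ne_one_of_coprime (W := P →* ℂˣ) hl (coprime_sub hk P) (lc_pow_card l)
  have hF := h.fa_of_uc hU
  refine ⟨h4, Subtype.ext (h.ext_uc hU (blockPart_irr_of_mem (h.blk.mem_of_reg_eq (hx.mem l hl) h3))
    (blockPart_irr_of_mem (hx.mem _ h4)) (h3.trans (hx.reg_eq (h.exd_uc hU h0) hl h4)) fun u hu => ?_)⟩
  rw [h2, h.DU_pow hk', hx.exc _ h4 u hu, hx.exc l hl _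
    (pow_ne_one_of_coprime hu (coprime_sub hk P) pow_card_eq_one'), hF.free.eta_pow hF.comm' hl h4]

theorem MP.exists_dd_prime (h : MP p B P e) (hP : Nat.card P = p) (hχ : χ ∈ B) :
    ∃ δ ζ a, DD p B P e (fun χ => DU p P e χ.1) (fun _ => 1) δ ζ a ∧
      ((excSet ζ).card = 1 → excSet ζ = {χ}) := by
  haveI : Fact p.Prime := ⟨PMod.prime M⟩
  have h1 : P ≠ ⊥ := ne_bot_of_card le_rfl (hP.trans (pow_one p).symm)
  have hU := uc_of_card hP
  exact (h.fa_of_uc hU).exists_dd h1 (fun χ _ => h.hD_uc hU χ) (fun _ _ => by simp)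
    (h.exd_uc hU h1) (h.rank_eq (isCyclic_of_prime_card hP) h1) hχ

end

theorem FreeAut.sum_eta {W : Type*} [Group W] [Finite W] {E F : Subgroup (MulAut W)} [Fintype F]
    (hF : FreeAut F) (h : E ≤ F) (hc : ∀ a b : W, a * b = b * a) {l : W →* ℂˣ} (hl : l ≠ 1)
    (u : W) : ∑ σ : F, eta E l (σ.1 u) = Nat.card E * eta F l u := by
  have := Fintype.ofFinite E
  have hE : FreeAut E := fun σ hσ => hF σ (h hσ)
  simp only [hE.eta_apply hc hl, hF.eta_apply hc hl]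
  rw [Finset.sum_comm, Finset.sum_congr rfl fun τ _ => Fintype.sum_equiv
    (Equiv.mulLeft (⟨τ.1, h τ.2⟩ : F)) _ (fun σ : F => (l (σ.1 u) : ℂ)) fun σ => rfl]
  simp

theorem autE_le (e : (kk M)[G]) : autE P e ≤ autE P (e0 M P) := fun _ hσ => by
  obtain ⟨t, ht, h⟩ := mem_autE.1 hσ
  exact mem_autE_principal.2 ⟨t, ht.1.2, h⟩

section
variable [Fintype P] {δ d : ℤ} {ζ : (P →* ℂˣ) → IrrCharacter G} {a : IrrCharacter G → ℤ}

theorem MP.apply_nexc (h : MP p B P e) (hU : UC P) (hP : IsSyl p P ⊤)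
    (hx : EXC B (autE P e) (fun χ => DU p P e χ.1) δ d ζ a) (hχ : χ ∈ B) (h1 : χ ∉ excSet ζ)
    (hu : u ≠ 1) :
    Nat.card (autE P e) * χ.1 u = cdg p P e * (Nat.card (autE P (e0 M P)) * a χ) := by
  have := Fintype.ofFinite (autE P (e0 M P))
  rw [h.apply_eq_sum hU hP (blockPart_irr_of_mem hχ) hu, Finset.sum_congr rfl fun σ _ =>
    hx.nexc χ hχ (notMem_excSet.1 h1) _ (by simpa using hu)]
  simp

theorem MP.apply_exc (h : MP p B P e) (hU : UC P) (hP : IsSyl p P ⊤)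
    (hx : EXC B (autE P e) (fun χ => DU p P e χ.1) δ d ζ a) (hl : l ≠ 1) (hu : u ≠ 1) :
    Nat.card (autE P e) * (ζ l).1 u = cdg p P e * (Nat.card (autE P (e0 M P)) * d +
      δ * (Nat.card (autE P e) * eta (autE P (e0 M P)) l u)) := by
  have := Fintype.ofFinite (autE P (e0 M P))
  rw [h.apply_eq_sum hU hP (blockPart_irr_of_mem (hx.mem l hl)) hu, Finset.sum_congr rfl fun σ _ =>
    hx.exc l hl _ (by simpa using hu), Finset.sum_add_distrib, ← Finset.mul_sum,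
    (hU.fa0 M hP).free.sum_eta (autE_le e) (comm_of_le_Ce hU.comm) hl]
  simp

theorem DD.apply_exc' (h : DD p B P e (fun χ => DU p P e χ.1) (fun _ => 1) δ ζ a) (hU : UC P)
    (hP : IsSyl p P ⊤) (hl : l ≠ 1) (hu : u ≠ 1) :
    (ζ l).1 u = δ * cdg p P e * eta (autE P (e0 M P)) l u := by
  have := h.toMP.apply_exc hU hP h.exc hl hu
  refine mul_left_cancel₀ (card_ne_zero' (autE P e)) ?_
  rw [this]; push_cast; ring

end

theorem MP.canon_unique (h : MP p B P e) (hc : P ≤ Ce P) {ξ η : IrrCharacter (Ce P)}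
    (h1 : ξ ∈ cb M (Ce P) e) (h2 : η ∈ cb M (Ce P) e)
    (h3 : ∀ x : Ce P, (x : G) ∈ P → ξ.1 x = ξ.1 1) (h4 : ∀ x : Ce P, (x : G) ∈ P → η.1 x = η.1 1) :
    ξ = η := by
  have h5 : ∀ g : Ce P, g ∈ Ce (P.subgroupOf (Ce P)) := fun g =>
    mem_Ce.2 fun y hy => Subtype.ext (mem_Ce.1 g.2 _ hy)
  haveI := normal_of_top_le_No fun g _ => Ce_le_No _ (h5 g)
  have hm := h.sub (PLe.refl _ _ _) hc
  obtain ⟨θ, -, -, -, h6, -⟩ := hm.blk.exists_canon hm.mp.isDef fun g _ => h5 g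
  rw [h6 ξ h1 fun x hx => ξ.2.isCharacter.mem_charKer.2 (h3 x hx),
    h6 η h2 fun x hx => η.2.isCharacter.mem_charKer.2 (h4 x hx)]

omit [PMod M p] in
theorem exists_pow_eq_of_card {W : Type*} [Group W] [hp : Fact p.Prime] (h : Nat.card W = p)
    {a b : W} (ha : a ≠ 1) (hb : b ≠ 1) : ∃ j : ℕ, ¬ p ∣ j ∧ a ^ j = b := by
  haveI : Finite W := Nat.finite_of_card_ne_zero (h ▸ hp.out.ne_zero)
  have h1 : b ∈ Subgroup.zpowers a := by
    rw [zpowers_eq_of_card (P := ⊤) (Subgroup.card_top.trans h) trivial ha]; trivial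
  obtain ⟨j, rfl⟩ := (mem_powers_iff_mem_zpowers.2 h1)
  refine ⟨j, fun ⟨c, hc⟩ => hb ?_, rfl⟩
  simp only [hc, pow_mul, ← h, pow_card_eq_one', one_pow]

end Cfsg.Agent.Blk
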