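import Cfsg.Agent.Lib.Block.KerP
import Cfsg.Agent.Lib.Block.Jordan
import Cfsg.Agent.Lib.Solv.Hall
import Cfsg.Agent.Lib.Transfer.Hall
import Cfsg.Agent.Lib.Block.Prime
import Cfsg.Agent.Lib.Char.ItoP

/-! Blichfeldt's theorem on large primes dividing the order of a linear group. -/

set_option autoImplicit false

namespace Cfsg.Agent.Blk

open Cfsg.Agent.Char hiding cj cj_mul cj_inv_cj cj_cj_inv sum_cj_eq om
open scoped ComplexConjugate
attribute [local instance] _root_.Classical.propDecidable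
open Subgroup (zpowers mem_zpowers)

universe u

section
variable {G : Type*} [Group G] [Finite G] {χ : G → ℂ} {p q : ℕ}

theorem degree_le_of_constituent [Fintype G] (hχ : IsCharacter G χ) {θ : G → ℂ}
    (hθ : IsIrrCharacter G θ) (h : classInner χ θ ≠ 0) : charDegree θ ≤ charDegree χ := by
  obtain ⟨m, hm⟩ := hχ.classInner_eq_nat hθ.isCharacter
  exact (Nat.le_mul_of_pos_left _ (Nat.pos_of_ne_zero fun h0 => h (by simp [hm, h0]))).trans
    (hχ.mul_degree_le hθ hm hθ.isCharacter.cast_charDegree.symm hχ.cast_charDegree.symm)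

theorem comm_of_large (hχ : IsCharacter G χ) (h : ∀ g, χ g = χ 1 → g = 1) {H : Subgroup G}
    (hH : ∀ q, q.Prime → q ∣ Nat.card H → charDegree χ < q) : H ≤ Ce H := by
  have := Fintype.ofFinite H
  have h1 := hχ.res H
  have h2 : commutator H ≤ charKer fun x : H => χ x := fun x hx =>
    h1.mem_charKer_of_forall_constituent fun θ hθ h2 => hθ.apply_one_eq_one_iff.1 (by
      rw [← hθ.isCharacter.cast_charDegree, (Nat.eq_one_iff_not_exists_prime_dvd (n := charDegree θ)).2, Nat.cast_one]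
      exact fun q hq h3 => (hH q hq (h3.trans (deg_dvd_card ⟨θ, hθ⟩))).not_ge
        ((Nat.le_of_dvd hθ.charDegree_pos h3).trans
          (degree_le_of_constituent h1 hθ h2))) hx
  intro a ha
  refine mem_Ce.2 fun b hb => commutatorElement_eq_one_iff_mul_comm.1 (h _ ?_)
  exact h1.mem_charKer.1 (h2 (Subgroup.commutator_mem_commutator
    (Subgroup.mem_top (⟨b, hb⟩ : H)) (Subgroup.mem_top ⟨a, ha⟩)))

theorem exists_pow_apply_ne [hp : Fact p.Prime] (hχ : IsCharacter G χ) {x : G} (hx : orderOf x = p)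
    (h1 : χ x ≠ χ 1) (h2 : charDegree χ + 1 < p) : ∃ j, ¬ p ∣ j ∧ χ (x ^ j) ≠ χ x := by
  by_contra! h3
  have := Fintype.ofFinite (zpowers x)
  obtain ⟨m, hm⟩ := (hχ.res (zpowers x)).classInner_eq_nat isCharacter_one
  have h4 := (hχ.res (zpowers x)).mul_degree_le isIrrCharacter_one hm (d := 1) (by simp)
    hχ.cast_charDegree.symm
  have h0 : (p : ℂ) ≠ 0 := Nat.cast_ne_zero.2 hp.out.ne_zero
  rw [classInner_one_right, ← Finset.add_sum_erase _ _ (Finset.mem_univ 1),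
    Finset.sum_congr rfl (g := fun _ => χ x), Finset.sum_const, Finset.card_erase_of_mem
    (Finset.mem_univ _), Finset.card_univ, ← Nat.card_eq_fintype_card, Nat.card_zpowers, hx,
    inv_mul_eq_iff_eq_mul₀ h0, nsmul_eq_mul, Nat.cast_pred hp.out.pos] at hm
  · simp only [OneMemClass.coe_one, ← hχ.cast_charDegree] at hm h1
    have h5 : (p : ℂ) - 1 ≠ 0 := sub_ne_zero.2 (by exact_mod_cast hp.out.one_lt.ne')
    obtain ⟨a, ha⟩ : ∃ a : ℤ, χ x = a := by
      have h6 : χ x = ((p * m - charDegree χ) / (p - 1) : ℚ) := by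
        push_cast; field_simp; linear_combination hm
      have h7 := hχ.isIntegral x
      rw [h6, ← eq_ratCast (algebraMap ℚ ℂ), isIntegral_algebraMap_iff (algebraMap ℚ ℂ).injective,
        IsIntegrallyClosed.isIntegral_iff] at h7
      obtain ⟨a, ha⟩ := h7
      exact ⟨a, by rw [h6, ← ha]; simp⟩
    rw [ha] at hm h1
    have h6 : (charDegree χ : ℤ) + (p - 1) * a = p * m := by exact_mod_cast hm
    have h7 : a ≠ charDegree χ := fun h => h1 (by simp [h])
    rcases lt_trichotomy a m with h | h | h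
    · nlinarith
    · exact h7 (by nlinarith)
    · nlinarith
  · rintro ⟨_, k, rfl⟩ hk
    have h5 : x ^ k = x ^ (k % p).toNat := by
      rw [← zpow_natCast, Int.toNat_of_nonneg (Int.emod_nonneg _ (by exact_mod_cast hp.out.ne_zero)),
        ← hx, zpow_mod_orderOf]
    change χ (x ^ k) = χ x
    rw [h5]
    refine h3 _ fun h => (Finset.mem_erase.1 hk).1 (Subtype.ext (h5.trans ?_))
    exact orderOf_dvd_iff_pow_eq_one.1 (hx ▸ h)

theorem exists_pow_ne [hp : Fact p.Prime] (χ : IrrCharacter G) (h : ∀ g, χ.1 g = χ.1 1 → g = 1)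
    (h1 : p ∣ Nat.card G) (h2 : charDegree χ.1 + 1 < p) : ∃ k : ℕ, (∀ g : G, ¬ p ∣ orderOf g → g ^ k = g) ∧
      (∀ φ : IrrCharacter G, IsIrrCharacter G fun g => φ.1 (g ^ k)) ∧ χ.1 ≠ fun g => χ.1 (g ^ k) := by
  obtain ⟨x, hx⟩ := exists_prime_orderOf_dvd_card' p h1
  obtain ⟨j, h3, h4⟩ := exists_pow_apply_ne χ.2.isCharacter hx
    (fun h3 => hp.out.one_lt.ne' (by rw [← hx, h x h3, orderOf_one])) h2
  obtain ⟨σ, -, k, -, h5, h6, h7⟩ := exists_pfix (G := G) h3
  refine ⟨k, h5, fun φ => h6 φ ▸ (irrGalois σ φ).2, fun h8 => h4 ?_⟩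
  rw [congrFun h8 x, (pow_eq_pow_iff_modEq (n := k)).2 (hx ▸ h7.of_dvd (dvd_pow_self p
    (hp.out.factorization_pos_of_dvd Nat.card_pos.ne' h1).ne'))]

theorem exists_orderOf_dvd_irr [Fact p.Prime] [Fact q.Prime] (χ : IrrCharacter G)
    (h : ∀ g, χ.1 g = χ.1 1 → g = 1) (h1 : p ∣ Nat.card G) (h2 : charDegree χ.1 + 1 < p)
    (h3 : q ∣ Nat.card G) (h4 : charDegree χ.1 + 1 < q) : ∃ g : G, p ∣ orderOf g ∧ q ∣ orderOf g := by
  have := Fintype.ofFinite G
  obtain ⟨k, h5, h6, h7⟩ := exists_pow_ne χ h h1 h2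
  obtain ⟨l, h8, h9, h10⟩ := exists_pow_ne χ h h3 h4
  by_contra! h11
  have h12 : χ.1 + (fun g => χ.1 ((g ^ k) ^ l)) = (fun g => χ.1 (g ^ k)) + fun g => χ.1 (g ^ l) := by
    funext g
    by_cases h12 : p ∣ orderOf g
    · simp [h8 g (h11 g h12), h8 (g ^ k) fun h => h11 g h12 (h.trans (orderOf_pow_dvd k)), add_comm]
    · simp [h5 g h12]
  have h13 := congrArg (classInner · χ.1) h12
  simp only [classInner_add_left, χ.2.classInner_self, (h6 χ).classInner_of_ne χ.2 h7.symm,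
    (h9 χ).classInner_of_ne χ.2 h10.symm] at h13
  obtain ⟨m, hm⟩ := (h6 ⟨_, h9 χ⟩).isCharacter.classInner_eq_nat χ.2.isCharacter
  rw [hm, add_zero] at h13
  norm_cast at h13
  omega

theorem comm_sup_of_large (hχ : IsCharacter G χ) (h : ∀ g, χ g = χ 1 → g = 1) {H K : Subgroup G}
    (hH : ∀ q, q.Prime → q ∣ Nat.card H → charDegree χ < q)
    (hK : ∀ q, q.Prime → q ∣ Nat.card K → charDegree χ < q) (h1 : H ≤ No K) : H ≤ Ce K :=
  le_sup_left.trans ((comm_of_large hχ h fun q hq h2 =>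
    ((Nat.Prime.dvd_mul hq).1 (h2.trans (Solv.card_sup_dvd h1))).elim (hH q hq) (hK q hq)).trans
      (Ce_anti le_sup_right))

theorem large_of_pgroup [Fact p.Prime] {P : Subgroup G} (hP : IsPGroup p P) {n : ℕ} (h : n < p) :
    ∀ q, q.Prime → q ∣ Nat.card P → n < q := fun _ hq h1 => Solv.eq_of_isPGroup_of_dvd hP hq h1 ▸ h

theorem exists_orderOf_dvd [hp : Fact p.Prime] [hq : Fact q.Prime] (hχ : IsCharacter G χ)
    (h : ∀ g, χ g = χ 1 → g = 1) (hpq : p ≠ q) (h1 : p ∣ Nat.card G) (h2 : charDegree χ + 1 < p)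
    (h3 : q ∣ Nat.card G) (h4 : charDegree χ + 1 < q) : ∃ g : G, p ∣ orderOf g ∧ q ∣ orderOf g := by
  have := Fintype.ofFinite G
  obtain ⟨x, hx⟩ := exists_prime_orderOf_dvd_card' p h1
  obtain ⟨ψ, h5, h6, h7⟩ : ∃ ψ, IsIrrCharacter G ψ ∧ classInner χ ψ ≠ 0 ∧ x ∉ charKer ψ := by
    by_contra! h5
    exact hp.out.one_lt.ne' (by
      rw [← hx, h x (hχ.mem_charKer.1 (hχ.mem_charKer_of_forall_constituent h5)), orderOf_one])
  haveI := h5.isCharacter.normal_charKer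
  have h8 : p ∣ (charKer ψ).index := by
    by_contra h8
    exact h7 (pelt_mem_of_not_dvd h8 ⟨1, by rw [hx, pow_one]⟩)
  by_cases h9 : q ∣ (charKer ψ).index
  · obtain ⟨φ, h10, h11⟩ := h5.exists_quotient (charKer ψ) le_rfl
    have h12 : charDegree φ ≤ charDegree χ := by
      rw [← charDegree_inflate, funext h11]; exact degree_le_of_constituent hχ h5 h6
    obtain ⟨g, h13, h14⟩ := exists_orderOf_dvd_irr ⟨φ, h10⟩ (fun g hg => by
      obtain ⟨g, rfl⟩ := QuotientGroup.mk_surjective g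
      exact (QuotientGroup.eq_one_iff _).2 (h5.isCharacter.mem_charKer.2
        (by rw [← h11, ← h11]; exact hg))) h8 ((Nat.succ_le_succ h12).trans_lt h2) h9
        ((Nat.succ_le_succ h12).trans_lt h4)
    obtain ⟨g, rfl⟩ := QuotientGroup.mk_surjective g
    exact ⟨g, h13.trans (orderOf_map_dvd (QuotientGroup.mk' _) g),
      h14.trans (orderOf_map_dvd (QuotientGroup.mk' _) g)⟩
  obtain ⟨Q, hQ⟩ := Solv.exists_isSylowIn q (charKer ψ)
  rw [← Subgroup.relIndex_top_right, ← hQ.frattini_top, Subgroup.relIndex_sup_left] at h8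
  obtain ⟨⟨a, ha⟩, h10⟩ := exists_prime_orderOf_dvd_card' p (h8.trans (Subgroup.relIndex_dvd_card _ _))
  obtain ⟨⟨b, hb⟩, h11⟩ := exists_prime_orderOf_dvd_card' q (Solv.dvd_card_of_isPGroup hQ.isPGroup
    (hQ.ne_bot (((Nat.Prime.dvd_mul hq.out).1 ((charKer ψ).card_mul_index ▸ h3)).resolve_right h9)))
  rw [Subgroup.orderOf_mk] at h10 h11
  have h12 : Commute a b := (mem_Ce.1 (comm_sup_of_large hχ h
    (large_of_pgroup (isPGroup_zpowers ⟨1, by rw [h10, pow_one]⟩) (by omega))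
    (large_of_pgroup hQ.isPGroup (by omega)) (Subgroup.zpowers_le.2 ha) (mem_zpowers a)) b hb).symm
  refine ⟨a * b, ?_⟩
  rw [h12.orderOf_mul_eq_mul_orderOf_of_coprime
    (by rw [h10, h11]; exact (Nat.coprime_primes hp.out hq.out).2 hpq), h10, h11]
  exact ⟨dvd_mul_right _ _, dvd_mul_left _ _⟩

theorem pResidual_ne_top [hp : Fact p.Prime] (P : Sylow p G) (hP : (P : Subgroup G) ≤ Ce P)
    (h : p ∣ Nat.card (Subgroup.center G)) : pResidual p G ≠ ⊤ := fun h1 => by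
  obtain ⟨⟨z, hz⟩, h2⟩ := exists_prime_orderOf_dvd_card' p h
  rw [Subgroup.orderOf_mk] at h2
  letI : CommGroup P := ⟨comm_of_le_Ce hP⟩
  obtain ⟨g, hg⟩ := Transfer.exists_conj_mem_sylow P (x := z) (k := 1)
    (by rw [pow_one, ← h2, pow_orderOf_eq_one])
  rw [Subgroup.mem_center_iff.1 hz, mul_inv_cancel_right] at hg
  have h3 := Transfer.transfer_eq_pow_of_mem (MonoidHom.id P) hg fun k a _ => Subtype.ext (by
    simp [mul_assoc, ← Subgroup.mem_center_iff.1 (pow_mem hz k)])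
  rw [Transfer.pResidual_le_ker P.isPGroup' _ (h1 ▸ Subgroup.mem_top z)] at h3
  exact P.not_dvd_index (h2.symm.dvd.trans (orderOf_dvd_of_pow_eq_one (congrArg Subtype.val h3).symm))

theorem relIndex_sup_self {H N : Subgroup G} (h : H ≤ No N) : H.relIndex (H ⊔ N) = H.relIndex N := by
  have h1 := Solv.card_sup_mul_card_inf h
  rw [← Solv.card_mul_relIndex (le_sup_left : H ≤ H ⊔ N), ← Solv.card_inf_mul_relIndex H N, mul_assoc,
    mul_comm (H.relIndex _)] at h1
  exact Nat.eq_of_mul_eq_mul_left Nat.card_pos (Nat.eq_of_mul_eq_mul_left Nat.card_pos h1)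

theorem not_dvd_index_of_le {H K : Subgroup G} (h : H ≤ K) (h1 : ¬ p ∣ H.index) : ¬ p ∣ K.index :=
  fun h2 => h1 (h2.trans (Subgroup.index_dvd_of_le h))

theorem not_dvd_index_trans [hp : Fact p.Prime] {H K : Subgroup G} (h : H ≤ K)
    (h1 : ¬ p ∣ H.relIndex K) (h2 : ¬ p ∣ K.index) : ¬ p ∣ H.index :=
  Subgroup.relIndex_mul_index h ▸ hp.out.not_dvd_mul h1 h2

theorem exists_sylow_le [Fact p.Prime] {H : Subgroup G} (h : ¬ p ∣ H.index) :
    ∃ P : Sylow p G, (P : Subgroup G) ≤ H := by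
  obtain ⟨D, h1, h2⟩ := exists_isSyl_le_of_not_dvd (le_top (a := H))
    (by rwa [Subgroup.relIndex_top_right])
  obtain ⟨P, rfl⟩ := isSyl_top_iff.1 h1
  exact ⟨P, h2⟩

theorem index_Ce_sylow [Fact p.Prime] (P Q : Sylow p G) :
    (Ce (P : Subgroup G)).index = (Ce (Q : Subgroup G)).index := by
  obtain ⟨g, hg⟩ := Transfer.exists_cj_sylow_eq P Q
  rw [← hg, Ce, Ce, ← Transfer.cj_centralizer, Transfer.index_cj]

end

theorem exists_hall_large (n : ℕ) (G : Type u) [Group G] [Finite G] : ∀ {χ : G → ℂ}, IsCharacter G χ →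
    (∀ g, χ g = χ 1 → g = 1) → charDegree χ = n → ∃ H : Subgroup G, IsPiHall {q | n + 1 < q} H := by
  refine Solv.card_induction (P := fun G _ _ => ∀ {χ : G → ℂ}, IsCharacter G χ →
    (∀ g, χ g = χ 1 → g = 1) → charDegree χ = n → ∃ H : Subgroup G, IsPiHall {q | n + 1 < q} H)
    (fun G _ _ ih χ hχ h hn => ?_) G
  have ih : ∀ L : Subgroup G, L ≠ ⊤ → ∃ H ≤ L, H ≤ Ce H ∧ (∀ q, q.Prime → q ∣ Nat.card H → n + 1 < q) ∧
      ∀ q, q.Prime → n + 1 < q → ¬ q ∣ H.relIndex L := fun L hL => by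
    obtain ⟨H, hH⟩ := ih L (Solv.card_lt_of_ne_top hL) (hχ.res L)
      (fun g hg => Subtype.ext (h g hg)) hn
    obtain ⟨h1, h2, h3⟩ := Solv.isPiHallOf_map_subtype hH
    exact ⟨_, h1, comm_of_large hχ h fun q hq h4 => hn ▸ Nat.lt_of_succ_lt (h2 q hq h4), h2, h3⟩
  by_contra h0
  have h1 : ∀ L : Subgroup G, (∀ q, q.Prime → n + 1 < q → ¬ q ∣ L.index) → L = ⊤ := fun L hL => by
    by_contra h1
    obtain ⟨H, h2, -, h3, h4⟩ := ih L h1
    exact h0 ⟨H, h3, fun q hq h5 => haveI := Fact.mk hq; not_dvd_index_trans h2 (h4 q hq h5) (hL q hq h5)⟩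
  have hS : ∀ p [Fact p.Prime], n + 1 < p → ∀ P : Subgroup G, IsPGroup p P → P ≤ Ce P :=
    fun p _ hp P hP => comm_of_large hχ h (large_of_pgroup hP (by omega))
  suffices h2 : ∀ p [Fact p.Prime], n + 1 < p → ∀ P : Sylow p G, ∀ q [Fact q.Prime], n + 1 < q → p ≠ q →
      ¬ q ∣ (Ce (P : Subgroup G)).index by
    have h3 : Subgroup.center G = ⊤ := h1 _ fun p hp h3 => by
      haveI := Fact.mk hp
      obtain ⟨P⟩ : Nonempty (Sylow p G) := inferInstance
      refine not_dvd_index_of_le (Subgroup.centralizer_eq_top_iff_subset.1 (h1 _ fun q hq h4 => ?_))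
        P.not_dvd_index
      haveI := Fact.mk hq
      by_cases h5 : p = q
      · exact h5 ▸ not_dvd_index_of_le (hS p h3 P P.isPGroup') P.not_dvd_index
      · exact h2 p h3 P q h4 h5
    haveI := isSolvable_of_comm fun a b : G => Subgroup.mem_center_iff.1 (h3 ▸ Subgroup.mem_top b) a
    exact h0 (Solv.hall_exists _)
  intro p hp h2 P q hq h3 hpq
  by_cases h4 : ∃ r, r.Prime ∧ n + 1 < r ∧ r ∣ Nat.card (Subgroup.center G)
  · obtain ⟨r, hr, h4, h5⟩ := h4
    haveI := Fact.mk hr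
    obtain ⟨R⟩ : Nonempty (Sylow r G) := inferInstance
    obtain ⟨H, h6, h7, -, h8⟩ := ih _ (pResidual_ne_top R (hS r h4 R R.isPGroup') h5)
    obtain ⟨k, hk⟩ := Transfer.index_pResidual (p := r) (G := G)
    have h9 : ∀ s [Fact s.Prime], n + 1 < s → s ≠ r → ∀ S : Sylow s G, Ce (S : Subgroup G) = ⊤ := by
      intro s hs h9 h10 S
      obtain ⟨T, hT⟩ := exists_sylow_le (not_dvd_index_trans h6 (h8 s hs.out h9) fun h11 => h10
        ((Nat.prime_dvd_prime_iff_eq hs.out hr).1 (hs.out.dvd_of_dvd_pow (hk ▸ h11))))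
      have h11 : No (T : Subgroup G) = ⊤ := h1 _ fun t ht h11 h12 => h8 t ht h11 (by
        rw [← Subgroup.relIndex_top_right, ← (Solv.isSylowIn_of_le T (hT.trans h6)).frattini_top,
          sup_comm, relIndex_sup_self Subgroup.le_normalizer_of_normal] at h12
        exact h12.trans (Subgroup.relIndex_dvd_of_le_left _ ((h7.trans (Ce_anti hT)).trans (Ce_le_No _))))
      rw [← Subgroup.index_eq_one, index_Ce_sylow S T, Subgroup.index_eq_one]
      refine h1 _ fun t ht h12 => ?_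
      haveI := Fact.mk ht
      obtain ⟨U⟩ : Nonempty (Sylow t G) := inferInstance
      exact not_dvd_index_of_le (comm_sup_of_large hχ h (large_of_pgroup U.isPGroup' (by omega))
        (large_of_pgroup T.isPGroup' (by omega)) (h11 ▸ le_top)) U.not_dvd_index
    by_cases h10 : p = r
    · obtain ⟨Q⟩ : Nonempty (Sylow q G) := inferInstance
      exact not_dvd_index_of_le (Subgroup.le_centralizer_iff.1
        (le_top.trans (h9 q h3 (h10 ▸ hpq.symm) Q).ge)) Q.not_dvd_index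
    · simp [h9 p h2 h10 P, hq.out.one_lt.ne']
  push Not at h4
  by_cases h5 : p ∣ Nat.card G
  swap
  · rw [Solv.eq_bot_of_isPGroup_of_not_dvd P.isPGroup' fun h => h5 (h.trans (Subgroup.card_subgroup_dvd_card _))]
    simp [hq.out.one_lt.ne']
  intro h6
  obtain ⟨g, h7, h8⟩ := exists_orderOf_dvd hχ h hpq h5 (hn ▸ h2)
    (h6.trans (Subgroup.index_dvd_card _)) (hn ▸ h3)
  have h9 : ∀ r [Fact r.Prime], n + 1 < r → r ∣ orderOf g → ∃ x ∈ zpowers g, IsPGroup r (zpowers x) ∧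
      Ce1 x ≠ ⊤ ∧ ¬ r ∣ (Ce1 x).index := fun r hr h9 h10 => by
    obtain ⟨x, hx⟩ := exists_isPPart r g
    refine ⟨x, hx.mem_zpowers, hx.isPGroup, fun h11 => h4 r hr.out h9 ((dvd_orderOf_of_pelt hx.pelt
      fun h12 => hx.eq_one_iff.1 h12 h10).trans (Solv.orderOf_dvd_card_of_mem
        (Subgroup.centralizer_eq_top_iff_subset.1 h11 rfl))), ?_⟩
    obtain ⟨R, hR⟩ := hx.isPGroup.exists_le_sylow
    exact not_dvd_index_of_le (((hS r h9 R R.isPGroup').trans (Ce_anti hR)).trans_eq (Ce_zpowers x))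
      R.not_dvd_index
  obtain ⟨x, h10, -, h11, h12⟩ := h9 p h2 h7
  obtain ⟨y, h13, h14, h15, h16⟩ := h9 q h3 h8
  obtain ⟨H, h17, h18, -, h19⟩ := ih _ h11
  obtain ⟨K, h20, h21, -, h22⟩ := ih _ h15
  obtain ⟨D, h23, h24⟩ := exists_isSyl_le_of_not_dvd h17 (h19 q hq.out h3)
  obtain ⟨c, -, h25⟩ := h23.exists_cs_le h14 (Subgroup.zpowers_le.2 (mem_Ce1.2 (by
    obtain ⟨i, rfl⟩ := h10
    obtain ⟨j, rfl⟩ := h13
    exact (Commute.zpow_zpow_self g j i).eq)))
  have h26 : ¬ p ∣ (Ce1 y).index := by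
    rw [← Ce_zpowers, ← Transfer.index_cj c, Ce, Transfer.cj_centralizer]
    exact not_dvd_index_of_le (h18.trans (Ce_anti (h25.trans h24)))
      (not_dvd_index_trans h17 (h19 p hp.out h2) h12)
  obtain ⟨T, hT⟩ := exists_sylow_le (not_dvd_index_trans h20 (h22 p hp.out h2) h26)
  rw [index_Ce_sylow P T] at h6
  exact not_dvd_index_of_le (h21.trans (Ce_anti hT)) (not_dvd_index_trans h20 (h22 q hq.out h3) h16) h6

end Cfsg.Agent.Blk
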