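import Cfsg.Agent.Lib.Block.Tau

/-!
Bounds for the number of characters of a block from the integral form of a subsection.
-/

set_option autoImplicit false

namespace Cfsg.Agent.Blk

open MonoidAlgebra
open Cfsg.Agent.Char hiding cj cj_mul cj_inv_cj cj_cj_inv sum_cj_eq om
open scoped ComplexConjugate Classical

section Nex

variable {G W : Type*} [Group G] [Finite G] [Group W] [Fintype W]

/-- the nonexceptional characters -/
noncomputable def nex (B : Set (IrrCharacter G)) (ζ : (W →* ℂˣ) → IrrCharacter G) :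
    Finset (IrrCharacter G) := fs B \ excSet ζ

theorem mem_nex {B : Set (IrrCharacter G)} {ζ : (W →* ℂˣ) → IrrCharacter G} {χ : IrrCharacter G} :
    χ ∈ nex B ζ ↔ χ ∈ B ∧ χ ∉ excSet ζ := by rw [nex, Finset.mem_sdiff, mem_fs]

theorem sum_nex {B : Set (IrrCharacter G)} {ζ : (W →* ℂˣ) → IrrCharacter G} {β : Type*}
    [AddCommMonoid β] (h : excSet ζ ⊆ fs B) (f : IrrCharacter G → β) :
    ∑ χ ∈ fs B, f χ = ∑ χ ∈ nex B ζ, f χ + ∑ χ ∈ excSet ζ, f χ := (Finset.sum_sdiff h).symm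

end Nex

section Form

variable {G : Type*} [Group G] [Fintype G] {M : Ideal AlgInt} {p : ℕ}
  {B : Set (IrrCharacter G)} {χ ψ : IrrCharacter G} {v w : IrrCharacter G → ℤ}

variable (p B) in
/-- the integral form of a block -/
noncomputable def qf : (IrrCharacter G → ℤ) →ₗ[ℤ] (IrrCharacter G → ℤ) →ₗ[ℤ] ℤ :=
  LinearMap.mk₂ ℤ (fun v w => ∑ ξ ∈ fs B, ∑ η ∈ fs B, v ξ * w η * am p B ξ η)
    (fun _ _ _ => by simp only [Pi.add_apply, add_mul, Finset.sum_add_distrib])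
    (fun _ _ _ => by simp only [Pi.smul_apply, smul_eq_mul, Finset.mul_sum, mul_assoc])
    (fun _ _ _ => by simp only [Pi.add_apply, add_mul, mul_add, Finset.sum_add_distrib])
    (fun _ _ _ => by
      simp only [Pi.smul_apply, smul_eq_mul, Finset.mul_sum, mul_assoc, mul_left_comm])

theorem qf_apply (v w : IrrCharacter G → ℤ) :
    qf p B v w = ∑ ξ ∈ fs B, ∑ η ∈ fs B, v ξ * w η * am p B ξ η := rfl

theorem qf_comm (v w : IrrCharacter G → ℤ) : qf p B v w = qf p B w v := by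
  rw [qf_apply, qf_apply, Finset.sum_comm]
  exact Finset.sum_congr rfl fun ξ _ => Finset.sum_congr rfl fun η _ => by rw [am_comm]; ring

theorem qf_single (hχ : χ ∈ B) (hψ : ψ ∈ B) (a c : ℤ) :
    qf p B (Pi.single χ a) (Pi.single ψ c) = a * c * am p B χ ψ := by
  simp only [qf_apply, Pi.single_apply, ite_mul, mul_ite, zero_mul, mul_zero, Finset.sum_ite_eq',
    mem_fs, hχ, hψ, if_true]

variable (B) in
/-- an integral combination of characters -/
noncomputable def cmb (v : IrrCharacter G → ℤ) : G → ℂ := ∑ ξ ∈ fs B, (v ξ : ℂ) • ξ.1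

theorem isGen_cmb (B : Set (IrrCharacter G)) (v : IrrCharacter G → ℤ) :
    IsGeneralizedCharacter G (cmb B v) := isGen_sum_int _ _ fun ξ _ => ξ.2.isGen

theorem reg_cmb (v : IrrCharacter G → ℤ) :
    reg p (cmb B v) = ∑ ξ ∈ fs B, (v ξ : ℂ) • reg p ξ.1 := by
  simp only [cmb, reg_sum, reg_smul]

theorem blockPart_cmb (v : IrrCharacter G → ℤ) : blockPart B (cmb B v) = cmb B v := by
  rw [cmb, blockPart_sum]
  exact Finset.sum_congr rfl fun ξ hξ => by
    rw [blockPart_smul, blockPart_irr_of_mem (mem_fs.1 hξ)]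

theorem exists_cmb (B : Set (IrrCharacter G)) {θ : G → ℂ} (hθ : IsGeneralizedCharacter G θ) :
    ∃ v : IrrCharacter G → ℤ, (∀ ξ : IrrCharacter G, classInner θ ξ.1 = v ξ) ∧
      blockPart B θ = cmb B v := by
  choose v hv using fun ξ : IrrCharacter G => hθ.classInner_eq_int ξ.2.isGen
  exact ⟨v, hv, by simp only [blockPart_fs, cmb, hv]⟩

theorem qf_cast [Fact p.Prime] (v w : IrrCharacter G → ℤ) : (qf p B v w : ℂ) =
    (p : ℂ) ^ blockDefect p B * classInner (reg p (cmb B v)) (cmb B w) := by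
  rw [qf_apply, reg_cmb, cmb, classInner_sum_left, Finset.mul_sum]
  push_cast
  refine Finset.sum_congr rfl fun ξ hξ => ?_
  rw [classInner_smul_left, classInner_sum_right, Finset.mul_sum, Finset.mul_sum]
  refine Finset.sum_congr rfl fun η _ => ?_
  rw [am_cast (mem_fs.1 hξ), classInner_smul_right, map_intCast]
  ring

theorem qf_nonneg [Fact p.Prime] (v : IrrCharacter G → ℤ) : 0 ≤ qf p B v v := by
  have h1 := congrArg Complex.re (qf_cast (p := p) (B := B) v v)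
  rw [← classInner_reg_reg, ← Nat.cast_pow, Complex.intCast_re, ← Complex.ofReal_natCast,
    Complex.re_ofReal_mul] at h1
  have h2 := mul_nonneg (Nat.cast_nonneg (α := ℝ) (p ^ blockDefect p B))
    (classInner_self_re_nonneg (reg p (cmb B v)))
  rw [← h1] at h2
  exact_mod_cast h2

theorem qf_eq_zero_iff [hp : Fact p.Prime] : qf p B v v = 0 ↔ reg p (cmb B v) = 0 := by
  rw [← Int.cast_eq_zero (α := ℂ), qf_cast, ← classInner_reg_reg, mul_eq_zero,
    classInner_self_eq_zero, or_iff_right (pow_ne_zero _ (Nat.cast_ne_zero.2 hp.out.ne_zero))]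

variable (p B) in
/-- The minimum of the form is at least `m`. -/
def MinF (m : ℕ) : Prop := ∀ v, qf p B v v = 0 ∨ (m : ℤ) ≤ qf p B v v

theorem minF_one [Fact p.Prime] : MinF p B 1 := fun v => by
  have := qf_nonneg (p := p) (B := B) v
  omega

theorem sum_sq_bound {ι : Type*} (s : Finset ι) (y : ι → ℤ) {m : ℤ} (hm : 1 ≤ m)
    (h : ∃ i ∈ s, y i ≠ 0) :
    (s.card : ℤ) ≤ (s.card * m + 1) * ∑ i ∈ s, y i ^ 2 - m * (∑ i ∈ s, y i) ^ 2 := by
  set t := s.filter fun i => y i ≠ 0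
  have h1 : ∑ i ∈ t, y i = ∑ i ∈ s, y i := Finset.sum_filter_ne_zero _
  have h2 : ∑ i ∈ t, y i ^ 2 = ∑ i ∈ s, y i ^ 2 :=
    Finset.sum_filter_of_ne fun i _ hi h => hi (by rw [h]; rfl)
  have h3 : (∑ i ∈ t, y i) ^ 2 ≤ t.card * ∑ i ∈ t, y i ^ 2 := sq_sum_le_card_mul_sum_sq
  have h4 : (t.card : ℤ) ≤ ∑ i ∈ t, y i ^ 2 := by
    rw [Finset.card_eq_sum_ones, Nat.cast_sum]
    exact Finset.sum_le_sum fun i hi => by
      simpa using (one_le_sq_iff_one_le_abs _).2 (Int.one_le_abs (Finset.mem_filter.1 hi).2)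
  have h5 : (t.card : ℤ) ≤ s.card := by exact_mod_cast Finset.card_filter_le _ _
  have h6 : (1 : ℤ) ≤ t.card := by
    obtain ⟨i, hi, h7⟩ := h
    exact_mod_cast Finset.card_pos.2 ⟨i, Finset.mem_filter.2 ⟨hi, h7⟩⟩
  rw [← h1, ← h2]
  generalize ∑ i ∈ t, y i ^ 2 = S at *
  generalize (∑ i ∈ t, y i) ^ 2 = T at *
  have h7 : (s.card - t.card : ℤ) * 1 ≤ (s.card - t.card) * (m * S) :=
    mul_le_mul_of_nonneg_left (by nlinarith) (by omega)
  have h8 : m * T ≤ m * (t.card * S) := mul_le_mul_of_nonneg_left h3 (by omega)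
  nlinarith

variable [PMod M p] {P : Subgroup G} [Fintype P] {e : (kk M)[G]} {D : IrrCharacter G → P → ℂ}
  {ε : P → ℂ} {δ : ℤ} {ζ : (P →* ℂˣ) → IrrCharacter G} {a : IrrCharacter G → ℤ}

theorem DD.exc_subset (h : DD p B P e D ε δ ζ a) : excSet ζ ⊆ fs B := fun χ hχ => by
  obtain ⟨l, hl, rfl⟩ := mem_excSet.1 hχ
  exact mem_fs.2 (h.exc.mem l hl)

theorem DD.card_nex (h : DD p B P e D ε δ ζ a) : (nex B ζ).card = Nat.card (autE P e) := h.card

theorem DD.reg_exc (h : DD p B P e D ε δ ζ a) (hψ : ψ ∈ excSet ζ) :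
    reg p ψ.1 = ∑ χ ∈ nex B ζ, ((δ * a χ : ℤ) : ℂ) • reg p χ.1 := by
  have h1 := congrArg ((δ : ℂ) • ·) (h.reg_rel hψ)
  simp only [smul_smul, ← Int.cast_mul, h.δ_sq, Int.cast_one, one_smul, Finset.smul_sum] at h1
  exact h1

theorem DD.reg_cmb (h : DD p B P e D ε δ ζ a) (v : IrrCharacter G → ℤ) :
    reg p (cmb B v) = ∑ χ ∈ nex B ζ,
      ((v χ + (∑ ψ ∈ excSet ζ, v ψ) * (δ * a χ) : ℤ) : ℂ) • reg p χ.1 := by
  rw [Blk.reg_cmb, sum_nex h.exc_subset,
    Finset.sum_congr (s₁ := excSet ζ) rfl fun ψ hψ => by rw [h.reg_exc hψ], ← Finset.sum_smul, Finset.smul_sum,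
    ← Finset.sum_add_distrib]
  refine Finset.sum_congr rfl fun χ _ => ?_
  rw [smul_smul, ← add_smul]
  push_cast
  rfl

theorem DD.eq_of_sum (h : DD p B P e D ε δ ζ a) {c c' : IrrCharacter G → ℂ}
    (h1 : ∑ χ ∈ nex B ζ, c χ • reg p χ.1 = ∑ χ ∈ nex B ζ, c' χ • reg p χ.1)
    (hχ : χ ∈ nex B ζ) : c χ = c' χ := by
  have h2 : LinearIndependent ℂ fun χ : ↥(nex B ζ) => reg p χ.1.1 := by
    rw [linearIndependent_iff_card_eq_finrank_span, Fintype.card_coe, h.card_nex, ← h.rank_eq,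
      blockRank_eq, Set.finrank]
    refine congrArg (fun S : Submodule ℂ (G → ℂ) => Module.finrank ℂ S) (le_antisymm ?_ ?_)
    · rw [regSpan, Submodule.span_le]
      rintro _ ⟨ξ, hξ, rfl⟩
      by_cases h3 : ξ ∈ excSet ζ
      · change reg p ξ.1 ∈ _
        rw [h.reg_exc h3]
        exact sum_mem fun η hη => Submodule.smul_mem _ _ (Submodule.subset_span ⟨⟨η, hη⟩, rfl⟩)
      · exact Submodule.subset_span ⟨⟨ξ, mem_nex.2 ⟨hξ, h3⟩⟩, rfl⟩
    · rw [Submodule.span_le]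
      rintro _ ⟨ξ, rfl⟩
      exact reg_mem_regSpan ((mem_nex.1 ξ.2).1)
  rw [← Finset.sum_coe_sort, ← Finset.sum_coe_sort (nex B ζ)] at h1
  exact Fintype.linearIndependent_iffₛ.1 h2 _ _ h1 ⟨χ, hχ⟩

theorem DD.am_eq (h : DD p B P e D ε δ ζ a)
    (hc : Nat.card P = Nat.card (autE P e) * (excSet ζ).card + 1)
    (hχ : χ ∈ nex B ζ) (hψ : ψ ∈ nex B ζ) :
    am p B χ ψ = (if ψ = χ then (Nat.card P : ℤ) else 0) - (excSet ζ).card * (a χ * a ψ) := by
  haveI : Fact p.Prime := ⟨PMod.prime M⟩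
  have hB := h.blk
  have h0 := (mem_nex.1 hχ).1
  have hd : Nat.card P = p ^ blockDefect p B := hB.card_isDef h.mp.isDef
  set s := ∑ η ∈ nex B ζ, a η * am p B χ η with hs
  have h1 : ∀ ξ ∈ excSet ζ, am p B χ ξ = δ * s := fun ξ hξ => by
    apply Int.cast_injective (α := ℂ)
    rw [am_cast h0, ← classInner_reg_reg, h.reg_exc hξ, classInner_sum_right, hs]
    push_cast
    simp only [Finset.mul_sum]
    refine Finset.sum_congr rfl fun η _ => ?_
    rw [classInner_smul_right, classInner_reg_reg, am_cast h0]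
    simp only [map_mul, map_intCast]
    ring
  have h2 := h.reg_cmb (am p B χ)
  rw [cmb, hB.sum_am_smul h0, reg_smul, reg_reg, Finset.sum_congr rfl h1, Finset.sum_const,
    nsmul_eq_mul] at h2
  have h3 : ∀ η ∈ nex B ζ, (if η = χ then (Nat.card P : ℤ) else 0) =
      am p B χ η + (excSet ζ).card * (s * a η) := fun η hη => by
    have h4 := h.eq_of_sum (c := fun η => ((if η = χ then (Nat.card P : ℤ) else 0 : ℤ) : ℂ))
      (Eq.trans ?_ h2) hη
    · have h5 := Int.cast_injective h4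
      linear_combination h5 + (excSet ζ).card * s * a η * h.δ_sq
    · rw [hd]; simp [hχ, ite_smul]
  have h4 : s = a χ := by
    have h5 := Finset.sum_congr rfl fun η hη => congrArg (a η * ·) (h3 η hη)
    simp only [mul_ite, mul_zero, Finset.sum_ite_eq', hχ, if_true, mul_add,
      Finset.sum_add_distrib, ← hs] at h5
    rw [Finset.sum_congr rfl (g := fun _ => (excSet ζ).card * s) fun η hη => by
      have h6 := h.a_sq ((mem_nex.1 hη).1) (mem_nex.1 hη).2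
      linear_combination (excSet ζ).card * s * h6, Finset.sum_const, h.card_nex, nsmul_eq_mul,
      hc] at h5
    push_cast at h5
    refine mul_right_cancel₀ (b := (Nat.card (autE P e) * (excSet ζ).card + 1 : ℤ))
      (by positivity) ?_
    linear_combination -h5
  rw [h3 ψ hψ, h4]; ring

theorem DD.minF (h : DD p B P e D ε δ ζ a)
    (hc : Nat.card P = Nat.card (autE P e) * (excSet ζ).card + 1) :
    MinF p B (blockRank p B) := fun v => by
  haveI : Fact p.Prime := ⟨PMod.prime M⟩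
  let x : IrrCharacter G → ℤ := fun χ =>
    if χ ∈ excSet ζ then 0 else v χ + (∑ ψ ∈ excSet ζ, v ψ) * (δ * a χ)
  have hx : ∀ (F : IrrCharacter G → ℤ),
      ∑ χ ∈ fs B, x χ * F χ = ∑ χ ∈ nex B ζ, x χ * F χ := fun F => by
    rw [sum_nex h.exc_subset, Finset.sum_eq_zero (s := excSet ζ) fun χ hχ => by
      simp only [x, if_pos hχ, zero_mul], add_zero]
  have h1 : reg p (cmb B v) = reg p (cmb B x) := by
    rw [h.reg_cmb, h.reg_cmb, Finset.sum_eq_zero (s := excSet ζ) (f := x) fun ψ hψ => if_pos hψ]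
    refine Finset.sum_congr rfl fun χ hχ => ?_
    simp only [x, if_neg (mem_nex.1 hχ).2, zero_mul, add_zero]
  have h2 : qf p B v v = qf p B x x := by
    apply Int.cast_injective (α := ℂ)
    rw [qf_cast, qf_cast, ← classInner_reg_reg, h1, classInner_reg_reg]
  have h3 : qf p B x x = (((nex B ζ).card : ℤ) * (excSet ζ).card + 1) *
      ∑ χ ∈ nex B ζ, (a χ * x χ) ^ 2 -
        (excSet ζ).card * (∑ χ ∈ nex B ζ, a χ * x χ) ^ 2 := by
    simp only [qf_apply, mul_assoc, ← Finset.mul_sum]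
    rw [hx, Finset.sum_congr rfl fun χ hχ => by
      rw [hx, Finset.sum_congr rfl fun η hη => by rw [h.am_eq hc hχ hη]], sq (∑ _ ∈ _, _),
      Finset.sum_mul_sum, Finset.mul_sum, Finset.mul_sum, ← Finset.sum_sub_distrib]
    refine Finset.sum_congr rfl fun χ hχ => ?_
    have h6 := h.a_sq ((mem_nex.1 hχ).1) (mem_nex.1 hχ).2
    simp only [mul_sub, mul_ite, mul_zero, Finset.sum_sub_distrib, Finset.sum_ite_eq', hχ, if_true,
      Finset.mul_sum, h.card_nex, hc]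
    congr 1
    · push_cast
      linear_combination (-(Nat.card (autE P e) * (excSet ζ).card + 1 : ℤ) * x χ ^ 2) * h6
    · exact Finset.sum_congr rfl fun η _ => by ring
  rw [h2, h3, h.rank_eq, ← h.card_nex]
  by_cases h4 : ∃ χ ∈ nex B ζ, a χ * x χ ≠ 0
  · refine Or.inr (sum_sq_bound _ _ ?_ h4)
    have h5 := (Subgroup.one_lt_card_iff_ne_bot P).2 h.ne
    have : (excSet ζ).card ≠ 0 := fun h6 => by rw [hc, h6] at h5; simp at h5
    omega
  · push Not at h4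
    rw [Finset.sum_eq_zero h4, Finset.sum_eq_zero fun χ hχ => by rw [h4 χ hχ]; rfl]
    simp

theorem _root_.Cfsg.IsPBlock.card_eq_one (hB : IsPBlock M B) (h : blockDefect p B = 0) :
    (fs B).card = 1 := by
  obtain ⟨χ, hχ⟩ := hB.nonempty
  rw [← card_fs, hB.eq_singleton_of_nu hχ ((hB.defect_eq_zero_iff hχ).1 h)]
  simp

theorem _root_.Cfsg.IsPBlock.minF_of_cyclic {P : Subgroup G} (hB : IsPBlock M B)
    (hP : IsDef p ⊤ (bar M B) P) (hc : IsCyclic P) : MinF p B (blockRank p B) := by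
  haveI hp : Fact p.Prime := ⟨PMod.prime M⟩
  have := Fintype.ofFinite P
  by_cases h1 : P = ⊥
  · subst h1
    have h2 := (blockRank_le_card (p := p) B).trans
      (hB.card_eq_one (hB.defect_eq_zero_iff_isDef.2 hP)).le
    rw [le_antisymm h2 (blockRank_pos hB.nonempty)]
    exact minF_one
  obtain ⟨e, he⟩ := hB.exists_mp hP
  obtain ⟨χ, hχ⟩ := hB.nonempty
  obtain ⟨D, ε, δ, ζ, a, h, -⟩ := he.exists_dd hc h1 hχ
  refine h.minF ?_
  have h2 : Nat.card (autE P e) ∣ Nat.card P - 1 := by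
    refine (he.card_autE_dvd hc h1).trans ?_
    rw [hB.card_isDef hP]
    simpa using Nat.sub_dvd_pow_sub_pow p 1 (blockDefect p B)
  rw [h.card_exc, Nat.mul_div_cancel' h2, Nat.sub_add_cancel Nat.card_pos]

end Form

section Quot

variable {G H : Type*} [Group G] [Group H] {M : Ideal AlgInt} {p : ℕ} {φ : G →* H}
  {B : Set (IrrCharacter G)}

theorem exists_pow_preg (p : ℕ) [hp : Fact p.Prime] (G : Type*) [Group G] [Finite G] :
    ∃ k : ℕ, (∀ g : G, (∃ n : ℕ, orderOf g = p ^ n) → g ^ k = 1) ∧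
      ∀ g : G, ¬ p ∣ orderOf g → g ^ k = g := by
  obtain ⟨k, h1, h2⟩ := Nat.chineseRemainder (Nat.Coprime.pow_left ((Nat.card G).factorization p)
    (Nat.coprime_ordCompl hp.out (Nat.card_pos (α := G)).ne')) 0 1
  refine ⟨k, fun g ⟨n, hn⟩ => orderOf_dvd_iff_pow_eq_one.1 ?_, fun g hg => ?_⟩
  · refine dvd_trans ?_ ((Nat.modEq_zero_iff_dvd).1 h1)
    rw [hn]
    exact pow_dvd_pow _ ((hp.out.pow_dvd_iff_le_factorization Nat.card_pos.ne').1
      (hn ▸ orderOf_dvd_natCard g))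
  · rw [pow_eq_pow_iff_modEq.2 (h2.of_dvd (orderOf_dvd_pcompl hg)), pow_one]

theorem mul_pow_preg {k : ℕ} (h1 : ∀ g : G, (∃ n : ℕ, orderOf g = p ^ n) → g ^ k = 1)
    (h2 : ∀ g : G, ¬ p ∣ orderOf g → g ^ k = g) {x y : G} (hx : ∃ n : ℕ, orderOf x = p ^ n)
    (hy : ¬ p ∣ orderOf y) (h : Commute x y) : (x * y) ^ k = y := by
  rw [h.mul_pow, h1 x hx, h2 y hy, one_mul]

theorem isGen_comp_pow [Finite G] [hp : Fact p.Prime] {k : ℕ}
    (h1 : ∀ g : G, (∃ n : ℕ, orderOf g = p ^ n) → g ^ k = 1)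
    (h2 : ∀ g : G, ¬ p ∣ orderOf g → g ^ k = g) {θ : G → ℂ} (hθ : IsGeneralizedCharacter G θ) :
    IsGeneralizedCharacter G fun g => θ (g ^ k) := by
  refine brauer_char_nilpotent (fun g x => by rw [conj_pow, hθ.isClassFunction]) fun E hE => ?_
  obtain ⟨A, C, -, -, h3, h4, h5, h6⟩ := nilpotent_split E {p}
  have h7 : ∀ a ∈ A, ∀ c ∈ C, (a * c) ^ k = c := fun a ha c hc => by
    refine Subtype.ext (mul_pow_preg h1 h2 ?_ ?_ ((h4 a ha c hc).map E.subtype))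
    · simpa using pelt_of_mem (Solv.isPGroup_of_forall_prime_dvd h5) ha
    · exact (isPiElt_compl_singleton_iff hp.out).1 (isPiElt_coe.2 (isPiElt_of_mem h6 hc))
  let f : E →* E := MonoidHom.mk' (fun e => e ^ k) fun x y => by
    obtain ⟨⟨⟨a, ha⟩, ⟨c, hc⟩⟩, rfl⟩ := h3.2 x
    obtain ⟨⟨⟨a', ha'⟩, ⟨c', hc'⟩⟩, rfl⟩ := h3.2 y
    change (a * c * (a' * c')) ^ k = (a * c) ^ k * (a' * c') ^ k
    rw [h7 a ha c hc, h7 a' ha' c' hc', mul_assoc, ← mul_assoc c, ← (h4 a' ha' c hc).eq, mul_assoc,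
      ← mul_assoc, h7 _ (mul_mem ha ha') _ (mul_mem hc hc')]
  exact (hθ.res E).comp f

theorem classInner_reg_comp [Fintype G] [Fintype H] [Fact p.Prime] (hφ : Function.Surjective φ)
    (hN : IsPGroup p φ.ker) (h : ∀ g, ¬ p ∣ orderOf g → g ∈ Ce φ.ker) (α β : H → ℂ) :
    Nat.card φ.ker * classInner (reg p fun g => α (φ g)) (fun g => β (φ g)) =
      classInner (reg p α) β := by
  have h1 : (Nat.card G : ℂ) = Nat.card φ.ker * Nat.card H := by
    rw [← φ.ker.card_mul_index, Subgroup.index_ker, MonoidHom.range_eq_top.2 hφ,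
      Subgroup.card_top, Nat.cast_mul]
  have h2 : (Nat.card φ.ker : ℂ) ≠ 0 := Nat.cast_ne_zero.2 Nat.card_pos.ne'
  unfold Cfsg.classInner
  rw [h1, mul_inv, ← mul_assoc, ← mul_assoc, mul_inv_cancel₀ h2, one_mul]
  congr 1
  refine Finset.sum_bij_ne_zero (fun g _ _ => φ g) (fun _ _ _ => Finset.mem_univ _)
    (fun s _ hs t _ ht h3 => ?_) (fun x _ hx => ?_) fun g _ hg => ?_
  · have h4 : ¬ p ∣ orderOf s := fun h5 => hs (by rw [reg_of_dvd h5, zero_mul])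
    have h5 : ¬ p ∣ orderOf t := fun h5 => ht (by rw [reg_of_dvd h5, zero_mul])
    exact eq_of_preg_map_eq (K := ⊤) (by rwa [top_inf_eq]) trivial trivial h5 h4
      (by rw [top_inf_eq]; exact h t h5) h3
  · have h4 : ¬ p ∣ orderOf x := fun h5 => hx (by rw [reg_of_dvd h5, zero_mul])
    obtain ⟨g, rfl⟩ := hφ x
    obtain ⟨s, -, h5, h6⟩ := exists_preg_map_eq (Subgroup.mem_top g) h4
    refine ⟨s, Finset.mem_univ _, ?_, h6⟩
    simpa only [reg_of_preg h5, h6, reg_of_preg h4] using hx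
  · have h4 : ¬ p ∣ orderOf g := fun h5 => hg (by rw [reg_of_dvd h5, zero_mul])
    rw [reg_of_preg h4, reg_of_preg (preg_map φ h4)]

theorem mem_charKer_of_invariant [Fintype G] {θ : G → ℂ} {z : G} (hz : z ∈ Subgroup.center G)
    (h : ∀ g, θ (z * g) = θ g) {ξ : IrrCharacter G} (h0 : classInner θ ξ.1 ≠ 0) :
    z ∈ charKer ξ.1 := by
  obtain ⟨ω, -, h1⟩ := exists_root_mul ξ.2 hz
  have h2 : classInner θ ξ.1 = conj ω * classInner θ ξ.1 := by
    unfold Cfsg.classInner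
    conv_lhs => rw [← Equiv.sum_comp (Equiv.mulLeft z)]
    simp only [Equiv.coe_mulLeft, h, h1, map_mul, Finset.mul_sum]
    exact Finset.sum_congr rfl fun g _ => by ring
  have h3 : conj ω = 1 := (mul_eq_right₀ h0).1 h2.symm
  rw [ξ.2.isCharacter.mem_charKer, ← mul_one z, h1, show ω = 1 by simpa using congrArg conj h3,
    one_mul]

variable [PMod M p]

theorem _root_.Cfsg.IsPBlock.preimage [Finite G] [Finite H] (hB : IsPBlock M B)
    (hφ : Function.Surjective φ) (hN : IsPGroup p φ.ker)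
    (h : ∀ g, ¬ p ∣ orderOf g → g ∈ Ce φ.ker) {D : Subgroup G} (hD : IsDef p ⊤ (bar M B) D) :
    IsPBlock M (infl hφ ⁻¹' B) ∧ IsDef p ⊤ (bar M (infl hφ ⁻¹' B)) (D.map φ) ∧
      p ^ blockDefect p B = Nat.card φ.ker * p ^ blockDefect p (infl hφ ⁻¹' B) := by
  haveI : Fact p.Prime := ⟨PMod.prime M⟩
  obtain ⟨χ, h2, h3⟩ := hB.exists_infl_mem hφ hN hD
  have h4 : infl hφ ⁻¹' B = blockOf M χ.1 := by
    ext ξ
    rw [Set.mem_preimage, mem_blockOf, hB.mem_iff, ← hB.blk_eq h2,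
      blk_infl_eq_iff hφ (exists_lift_top_of_preg hφ hN h)]
  have hb := isPBlock_blockOf (M := M) χ
  rw [← bar_blockOf] at h3
  rw [h4]
  refine ⟨hb, h3, ?_⟩
  have h5 : φ.ker ≤ D := hB.isBlock.le_of_isDef hD hN le_top
    (Subgroup.normalizer_eq_top φ.ker).ge
  rw [← hB.card_isDef hD, ← hb.card_isDef h3, ← Subgroup.relIndex_ker,
    ← card_inf_mul_relIndex' φ.ker D, inf_eq_right.2 h5]

theorem _root_.Cfsg.IsPBlock.exists_qf_eq [Fintype G] [Fintype H] (hB : IsPBlock M B)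
    (hφ : Function.Surjective φ) (hN : IsPGroup p φ.ker) (h : φ.ker ≤ Subgroup.center G)
    (v : IrrCharacter G → ℤ) : ∃ w, qf p B v v = qf p (infl hφ ⁻¹' B) w w := by
  haveI : Fact p.Prime := ⟨PMod.prime M⟩
  have h1 : ∀ g, ¬ p ∣ orderOf g → g ∈ Ce φ.ker := fun g _ =>
    mem_Ce.2 fun q hq => (Subgroup.mem_center_iff.1 (h hq) g).symm
  obtain ⟨D, hD⟩ := hB.isBlock.exists_isDef p
  obtain ⟨-, -, h2⟩ := hB.preimage hφ hN h1 hD
  obtain ⟨k, hk1, hk2⟩ := exists_pow_preg p G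
  have h3 := isGen_comp_pow hk1 hk2 (isGen_cmb B v)
  obtain ⟨x, h4, h5⟩ := exists_cmb B h3
  have h6 : cmb B x = fun g => cmb (infl hφ ⁻¹' B) (fun ξ => x (infl hφ ξ)) (φ g) := by
    funext g
    simp only [cmb, Finset.sum_apply, Pi.smul_apply]
    symm
    refine Finset.sum_bij_ne_zero (fun ξ _ _ => infl hφ ξ) (fun ξ hξ _ => by simpa using hξ)
      (fun _ _ _ _ _ _ h7 => infl_injective hφ h7) (fun ξ hξ h7 => ?_) fun _ _ _ => rfl
    obtain ⟨η, rfl⟩ := exists_infl_eq hφ (χ := ξ) fun z hz =>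
      mem_charKer_of_invariant (θ := fun g => cmb B v (g ^ k)) (h hz) (fun g => by
        rw [(Commute.mul_pow (Subgroup.mem_center_iff.1 (h hz) g).symm), hk1 z (pelt_of_mem hN hz),
          one_mul]) (by rw [h4]; exact left_ne_zero_of_smul h7)
    exact ⟨η, by simpa using hξ, h7, rfl⟩
  have h7 : reg p (cmb B v) = reg p (cmb B x) := by
    rw [← h5, ← hB.isUB.blockPart_reg h3.isClassFunction, reg_comp_pow hk2,
      hB.isUB.blockPart_reg (isGen_cmb B v).isClassFunction, blockPart_cmb]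
  refine ⟨fun ξ => x (infl hφ ξ), Int.cast_injective (α := ℂ) ?_⟩
  rw [qf_cast, qf_cast, ← classInner_reg_reg, h7, classInner_reg_reg,
    ← classInner_reg_comp hφ hN h1, ← h6, ← Nat.cast_pow, h2]
  push_cast
  ring

theorem _root_.Cfsg.IsPBlock.minF_of_quot [Fintype G] [Fintype H] (hB : IsPBlock M B)
    (hφ : Function.Surjective φ) (hN : IsPGroup p φ.ker) (h : φ.ker ≤ Subgroup.center G) {m : ℕ}
    (hm : MinF p (infl hφ ⁻¹' B) m) : MinF p B m := fun v => by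
  obtain ⟨w, hw⟩ := hB.exists_qf_eq hφ hN h v
  rw [hw]; exact hm w

end Quot

section KW

variable {G : Type*} [Group G] [Finite G] {M : Ideal AlgInt} {p : ℕ} {u : G}
  {B : Set (IrrCharacter G)} {b : Set (IrrCharacter (Ce1 u))} {χ ψ : IrrCharacter G}

theorem exists_cm_herm [Fintype (Ce1 u)] [Fact p.Prime] (b : Set (IrrCharacter (Ce1 u))) :
    ∃ ω : IrrCharacter (Ce1 u) → ℂ, (∀ ξ, ω ξ ^ orderOf u = 1) ∧
      ∀ θ, IsGeneralizedCharacter G θ → ∃ a : IrrCharacter (Ce1 u) → IrrCharacter (Ce1 u) → ℤ,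
        cm p u b θ θ = ∑ ξ ∈ fs b, ∑ η ∈ fs b, ω ξ * conj (ω η) * qf p b (a ξ) (a η) := by
  choose ω h1 _ h2 using fun ξ : IrrCharacter (Ce1 u) => exists_coeff_Ru ξ
  refine ⟨ω, h1, fun θ hθ => ?_⟩
  choose n hn using fun ξ : IrrCharacter (Ce1 u) => (hθ.res (Ce1 u)).classInner_eq_int ξ.2.isGen
  refine ⟨fun ξ => Pi.single ξ (n ξ), ?_⟩
  rw [cm_eq_sum]
  refine Finset.sum_congr rfl fun ξ hξ => Finset.sum_congr rfl fun η hη => ?_
  rw [h2, h2, hn, hn, qf_single (mem_fs.1 hξ) (mem_fs.1 hη), map_mul, map_intCast]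
  push_cast
  ring

theorem tp_cm [Fintype (Ce1 u)] {θ : G → ℂ} (hθ : IsGeneralizedCharacter G θ) :
    TP (cm p u b θ θ) := by
  rw [cm, ← Nat.cast_pow]
  exact (TP.nat _).mul (TP.classInner (loc_mem_CM b hθ))

theorem exists_pow_ne_zero [Fact p.Prime] (hu : ∃ k : ℕ, orderOf u = p ^ k) :
    ∃ n, n ≠ 0 ∧ ∀ z : ℂ, z ^ orderOf u = 1 → z ^ p ^ n = 1 := by
  obtain ⟨k, hk⟩ := hu
  exact ⟨k + 1, k.succ_ne_zero, fun z hz => by rw [pow_succ, pow_mul, ← hk, hz, one_pow]⟩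

variable [PMod M p]

theorem _root_.Cfsg.IsInducedBlock.mul_card_le [Fintype (Ce1 u)]
    (hu : ∃ k : ℕ, orderOf u = p ^ k) (h : IsInducedBlock M (Ce1 u) b B) {m : ℕ}
    (hm : MinF p b m) {S : Finset (IrrCharacter G)} (hS : S ⊆ fs B)
    (h0 : ∀ χ ∈ S, cm p u b χ.1 χ.1 ≠ 0) :
    m * S.card ≤ p ^ blockDefect p b * blockRank p b := by
  haveI : Fact p.Prime := ⟨PMod.prime M⟩
  obtain ⟨n, hn, h1⟩ := exists_pow_ne_zero hu
  obtain ⟨η, τ, -, hτ⟩ := exists_tau p hn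
  obtain ⟨ω, h2, h3⟩ := exists_cm_herm (p := p) b
  have h4 := congrArg (fun z => (τ z).re) (h.sum_cm_self hu)
  simp only [map_sum, Complex.re_sum] at h4
  rw [← Nat.cast_pow, ← Nat.cast_mul, hτ.nat, Complex.natCast_re] at h4
  have h5 : ∑ χ ∈ S, (m : ℝ) ≤ ∑ χ ∈ fs B, (τ (cm p u b χ.1 χ.1)).re := by
    refine (Finset.sum_le_sum fun χ hχ => ?_).trans
      (Finset.sum_le_sum_of_subset_of_nonneg hS fun χ _ _ => hτ.re_nonneg (tp_cm χ.2.isGen))
    obtain ⟨a, ha⟩ := h3 _ χ.2.isGen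
    rw [ha]
    exact hτ.le_herm qf_comm hm _ (fun ξ _ => h1 _ (h2 ξ)) a (ha ▸ h0 χ hχ)
  rw [h4, Finset.sum_const, nsmul_eq_mul, mul_comm] at h5
  exact_mod_cast h5

theorem ker_mk_zpowers_uC (u : G) [(Subgroup.zpowers (uC u)).Normal] :
    (QuotientGroup.mk' (Subgroup.zpowers (uC u))).ker ≤ Subgroup.center (Ce1 u) := by
  rw [QuotientGroup.ker_mk', Subgroup.zpowers_le]
  exact mem_center_Ce1 u

instance normal_zpowers_uC (u : G) : (Subgroup.zpowers (uC u)).Normal :=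
  ⟨fun n hn g => by
    rwa [Subgroup.mem_center_iff.1 (Subgroup.zpowers_le.2 (mem_center_Ce1 u) hn) g,
      mul_inv_cancel_right]⟩

omit [PMod M p] in
theorem isPGroup_ker_uC (hu : ∃ k : ℕ, orderOf u = p ^ k) :
    IsPGroup p (QuotientGroup.mk' (Subgroup.zpowers (uC u))).ker := by
  rw [QuotientGroup.ker_mk']
  exact isPGroup_zpowers (by simpa [← Subgroup.orderOf_coe] using hu)

/-- The dominated block of a subsection. -/
theorem _root_.Cfsg.IsPBlock.exists_dom (hu : ∃ k : ℕ, orderOf u = p ^ k) (hb : IsPBlock M b)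
    {Q : Subgroup G} (hQ : IsDef p (Ce1 u) (barS M (Ce1 u) b) Q) :
    ∃ c : Set (IrrCharacter (Ce1 u ⧸ Subgroup.zpowers (uC u))), IsPBlock M c ∧
      IsDef p ⊤ (bar M c) ((Q.subgroupOf (Ce1 u)).map (QuotientGroup.mk' _)) ∧
      p ^ blockDefect p b = orderOf u * p ^ blockDefect p c ∧ blockRank p c = blockRank p b ∧
      ∀ [Fintype (Ce1 u)] [Fintype (Ce1 u ⧸ Subgroup.zpowers (uC u))] (m : ℕ),
        MinF p c m → MinF p b m := by
  have hφ := QuotientGroup.mk'_surjective (Subgroup.zpowers (uC u))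
  have h1 : ∀ g, ¬ p ∣ orderOf g → g ∈ Ce (QuotientGroup.mk' (Subgroup.zpowers (uC u))).ker :=
    fun g _ => mem_Ce.2 fun q hq => (Subgroup.mem_center_iff.1 (ker_mk_zpowers_uC u hq) g).symm
  obtain ⟨h2, h3, h4⟩ := hb.preimage hφ (isPGroup_ker_uC hu) h1
    (hb.isDefectGroup_iff.1 ((hb.isDefectGroup_subgroupOf_iff hQ.le).2 hQ))
  refine ⟨_, h2, h3, ?_, hb.isUB.blockRank_preimage hφ (isPGroup_ker_uC hu) h1, fun m hm =>
    hb.minF_of_quot hφ (isPGroup_ker_uC hu) (ker_mk_zpowers_uC u) hm⟩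
  rw [h4, QuotientGroup.ker_mk', Nat.card_zpowers, ← Subgroup.orderOf_coe, coe_uC]

theorem isCyclic_map_uC {Q : Subgroup G} (hQ : Q ≤ Ce1 u) {y : G} (hy : y ∈ Q)
    (h : ∀ x ∈ Q, ∃ i j : ℤ, x = u ^ i * y ^ j) :
    IsCyclic ((Q.subgroupOf (Ce1 u)).map (QuotientGroup.mk' (Subgroup.zpowers (uC u)))) := by
  refine ⟨⟨⟨_, ⟨y, hQ hy⟩, hy, rfl⟩, ?_⟩⟩
  rintro ⟨_, x, hx, rfl⟩
  obtain ⟨i, j, h1⟩ := h x hx
  refine ⟨j, Subtype.ext ?_⟩
  have h2 : x = uC u ^ i * ⟨y, hQ hy⟩ ^ j := Subtype.ext h1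
  have h3 : QuotientGroup.mk' (Subgroup.zpowers (uC u)) (uC u) = 1 :=
    (QuotientGroup.eq_one_iff _).2 (Subgroup.mem_zpowers _)
  change QuotientGroup.mk' _ (⟨y, hQ hy⟩ : Ce1 u) ^ j = QuotientGroup.mk' _ x
  rw [h2, map_mul, map_zpow, map_zpow, h3, one_zpow, one_mul]

/-- Brauer's bound for subsections with cyclic quotient. -/
theorem _root_.Cfsg.IsInducedBlock.card_le_of_cyclic [Fintype (Ce1 u)]
    (hu : ∃ k : ℕ, orderOf u = p ^ k) (h : IsInducedBlock M (Ce1 u) b B) {Q : Subgroup G}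
    (hQ : IsDef p (Ce1 u) (barS M (Ce1 u) b) Q) {y : G} (hy : y ∈ Q)
    (h1 : ∀ x ∈ Q, ∃ i j : ℤ, x = u ^ i * y ^ j) {S : Finset (IrrCharacter G)} (hS : S ⊆ fs B)
    (h0 : ∀ χ ∈ S, cm p u b χ.1 χ.1 ≠ 0) : S.card ≤ Nat.card Q := by
  haveI : Fact p.Prime := ⟨PMod.prime M⟩
  have := Fintype.ofFinite (Ce1 u ⧸ Subgroup.zpowers (uC u))
  have hb := (isInducedBlock_iff.1 h).1
  obtain ⟨c, hc, h2, -, h3, h4⟩ := hb.exists_dom hu hQ
  have h5 := h.mul_card_le hu (h4 _ (hc.minF_of_cyclic h2 (isCyclic_map_uC hQ.le hy h1))) hS h0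
  rw [h3, mul_comm, ← hb.card_isDefS hQ] at h5
  exact Nat.le_of_mul_le_mul_right h5 (blockRank_pos hb.nonempty)

theorem _root_.Cfsg.IsPBlock.card_le_of_cyclic (hB : IsPBlock M B) {P : Subgroup G}
    (hP : IsDef p ⊤ (bar M B) P) (hu : u ∈ P ⊓ Ce P) {y : G} (hy : y ∈ P)
    (h1 : ∀ x ∈ P, ∃ i j : ℤ, x = u ^ i * y ^ j) : (fs B).card ≤ Nat.card P := by
  haveI : Fact p.Prime := ⟨PMod.prime M⟩
  have := Fintype.ofFinite (Ce1 u)
  obtain ⟨b, hb, h2, h3⟩ := hB.exists_major hP hu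
  have h4 := pelt_of_mem hP.pg hu.1
  exact hb.card_le_of_cyclic h4 h2 hy h1 le_rfl fun χ hχ => hb.cm_self_ne_zero h4 h3 (mem_fs.1 hχ)

omit [Finite G] in
theorem exists_zpow_of_mem_closure {x y z : G} (h : Commute x y)
    (hz : z ∈ Subgroup.closure ({x, y} : Set G)) : ∃ i j : ℤ, z = x ^ i * y ^ j := by
  induction hz using Subgroup.closure_induction with
  | mem w hw =>
    rcases hw with rfl | rfl
    · exact ⟨1, 0, by simp⟩
    · exact ⟨0, 1, by simp⟩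
  | one => exact ⟨0, 0, by simp⟩
  | mul a c _ _ ha hc =>
    obtain ⟨i, j, rfl⟩ := ha
    obtain ⟨k, l, rfl⟩ := hc
    exact ⟨i + k, j + l, by
      rw [zpow_add, zpow_add, mul_assoc, mul_assoc, ← mul_assoc (y ^ j),
        ← (h.zpow_zpow k j).eq, mul_assoc]⟩
  | inv a _ ha =>
    obtain ⟨i, j, rfl⟩ := ha
    exact ⟨-i, -j, by rw [mul_inv_rev, ← zpow_neg, ← zpow_neg, (h.zpow_zpow _ _).eq]⟩

omit [PMod M p] in
theorem exists_gen_of_card_le [hp : Fact p.Prime] {Q : Subgroup G} (hQ : IsPGroup p Q)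
    (h : Nat.card Q ≤ p ^ 2) (hu : u ∈ Q ⊓ Ce Q) (h1 : u ≠ 1) :
    ∃ y ∈ Q, ∀ x ∈ Q, ∃ i j : ℤ, x = u ^ i * y ^ j := by
  by_cases h2 : Q ≤ Subgroup.zpowers u
  · refine ⟨1, one_mem _, fun x hx => ?_⟩
    obtain ⟨i, rfl⟩ := h2 hx
    exact ⟨i, 0, by simp⟩
  obtain ⟨y, hy, h3⟩ := SetLike.not_le_iff_exists.1 h2
  have h4 : Subgroup.closure ({u, y} : Set G) ≤ Q := by
    rw [Subgroup.closure_le]; rintro _ (rfl | rfl); exacts [hu.1, hy]
  have h5 : Subgroup.zpowers u < Subgroup.closure ({u, y} : Set G) :=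
    lt_of_le_of_ne (Subgroup.zpowers_le.2 (Subgroup.subset_closure (by simp))) fun h6 =>
      h3 (h6 ▸ Subgroup.subset_closure (by simp))
  have h6 := lt_of_not_ge fun h => h5.ne (Subgroup.eq_of_le_of_card_ge h5.le h)
  obtain ⟨i, hi⟩ := IsPGroup.iff_card.1 (isPGroup_le hQ (h5.le.trans h4))
  obtain ⟨j, hj⟩ := IsPGroup.iff_card.1 (isPGroup_le hQ h4)
  have h7 : i ≠ 0 := by
    rintro rfl
    exact h1 (Subgroup.zpowers_eq_bot.1 (Subgroup.card_eq_one.1 hi))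
  rw [hi, hj, Nat.pow_lt_pow_iff_right hp.out.one_lt] at h6
  have h8 := Subgroup.eq_of_le_of_card_ge h4
    (h.trans (hj ▸ Nat.pow_le_pow_right hp.out.pos (by omega)))
  exact ⟨y, hy, fun x hx => exists_zpow_of_mem_closure (mem_Ce.1 hu.2 y hy).symm (h8 ▸ hx)⟩

theorem _root_.Cfsg.IsPBlock.card_le_of_defect_le (hB : IsPBlock M B) (h : blockDefect p B ≤ 2) :
    (fs B).card ≤ p ^ blockDefect p B := by
  haveI hp : Fact p.Prime := ⟨PMod.prime M⟩
  obtain ⟨P, hP⟩ := hB.isBlock.exists_isDef p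
  rw [← hB.card_isDef hP]
  by_cases h1 : P ⊓ Ce P = ⊥
  · exact hB.card_le_of_cyclic hP (one_mem _) (one_mem _) fun x hx =>
      ⟨0, 0, by simpa [eq_bot_of_inf_Ce hP.pg h1] using hx⟩
  obtain ⟨⟨u, hu⟩, h2⟩ := Subgroup.ne_bot_iff_exists_ne_one.1 h1
  obtain ⟨y, hy, h3⟩ := exists_gen_of_card_le hP.pg
    (hB.card_isDef hP ▸ Nat.pow_le_pow_right hp.out.pos h) hu (by simpa using h2)
  exact hB.card_le_of_cyclic hP hu hy h3

theorem _root_.Cfsg.IsPBlock.card_mul_le_of_three (hB : IsPBlock M B) {P : Subgroup G}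
    (hP : IsDef p ⊤ (bar M B) P) (hc : P ≤ Ce P) (hu : u ∈ P) {y z : G} (hy : y ∈ P) (hz : z ∈ P)
    (h1 : ∀ x ∈ P, ∃ i j k : ℤ, x = u ^ i * y ^ j * z ^ k) :
    (fs B).card * orderOf u ≤ Nat.card P ^ 2 := by
  haveI : Fact p.Prime := ⟨PMod.prime M⟩
  have := Fintype.ofFinite (Ce1 u)
  obtain ⟨b, hb, h2, h3⟩ := hB.exists_major hP ⟨hu, hc hu⟩
  have h4 := pelt_of_mem hP.pg hu
  have h5 := hb.mul_card_le h4 minF_one le_rfl fun χ hχ => hb.cm_self_ne_zero h4 h3 (mem_fs.1 hχ)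
  obtain ⟨c, h6, h7, h8, h9, -⟩ := (isInducedBlock_iff.1 hb).1.exists_dom h4 h2
  have h10 := h6.card_le_of_cyclic h7 (u := QuotientGroup.mk' _ (⟨y, h2.le hy⟩ : Ce1 u))
    (y := QuotientGroup.mk' _ (⟨z, h2.le hz⟩ : Ce1 u))
    ⟨Subgroup.mem_map_of_mem _ hy, mem_Ce.2 (by
      rintro _ ⟨x, hx, rfl⟩
      rw [← map_mul, ← map_mul]
      exact congrArg _ (Subtype.ext (mem_Ce.1 (hc hy) x hx)))⟩
    (Subgroup.mem_map_of_mem _ hz) (by
      rintro _ ⟨x, hx, rfl⟩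
      obtain ⟨i, j, k, h11⟩ := h1 x hx
      have h12 : x = uC u ^ i * ⟨y, h2.le hy⟩ ^ j * ⟨z, h2.le hz⟩ ^ k := Subtype.ext h11
      have h13 : QuotientGroup.mk' (Subgroup.zpowers (uC u)) (uC u) = 1 :=
        (QuotientGroup.eq_one_iff _).2 (Subgroup.mem_zpowers _)
      exact ⟨j, k, by rw [h12, map_mul, map_mul, map_zpow, map_zpow, map_zpow, h13, one_zpow,
        one_mul]⟩)
  rw [h6.card_isDef h7] at h10
  have h11 := h9 ▸ (blockRank_le_card (p := p) c).trans h10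
  rw [hB.card_isDef hP, ← h3, sq]
  calc _ ≤ p ^ blockDefect p b * p ^ blockDefect p c * orderOf u :=
        Nat.mul_le_mul_right _ ((one_mul _).ge.trans (h5.trans (Nat.mul_le_mul_left _ h11)))
    _ = _ := by rw [mul_assoc, mul_comm _ (orderOf u), ← h8]

end KW

theorem card_le_of_three_le {M : Ideal AlgInt} {p : ℕ} [PMod M p] (d : ℕ) :
    ∀ {G : Type*} [Group G] [Finite G] {B : Set (IrrCharacter G)}, IsPBlock M B →
      blockDefect p B = d + 3 → (fs B).card ≤ p ^ (2 * d + 4) := by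
  haveI hp : Fact p.Prime := ⟨PMod.prime M⟩
  induction d using Nat.strong_induction_on with
  | _ d ih =>
  intro G _ _ B hB hd
  have := Fintype.ofFinite G
  by_cases h0 : ∃ χ ∈ B, blockHeight p B χ ≠ 0
  · obtain ⟨χ, hχ, h1⟩ := h0
    have h2 := hB.two_mul_card_le hχ h1
    rw [hd, show 2 * (d + 3) - 2 = 2 * d + 4 by omega] at h2
    omega
  push Not at h0
  obtain ⟨P, hP⟩ := hB.isBlock.exists_isDef p
  have h1 : P ⊓ Ce P ≠ ⊥ := fun h => by
    have h2 := hB.card_isDef hP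
    rw [eq_bot_of_inf_Ce hP.pg h, hd, Subgroup.card_bot] at h2
    exact absurd h2 (Nat.one_lt_pow (by omega) hp.out.one_lt).ne
  obtain ⟨k, hk⟩ := IsPGroup.iff_card.1 (isPGroup_le hP.pg (inf_le_left (b := Ce P)))
  obtain ⟨⟨u, hu⟩, h2⟩ := exists_prime_orderOf_dvd_card' (G := ↥(P ⊓ Ce P)) p
    (hk ▸ dvd_pow_self _ (by rintro rfl; exact h1 (Subgroup.card_eq_one.1 hk)))
  rw [← Subgroup.orderOf_coe] at h2
  obtain ⟨b, hb, h3, h4⟩ := hB.exists_major hP hu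
  have h5 := pelt_of_mem hP.pg hu.1
  have h6 := hb.card_height_zero_sq_le h5
  rw [Finset.filter_true_of_mem fun χ hχ => h0 χ (mem_fs.1 hχ)] at h6
  obtain ⟨c, h7, -, h8, h9, -⟩ := (isInducedBlock_iff.1 hb).1.exists_dom h5 h3
  rw [h4, hd, h2, ← pow_succ'] at h8
  have h10 : blockDefect p c = d + 2 := by
    have := Nat.pow_right_injective hp.out.two_le h8
    omega
  have h11 : (fs c).card ≤ p ^ (2 * d + 2) := by
    rcases d with _ | d
    · simpa [h10] using h7.card_le_of_defect_le h10.le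
    · exact ih d d.lt_succ_self h7 h10
  refine (Nat.pow_le_pow_iff_left two_ne_zero).1 (h6.trans ?_)
  rw [← pow_mul, show (2 * d + 4) * 2 = 2 * (d + 3) + (2 * d + 2) by ring, pow_add, h4, hd]
  exact Nat.mul_le_mul_left _ (h9 ▸ (blockRank_le_card c).trans h11)

end Cfsg.Agent.Blk
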