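import Cfsg.Agent.Lib.Block.BLeon

/-! Groups whose order contains a prime to the first power: small degrees. -/

set_option autoImplicit false

namespace Cfsg.Agent.Blk

open MonoidAlgebra
open Cfsg.Agent.Char hiding cj cj_mul cj_inv_cj cj_cj_inv sum_cj_eq om
open scoped ComplexConjugate Classical

variable {G : Type*} [Group G] {M : Ideal AlgInt} {p : ℕ}
  {B : Set (IrrCharacter G)} {P : Subgroup G} {θ φ : G → ℂ}
  {χ ψ : IrrCharacter G} {u v : P} {l m : P →* ℂˣ}

theorem isCharacter_avg [Finite G] [Fintype P] (hc : P ≤ Ce P) {φ : Ce P → ℂ}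
    (hφ : IsCharacter (Ce P) φ) (l : P →* ℂˣ) :
    IsCharacter (Ce P) fun c => classInner (fun u : P => φ (⟨u, hc u.2⟩ * c)) (lc l) := by
  have := char_induction (P := fun φ : Ce P → ℂ => IsCharacter (Ce P) fun c =>
    classInner (fun u : P => φ (⟨u, hc u.2⟩ * c)) (lc l)) hφ
  refine this ?_ (fun φ ψ h1 h2 => ?_) fun ξ hξ => ?_
  · convert IsCharacter.zero using 2; exact classInner_zero_left _
  · convert h1.add h2 using 2; exact classInner_add_left _ _ _
  · obtain ⟨m, hm⟩ := exists_lc_Ce hc ⟨ξ, hξ⟩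
    have : ∀ c, classInner (fun u : P => ξ (⟨u, hc u.2⟩ * c)) (lc l) =
        ξ c * if m = l then 1 else 0 := fun c => by
      rw [← classInner_lc, ← classInner_smul_left]
      exact congrArg (classInner · _) (funext fun u => (hm u c).trans (mul_comm _ _))
    simp only [this]
    split_ifs
    · simpa using hξ.isCharacter
    · convert IsCharacter.zero using 2; simp

theorem inner_mul_eq_zero [Finite G] [Fintype P] (hc : P ≤ Ce P) (hθ : IsCharacter G θ)
    (h : classInner (fun u : P => θ u) (lc l) = 0) {s : G} (hs : s ∈ Ce P) :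
    classInner (fun u : P => θ (u * s)) (lc l) = 0 :=
  congrFun ((isCharacter_avg hc (hθ.res _) l).eq_zero_of_apply_one (by simpa using h)) ⟨s, hs⟩

theorem sum_mul_eq_zero [Finite G] [Fintype P] (hc : P ≤ Ce P) (hθ : IsCharacter G θ)
    (h : classInner (fun u : P => θ u) (fun _ => 1) = 0) {s : G} (hs : s ∈ Ce P) :
    ∑ u : P, θ (u * s) = 0 := by
  have := inner_mul_eq_zero (l := 1) hc hθ h hs
  rw [lc_one, classInner_one_right] at this
  exact (mul_eq_zero.1 this).resolve_left (inv_ne_zero (card_ne_zero' _))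

variable [Fintype G]

variable (p) in
/-- regular elements of the centralizer -/
noncomputable def vr (P : Subgroup G) : Finset G :=
  Finset.univ.filter fun s => s ∈ Ce P ∧ ¬ p ∣ orderOf s

theorem mem_vr {s : G} : s ∈ vr p P ↔ s ∈ Ce P ∧ ¬ p ∣ orderOf s := by simp [vr]

theorem one_mem_vr [Fact p.Prime] : 1 ∈ vr p P := mem_vr.2 ⟨one_mem _, preg_one⟩

theorem card_Ce_eq [Fact p.Prime] (hP : IsSyl p P ⊤) (hc : P ≤ Ce P) :
    Nat.card (Ce P) = Nat.card P * (vr p P).card := by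
  rw [← Nat.card_eq_finsetCard, ← Nat.card_prod]
  refine (Nat.card_eq_of_bijective (fun x : P × vr p P =>
    (⟨x.1 * x.2, mul_mem (hc x.1.2) (mem_vr.1 x.2.2).1⟩ : Ce P)) ⟨fun x y h => ?_, fun c => ?_⟩).symm
  · have h1 : (x.1 * x.2 : G) = y.1 * y.2 := congrArg Subtype.val h
    have k : ∀ x : P × vr p P, IsPPart p (x.1 * x.2 : G) x.1 := fun x => isPPart_mul
      (mem_Ce.1 (mem_vr.1 x.2.2).1 _ x.1.2) (pelt_of_mem hP.pg x.1.2) (mem_vr.1 x.2.2).2
    have h2 := (k x).unique (h1 ▸ k y)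
    rw [h2, mul_right_inj] at h1
    exact Prod.ext (Subtype.ext h2) (Subtype.ext h1)
  · obtain ⟨x, hx⟩ := exists_isPPart p (c : G)
    have h1 : x ∈ P := hP.max _ le_top (isPGroup_sup hx.isPGroup hP.pg
      ((zpowers_le' (hx.mem c.2)).trans (Ce_le_No P))) le_sup_right ▸
        Subgroup.mem_sup_left (Subgroup.mem_zpowers x)
    exact ⟨(⟨x, h1⟩, ⟨x⁻¹ * c, mem_vr.2 ⟨mul_mem (inv_mem (hc h1)) c.2, hx.preg⟩⟩), by simp⟩

theorem UC.inner_Ru (hU : UC P) (hu : u ≠ 1) [Fintype (Ce1 (u : G))] (θ : G → ℂ) :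
    Nat.card (Ce P) * classInner (Ru (u : G) θ) (reg p (irrOne _).1) = ∑ s ∈ vr p P, θ (u * s) := by
  rw [classInner, ← hU.eq hu, mul_inv_cancel_left₀ (card_ne_zero' _), vr, Finset.sum_filter,
    ← hU.eq hu, show ∑ c : Ce1 (u : G), Ru (u : G) θ c * conj (reg p (irrOne _).1 c) =
      ∑ c : Ce1 (u : G), if p ∣ orderOf (c : G) then 0 else θ (u * c) from
      Finset.sum_congr rfl fun c _ => by
        rw [Subgroup.orderOf_coe]
        split_ifs with h
        · rw [reg_of_dvd h, map_zero, mul_zero]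
        · simp [reg_of_preg h, Ru],
    sum_subgroup _ fun c => if p ∣ orderOf c then 0 else θ (u * c)]
  refine Finset.sum_congr rfl fun c _ => ?_
  by_cases h1 : c ∈ Ce1 (u : G) <;> by_cases h2 : p ∣ orderOf c <;> simp [h1, h2]

variable [PMod M p] [Fintype P]

variable (M) in
theorem UC.inner_one (hU : UC P) (hP : IsSyl p P ⊤) (hθ : IsClassFunction G θ) (h : reg p θ = 0) :
    Nat.card (autE P (e0 M P)) * Nat.card (Ce P) * classInner θ (fun _ => 1) =
      ∑ u ∈ Finset.univ.erase (1 : P), ∑ s ∈ vr p P, θ (u * s) := by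
  have hf := hU.fa0 M hP
  rw [← coe_irrOne, hf.eq_reg_add (blockPart_irr_of_mem irrOne_mem_principal), classInner_add_right,
    ← classInner_reg_comm, h, classInner_zero_left, zero_add, classInner_sum_right, Finset.mul_sum]
  refine Finset.sum_congr rfl fun u hu => ?_
  have hu1 := Finset.ne_of_mem_erase hu
  have := Fintype.ofFinite (Ce1 (u : G))
  rw [classInner_smul_right, classInner_Iu_right _ hθ, reg_loc, hf.nF_eq hu1, ← hU.inner_Ru hu1, loc,
    sb_principal hP.pg u.2, show Ru (u : G) (irrOne G).1 = (irrOne _).1 from rfl,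
    blockPart_irr_of_mem irrOne_mem_principal, map_inv₀, Complex.conj_natCast, mul_right_comm,
    mul_inv_cancel_left₀ (card_ne_zero' _), mul_comm]

omit [Fintype P] in
theorem UC.sum_vr_eq_zero (hU : UC P) (hP : IsSyl p P ⊤) (hθ : IsClassFunction G θ)
    (h : blockPart (principalBlock M G) θ = 0) (hu : u ≠ 1) : ∑ s ∈ vr p P, θ (u * s) = 0 := by
  have := Fintype.ofFinite (Ce1 (u : G))
  have h1 := (hU.fa0 M hP).loc_blockPart u.2 hθ
  rw [h, loc_zero, sb_principal hP.pg u.2, isPBlock_principal.isUB.loc_eq hθ] at h1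
  rw [← hU.inner_Ru hu, ← classInner_reg_comm, ← blockPart_irr_of_mem (irrOne_mem_principal (M := M)),
    ← classInner_blockPart_comm, ← h1, classInner_zero_left, mul_zero]

omit [Fintype G] in
theorem exists_dd0 [Finite G] (M : Ideal AlgInt) [PMod M p] (hP : IsSyl p P ⊤) (h : Nat.card P = p) :
    ∃ δ ζ a, DD p (principalBlock M G) P (e0 M P) (fun χ u => χ.1 u) (fun _ => 1) δ ζ a ∧
      irrOne G ∉ excSet ζ := by
  haveI hp : Fact p.Prime := ⟨PMod.prime M⟩
  have hf := (uc_of_card h).fa0 M hP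
  have h1 : P ≠ ⊥ := ne_bot_of_card le_rfl (h.trans (pow_one p).symm)
  have h2 := hf.rank_eq (isCyclic_of_prime_card h) h1
  obtain ⟨χ, h3, h4⟩ : ∃ χ ∈ fs (principalBlock M G), χ ≠ irrOne G := by
    refine Finset.exists_mem_ne (not_le.1 fun h3 => ?_) _
    have h4 := hf.card_eq_rank
    have := hp.out.one_lt
    have := Nat.card_pos (α := autE P (e0 M P))
    rw [h2, h] at h4
    nlinarith
  obtain ⟨δ, ζ, a, h5, h6⟩ := hf.exists_dd (ε := fun _ => 1) h1 (fun χ hχ u hu => by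
    rw [one_mul, hf.dn_principal u.2 (coe_ne_one hu) hχ]) (fun _ _ => by simp)
    hf.exd_principal h2 (mem_fs.1 h3)
  refine ⟨δ, ζ, a, h5, fun h7 => ?_⟩
  by_cases h8 : 1 < (excSet ζ).card
  · exact h5.exc.notMem_of_const h8 (c := 1) (fun _ _ => rfl) h7
  · rw [h6 (le_antisymm (not_lt.1 h8) (Finset.card_pos.2 ⟨_, h7⟩)), Finset.mem_singleton] at h7
    exact h4 h7.symm

omit [Fintype G] [PMod M p] in
theorem classInner_eta_eta {W : Type*} [Group W] [Fintype W] {E : Subgroup (MulAut W)}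
    {l m : W →* ℂˣ} (h : ¬ Orb E l m) : classInner (eta E l) (eta E m) = 0 := by
  conv_lhs => rw [eta.eq_1 E m, classInner_sum_right]
  exact Finset.sum_eq_zero fun n hn => by
    rw [classInner_eta, if_neg fun h1 => h (h1.trans (Finset.mem_filter.1 hn).2.symm)]

omit [Fintype G] in
theorem small_res [Finite G] (M : Ideal AlgInt) [PMod M p] (hP : IsSyl p P ⊤) (h : Nat.card P = p)
    (h1 : ∀ c, ¬ ∀ u : P, u ≠ 1 → χ.1 u = c) (h2 : 2 * charDegree χ.1 + 1 < p) :
    ∃ (n : ℕ) (l l' : P →* ℂˣ) (χ' : IrrCharacter G), l ≠ 1 ∧ ¬ Orb (autE P (e0 M P)) l' l ∧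
      χ' ≠ χ ∧ reg p χ'.1 = reg p χ.1 ∧ (∀ u : P, χ.1 u = n * eta (autE P (e0 M P)) l u) ∧
      ∀ u : P, χ'.1 u = n * eta (autE P (e0 M P)) l' u := by
  haveI hp : Fact p.Prime := ⟨PMod.prime M⟩
  have hU := uc_of_card h
  obtain ⟨u, hu, h3⟩ : ∃ u : P, u ≠ 1 ∧ χ.1 u ≠ 0 := by
    have := h1 0; push Not at this; exact this
  obtain ⟨e, hm⟩ := hU.exists_mp hP (isPBlock_blockOf (M := M) χ) (mem_blockOf_self χ) hu h3
  obtain ⟨δ, ζ, a, hd, -⟩ := hm.exists_dd_prime h (mem_blockOf_self χ)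
  obtain ⟨h4, h5⟩ := hm.exists_exc_of_not_const hU hP hd.exc (mem_blockOf_self χ) h1
  obtain ⟨l, hl, rfl⟩ := mem_excSet.1 h4
  obtain ⟨l', hl', h6⟩ : ∃ l', l' ≠ 1 ∧ ¬ Orb (autE P (e0 M P)) l' l := by
    by_contra h6
    push Not at h6
    exact h5 fun a b ha hb => (h6 a ha).trans (h6 b hb).symm
  have hf := hU.fa0 M hP
  obtain ⟨δ₀, ζ₀, a₀, hd₀, -⟩ := exists_dd0 M hP h
  have h7 := hd₀.exc.card_exc hd₀.exd
  have h8 : 2 ≤ (excSet ζ₀).card := not_le.1 fun h => h5 (hd₀.exc.orb_of_card h)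
  have k1 : ∀ m, m ≠ 1 → ∀ v : P, (ζ m).1 v = cdg p P e * eta (autE P (e0 M P)) m v := by
    intro m hm1
    have h9 : (ζ m).1 1 = charDegree (ζ l).1 := by
      simpa [reg_of_preg preg_one, cast_deg] using congrFun (hd.exc.reg_eq hd.exd hm1 hl) 1
    have h10 : ∀ n, classInner (fun v : P => (ζ m).1 v) (lc n) = δ * cdg p P e *
        (if Orb (autE P (e0 M P)) m n then 1 else 0) + (charDegree (ζ l).1 - δ * cdg p P e *
          Nat.card (autE P (e0 M P))) / p := fun n => by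
      rw [classInner_off (g := ((δ : ℂ) * cdg p P e) • eta (autE P (e0 M P)) m)
        (fun v hv => hd.apply_exc' hU hP hm1 hv), classInner_smul_left, classInner_eta, h,
        Pi.smul_apply, hf.free.eta_one hf.comm' hm1, OneMemClass.coe_one, h9, smul_eq_mul]
    obtain ⟨x, hx⟩ := ((ζ m).2.isCharacter.res P).classInner_eq_nat (isIrr_lc 1).isCharacter
    obtain ⟨y, hy⟩ := ((ζ m).2.isCharacter.res P).classInner_eq_nat (isIrr_lc m).isCharacter
    rw [h10, if_neg fun h => h.ne_one hm1 rfl, mul_zero, zero_add] at hx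
    rw [h10, if_pos (Orb.refl _), mul_one, hx] at hy
    rw [div_eq_iff (Nat.cast_ne_zero.2 hp.out.ne_zero)] at hx
    have h11 : (charDegree (ζ l).1 - δ * cdg p P e * Nat.card (autE P (e0 M P)) : ℤ) = x * p := by
      exact_mod_cast hx
    have h12 : (δ * cdg p P e + x : ℤ) = y := by exact_mod_cast hy
    have h13 : 2 * Nat.card (autE P (e0 M P)) + 1 ≤ p := by nlinarith
    have h14 := Nat.pos_of_ne_zero (cdg_ne_zero (p := p) (P := P) (e := e))
    obtain ⟨rfl, rfl⟩ : δ = 1 ∧ x = 0 := by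
      rcases hd.exc.sign with rfl | rfl
      · refine ⟨rfl, by_contra fun h => ?_⟩
        have : 1 ≤ x := by omega
        nlinarith
      · exfalso
        have : cdg p P e ≤ x := by omega
        nlinarith
    intro v
    by_cases hv : v = 1
    · rw [hv, hf.free.eta_one hf.comm' hm1, OneMemClass.coe_one, h9]
      simpa [sub_eq_zero] using hx
    · simpa using hd.apply_exc' hU hP hm1 hv
  exact ⟨_, l, l', ζ l', hl, h6, fun h => h6 (((hd.exc.inj _ _ hl' hl).1 h).mono (autE_le e)),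
    hd.exc.reg_eq hd.exd hl' hl, k1 l hl, k1 l' hl'⟩

theorem sum_sq_le (hU : UC P) (hP : IsSyl p P ⊤) {n : ℕ} {χ' : IrrCharacter G} (hl : l ≠ 1)
    (h1 : χ' ≠ χ) (h2 : reg p χ'.1 = reg p χ.1) (h3 : ∀ u : P, χ.1 u = n * eta (autE P (e0 M P)) l u)
    (h4 : classInner (fun u : P => χ'.1 u * conj (χ.1 u)) (fun _ => 1) = 0) :
    ∑ s ∈ vr p P, ‖χ.1 s‖ ^ 2 ≤ Nat.card (autE P (e0 M P)) ^ 2 * (vr p P).card := by
  haveI hp : Fact p.Prime := ⟨PMod.prime M⟩
  have hf := hU.fa0 M hP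
  have h5 : reg p ((χ.1 * fun g => conj (χ.1 g)) - χ'.1 * fun g => conj (χ.1 g)) = 0 := by
    funext g
    by_cases hg : p ∣ orderOf g
    · exact reg_of_dvd hg
    · have := congrFun h2 g
      rw [reg_of_preg hg, reg_of_preg hg] at this
      simp [reg_of_preg hg, this]
  have h6 := hU.inner_one M hP ((χ.2.isCharacter.mul χ.2.isCharacter.conj).isClassFunction.sub
    (χ'.2.isCharacter.mul χ.2.isCharacter.conj).isClassFunction) h5
  have h0 : ∑ s ∈ vr p P, ((χ.1 * fun g => conj (χ.1 g)) - χ'.1 * fun g => conj (χ.1 g))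
      ((1 : P) * s) = 0 := Finset.sum_eq_zero fun s hs => by
    rw [OneMemClass.coe_one, one_mul, ← reg_of_preg (mem_vr.1 hs).2 (θ := _ - _), h5]; rfl
  rw [classInner_sub_left, classInner_mul_sub h1 h2 (c := 1) fun _ _ => Int.cast_one.symm,
    Finset.sum_erase (f := fun u : P => ∑ s ∈ vr p P, ((χ.1 * fun g => conj (χ.1 g)) -
      χ'.1 * fun g => conj (χ.1 g)) (u * s)) _ h0, Finset.sum_comm,
    Finset.sum_congr rfl fun s hs => by
      simp only [Pi.sub_apply, Finset.sum_sub_distrib]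
      rw [sum_mul_eq_zero hU.comm (χ'.2.isCharacter.mul χ.2.isCharacter.conj) h4 (mem_vr.1 hs).1,
        sub_zero], card_Ce_eq hP hU.comm] at h6
  simp only [Pi.mul_apply, Complex.mul_conj, Complex.normSq_eq_norm_sq] at h6
  have h7 : (Nat.card (autE P (e0 M P)) * (Nat.card P * (vr p P).card) : ℝ) =
      ∑ s ∈ vr p P, ∑ u : P, ‖χ.1 (u * s)‖ ^ 2 := by
    rw [Int.cast_one, mul_one] at h6; exact_mod_cast h6
  have h8 : ∀ s ∈ vr p P, ‖χ.1 s‖ ^ 2 ≤ Nat.card (autE P (e0 M P)) *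
      ((Nat.card P : ℝ)⁻¹ * ∑ u : P, ‖χ.1 (u * s)‖ ^ 2) := fun s hs => by
    have h9 := rip_eq_sum_lc hf.comm' fun u : P => χ.1 (u * s)
    rw [rip, classInner_self, Complex.ofReal_re] at h9
    have h10 := congrFun (eq_sum_lc hf.comm' fun u : P => χ.1 (u * s)) 1
    simp only [OneMemClass.coe_one, one_mul, Finset.sum_apply, Pi.smul_apply, lc_apply, map_one,
      Units.val_one, smul_eq_mul, mul_one] at h10
    rw [h9, h10, ← Finset.sum_filter_of_ne (p := Orb (autE P (e0 M P)) l) fun m _ hm => ?_,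
      ← hf.free.card_orb hf.comm' hl]
    · refine le_trans (pow_le_pow_left₀ (norm_nonneg _) (norm_sum_le _ _) 2)
        (sq_sum_le_card_mul_sum_sq.trans ?_)
      exact mul_le_mul_of_nonneg_left (Finset.sum_le_sum_of_subset_of_nonneg
        (Finset.filter_subset _ _) fun _ _ _ => sq_nonneg _) (Nat.cast_nonneg _)
    · by_contra h11
      refine hm (inner_mul_eq_zero hU.comm χ.2.isCharacter ?_ (mem_vr.1 hs).1)
      rw [show (fun u : P => χ.1 u) = (n : ℂ) • eta (autE P (e0 M P)) l from funext h3,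
        classInner_smul_left, classInner_eta, if_neg h11, mul_zero]
  refine (Finset.sum_le_sum h8).trans_eq ?_
  have : (Nat.card P : ℝ) ≠ 0 := Nat.cast_ne_zero.2 Nat.card_pos.ne'
  rw [← Finset.mul_sum, ← Finset.mul_sum, ← h7]
  field_simp

omit [PMod M p] [Fintype P] in
theorem sum_le_of_constit (V : Subgroup G) [Fintype V] (hθ : IsCharacter G θ)
    {S : Finset (IrrCharacter G)} (h : ∀ ψ ∈ S, classInner θ ψ.1 ≠ 0) {w : ℕ}
    (hw : classInner (fun v : V => θ v) (fun _ => 1) = w) {k : IrrCharacter G → ℕ}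
    (hk : ∀ ψ ∈ S, classInner (fun v : V => ψ.1 v) (fun _ => 1) = k ψ) : ∑ ψ ∈ S, k ψ ≤ w := by
  choose m hm using fun ψ : IrrCharacter G => hθ.classInner_eq_nat ψ.2.isCharacter
  choose r hr using fun ψ : IrrCharacter G =>
    (ψ.2.isCharacter.res V).classInner_eq_nat isCharacter_one
  have h1 : (fun v : V => θ v) = ∑ ψ : IrrCharacter G, (m ψ : ℂ) • fun v : V => ψ.1 v := by
    funext v
    conv_lhs => rw [hθ.isClassFunction.eq_sum]
    simp [hm]
  rw [h1, classInner_sum_left, Finset.sum_congr rfl fun ψ _ => by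
    rw [classInner_smul_left, hr]] at hw
  have h2 : ∑ ψ, m ψ * r ψ = w := by exact_mod_cast hw
  refine h2 ▸ (Finset.sum_le_sum fun ψ hψ => ?_).trans
    (Finset.sum_le_sum_of_subset (Finset.subset_univ S))
  rw [show k ψ = r ψ by exact_mod_cast (hk ψ hψ).symm.trans (hr ψ)]
  exact Nat.le_mul_of_pos_left _ (Nat.pos_of_ne_zero fun h3 => h ψ hψ (by rw [hm, h3, Nat.cast_zero]))

omit [Fintype G] [Fintype P] in
theorem brauer42 [Finite G] (M : Ideal AlgInt) [PMod M p] (hP : IsSyl p P ⊤) (h : Nat.card P = p)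
    (hK : ∀ K : Subgroup G, K.Normal → P ≤ K → K = ⊤) (h2 : 2 * charDegree χ.1 + 1 < p) :
    charDegree χ.1 = 1 := by
  haveI hp : Fact p.Prime := ⟨PMod.prime M⟩
  have := Fintype.ofFinite P
  have hU := uc_of_card h
  have hf := hU.fa0 M hP
  by_cases h1 : ∃ c, ∀ u : P, u ≠ 1 → χ.1 u = c
  · obtain ⟨c, h1⟩ := h1
    rw [eq_irrOne_of_le hK (eq_of_const hf.comm' (χ.2.isCharacter.res P) h1 (cast_deg χ).symm
      (by omega))]
    exact charDegree_of_eq Nat.cast_one.symm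
  obtain ⟨n, l, l', χ', hl, h3, h4, h5, h6, h7⟩ := small_res M hP h (not_exists.1 h1) h2
  obtain ⟨δ, ζ, a, hd, h8⟩ := exists_dd0 M hP h
  obtain ⟨u, hu⟩ := exists_ne_one_of_ne_bot hd.ne
  have k1 := hd.exc.card_exc hd.exd
  have k2 := hd.card
  have k3 := hd.apply_rel (EXC.mem_exc ζ hl) preg_one
  set S := fs (principalBlock M G) \ excSet ζ
  have hS : ∀ ψ, ψ ∈ S ↔ ψ ∈ principalBlock M G ∧ ψ ∉ excSet ζ := fun ψ => by
    rw [Finset.mem_sdiff, mem_fs]
  set f := Nat.card (autE P (e0 M P)) with hf'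
  have k4 : charDegree χ.1 = n * f := charDegree_of_eq (by
    rw [Nat.cast_mul, ← hf.free.eta_one hf.comm' hl, ← h6]; rfl)
  have k5 : 1 ≤ n := Nat.pos_of_ne_zero fun h => charDegree_ne_zero χ (by rw [k4, h, zero_mul])
  have k6 : 3 * f + 1 ≤ p := by
    have : 2 < (excSet ζ).card := by nlinarith
    nlinarith
  have := Fintype.ofFinite G
  have c1 := χ.2.isCharacter.mul χ.2.isCharacter.conj
  have c2 := χ'.2.isCharacter.mul χ.2.isCharacter.conj
  have k7 : classInner (fun u : P => χ'.1 u * conj (χ.1 u)) (fun _ => 1) = 0 := by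
    have := classInner_eta_eta h3
    rw [classInner, mul_eq_zero] at this
    rw [classInner_one_right, Finset.sum_congr rfl fun u _ => by
      rw [h6, h7, map_mul, mul_mul_mul_comm], ← Finset.mul_sum,
      this.resolve_left (inv_ne_zero (card_ne_zero' _)), mul_zero, mul_zero]
  have k8 : ∀ ψ : IrrCharacter G, classInner (χ'.1 * fun g => conj (χ.1 g)) ψ.1 ≠ 0 →
      classInner (fun u : P => ψ.1 u) (fun _ => 1) = 0 := fun ψ hψ => by
    obtain ⟨r, hr⟩ := (ψ.2.isCharacter.res P).classInner_eq_nat isCharacter_one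
    have := sum_le_of_constit P c2 (S := {ψ}) (by simpa using hψ) (k7.trans Nat.cast_zero.symm)
      (k := fun _ => r) (by simpa using hr)
    rw [hr, show r = 0 by simpa using this, Nat.cast_zero]
  have k9 : ∀ ψ ∈ S, ∀ g, p ∣ orderOf g → ψ.1 g = a ψ := fun ψ hψ g =>
    hU.apply_sing hP ((hS ψ).1 hψ).1 fun u => hd.D_nexc ((hS ψ).1 hψ).1 ((hS ψ).1 hψ).2
  have k10 : ∀ ψ ∈ S, ∀ u : P, u ≠ 1 → ψ.1 u = a ψ := fun ψ hψ u =>
    hd.D_nexc ((hS ψ).1 hψ).1 ((hS ψ).1 hψ).2
  have k11 : ∀ ψ ∈ S, ∃ x y : ℕ, classInner (χ.1 * fun g => conj (χ.1 g)) ψ.1 = x ∧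
      classInner (χ'.1 * fun g => conj (χ.1 g)) ψ.1 = y ∧ (x : ℤ) - y = a ψ ∧ ∃ z m : ℕ,
      a ψ = z - m ∧ (charDegree ψ.1 : ℤ) = a ψ + m * p ∧ (y ≠ 0 → z = 0) := fun ψ hψ => by
    obtain ⟨x, hx⟩ := c1.classInner_eq_nat ψ.2.isCharacter
    obtain ⟨y, hy⟩ := c2.classInner_eq_nat ψ.2.isCharacter
    obtain ⟨z, m, h9, h10, h11⟩ := exists_nat_of_const hf.comm' (ψ.2.isCharacter.res P) (k10 ψ hψ) hu
    have h12 := classInner_mul_sub h4 h5 (k9 ψ hψ)
    rw [hx, hy] at h12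
    rw [h, OneMemClass.coe_one, ← cast_deg] at h10
    refine ⟨x, y, hx, hy, by exact_mod_cast h12, z, m, by exact_mod_cast h9, by exact_mod_cast h10,
      fun h13 => ?_⟩
    exact_mod_cast h11.symm.trans (k8 ψ (hy ▸ Nat.cast_ne_zero.2 h13))
  have k12 : irrOne G ∈ S := (hS _).2 ⟨irrOne_mem_principal, h8⟩
  have k13 : ∀ ψ ∈ S, a ψ = 1 → charDegree ψ.1 ≤ p → ψ = irrOne G := fun ψ hψ h9 h10 => by
    obtain ⟨-, -, -, -, -, z, m, -, h11, -⟩ := k11 ψ hψ
    obtain rfl : m = 0 := by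
      by_contra h12
      have : (1 : ℤ) ≤ m := by omega
      nlinarith
    refine eq_irrOne_of_le hK fun v => ?_
    by_cases hv : v = 1
    · rw [hv]; rfl
    · rw [k10 ψ hψ v hv, ← cast_deg]
      exact_mod_cast (by simpa using h11.symm : a ψ = charDegree ψ.1)
  have k14 : ∀ ψ ∈ S, a ψ = 1 := by
    by_contra h9
    push Not at h9
    obtain ⟨ψ, hψ, h9⟩ := h9
    have k : ∀ ψ ∈ S, a ψ ≠ 1 → classInner (χ'.1 * fun g => conj (χ.1 g)) ψ.1 ≠ 0 ∧ a ψ = -1 ∧
        charDegree ψ.1 + 1 = p := fun ψ hψ h9 => by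
      obtain ⟨x, y, -, hy, h10, z, m, h11, h12, h13⟩ := k11 ψ hψ
      have h14 := (hd.sgn ψ ((hS ψ).1 hψ).1 ((hS ψ).1 hψ).2).resolve_left h9
      have h15 : y ≠ 0 := by omega
      obtain rfl : m = 1 := by have := h13 h15; omega
      exact ⟨hy ▸ Nat.cast_ne_zero.2 h15, h14, by omega⟩
    obtain ⟨h10, h11, h12⟩ := k ψ hψ h9
    have h13 : ∀ g ∈ charKer ψ.1, ¬ p ∣ orderOf g := fun g hg h13 => by
      have := (k9 ψ hψ g h13).symm.trans (ψ.2.isCharacter.mem_charKer.1 hg)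
      rw [← cast_deg, h11] at this
      have : (-1 : ℤ) = charDegree ψ.1 := by exact_mod_cast this
      omega
    have := ψ.2.isCharacter.normal_charKer
    have h14 : ¬ p ∣ Nat.card (charKer ψ.1) := fun h14 => by
      obtain ⟨g, hg⟩ := exists_prime_orderOf_dvd_card' p h14
      exact h13 g g.2 (by rw [Subgroup.orderOf_coe, hg])
    have h15 : ∀ s, s ∈ vr p P ↔ s ∈ charKer ψ.1 ⊓ Ce P := fun s => by
      refine ⟨fun hs => ⟨ψ.2.isCharacter.mem_charKer.2 ?_, (mem_vr.1 hs).1⟩,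
        fun hs => mem_vr.2 ⟨hs.2, h13 s hs.1⟩⟩
      have h16 := sum_mul_eq_zero hU.comm ψ.2.isCharacter (k8 ψ h10) (mem_vr.1 hs).1
      rw [← Finset.add_sum_erase _ _ (Finset.mem_univ 1), Finset.sum_congr rfl fun v hv => k9 ψ hψ _
        (not_not.1 fun h17 => coe_ne_one (Finset.ne_of_mem_erase hv) ((isPPart_mul
          (mem_Ce.1 (mem_vr.1 hs).1 _ v.2) (pelt_of_mem hP.pg v.2) (mem_vr.1 hs).2).eq_one_iff.2 h17)),
        Finset.sum_const, Finset.card_erase_of_mem (Finset.mem_univ _), Finset.card_univ,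
        ← Nat.card_eq_fintype_card, h, ← h12, h11] at h16
      simpa [← cast_deg, add_neg_eq_zero] using h16
    have := Fintype.ofFinite (charKer ψ.1 ⊓ Ce P : Subgroup G)
    obtain ⟨w, hw⟩ := (c1.res (charKer ψ.1 ⊓ Ce P)).classInner_eq_nat isCharacter_one
    have h16 : w ≤ f ^ 2 := by
      have h16 := sum_sq_le hU hP hl h4 h5 h6 k7
      rw [classInner_one_right, ← Finset.sum_subtype (vr p P) h15
        (χ.1 * fun g => conj (χ.1 g)), Nat.card_congr (Equiv.subtypeEquivRight h15).symm,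
        Nat.card_eq_finsetCard, inv_mul_eq_iff_eq_mul₀ (Nat.cast_ne_zero.2
          (Finset.card_ne_zero.2 ⟨_, one_mem_vr⟩))] at hw
      simp only [Pi.mul_apply, Complex.mul_conj, Complex.normSq_eq_norm_sq] at hw
      rw [show ∑ s ∈ vr p P, ‖χ.1 s‖ ^ 2 = (vr p P).card * w by exact_mod_cast hw, mul_comm] at h16
      exact_mod_cast le_of_mul_le_mul_right h16
        (Nat.cast_pos.2 (Finset.card_pos.2 ⟨_, one_mem_vr⟩))
    have h17 : ∀ ξ ∈ S, classInner (fun v : (charKer ψ.1 ⊓ Ce P : Subgroup G) => ξ.1 v)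
        (fun _ => 1) = charDegree ξ.1 := fun ξ hξ => by
      rw [classInner_one_right, Finset.sum_congr rfl fun v _ => ξ.2.isCharacter.mem_charKer.1
        (le_charKer_of_principal h14 ((hS ξ).1 hξ).1 v.2.1), cast_deg, Finset.sum_const,
        Finset.card_univ, ← Nat.card_eq_fintype_card, nsmul_eq_mul,
        inv_mul_cancel_left₀ (card_ne_zero' _)]
    have h18 := sum_le_of_constit _ c2 (S := S.filter (a · ≠ 1))
      (fun ξ hξ => (k ξ (Finset.mem_filter.1 hξ).1 (Finset.mem_filter.1 hξ).2).1) (w := w) (by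
        rw [← hw]
        refine congrArg (classInner · _) (funext fun v => ?_)
        have := congrFun h5 v
        rw [reg_of_preg (h13 _ v.2.1), reg_of_preg (h13 _ v.2.1)] at this
        simp [this]) fun ξ hξ => h17 ξ (Finset.mem_filter.1 hξ).1
    have h19 := sum_le_of_constit _ c1 (S := S.filter (a · = 1)) (fun ξ hξ => by
      obtain ⟨x, y, hx, -, h19, -⟩ := k11 ξ (Finset.mem_filter.1 hξ).1
      have := (Finset.mem_filter.1 hξ).2
      exact hx ▸ Nat.cast_ne_zero.2 (by omega)) hw fun ξ hξ => h17 ξ (Finset.mem_filter.1 hξ).1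
    have h20 : irrOne G ∈ S.filter (a · = 1) := Finset.mem_filter.2 ⟨k12, by
      exact_mod_cast (k10 _ k12 u hu).symm.trans (irrOne_apply _)⟩
    have h21 := (Finset.card_nsmul_le_sum _ _ (3 * f) fun ξ hξ => by
      have := (k ξ (Finset.mem_filter.1 hξ).1 (Finset.mem_filter.1 hξ).2).2.2
      omega).trans h18
    rw [← Finset.add_sum_erase _ _ h20] at h19
    have h22 := (Nat.add_le_add (Nat.pos_of_ne_zero (charDegree_ne_zero _))
      (Finset.card_nsmul_le_sum _ _ (3 * f) fun ξ hξ => by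
        have := Finset.mem_filter.1 (Finset.mem_of_mem_erase hξ)
        have := mt (k13 ξ this.1 this.2) (Finset.ne_of_mem_erase hξ)
        omega)).trans h19
    have h23 := Finset.card_filter_add_card_filter_not (s := S) (a · = 1)
    have h24 := Finset.card_erase_add_one h20
    have h25 := Finset.card_pos.2 ⟨ψ, (Finset.mem_filter (p := (a · ≠ 1))).2 ⟨hψ, h9⟩⟩
    rw [smul_eq_mul] at h21 h22
    have h26 : (S.filter (a · ≠ 1)).card * 3 ≤ f := by nlinarith
    have h27 : ((S.filter (a · = 1)).erase (irrOne G)).card * 3 < f := by nlinarith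
    simp only [ne_eq] at h25 h26
    omega
  rw [Finset.sum_congr rfl fun ψ hψ => by rw [k14 ψ hψ, ← cast_deg, Int.cast_one, one_mul],
    ← cast_deg] at k3
  have k15 : δ * charDegree (ζ l).1 = ∑ ψ ∈ S, (charDegree ψ.1 : ℤ) := by exact_mod_cast k3
  obtain rfl : δ = 1 := hd.exc.sign.resolve_right fun h => by
    have : 0 ≤ ∑ ψ ∈ S, (charDegree ψ.1 : ℤ) := by positivity
    have := charDegree_ne_zero (ζ l)
    rw [h] at k15
    omega
  obtain ⟨ψ, h9, h10⟩ : ∃ ψ ∈ principalBlock M G,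
      classInner (χ'.1 * fun g => conj (χ.1 g)) ψ.1 ≠ 0 := by
    by_contra! h9
    have h10 : ∑ v : P, ∑ s ∈ vr p P, (χ'.1 * fun g => conj (χ.1 g)) (v * s) = 0 := by
      rw [Finset.sum_comm]
      exact Finset.sum_eq_zero fun s hs => sum_mul_eq_zero hU.comm c2 k7 (mem_vr.1 hs).1
    rw [← Finset.add_sum_erase _ _ (Finset.mem_univ 1), Finset.sum_eq_zero fun v hv =>
      hU.sum_vr_eq_zero hP c2.isClassFunction (by
        rw [blockPart_fs]; exact Finset.sum_eq_zero fun ψ hψ => by rw [h9 ψ (mem_fs.1 hψ), zero_smul])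
        (Finset.ne_of_mem_erase hv), add_zero, Finset.sum_congr rfl (g := fun s =>
        (Complex.normSq (χ.1 s) : ℂ)) fun s hs => by
      have := congrFun h5 s
      rw [reg_of_preg (mem_vr.1 hs).2, reg_of_preg (mem_vr.1 hs).2] at this
      rw [OneMemClass.coe_one, one_mul, Pi.mul_apply, this, Complex.mul_conj]] at h10
    have h11 : ∑ s ∈ vr p P, Complex.normSq (χ.1 s) = 0 := by exact_mod_cast h10
    exact χ.2.apply_one_ne_zero (Complex.normSq_eq_zero.1 ((Finset.sum_eq_zero_iff_of_nonneg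
      fun _ _ => Complex.normSq_nonneg _).1 h11 1 one_mem_vr))
  obtain ⟨j, hj, rfl⟩ : ∃ j, j ≠ 1 ∧ ζ j = ψ := mem_excSet.1 (by_contra fun h11 => by
    obtain ⟨x, y, -, hy, -, z, m, h12, -, h13⟩ := k11 ψ ((hS ψ).2 ⟨h9, h11⟩)
    have := k14 ψ ((hS ψ).2 ⟨h9, h11⟩)
    have := h13 fun h => h10 (by rw [hy, h, Nat.cast_zero])
    omega)
  have k16 := k8 _ h10
  rw [← lc_one, classInner_off (g := eta (autE P (e0 M P)) j) (fun v hv => by
    simpa using hd.D_exc hj hv), classInner_eta, if_neg fun h => h.ne_one hj rfl, zero_add,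
    hf.free.eta_one hf.comm' hj, div_eq_zero_iff, or_iff_left (card_ne_zero' _), sub_eq_zero,
    OneMemClass.coe_one, hd.apply_exc (EXC.mem_exc ζ hj) (EXC.mem_exc ζ hl) preg_one,
    ← cast_deg] at k16
  have k17 : ∑ ψ ∈ S, charDegree ψ.1 = S.card := by
    rw [k2, ← (by exact_mod_cast k16 : charDegree (ζ l).1 = f)]
    exact_mod_cast k15.symm.trans (one_mul _)
  have k18 : S = {irrOne G} := Finset.eq_singleton_iff_unique_mem.2 ⟨k12, fun ψ hψ =>
    k13 ψ hψ (k14 ψ hψ) (((Finset.single_le_sum (f := fun ψ : IrrCharacter G =>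
      charDegree ψ.1) (fun _ _ => Nat.zero_le _) hψ).trans_eq k17).trans (by omega))⟩
  rw [k18, Finset.card_singleton] at k2
  have h14 := hK _ χ.2.isClassFunction.normal_charCenter fun x hx =>
    χ.2.isCharacter.mem_charCenter.2 (by
      rw [h6 ⟨x, hx⟩, Subgroup.card_eq_one.1 k2.symm, eta_bot, norm_mul, norm_units_hom, mul_one,
        ← cast_deg, k4, ← k2, mul_one])
  have := χ.2.degree_sq_le_index h14.ge (cast_deg _).symm
  rw [Subgroup.index_top] at this
  nlinarith [Nat.pos_of_ne_zero (charDegree_ne_zero χ)]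

end Cfsg.Agent.Blk
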