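import Cfsg.Agent.Lib.Block.Max
import Cfsg.Agent.Lib.Transfer.Residual

set_option autoImplicit false

namespace Cfsg.Agent.Blk

open MonoidAlgebra
open Cfsg.Agent.Char hiding cj cj_mul cj_inv_cj cj_cj_inv sum_cj_eq om
open scoped ComplexConjugate Classical

section Lin

variable {G : Type*} [Group G]

/-- A linear character as an irreducible character. -/
def ilc (l : G →* ℂˣ) : IrrCharacter G := ⟨lc l, isIrr_lc l⟩

@[simp] theorem ilc_apply (l : G →* ℂˣ) (g : G) : (ilc l).1 g = l g := rfl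

theorem ilc_injective : Function.Injective (ilc : (G →* ℂˣ) → IrrCharacter G) := fun _ _ h =>
  lc_injective (congrArg Subtype.val h)

theorem ilc_one : ilc (1 : G →* ℂˣ) = irrOne G := rfl

theorem charDegree_ilc [Finite G] (l : G →* ℂˣ) : charDegree (ilc l).1 = 1 :=
  charDegree_of_one (by simp)
  where charDegree_of_one {χ : G → ℂ} (h : χ 1 = 1) : charDegree χ = 1 := by simp [charDegree, h]

theorem exists_ilc [Finite G] {χ : IrrCharacter G} (h : charDegree χ.1 = 1) : ∃ l, ilc l = χ := by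
  have h1 : χ.1 1 = 1 := by rw [← cast_deg, h, Nat.cast_one]
  obtain ⟨l, hl⟩ := χ.2.isCharacter.exists_units_of_apply_one h1
  exact ⟨l, Subtype.ext hl.symm⟩

theorem detOrder_ilc [Finite G] (l : G →* ℂˣ) : detOrder (ilc l).1 = orderOf l := by
  rw [detOrder]
  exact (congrArg orderOf (detChar_units l)).trans (orderOf_units_fun l)

theorem centralChar_ilc (l : G →* ℂˣ) (g : G) :
    centralChar (ilc l).1 g = (Ce1 g).index * (l g : ℂ) := by
  simp [centralChar]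

theorem units_mem_O [Finite G] (M : Ideal AlgInt) [M.IsPrime] (l : G →* ℂˣ) (g : G) :
    (l g : ℂ) ∈ O M := irr_mem_O M (ilc l) g

variable [Finite G] {M : Ideal AlgInt} [M.IsMaximal]

theorem ilc_mem_principal_iff {l : G →* ℂˣ} : ilc l ∈ principalBlock M G ↔
    ∀ g, MemLocalIdeal M (((Ce1 g).index : ℂ) * ((l g : ℂ) - 1)) := by
  rw [principalBlock_eq, ← ilc_one]
  refine forall_congr' fun g => ?_
  rw [centralChar_ilc, centralChar_ilc, LI_sub_comm, mul_sub]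
  simp

variable (M G) in
/-- The linear characters in the principal block. -/
def linP : Subgroup (G →* ℂˣ) where
  carrier := {l | ilc l ∈ principalBlock M G}
  one_mem' := irrOne_mem_principal
  mul_mem' := by
    intro a b ha hb
    refine ilc_mem_principal_iff.2 fun g => ?_
    have := LI_add (LI_mul_left (units_mem_O M b g) (ilc_mem_principal_iff.1 ha g))
      (ilc_mem_principal_iff.1 hb g)
    convert this using 1
    simp only [MonoidHom.mul_apply, Units.val_mul]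
    ring
  inv_mem' := by
    intro a ha
    refine ilc_mem_principal_iff.2 fun g => ?_
    have := LI_neg (LI_mul_left (units_mem_O M a⁻¹ g) (ilc_mem_principal_iff.1 ha g))
    convert this using 1
    simp only [MonoidHom.inv_apply, Units.val_inv_eq_inv_val]
    field_simp
    ring

theorem mem_linP {l : G →* ℂˣ} : l ∈ linP G M ↔ ilc l ∈ principalBlock M G := Iff.rfl

theorem comm_lc (a b : G →* ℂˣ) : a * b = b * a := by
  ext g; simp [mul_comm]

/-- The elements of order prime to `p` of a group of linear characters. -/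
def pregSub (p : ℕ) [Fact p.Prime] (L : Subgroup (G →* ℂˣ)) : Subgroup (G →* ℂˣ) where
  carrier := {l | l ∈ L ∧ ¬ p ∣ orderOf l}
  one_mem' := ⟨L.one_mem, preg_one⟩
  mul_mem' := fun ha hb => ⟨L.mul_mem ha.1 hb.1, preg_mul (comm_lc _ _) ha.2 hb.2⟩
  inv_mem' := fun ha => ⟨L.inv_mem ha.1, by simpa using ha.2⟩

omit [M.IsMaximal] in
theorem not_dvd_card_pregSub (p : ℕ) [Fact p.Prime] (L : Subgroup (G →* ℂˣ)) :
    ¬ p ∣ Nat.card (pregSub p L) := by
  intro h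
  obtain ⟨x, hx⟩ := exists_prime_orderOf_dvd_card' p h
  exact x.2.2 (by rw [Subgroup.orderOf_coe, hx])

end Lin

section Res

variable {G : Type*} [Group G] [Finite G] {p : ℕ} [hp : Fact p.Prime]

theorem not_dvd_orderOf_lc (h : pResidual p G = ⊤) (l : G →* ℂˣ) : ¬ p ∣ orderOf l := by
  set m := Nat.card G / p ^ (Nat.card G).factorization p
  have hm : ¬ p ∣ m := Nat.not_dvd_ordCompl hp.out Nat.card_pos.ne'
  refine fun hd => hm (hd.trans (orderOf_dvd_of_pow_eq_one ?_))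
  have : pResidual p G ≤ (l ^ m).ker := by
    rw [← Transfer.res_top, Transfer.res_le_iff]
    intro g _ hg
    have h1 : orderOf g ∣ m := by
      have h2 := orderOf_dvd_natCard g
      rw [← Nat.ordProj_mul_ordCompl_eq_self (Nat.card G) p] at h2
      exact (hg.pow_right _).dvd_of_dvd_mul_left h2
    rw [MonoidHom.mem_ker, MonoidHom.pow_apply, ← map_pow, orderOf_dvd_iff_pow_eq_one.1 h1, map_one]
  ext g
  have h3 := this (h ▸ Subgroup.mem_top g)
  rw [MonoidHom.mem_ker] at h3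
  rw [h3]; rfl

theorem not_dvd_detOrder (h : pResidual p G = ⊤) {θ : G → ℂ} (hθ : IsCharacter G θ) :
    ¬ p ∣ detOrder θ := by
  obtain ⟨δ, hδ⟩ := hθ.exists_detChar
  rw [detOrder, hδ, orderOf_units_fun]
  exact not_dvd_orderOf_lc h δ

theorem pResidual_res_top : pResidual p (pResidual p G) = ⊤ :=
  Transfer.res_eq_self_iff.1 Transfer.res_pResidual

variable {N : Subgroup G} [N.Normal] {n : ℕ}

theorem exists_res_of_not_dvd (hn : N.index = p ^ n) {χ : IrrCharacter G}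
    (h : ¬ p ∣ charDegree χ.1) : ∃ θ : IrrCharacter N, ∀ x : N, χ.1 x = θ.1 x :=
  ⟨⟨_, χ.2.res_irr_of_coprime (cast_deg χ).symm
    (hn ▸ ((hp.out.coprime_iff_not_dvd.2 h).pow_left n))⟩, fun _ => rfl⟩

omit hp in
theorem deg_eq_of_res {K : Subgroup G} {χ : IrrCharacter G} {θ : IrrCharacter K}
    (h : ∀ x : K, χ.1 x = θ.1 x) : charDegree χ.1 = charDegree θ.1 := by
  rw [charDegree, charDegree, ← h 1]; rfl

omit hp in
theorem icj_eq_of_res {χ : IrrCharacter G} {θ : IrrCharacter N}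
    (h : ∀ x : N, χ.1 x = θ.1 x) (g : G) : icj N g θ = θ := by
  refine Subtype.ext (funext fun x => ?_)
  rw [icj_apply, ← h, ← h]
  exact χ.2.isClassFunction.apply_conj _ _

omit hp in
theorem cj_eq_of_icj {θ : IrrCharacter N} (h : ∀ g, icj N g θ = θ) (g : G) :
    Char.cj N g θ.1 = θ.1 := congrArg Subtype.val (h g)

theorem existsUnique_canon (hn : N.index = p ^ n) {θ : IrrCharacter N}
    (hinv : ∀ g, icj N g θ = θ) (h1 : ¬ p ∣ charDegree θ.1) (h2 : ¬ p ∣ detOrder θ.1) :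
    ∃! χ : IrrCharacter G, ¬ p ∣ detOrder χ.1 ∧ ∀ x : N, χ.1 x = θ.1 x := by
  obtain ⟨χ, ⟨h3, h4, h5⟩, h6⟩ := θ.2.exists_canonical_ext (cj_eq_of_icj hinv) (cast_deg θ).symm
    (hn ▸ (hp.out.coprime_iff_not_dvd.2 fun h =>
      (hp.out.dvd_mul.1 h).elim h2 h1).pow_left n)
  refine ⟨⟨χ, h3⟩, ⟨h5 ▸ h2, h4⟩, fun ψ hψ => Subtype.ext (h6 _ ψ.2 hψ.2 ?_)⟩
  exact hn ▸ (hp.out.coprime_iff_not_dvd.2 hψ.1).pow_left n

theorem sum_sq_modEq (hK : N = pResidual p G) (A : Set (IrrCharacter G)) (b : Set (IrrCharacter N))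
    (hb : ∀ g θ, icj N g θ ∈ b ↔ θ ∈ b)
    (hA : ∀ (χ : IrrCharacter G) (θ : IrrCharacter N), (∀ x : N, χ.1 x = θ.1 x) → (χ ∈ A ↔ θ ∈ b)) :
    ∑ θ ∈ fs b, charDegree θ.1 ^ 2 ≡
      ∑ χ ∈ fs {χ | χ ∈ A ∧ ¬ p ∣ charDegree χ.1 ∧ ¬ p ∣ detOrder χ.1}, charDegree χ.1 ^ 2 [MOD p] := by
  obtain ⟨P⟩ : Nonempty (Sylow p G) := inferInstance
  obtain ⟨n, hn⟩ : ∃ n, N.index = p ^ n := hK ▸ Transfer.index_pResidual
  have hNP : N ⊔ P = ⊤ := hK ▸ Transfer.pResidual_sup_sylow P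
  have hN : pResidual p N = ⊤ := hK ▸ pResidual_res_top
  have h1 := modEq_sum_icj_fixed (N := N) P.isPGroup'
    (fun θ => if θ ∈ b then charDegree θ.1 ^ 2 else 0)
    (fun x _ θ => by simp only [hb, charDegree_icj])
  have h2 : ∑ θ ∈ fs b, charDegree θ.1 ^ 2 = ∑ θ, if θ ∈ b then charDegree θ.1 ^ 2 else 0 := by
    rw [← Finset.sum_filter]
    exact Finset.sum_congr (by ext; simp) fun _ _ => rfl
  rw [h2]
  refine h1.trans ?_
  have h3 : (∑ θ with ∀ x ∈ (P : Subgroup G), icj N x θ = θ,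
      if θ ∈ b then charDegree θ.1 ^ 2 else 0) ≡
      ∑ θ ∈ fs {θ | θ ∈ b ∧ (∀ g, icj N g θ = θ) ∧ ¬ p ∣ charDegree θ.1},
        charDegree θ.1 ^ 2 [MOD p] := by
    rw [Finset.sum_filter, fs, Finset.sum_filter]
    refine Nat.ModEq.sum fun θ _ => ?_
    have h4 : (∀ x ∈ (P : Subgroup G), icj N x θ = θ) ↔ ∀ g, icj N g θ = θ :=
      ⟨icj_eq_of_sup hNP, fun h x _ => h x⟩
    simp only [h4, Set.mem_setOf_eq]
    by_cases h5 : θ ∈ b <;> by_cases h6 : ∀ g, icj N g θ = θ <;>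
      by_cases h7 : p ∣ charDegree θ.1 <;> simp [h5, h6, h7, Nat.ModEq.refl]
    exact (Nat.modEq_zero_iff_dvd.2 (h7.trans (dvd_pow_self _ two_ne_zero)))
  refine h3.trans ?_
  have h4 : ∀ χ ∈ fs {χ | χ ∈ A ∧ ¬ p ∣ charDegree χ.1 ∧ ¬ p ∣ detOrder χ.1},
      ∃ θ : IrrCharacter N, ∀ x : N, χ.1 x = θ.1 x := fun χ hχ =>
    exists_res_of_not_dvd hn (mem_fs.1 hχ).2.1
  choose r hr using h4
  rw [Finset.sum_bij r (t := fs {θ | θ ∈ b ∧ (∀ g, icj N g θ = θ) ∧ ¬ p ∣ charDegree θ.1})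
    (g := fun θ => charDegree θ.1 ^ 2) (fun χ hχ => ?_) (fun χ hχ ψ hψ h => ?_) (fun θ hθ => ?_)
    (fun χ hχ => by rw [deg_eq_of_res (hr χ hχ)])]
  · exact mem_fs.2 ⟨(hA _ _ (hr χ hχ)).1 (mem_fs.1 hχ).1, icj_eq_of_res (hr χ hχ),
      deg_eq_of_res (hr χ hχ) ▸ (mem_fs.1 hχ).2.1⟩
  · exact (existsUnique_canon hn (icj_eq_of_res (hr χ hχ))
      (deg_eq_of_res (hr χ hχ) ▸ (mem_fs.1 hχ).2.1)
      (not_dvd_detOrder hN (r χ hχ).2.isCharacter)).unique ⟨(mem_fs.1 hχ).2.2, hr χ hχ⟩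
      ⟨(mem_fs.1 hψ).2.2, h ▸ hr ψ hψ⟩
  · obtain ⟨h5, h6, h7⟩ := mem_fs.1 hθ
    obtain ⟨χ, ⟨h8, h9⟩, -⟩ := existsUnique_canon hn h6 h7 (not_dvd_detOrder hN θ.2.isCharacter)
    have hχ : χ ∈ fs {χ | χ ∈ A ∧ ¬ p ∣ charDegree χ.1 ∧ ¬ p ∣ detOrder χ.1} :=
      mem_fs.2 ⟨(hA _ _ h9).2 h5, deg_eq_of_res h9 ▸ h7, h8⟩
    exact ⟨χ, hχ, Subtype.ext (funext fun x => (hr χ hχ x).symm.trans (h9 x))⟩

theorem sum_sq_eq_card_pregSub {A : Set (IrrCharacter G)} {L : Subgroup (G →* ℂˣ)}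
    (hL : ∀ l, l ∈ L ↔ ilc l ∈ A) (h : ∀ χ ∈ A, ¬ p ∣ charDegree χ.1 → charDegree χ.1 = 1) :
    ∑ χ ∈ fs {χ | χ ∈ A ∧ ¬ p ∣ charDegree χ.1 ∧ ¬ p ∣ detOrder χ.1}, charDegree χ.1 ^ 2 =
      Nat.card (pregSub p L) := by
  rw [Finset.sum_congr rfl (g := fun _ => 1) fun χ hχ => by
    rw [h χ (mem_fs.1 hχ).1 (mem_fs.1 hχ).2.1, one_pow], ← Finset.card_eq_sum_ones, ← card_fs]
  refine (Nat.card_eq_of_bijective (fun l : pregSub p L => (⟨ilc l, (hL _).1 l.2.1,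
    by rw [charDegree_ilc]; exact hp.out.not_dvd_one, by rw [detOrder_ilc]; exact l.2.2⟩ :
      {χ | χ ∈ A ∧ ¬ p ∣ charDegree χ.1 ∧ ¬ p ∣ detOrder χ.1})) ⟨fun a b hab => ?_, ?_⟩).symm
  · exact Subtype.ext (ilc_injective (congrArg Subtype.val hab))
  · rintro ⟨χ, h1, h2, h3⟩
    obtain ⟨l, rfl⟩ := exists_ilc (h χ h1 h2)
    exact ⟨⟨l, (hL _).2 h1, detOrder_ilc l ▸ h3⟩, rfl⟩

omit hp in
theorem sum_sq_univ : ∑ χ ∈ fs (Set.univ : Set (IrrCharacter G)), charDegree χ.1 ^ 2 = Nat.card G := by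
  have h := sum_degree_sq (G := G)
  rw [sum_fs_eq_univ Set.univ fun χ h => (h trivial).elim]
  refine Nat.cast_injective (R := ℂ) ?_
  push_cast
  simp only [cast_deg]
  exact h

omit hp in
theorem IsUB.dvd_sum_sq {M : Ideal AlgInt} [PMod M p] {A : Set (IrrCharacter G)} (hA : IsUB M A)
    (h : p ∣ Nat.card G) : p ∣ ∑ χ ∈ fs A, charDegree χ.1 ^ 2 := by
  rw [← LI_natCast_iff (M := M)]
  have h1 := LI_mul_right (LI_natCast_iff (M := M).2 h) (hA.blockCoeff_mem 1)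
  convert h1 using 1
  rw [blockCoeff_eq, ← mul_assoc, mul_inv_cancel₀ (card_ne_zero' G), one_mul, ← Finset.sum_filter]
  push_cast
  refine Finset.sum_congr (by ext; simp) fun χ _ => ?_
  rw [χ.2.isCharacter.conj_apply_one, cast_deg, sq]

/-- Thompson's theorem for the principal block. -/
theorem hasNPC_of_principal (M : Ideal AlgInt) [PMod M p]
    (h : ∀ χ ∈ principalBlock M G, ¬ p ∣ charDegree χ.1 → charDegree χ.1 = 1) :
    HasNormalPComplement p G := by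
  rw [Transfer.hasNPC_iff_not_dvd]
  intro hd
  obtain ⟨n, hn⟩ := Transfer.index_pResidual (p := p) (G := G)
  have h1 := sum_sq_modEq (p := p) rfl (principalBlock M G) (principalBlock M _)
    (fun g θ => icj_mem_principal_iff g) fun χ θ h =>
      mem_principal_iff_of_index hn (by rw [em_of_res_self h]; exact one_ne_zero)
  rw [sum_sq_eq_card_pregSub (L := linP G M) (fun _ => mem_linP) h] at h1
  exact not_dvd_card_pregSub p _ ((h1.dvd_iff dvd_rfl).1 (isPBlock_principal.isUB.dvd_sum_sq hd))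

end Res

end Cfsg.Agent.Blk
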