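import Cfsg.Agent.Lib.Block.FR
import Cfsg.Agent.Lib.Block.Lin
import Cfsg.Agent.Lib.Char.Monomial
import Cfsg.Agent.Lib.Char.Degree
import Cfsg.Agent.Lib.Char.Codeg
import Cfsg.Agent.S4456

/-! Sets of character degrees. -/

set_option autoImplicit false

namespace Cfsg.Agent.Blk

open Cfsg.Agent.Char hiding cj cj_mul cj_inv_cj cj_cj_inv sum_cj_eq om
open scoped ComplexConjugate commutatorElement
attribute [local instance] _root_.Classical.propDecidable
open Subgroup (zpowers mem_zpowers)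

universe u

variable {G : Type u} [Group G] [Finite G] {A D H K L N Z : Subgroup G} {p m n : ℕ}
  {χ ψ : IrrCharacter G}

theorem deg_eq_one_iff : charDegree χ.1 = 1 ↔ commutator G ≤ charKer χ.1 := by
  rw [← χ.2.apply_one_eq_one_iff, ← cast_deg, Nat.cast_eq_one]

theorem eq_bot_of_forall_ker (h : ∀ χ : IrrCharacter G, D ≤ charKer χ.1) : D = ⊥ :=
  eq_bot_iff.2 fun g hg => by
    by_contra h1
    obtain ⟨χ, hχ, h2⟩ := exists_irr_apply_ne h1
    exact h2 (hχ.isCharacter.mem_charKer.1 (h ⟨χ, hχ⟩ hg))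

theorem comm_of_deg (h : ∀ θ : IrrCharacter A, charDegree θ.1 = 1) :
    ∀ a ∈ A, ∀ b ∈ A, a * b = b * a := fun a ha b hb =>
  congrArg Subtype.val (comm_of_forall_linear (G := A)
    (fun θ hθ => (cast_deg ⟨θ, hθ⟩).symm.trans (by rw [h, Nat.cast_one])) ⟨a, ha⟩ ⟨b, hb⟩)

theorem deg_of_comm (h : ∀ a ∈ A, ∀ b ∈ A, a * b = b * a) (θ : IrrCharacter A) :
    charDegree θ.1 = 1 :=
  charDegree_of_eq (by rw [θ.2.apply_one_of_comm fun a b => Subtype.ext (h a a.2 b b.2)]; simp)

theorem deg_lt_index (h : em H χ (irrOne H) ≠ 0) (hH : H ≠ ⊤) : charDegree χ.1 < H.index := by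
  have h1 := sum_em_mul_deg (G := G) (irrOne H)
  rw [charDegree_irrOne, mul_one] at h1
  have h2 : 1 < H.index := Subgroup.one_lt_index_of_ne_top hH
  by_cases h3 : χ = irrOne G
  · rw [h3, charDegree_irrOne]; exact h2
  rw [← h1, ← Finset.add_sum_erase _ _ (Finset.mem_univ χ)]
  have h4 := Finset.single_le_sum (f := fun χ : IrrCharacter G =>
    em H χ (irrOne H) * charDegree χ.1) (fun _ _ => Nat.zero_le _)
    (Finset.mem_erase.2 ⟨Ne.symm h3, Finset.mem_univ (irrOne G)⟩)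
  simp only [em_irrOne, if_true, charDegree_irrOne] at h4
  have := Nat.le_mul_of_pos_left (charDegree χ.1) (Nat.pos_of_ne_zero h)
  omega

theorem le_of_small (h : ∀ χ : IrrCharacter G, charDegree χ.1 < H.index → D ≤ charKer χ.1) :
    D ≤ H := by
  by_cases hH : H = ⊤
  · rw [hH]; exact le_top
  have := Fintype.ofFinite G
  have hπ : IsCharacter G (indFun H (irrOne H).1) := (irrOne H).2.isCharacter.ind
  refine le_trans (fun g hg => hπ.mem_charKer_of_forall_constituent fun ψ hψ h2 => ?_)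
    (charKer_indFun_le (irrOne H).2.isCharacter (irrOne H).2.ne_zero)
  refine h ⟨ψ, hψ⟩ (deg_lt_index (fun h3 => h2 ?_) hH) hg
  rw [classInner_indFun_eq_em ⟨ψ, hψ⟩, h3, Nat.cast_zero]

/-- Taketa's theorem. -/
theorem taketa [Fintype G] (s : Finset ℕ) (hs : ∀ χ : IrrCharacter G, charDegree χ.1 ∈ s)
    (hM : ∀ χ : IrrCharacter G, IsMonomialFun G χ.1) : derivedSeries G s.card = ⊥ := by
  have key : ∀ d : ℕ, ∀ χ : IrrCharacter G, charDegree χ.1 = d →
      derivedSeries G (s.filter (· ≤ d)).card ≤ charKer χ.1 := by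
    intro d
    induction d using Nat.strong_induction_on with
    | _ d ih =>
    intro χ hd
    obtain ⟨H, lam, h0⟩ := hM χ
    have hd' : H.index = d := by
      rw [← hd]; exact (charDegree_of_eq (by rw [h0, indFun_one]; simp)).symm
    have h1 : derivedSeries G (s.filter (· < d)).card ≤ H :=
      le_of_small fun ψ hψ => (derivedSeries_antitone G (Finset.card_le_card fun x hx => by
        rw [Finset.mem_filter] at hx ⊢; exact ⟨hx.1, by omega⟩)).trans (ih _ (by omega) ψ rfl)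
    have h2 : (s.filter (· ≤ d)).card = (s.filter (· < d)).card + 1 := by
      rw [← Finset.card_insert_of_notMem (a := d) (by simp)]
      congr 1; ext x
      simp only [Finset.mem_filter, Finset.mem_insert]
      exact ⟨fun h => by rcases h.2.eq_or_lt with h' | h'; exacts [Or.inl h', Or.inr ⟨h.1, h'⟩],
        fun h => by rcases h with rfl | h; exacts [⟨hd ▸ hs χ, le_rfl⟩, ⟨h.1, h.2.le⟩]⟩
    rw [h2, h0]
    refine le_charKer_indFun ((derivedSeries_antitone G (Nat.le_succ _)).trans h1)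
      (isIrrCharacter_units lam).isCharacter fun x hx => ?_
    have h3 : derivedSeries G ((s.filter (· < d)).card + 1) ≤ (commutator H).map H.subtype := by
      rw [H.map_subtype_commutator]
      exact Subgroup.commutator_mono h1 h1
    obtain ⟨y, hy, h4⟩ := h3 hx
    rw [← Subtype.ext h4, show lam y = 1 from Abelianization.commutator_subset_ker lam hy]
    simp
  exact eq_bot_of_forall_ker fun χ =>
    (derivedSeries_antitone G (Finset.card_filter_le _ _)).trans (key _ χ rfl)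

theorem monomial_of_lcs {G : Type u} [Group G] [Fintype G] {A : Subgroup G} {n : ℕ}
    (hA : ∀ a ∈ A, ∀ b ∈ A, a * b = b * a) (h : (⊤ : Subgroup G).lowerCentralSeries n ≤ A)
    (χ : IrrCharacter G) : IsMonomialFun G χ.1 := by
  refine isMonomialFun_of_class (fun G _ => ∀ a ∈ (⊤ : Subgroup G).lowerCentralSeries n,
    ∀ b ∈ (⊤ : Subgroup G).lowerCentralSeries n, a * b = b * a) ?_ ?_ ?_ G
    (fun a ha b hb => hA a (h ha) b (h hb)) χ.2
  · intro G _ H h a ha b hb
    have : ∀ x ∈ (⊤ : Subgroup H).lowerCentralSeries n,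
        (x : G) ∈ (⊤ : Subgroup G).lowerCentralSeries n := fun x hx =>
      Subgroup.lowerCentralSeries_mono n le_top
        (H.top_subtype_lowerCentralSeries n ▸ Subgroup.mem_map_of_mem H.subtype hx)
    exact Subtype.ext (h a (this a ha) b (this b hb))
  · intro G _ N _ h a ha b hb
    rw [← Subgroup.map_top_of_surjective _ (QuotientGroup.mk'_surjective N),
      ← Subgroup.map_lowerCentralSeries] at ha hb
    obtain ⟨x, hx, rfl⟩ := ha
    obtain ⟨y, hy, rfl⟩ := hb
    rw [← map_mul, h x hx y hy, map_mul]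
  · intro G _ _ h hc
    by_cases h1 : (⊤ : Subgroup G).lowerCentralSeries n ≤ Subgroup.center G
    · haveI : Group.IsNilpotent G := Subgroup.nilpotent_iff_lowerCentralSeries.2 ⟨n + 1, by
        rw [Subgroup.lowerCentralSeries_succ, Subgroup.commutator_eq_bot_iff_le_centralizer,
          Subgroup.coe_top, Subgroup.centralizer_univ]; exact h1⟩
      exact exists_comm_normal_of_nilpotent G hc
    · exact ⟨_, inferInstance, h, h1⟩

theorem lcs_le_of_index [N.Normal] (hp : p.Prime) (h : N.index = p ^ n) :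
    ∃ k, (⊤ : Subgroup G).lowerCentralSeries k ≤ N := by
  haveI := Fact.mk hp
  obtain ⟨k, hk⟩ := Subgroup.nilpotent_iff_lowerCentralSeries.1
    (IsPGroup.of_card (G := G ⧸ N) (p := p) h).isNilpotent
  rw [← Subgroup.map_top_of_surjective _ (QuotientGroup.mk'_surjective N),
    ← Subgroup.map_lowerCentralSeries, Solv.map_mk_eq_bot_iff] at hk
  exact ⟨k, hk⟩

theorem exists_pi_compl {d : ℕ} (hd : d ≠ 0)
    (h : ∀ χ : IrrCharacter G, charDegree χ.1 ≠ 1 → d ∣ charDegree χ.1) :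
    ∃ A : Subgroup G, A.Normal ∧ (Nat.card A).Coprime d ∧ (∀ q, q.Prime → q ∣ A.index → q ∣ d) ∧
      ∃ k, (⊤ : Subgroup G).lowerCentralSeries k ≤ A := by
  have key : ∀ s : Finset ℕ, (∀ q ∈ s, q.Prime ∧ q ∣ d) → ∃ A : Subgroup G, A.Normal ∧
      (∀ q ∈ s, ¬ q ∣ Nat.card A) ∧ (∀ q, q.Prime → q ∣ A.index → q ∣ d) ∧
      ∃ k, (⊤ : Subgroup G).lowerCentralSeries k ≤ A := by
    intro s
    induction s using Finset.induction_on with
    | empty => exact fun _ => ⟨⊤, inferInstance, by simp, fun q hq h1 =>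
        (hq.one_lt.ne' (by simpa using h1)).elim, 0, le_top⟩
    | insert p s _ ih =>
      intro hs
      obtain ⟨A, _, h1, h2, k, h3⟩ := ih fun q hq => hs q (Finset.mem_insert_of_mem hq)
      obtain ⟨hp, hpd⟩ := hs p (Finset.mem_insert_self _ _)
      obtain ⟨N, _, h4, e, h5⟩ := S4456.result p hp fun χ h' => hpd.trans (h χ h')
      obtain ⟨l, h6⟩ := lcs_le_of_index hp h5
      refine ⟨N ⊓ A, inferInstance, fun q hq h7 => ?_, fun q hq h7 => ?_, max k l, le_inf
        ((Subgroup.lowerCentralSeries_antitone _ (le_max_right _ _)).trans h6)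
        ((Subgroup.lowerCentralSeries_antitone _ (le_max_left _ _)).trans h3)⟩
      · rcases Finset.mem_insert.1 hq with rfl | hq
        · exact hp.coprime_iff_not_dvd.1 h4.symm (h7.trans (Subgroup.card_dvd_of_le inf_le_left))
        · exact h1 q hq (h7.trans (Subgroup.card_dvd_of_le inf_le_right))
      · rw [← Subgroup.relIndex_mul_index inf_le_right, Subgroup.inf_relIndex_right] at h7
        rcases (hq.dvd_mul).1 h7 with h7 | h7
        · have := h7.trans (Subgroup.relIndex_dvd_index_of_normal N A)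
          rw [h5] at this
          rw [(Nat.prime_dvd_prime_iff_eq hq hp).1 (hq.dvd_of_dvd_pow this)]; exact hpd
        · exact h2 q hq h7
  obtain ⟨A, h0, h1, h2⟩ := key d.primeFactors fun q hq =>
    ⟨Nat.prime_of_mem_primeFactors hq, Nat.dvd_of_mem_primeFactors hq⟩
  exact ⟨A, h0, Nat.coprime_of_dvd fun q hq h3 h4 => h1 q (hq.mem_primeFactors h4 hd) h3, h2⟩

theorem exists_comm_lcs (hm : m ≠ 0)
    (h : ∀ χ : IrrCharacter G, charDegree χ.1 = 1 ∨ charDegree χ.1 = m) :
    ∃ A : Subgroup G, A.Normal ∧ (∀ a ∈ A, ∀ b ∈ A, a * b = b * a) ∧ (Nat.card A).Coprime m ∧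
      (∀ q, q.Prime → q ∣ A.index → q ∣ m) ∧ ∃ k, (⊤ : Subgroup G).lowerCentralSeries k ≤ A := by
  obtain ⟨A, _, h1, h2⟩ := exists_pi_compl hm fun χ h' => ((h χ).resolve_left h').symm.dvd
  refine ⟨A, inferInstance, comm_of_deg fun θ => ?_, h1, h2⟩
  obtain ⟨χ, hχ⟩ := exists_em_over θ
  have h3 := deg_dvd_of_em hχ
  rcases h χ with h4 | h4 <;> rw [h4] at h3
  · exact Nat.dvd_one.1 h3
  · exact Nat.eq_one_of_dvd_coprimes h1 (deg_dvd_card θ) h3

theorem derived_two (h : ∀ χ : IrrCharacter G, charDegree χ.1 = 1 ∨ charDegree χ.1 = m) :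
    derivedSeries G 2 = ⊥ := by
  wlog hm : m ≠ 0 generalizing m
  · exact this (m := 1) (fun χ => Or.inl ((h χ).resolve_right fun h' =>
      charDegree_ne_zero χ (by omega))) one_ne_zero
  have := Fintype.ofFinite G
  obtain ⟨A, -, h1, -, -, k, h2⟩ := exists_comm_lcs hm h
  exact eq_bot_iff.2 ((derivedSeries_antitone G Finset.card_le_two).trans
    (taketa {1, m} (fun χ => by simpa using h χ) (monomial_of_lcs h1 h2)).le)

/-! ### Minimal nonabelian quotients -/

omit [Finite G] in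
theorem normal_of_commutator_le (h : commutator G ≤ H) : H.Normal := ⟨fun x hx g => by
  have := H.mul_mem (h (Subgroup.commutator_mem_commutator (Subgroup.mem_top g)
    (Subgroup.mem_top x))) hx
  rwa [commutatorElement_def, inv_mul_cancel_right] at this⟩

omit [Finite G] in
theorem comm_mem (g x : G) : ⁅g, x⁆ ∈ commutator G :=
  Subgroup.commutator_mem_commutator (Subgroup.mem_top g) (Subgroup.mem_top x)

theorem na_cases (hs : Group.IsSolvable G) (h0 : commutator G ≠ ⊥)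
    (h : ∀ L : Subgroup G, L.Normal → L ≠ ⊥ → commutator G ≤ L) :
    ∃ p, p.Prime ∧ IsPGroup p (commutator G) ∧
      (∀ a ∈ commutator G, ∀ b ∈ commutator G, a * b = b * a) ∧
      ((IsPGroup p G ∧ commutator G ≤ Subgroup.center G) ∨
        ∀ n ∈ commutator G, n ≠ 1 → Ce1 n ≤ commutator G) := by
  obtain ⟨h1, p, hp, h2⟩ := Solv.minimal_normal_elementary (commutator G) inferInstance h0
    fun M hM h' => (eq_or_ne M ⊥).imp_right fun h'' => h'.antisymm (h M hM h'')
  rw [Solv.isMulCommutative_iff] at h1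
  have h3 := Solv.isPGroup_of_pow_eq_one h2
  haveI := Fact.mk hp
  have h4 : ∀ q, q.Prime → q ∣ Nat.card G → ∀ Q : Sylow q G, (Q : Subgroup G).Normal → q = p := by
    intro q hq hq' Q hQ
    haveI := Fact.mk hq
    exact Solv.eq_of_isPGroup_of_dvd h3 hq (Solv.dvd_card_of_isPGroup
      (Q.isPGroup'.to_le (h _ hQ (Q.ne_bot_of_dvd_card hq'))) h0)
  refine ⟨p, hp, h3, h1, ?_⟩
  by_cases hZ : Subgroup.center G = ⊥
  · refine Or.inr fun n hn hn1 g hg => ?_
    haveI : Nontrivial G := ⟨n, 1, hn1⟩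
    have h5 : ¬ IsPGroup p G := fun h5 => by
      have := h5.center_nontrivial
      rw [hZ] at this
      exact not_nontrivial _ this
    obtain ⟨q, hq, hq', hqp⟩ : ∃ q, q.Prime ∧ q ∣ Nat.card G ∧ q ≠ p := by
      by_contra! h6; exact h5 (Solv.isPGroup_of_forall_prime_dvd h6)
    haveI := Fact.mk hq
    obtain ⟨R⟩ : Nonempty (Sylow q G) := inferInstance
    haveI : (commutator G ⊔ R).Normal := normal_of_commutator_le le_sup_left
    have h6 : commutator G ⊔ No (R : Subgroup G) = ⊤ := eq_top_iff.2 ((Solv.IsSylowIn.frattini_top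
      (Solv.isSylowIn_of_le R (K := commutator G ⊔ R) le_sup_right)).ge.trans
      (sup_le (sup_le_sup_left Subgroup.le_normalizer _) le_sup_right))
    have h7 : ∀ g : G, ∃ a ∈ commutator G, ∃ b ∈ No (R : Subgroup G), g = a * b := fun g =>
      (Solv.mem_sup_of_le_normalizer' Subgroup.le_normalizer_of_normal).1
        (h6 ▸ Subgroup.mem_top g)
    have h8 : commutator G ⊓ No (R : Subgroup G) = ⊥ := by
      by_contra h8
      have h9 := h _ ⟨fun x hx g => by
        obtain ⟨a, ha, b, hb, rfl⟩ := h7 g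
        have h9 : b * x * b⁻¹ ∈ commutator G := Subgroup.Normal.conj_mem inferInstance x hx.1 b
        rw [show a * b * x * (a * b)⁻¹ = a * (b * x * b⁻¹) * a⁻¹ by group, h1 a ha _ h9,
          mul_inv_cancel_right]
        exact ⟨h9, Subgroup.mul_mem _ (Subgroup.mul_mem _ hb hx.2) (Subgroup.inv_mem _ hb)⟩⟩ h8
      exact hqp (h4 q hq hq' R (Subgroup.normalizer_eq_top_iff.1
        (eq_top_iff.2 (h6.ge.trans (sup_le (h9.trans inf_le_right) le_rfl)))))
    have h9 : commutator G ≤ Ce1 g := by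
      refine (h (commutator G ⊓ Ce1 g) ⟨fun x hx y => ?_⟩ fun h9 => hn1 ?_).trans inf_le_right
      · refine ⟨Subgroup.Normal.conj_mem inferInstance x hx.1 y,
          Subgroup.mem_centralizer_singleton_iff.2 ?_⟩
        have h9 := h1 x hx.1 _ (comm_mem g⁻¹ y⁻¹)
        have h10 := Subgroup.mem_centralizer_singleton_iff.1 hx.2
        calc y * x * y⁻¹ * g = y * (x * g) * ⁅g⁻¹, y⁻¹⁆ * y⁻¹ := by
              rw [commutatorElement_def]; group
          _ = y * g * (x * ⁅g⁻¹, y⁻¹⁆) * y⁻¹ := by rw [h10]; group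
          _ = g * (y * x * y⁻¹) := by rw [h9, commutatorElement_def]; group
      · exact Subgroup.mem_bot.1 (h9 ▸ ⟨hn, Subgroup.mem_centralizer_singleton_iff.2
          (Subgroup.mem_centralizer_singleton_iff.1 hg).symm⟩)
    obtain ⟨a, ha, b, hb, rfl⟩ := h7 g
    have h10 : b ∈ Subgroup.center G := Subgroup.mem_center_iff.2 fun x => by
      obtain ⟨c, hc, d, hd, rfl⟩ := h7 x
      have h10 : ⁅d, b⁆ = 1 := Subgroup.mem_bot.1 (h8 ▸ ⟨comm_mem d b, Subgroup.mul_mem _
        (Subgroup.mul_mem _ (Subgroup.mul_mem _ hd hb) (Subgroup.inv_mem _ hd))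
        (Subgroup.inv_mem _ hb)⟩)
      have h11 := Subgroup.mem_centralizer_singleton_iff.1 (h9 hc)
      rw [← mul_assoc, ← h1 a ha c hc, mul_assoc, mul_assoc, mul_right_inj] at h11
      rw [mul_assoc, commutatorElement_eq_one_iff_mul_comm.1 h10, ← mul_assoc, h11, mul_assoc]
    rw [hZ, Subgroup.mem_bot] at h10
    rwa [h10, mul_one]
  · have h5 := h _ inferInstance hZ
    refine Or.inl ⟨Solv.isPGroup_of_forall_prime_dvd fun q hq hq' => ?_, h5⟩
    haveI := Fact.mk hq
    obtain ⟨Q⟩ : Nonempty (Sylow q G) := inferInstance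
    exact h4 q hq hq' Q (Q.normal_of_normalizer_normal
      (normal_of_commutator_le (h5.trans (Subgroup.center_le_normalizer _))))

structure MaxNA (K : Subgroup G) : Prop where
  normal : K.Normal
  na : ¬ commutator G ≤ K
  max : ∀ L : Subgroup G, L.Normal → K ≤ L → L ≠ K → commutator G ≤ L

theorem exists_maxNA [L.Normal] (h : ¬ commutator G ≤ L) : ∃ K, L ≤ K ∧ MaxNA K := by
  obtain ⟨K, h1, ⟨h2, h3⟩, h4⟩ := Solv.exists_maximal_ge
    (P := fun K : Subgroup G => K.Normal ∧ ¬ commutator G ≤ K) (N := L) ⟨inferInstance, h⟩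
  exact ⟨K, h1, h2, h3, fun M hM h5 h6 => by_contra fun h7 => h6 (h4 M ⟨hM, h7⟩ h5)⟩

structure NA (K Z : Subgroup G) (p f : ℕ) (τ : IrrCharacter G) : Prop where
  prime : p.Prime
  normal : Z.Normal
  le : K ≤ Z
  comm : commutator G ≤ Z
  cent : ∀ z, z ∈ Z ↔ ∀ g, ⁅z, g⁆ ∈ K
  idx : ∃ k, K.index = p ^ k
  deg : charDegree τ.1 = f
  one_lt : 1 < f
  ker : K ≤ charKer τ.1
  zc : Z ≤ charCenter τ.1
  sq : f ^ 2 = Z.index

structure NB (K N : Subgroup G) (p : ℕ) : Prop where
  prime : p.Prime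
  normal : N.Normal
  lt : K < N
  comm : commutator G ≤ N
  ab : ∀ a ∈ N, ∀ b ∈ N, ⁅a, b⁆ ∈ K
  ne : N ≠ ⊤
  idx : ∃ k, K.relIndex N = p ^ k
  cop : (K.relIndex N).Coprime N.index
  fpf : ∀ x, x ∉ N → ∀ n ∈ N, ⁅n, x⁆ ∈ K → n ∈ K

omit [Finite G] in
theorem map_commutator_mk (K : Subgroup G) [K.Normal] :
    (commutator G).map (QuotientGroup.mk' K) = commutator (G ⧸ K) := by
  rw [commutator_def, Subgroup.map_commutator,
    Subgroup.map_top_of_surjective _ (QuotientGroup.mk'_surjective K), commutator_def]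

omit [Finite G] in
theorem MaxNA.quot [K.Normal] (h : MaxNA K) : commutator (G ⧸ K) ≠ ⊥ ∧
    ∀ L : Subgroup (G ⧸ K), L.Normal → L ≠ ⊥ → commutator (G ⧸ K) ≤ L := by
  rw [← map_commutator_mk]
  refine ⟨fun h1 => h.na ((Solv.map_mk_eq_bot_iff K).1 h1), fun L _ h1 =>
    Subgroup.map_le_iff_le_comap.2 (h.max _ inferInstance (Solv.le_comap_mk K L) fun h2 => h1 ?_)⟩
  rw [← Solv.map_comap_mk K L, h2, Solv.map_mk_eq_bot_iff]

omit [Finite G] in
theorem comm_mem_iff [K.Normal] {a b : G} :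
    ⁅a, b⁆ ∈ K ↔ (a : G ⧸ K) * (b : G ⧸ K) = (b : G ⧸ K) * (a : G ⧸ K) := by
  rw [← QuotientGroup.eq_one_iff, ← commutatorElement_eq_one_iff_mul_comm]; rfl

theorem MaxNA.cases [K.Normal] (h : MaxNA K) (hs : Group.IsSolvable (G ⧸ K)) :
    (∃ Z p f τ, NA K Z p f τ) ∨ ∃ N p, NB K N p := by
  obtain ⟨h0, h1⟩ := h.quot
  obtain ⟨p, hp, h2, h3, ⟨h4, h5⟩ | h4⟩ := na_cases hs h0 h1
  · haveI := Fact.mk hp
    obtain ⟨τ, hτ⟩ : ∃ τ : IrrCharacter (G ⧸ K), ¬ commutator (G ⧸ K) ≤ charKer τ.1 := by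
      by_contra! h6; exact h0 (eq_bot_of_forall_ker h6)
    have h6 : charKer τ.1 = ⊥ := by_contra fun h6 => hτ (h1 _ τ.2.isCharacter.normal_charKer h6)
    have h7 := τ.2.charCenter_eq_center h6
    refine Or.inl ⟨(Subgroup.center (G ⧸ K)).comap (QuotientGroup.mk' K), p, charDegree τ.1,
      infl (QuotientGroup.mk'_surjective K) τ, hp, inferInstance, Solv.le_comap_mk K _,
      Subgroup.map_le_iff_le_comap.1 (map_commutator_mk K ▸ h5), fun z => ?_,
      h4.exists_card_eq, charDegree_infl _ τ, ?_, fun x hx => ?_, fun x hx => ?_, ?_⟩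
    · simp only [comm_mem_iff, Subgroup.mem_comap, Subgroup.mem_center_iff]
      exact ⟨fun h g => (h g).symm, fun h g => by
        obtain ⟨g, rfl⟩ := QuotientGroup.mk_surjective g; exact (h g).symm⟩
    · have := charDegree_ne_zero τ
      have := deg_eq_one_iff.not.2 hτ
      omega
    · rw [(infl _ τ).2.isCharacter.mem_charKer, infl_apply, infl_apply, map_one,
        QuotientGroup.mk'_apply, (QuotientGroup.eq_one_iff x).2 hx]
    · rw [(infl _ τ).2.isCharacter.mem_charCenter, infl_apply, infl_apply, map_one,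
        ← τ.2.isCharacter.mem_charCenter, h7]
      exact hx
    · rw [Solv.index_comap_mk]
      exact τ.2.degree_sq_eq_index h7.ge (fun g hg => τ.2.eq_zero_of_commutator_mem
        (fun x => h7 ▸ h5 (comm_mem x g)) (h7 ▸ hg)) (cast_deg τ).symm
  · haveI := Fact.mk hp
    have h5 : K.relIndex ((commutator (G ⧸ K)).comap (QuotientGroup.mk' K)) =
        Nat.card (commutator (G ⧸ K)) := by
      rw [← Solv.card_map_mk_eq_relIndex, Solv.map_comap_mk]
    refine Or.inr ⟨(commutator (G ⧸ K)).comap (QuotientGroup.mk' K), p, hp, inferInstance,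
      (Solv.le_comap_mk K _).lt_of_ne fun h6 => h0 ?_,
      Subgroup.map_le_iff_le_comap.1 (map_commutator_mk K).le,
      fun a ha b hb => comm_mem_iff.2 (h3 _ ha _ hb), fun h6 => h0 ?_, h5 ▸ h2.exists_card_eq, ?_,
      fun x hx n hn h6 => by_contra fun h7 => hx (h4 n hn ((QuotientGroup.eq_one_iff n).not.2 h7)
        (Subgroup.mem_centralizer_singleton_iff.2 (comm_mem_iff.1 h6).symm))⟩
    · rw [← Solv.map_comap_mk K (commutator (G ⧸ K)), ← h6, Solv.map_mk_eq_bot_iff]
    · have h7 : commutator (G ⧸ K) = ⊤ := by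
        rw [← Solv.map_comap_mk K (commutator (G ⧸ K)), h6,
          Subgroup.map_top_of_surjective _ (QuotientGroup.mk'_surjective K)]
      rw [commutator_def, Subgroup.commutator_eq_bot_iff_le_centralizer]
      exact fun a _ b _ => h3 b (h7 ▸ Subgroup.mem_top b) a (h7 ▸ Subgroup.mem_top a)
    · rw [h5, Solv.index_comap_mk]
      exact coprime_card_index_of_centralizer_le h4

theorem deg_mul {φ : G → ℂ} (h : IsIrrCharacter G φ) (h1 : φ = χ.1 * ψ.1) :
    charDegree φ = charDegree χ.1 * charDegree ψ.1 :=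
  charDegree_of_eq (χ := ⟨φ, h⟩) (by rw [Nat.cast_mul, cast_deg, cast_deg]; exact congrFun h1 1)

namespace NA
variable {f : ℕ} {τ : IrrCharacter G} (h : NA K Z p f τ)
include h

theorem exists_pow : ∃ e, f = p ^ e := by
  obtain ⟨k, hk⟩ := h.idx
  obtain ⟨e, -, he⟩ := (Nat.dvd_prime_pow h.prime).1 (((dvd_pow_self f two_ne_zero).trans
    (h.sq.dvd.trans (Subgroup.index_dvd_of_le h.le))).trans hk.dvd)
  exact ⟨e, he⟩

theorem dvd : p ∣ f := by
  obtain ⟨e, rfl⟩ := h.exists_pow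
  exact dvd_pow_self p fun h1 => by have := h.one_lt; simp [h1] at this

theorem mul_of_not_dvd [K.Normal] (hχ : ¬ p ∣ charDegree χ.1) :
    ∃ ψ : IrrCharacter G, charDegree ψ.1 = f * charDegree χ.1 := by
  haveI := Fact.mk h.prime
  obtain ⟨k, hk⟩ := h.idx
  obtain ⟨θ, hθ⟩ := exists_res_of_not_dvd hk hχ
  have h1 := τ.2.mul_of_le_charKer h.ker χ.2.isCharacter (by rw [funext hθ]; exact θ.2)
  exact ⟨⟨_, h1⟩, by rw [deg_mul h1 rfl, h.deg]⟩

theorem mul_of_res {θ : IrrCharacter Z} (hθ : ∀ x : Z, χ.1 x = θ.1 x) :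
    ∃ ψ : IrrCharacter G, charDegree ψ.1 = f * charDegree χ.1 := by
  haveI := h.normal
  have := Fintype.ofFinite G
  have := Fintype.ofFinite Z
  obtain ⟨lam, h1⟩ := IsCharacter.exists_units_of_le_charCenter τ.2.isCharacter
    τ.2.apply_one_ne_zero h.zc
  have h2 : (fun n : Z => τ.1 n) = τ.1 1 • lc lam := funext fun z => by
    have := h1 z 1
    rw [mul_one] at this
    simp [this, mul_comm]
  have h3 := (gallagher (isIrr_lc lam) (invariant_of_res_eq_smul τ.2.isClassFunction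
    τ.2.apply_one_ne_zero h2) χ.2.isCharacter (by
      rw [funext hθ]; exact θ.2.mul_units lam)).mapsTo (x := τ.1) ⟨τ.2, by
      rw [h2, classInner_smul_left, (isIrr_lc lam).classInner_self, mul_one]
      exact τ.2.apply_one_ne_zero⟩
  exact ⟨⟨_, h3.1⟩, by rw [deg_mul h3.1 rfl, h.deg]⟩

end NA

theorem index_dvd_sq [K.Normal] (h : ∀ g, g ∉ K → χ.1 g = 0) : K.index ∣ charDegree χ.1 ^ 2 := by
  have := Fintype.ofFinite G
  have := Fintype.ofFinite K
  obtain ⟨θ, hθ⟩ := exists_em_under χ K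
  have h1 := (classInner_res_self_eq_iff K χ.1).2 h
  rw [classInner_res_self hθ, χ.2.classInner_self, mul_one, Nat.cast_inj] at h1
  rw [← h1, deg_eq_em_mul hθ]
  exact ⟨(inertia K θ.1).index * charDegree θ.1 ^ 2, by ring⟩

theorem exists_annih_ne (h : commutator G ≤ D) {x : G} (hx : x ∉ D) :
    ∃ l ∈ annih D, l x ≠ 1 := by
  by_contra! h1
  haveI := normal_of_commutator_le h
  have h2 := relIndex_annih h (le_sup_left (b := zpowers x))
  have h3 : annih D ≤ annih (D ⊔ zpowers x) := fun l hl y hy =>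
    (sup_le (c := l.ker) (fun z hz => hl z hz) (Subgroup.zpowers_le.2 (h1 l hl))) hy
  rw [Subgroup.relIndex_eq_one.2 h3, eq_comm, Subgroup.relIndex_eq_one] at h2
  exact hx (h2 (Subgroup.mem_sup_right (mem_zpowers x)))

/-- Product of a linear character with an irreducible character. -/
def lmu (l : G →* ℂˣ) (χ : IrrCharacter G) : IrrCharacter G :=
  ⟨fun g => l g * χ.1 g, χ.2.mul_units l⟩

theorem lmu_apply (l : G →* ℂˣ) (χ : IrrCharacter G) (g : G) : (lmu l χ).1 g = l g * χ.1 g := rfl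

theorem lmu_mul (l l' : G →* ℂˣ) (χ : IrrCharacter G) : lmu (l * l') χ = lmu l (lmu l' χ) :=
  Subtype.ext (funext fun g => by simp [lmu_apply, mul_assoc])

theorem lmu_one (χ : IrrCharacter G) : lmu 1 χ = χ :=
  Subtype.ext (funext fun g => by simp [lmu_apply])

theorem charDegree_lmu (l : G →* ℂˣ) (χ : IrrCharacter G) :
    charDegree (lmu l χ).1 = charDegree χ.1 :=
  charDegree_of_eq (by simp [lmu_apply, cast_deg])

/-- Conjugate of a linear character. -/
def lcj {G : Type u} [Group G] (N : Subgroup G) [N.Normal] (x : G) (l : N →* ℂˣ) : N →* ℂˣ :=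
  l.comp (MulAut.conjNormal x).toMonoidHom

theorem icj_lmu [N.Normal] (x : G) (l : N →* ℂˣ) (θ : IrrCharacter N) :
    icj N x (lmu l θ) = lmu (lcj N x l) (icj N x θ) := rfl

theorem exists_deg_ind [N.Normal] {θ : IrrCharacter N} (h : inertia N θ.1 ≤ N) :
    ∃ χ : IrrCharacter G, charDegree χ.1 = N.index * charDegree θ.1 := by
  have := Fintype.ofFinite G
  exact ⟨⟨_, θ.2.ind_of_inertia_le h⟩, charDegree_of_eq (by
    rw [Nat.cast_mul, cast_deg]; exact indFun_one _ _)⟩

namespace NB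
variable [K.Normal] (h : NB K N p)
include h

theorem exists_comm {x : G} (hx : x ∉ N) {n : G} (hn : n ∈ N) : ∃ y ∈ N, n⁻¹ * ⁅y, x⁆ ∈ K := by
  haveI := h.normal
  obtain ⟨_, ⟨y, hy, rfl⟩, h1⟩ := exists_conj_eq_mul_of_fpf (N := N.map (QuotientGroup.mk' K))
    (h := (x : G ⧸ K)) (by
      rintro _ ⟨k, hk, rfl⟩ h1
      exact (QuotientGroup.eq_one_iff k).2 (h.fpf x hx k hk (comm_mem_iff.2 h1.symm)))
    (Subgroup.mem_map_of_mem _ hn)
  refine ⟨y, hy, QuotientGroup.eq.1 ?_⟩
  rw [← mul_inv_eq_iff_eq_mul] at h1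
  exact h1.symm

omit [Finite G] in
theorem comm_sub : commutator N ≤ K.subgroupOf N :=
  Subgroup.commutator_le.2 fun a _ b _ => h.ab a a.2 b b.2

variable [N.Normal]

theorem eq_one_of_lcj {x : G} (hx : x ∉ N) {l : N →* ℂˣ} (hl : l ∈ annih (K.subgroupOf N))
    (h1 : lcj N x l = l) : l = 1 := by
  refine MonoidHom.ext fun n => ?_
  obtain ⟨y, hy, h2⟩ := h.exists_comm hx n.2
  have h3 := hl (n⁻¹ * (⟨y, hy⟩ * MulAut.conjNormal x (⟨y, hy⟩ : N)⁻¹))
    (Subgroup.mem_subgroupOf.2 (by simpa [commutatorElement_def, mul_assoc] using h2))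
  have h4 := DFunLike.congr_fun h1 (⟨y, hy⟩ : N)⁻¹
  rw [map_mul, map_mul, show l (MulAut.conjNormal x _) = _ from h4] at h3
  simpa using h3

omit [Finite G] h in
theorem lcj_mem (x : G) {l : N →* ℂˣ} (hl : l ∈ annih (K.subgroupOf N)) :
    lcj N x l ∈ annih (K.subgroupOf N) := fun y hy =>
  hl _ (Subgroup.Normal.conj_mem inferInstance (y : G) (Subgroup.mem_subgroupOf.1 hy) x)

theorem lmu_eq {x : G} (hx : x ∉ N) {θ : IrrCharacter N} {l : N →* ℂˣ}
    (hl : l ∈ annih (K.subgroupOf N)) (h1 : icj N x θ = θ) (h2 : icj N x (lmu l θ) = lmu l θ) :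
    lmu l θ = θ := by
  have h3 : ∀ a ∈ annih (K.subgroupOf N), ∀ b ∈ annih (K.subgroupOf N),
      lcj N x a * a⁻¹ = lcj N x b * b⁻¹ → a = b := fun a ha b hb h3 =>
    mul_inv_eq_one.1 (h.eq_one_of_lcj hx (mul_mem ha (inv_mem hb)) (MonoidHom.ext fun n => by
      have h4 : lcj N x a n * (a n)⁻¹ = lcj N x b n * (b n)⁻¹ := DFunLike.congr_fun h3 n
      change lcj N x a n * (lcj N x b n)⁻¹ = a n * (b n)⁻¹
      rw [mul_inv_eq_iff_eq_mul.1 h4, mul_right_comm, mul_right_comm _ (b n)⁻¹, mul_inv_cancel,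
        one_mul, mul_comm]))
  have h4 : ∀ a, icj N x (lmu a θ) = lmu a θ → lmu (lcj N x a * a⁻¹) θ = θ := fun a h4 => by
    rw [icj_lmu, h1] at h4
    rw [comm_lc, lmu_mul, h4, ← lmu_mul, show a⁻¹ * a = 1 from inv_mul_cancel a, lmu_one]
  let F : {a // a ∈ annih (K.subgroupOf N) ∧ lmu a θ = θ} →
      {a // a ∈ annih (K.subgroupOf N) ∧ lmu a θ = θ} := fun a =>
    ⟨lcj N x a * a.1⁻¹, mul_mem (lcj_mem x a.2.1) (inv_mem a.2.1), h4 a (by rw [a.2.2, h1])⟩
  obtain ⟨a, ha⟩ := Finite.surjective_of_injective (f := F)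
    (fun a b hab => Subtype.ext (h3 _ a.2.1 _ b.2.1 (congrArg Subtype.val hab)))
    ⟨lcj N x l * l⁻¹, mul_mem (lcj_mem x hl) (inv_mem hl), h4 l h2⟩
  rw [← h3 _ a.2.1 _ hl (congrArg Subtype.val ha), a.2.2]

theorem ind_or_vanish (θ : IrrCharacter N) :
    (∃ χ : IrrCharacter G, charDegree χ.1 = N.index * charDegree θ.1) ∨
      ∀ n : N, n ∉ K.subgroupOf N → θ.1 n = 0 := by
  by_cases h1 : ∃ l ∈ annih (K.subgroupOf N), inertia N (lmu l θ).1 ≤ N
  · obtain ⟨l, -, h1⟩ := h1
    exact Or.inl (charDegree_lmu l θ ▸ exists_deg_ind h1)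
  simp only [not_exists, not_and, SetLike.not_le_iff_exists, ← icj_eq_iff] at h1
  refine Or.inr fun n hn => ?_
  obtain ⟨l, hl, h2⟩ := exists_annih_ne h.comm_sub hn
  obtain ⟨x, h3, hx⟩ := h1 1 (one_mem _)
  rw [lmu_one] at h3
  obtain ⟨y, h4, hy⟩ := h1 l hl
  have h5 : icj N x (lmu l θ) = lmu (lcj N x l * l⁻¹) (lmu l θ) := by
    rw [icj_lmu, h3, ← lmu_mul,
      show lcj N x l * l⁻¹ * l = lcj N x l from inv_mul_cancel_right (lcj N x l) l]
  have h6 := h.lmu_eq hy (mul_mem (lcj_mem x hl) (inv_mem hl)) h4 (by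
    rw [← h5, ← icj_mul, show x * y = ⁅x, y⁆ * (y * x) by rw [commutatorElement_def]; group,
      icj_mul, icj_of_mem (h.comm (comm_mem x y)), icj_mul, h4])
  have h7 := congrFun (congrArg Subtype.val (h.lmu_eq hx hl h3 (h5.trans h6))) n
  rw [lmu_apply] at h7
  exact (mul_left_eq_self₀.1 h7).resolve_left fun h8 => h2 (Units.ext h8)

theorem ind_or_dvd (θ : IrrCharacter N) :
    (∃ χ : IrrCharacter G, charDegree χ.1 = N.index * charDegree θ.1) ∨
      K.relIndex N ∣ charDegree θ.1 ^ 2 :=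
  (h.ind_or_vanish θ).imp_right index_dvd_sq

omit [K.Normal] [N.Normal] in
theorem one_lt_rel : 1 < K.relIndex N :=
  Nat.one_lt_iff_ne_zero_and_ne_one.2 ⟨Subgroup.index_ne_zero_of_finite,
    fun h1 => h.lt.not_ge (Subgroup.relIndex_eq_one.1 h1)⟩

omit [K.Normal] [N.Normal] in
theorem one_lt : 1 < N.index := Subgroup.one_lt_index_of_ne_top h.ne

omit [K.Normal] [N.Normal] in
theorem dvd : p ∣ K.relIndex N := by
  obtain ⟨e, he⟩ := h.idx
  have := h.one_lt_rel
  rw [he] at this ⊢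
  exact dvd_pow_self p fun h1 => by simp [h1] at this

theorem ind_or_dvd' (θ : IrrCharacter N) :
    (∃ χ : IrrCharacter G, charDegree χ.1 = N.index * charDegree θ.1) ∨ p ∣ charDegree θ.1 :=
  (h.ind_or_dvd θ).imp_right fun h1 => h.prime.dvd_of_dvd_pow (h.dvd.trans h1)

omit [K.Normal] [N.Normal] in
theorem not_dvd : ¬ p ∣ N.index := fun h1 =>
  h.prime.one_lt.ne' (Nat.eq_one_of_dvd_coprimes h.cop h.dvd h1)

theorem exists_deg : ∃ χ : IrrCharacter G, charDegree χ.1 = N.index := by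
  simpa [charDegree_irrOne, h.prime.ne_one] using h.ind_or_dvd' (irrOne N)

end NB

end Cfsg.Agent.Blk
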