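import Cfsg.Agent.Lib.Block.Cd

/-! Groups with two or three character degrees. -/

set_option autoImplicit false

namespace Cfsg.Agent.Blk

open Cfsg.Agent.Char hiding cj cj_mul cj_inv_cj cj_cj_inv sum_cj_eq om
open scoped ComplexConjugate commutatorElement
attribute [local instance] _root_.Classical.propDecidable
open Subgroup (zpowers mem_zpowers)

universe u

variable {G : Type u} [Group G] [Finite G] {A D H K L N Z : Subgroup G} {p m n : ℕ}
  {χ ψ : IrrCharacter G}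

theorem commutator_le_of_index
    (h : ∀ χ : IrrCharacter G, charDegree χ.1 = 1 ∨ charDegree χ.1 = m) (hH : H.index ≤ m) :
    commutator G ≤ H :=
  le_of_small fun χ h1 => deg_eq_one_iff.1 ((h χ).resolve_right (by omega))

theorem le_Ce_of_inertia [A.Normal] (hA : ∀ a ∈ A, ∀ b ∈ A, a * b = b * a)
    (h : ∀ θ : IrrCharacter A, D ≤ inertia A θ.1) : D ≤ Ce A := fun g hg a ha => by
  obtain ⟨c, hc⟩ := isConj_iff.1 ((isConj_iff_forall_irr _ (⟨a, ha⟩ : A)).2
    fun θ => mem_inertia'.1 (h θ hg) ⟨a, ha⟩)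
  have h1 : (c : G) * (g * a * g⁻¹) * (c : G)⁻¹ = a := congrArg Subtype.val hc
  rw [hA c c.2 _ (Subgroup.Normal.conj_mem inferInstance a ha g), mul_inv_cancel_right] at h1
  rw [← mul_inv_eq_iff_eq_mul.1 h1]

theorem index_inertia_le [N.Normal] {θ : IrrCharacter N} (h : em N χ θ ≠ 0) :
    (inertia N θ.1).index ≤ charDegree χ.1 :=
  Nat.le_of_dvd (Nat.pos_of_ne_zero (charDegree_ne_zero χ))
    ⟨em N χ θ * charDegree θ.1, by rw [deg_eq_em_mul h]; ring⟩

theorem not_commutator_le_bot (h : charDegree χ.1 ≠ 1) : ¬ commutator G ≤ ⊥ :=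
  fun h1 => h (deg_eq_one_iff.2 (h1.trans bot_le))

theorem NB.two [K.Normal] (hB : NB K N p)
    (h : ∀ χ : IrrCharacter G, charDegree χ.1 = 1 ∨ charDegree χ.1 = m) :
    (∀ a ∈ N, ∀ b ∈ N, a * b = b * a) ∧ N.index = m := by
  haveI := hB.normal
  have h1 := hB.one_lt
  obtain ⟨χ, hχ⟩ := hB.exists_deg
  have h2 : N.index = m := by rcases h χ with h2 | h2 <;> omega
  refine ⟨comm_of_deg fun θ => ?_, h2⟩
  rcases hB.ind_or_dvd' θ with ⟨ψ, h3⟩ | h3
  · rcases h ψ with h4 | h4 <;> rw [h4] at h3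
    · exact Nat.eq_one_of_mul_eq_one_left h3.symm
    · exact (Nat.mul_eq_left (by omega)).1 (h3.symm.trans h2.symm)
  · obtain ⟨ψ, h4⟩ := exists_em_over θ
    have h5 := h3.trans (deg_dvd_of_em h4)
    rcases h ψ with h6 | h6 <;> rw [h6] at h5
    · exact (hB.prime.ne_one (Nat.dvd_one.1 h5)).elim
    · exact (hB.not_dvd (h2 ▸ h5)).elim

theorem two_cases (h : ∀ χ : IrrCharacter G, charDegree χ.1 = 1 ∨ charDegree χ.1 = m)
    (hm : ∃ χ : IrrCharacter G, charDegree χ.1 ≠ 1) :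
    (∃ A : Subgroup G, A.Normal ∧ (∀ a ∈ A, ∀ b ∈ A, a * b = b * a) ∧ A.index = m) ∨
      ∃ (K Z : Subgroup G) (p : ℕ) (τ : IrrCharacter G), K.Normal ∧ NA K Z p m τ ∧ ∃ P A : Subgroup G, P.Normal ∧ A.Normal ∧
        IsPGroup p P ∧ A ≤ Subgroup.center G ∧ P ⊓ A = ⊥ ∧ P ⊔ A = ⊤ := by
  obtain ⟨χ, hχ⟩ := hm
  have hm : m ≠ 0 := ((h χ).resolve_left hχ) ▸ charDegree_ne_zero χ
  haveI : Group.IsSolvable G := ⟨⟨2, derived_two h⟩⟩
  have h0 : ∀ {K Z p f τ}, NA (G := G) K Z p f τ → f = m := fun {K Z p f τ} hA => by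
    have := hA.one_lt
    have := hA.deg
    rcases h τ with h1 | h1 <;> omega
  obtain ⟨K, -, hK⟩ := exists_maxNA (not_commutator_le_bot hχ)
  haveI := hK.normal
  rcases hK.cases inferInstance with ⟨Z, p, f, τ, hA⟩ | ⟨N, p, hB⟩
  swap
  · exact Or.inl ⟨N, hB.normal, hB.two h⟩
  obtain rfl := h0 hA
  obtain ⟨e, he⟩ := hA.exists_pow
  haveI := Fact.mk hA.prime
  obtain ⟨A, _, h1, h2, h3, -⟩ := exists_comm_lcs hm h
  obtain ⟨P⟩ : Nonempty (Sylow p G) := inferInstance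
  have h4 : (Nat.card A).Coprime p := h2.coprime_dvd_right hA.dvd
  have h5 : (P : Subgroup G) ⊔ A = ⊤ := Subgroup.index_eq_one.1 (by
    by_contra h5
    obtain ⟨q, hq, h6⟩ := Nat.exists_prime_and_dvd h5
    have h7 := h3 q hq (h6.trans (Subgroup.index_dvd_of_le le_sup_right))
    rw [he] at h7
    rw [(Nat.prime_dvd_prime_iff_eq hq hA.prime).1 (hq.dvd_of_dvd_pow h7)] at h6
    exact P.not_dvd_index (h6.trans (Subgroup.index_dvd_of_le le_sup_left)))
  by_cases h6 : A ≤ Subgroup.center G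
  · exact Or.inr ⟨K, Z, p, τ, inferInstance, hA, P, A, Subgroup.normalizer_eq_top_iff.1
      (eq_top_iff.2 (h5.ge.trans (sup_le Subgroup.le_normalizer
        (h6.trans (Subgroup.center_le_normalizer _))))), inferInstance, P.isPGroup', h6,
      Solv.inf_eq_bot_of_coprime' (Solv.coprime_card_of_isPGroup' P.isPGroup' h4).symm, h5⟩
  have h7 : commutator G ≤ Ce A := le_Ce_of_inertia h1 fun θ => by
    obtain ⟨ψ, h7⟩ := exists_em_over θ
    refine commutator_le_of_index h ((index_inertia_le h7).trans ?_)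
    rcases h ψ with h8 | h8 <;> omega
  have h8 : ⁅(P : Subgroup G), (P : Subgroup G)⁆ ≤ commutator G :=
    Subgroup.commutator_mono le_top le_top
  haveI : (⁅(P : Subgroup G), (P : Subgroup G)⁆).Normal := Subgroup.normalizer_eq_top_iff.1
    (eq_top_iff.2 (h5.ge.trans (sup_le
      (Solv.le_normalizer_commutator Subgroup.le_normalizer Subgroup.le_normalizer)
      ((Subgroup.le_centralizer_iff.1 (h8.trans h7)).trans
        (Subgroup.centralizer_le_normalizer _)))))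
  have h9 : ¬ commutator G ≤ ⁅(P : Subgroup G), (P : Subgroup G)⁆ := fun h9 => h6 fun a ha =>
    Subgroup.mem_center_iff.2 fun g => commutatorElement_eq_one_iff_mul_comm.1
      (Subgroup.mem_bot.1 ((Solv.inf_eq_bot_of_coprime'
        (Solv.coprime_card_of_isPGroup' P.isPGroup' h4)).le ⟨Subgroup.commutator_le_right ⊤ A
        (Subgroup.commutator_mem_commutator (Subgroup.mem_top g) ha),
        Subgroup.commutator_le_self _ (h9 (comm_mem g a))⟩))
  obtain ⟨K', h10, hK'⟩ := exists_maxNA h9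
  haveI := hK'.normal
  rcases hK'.cases inferInstance with ⟨Z', p', f', τ', hA'⟩ | ⟨N, p, hB⟩
  swap
  · exact Or.inl ⟨N, hB.normal, hB.two h⟩
  have h11 := hA'.dvd
  rw [h0 hA', he] at h11
  obtain rfl := (Nat.prime_dvd_prime_iff_eq hA'.prime hA.prime).1 (hA'.prime.dvd_of_dvd_pow h11)
  obtain ⟨k, hk⟩ := hA'.idx
  have h12 : A ≤ K' := Solv.le_of_coprime_index (hk ▸ h4.pow_right k)
  refine (hK'.na (Subgroup.commutator_le.2 fun x _ y _ => comm_mem_iff.2 ?_)).elim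
  obtain ⟨a, ha, b, hb, rfl⟩ := (Solv.mem_sup_of_le_normalizer
    Subgroup.le_normalizer_of_normal).1 (h5 ▸ Subgroup.mem_top x)
  obtain ⟨c, hc, d, hd, rfl⟩ := (Solv.mem_sup_of_le_normalizer
    Subgroup.le_normalizer_of_normal).1 (h5 ▸ Subgroup.mem_top y)
  rw [QuotientGroup.mk_mul, QuotientGroup.mk_mul, (QuotientGroup.eq_one_iff b).2 (h12 hb),
    (QuotientGroup.eq_one_iff d).2 (h12 hd), mul_one, mul_one]
  exact comm_mem_iff.1 (h10 (Subgroup.commutator_mem_commutator ha hc))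

/-! ### Three degrees -/

theorem deg_eq_gcd [A.Normal] (hc : (Nat.card A).Coprime A.index) {θ : IrrCharacter A}
    (h : em A χ θ ≠ 0) : charDegree θ.1 = (charDegree χ.1).gcd (Nat.card A) := by
  obtain ⟨k, h1, h2⟩ := exists_deg_eq_mul h
  rw [h2, Nat.Coprime.gcd_mul_left_cancel _ (hc.coprime_dvd_right h1).symm,
    Nat.gcd_eq_left (deg_dvd_card θ)]

omit [Finite G] in
theorem derived_le_map {i j : ℕ} (h : derivedSeries G i ≤ (derivedSeries A j).map A.subtype)
    (k : ℕ) : derivedSeries G (i + k) ≤ (derivedSeries A (j + k)).map A.subtype := by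
  induction k with
  | zero => exact h
  | succ k ih =>
    rw [← add_assoc, ← add_assoc, derivedSeries_succ, derivedSeries_succ, Subgroup.map_commutator]
    exact Subgroup.commutator_mono ih ih

omit [Finite G] in
theorem derived_le_of_quot [N.Normal] {i : ℕ} (h : derivedSeries (G ⧸ N) i = ⊥) :
    derivedSeries G i ≤ N := by
  rwa [← map_derivedSeries_eq (QuotientGroup.mk'_surjective N), Solv.map_mk_eq_bot_iff] at h

theorem le_charKer_infl [N.Normal] (φ : IrrCharacter (G ⧸ N)) :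
    N ≤ charKer (infl (QuotientGroup.mk'_surjective N) φ).1 := fun x hx => by
  rw [(infl _ φ).2.isCharacter.mem_charKer, infl_apply, infl_apply, map_one,
    QuotientGroup.mk'_apply, (QuotientGroup.eq_one_iff x).2 hx]

theorem exists_deg_quot [N.Normal] (φ : IrrCharacter (G ⧸ N)) :
    ∃ χ : IrrCharacter G, N ≤ charKer χ.1 ∧ charDegree χ.1 = charDegree φ.1 :=
  ⟨_, le_charKer_infl φ, charDegree_infl _ φ⟩

theorem exists_nonlinear [N.Normal] (h : ¬ commutator G ≤ N) :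
    ∃ χ : IrrCharacter G, N ≤ charKer χ.1 ∧ charDegree χ.1 ≠ 1 := by
  by_contra! h1
  exact h (commutator_le_of_forall_linear fun χ hχ h2 =>
    (cast_deg ⟨χ, hχ⟩).symm.trans (by rw [h1 ⟨χ, hχ⟩ h2, Nat.cast_one]))

theorem deg_eq_one_of_em {θ : IrrCharacter A} (h : em A χ θ ≠ 0)
    (h1 : (commutator A).map A.subtype ≤ charKer χ.1) : charDegree θ.1 = 1 :=
  deg_eq_one_iff.2 fun x hx => θ.2.isCharacter.mem_charKer.2 (apply_eq_of_em h
    (χ.2.isCharacter.mem_charKer.1 (h1 (Subgroup.mem_map_of_mem _ hx))))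

theorem three_aux [A.Normal] (hc : (Nat.card A).Coprime A.index)
    (h : ∀ χ : IrrCharacter G, charDegree χ.1 = 1 ∨ charDegree χ.1 = m ∨ charDegree χ.1 = n)
    (h1 : m.gcd (Nat.card A) ≠ 1) (h2 : ¬ commutator G ≤ (commutator A).map A.subtype) :
    derivedSeries G 3 = ⊥ := by
  have h3 : ∀ χ : IrrCharacter G, (commutator A).map A.subtype ≤ charKer χ.1 →
      (charDegree χ.1).gcd (Nat.card A) = 1 := fun χ h3 => by
    obtain ⟨θ, hθ⟩ := exists_em_under χ A
    rw [← deg_eq_gcd hc hθ, deg_eq_one_of_em hθ h3]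
  have h4 : ∀ χ : IrrCharacter G, (commutator A).map A.subtype ≤ charKer χ.1 →
      charDegree χ.1 = 1 ∨ charDegree χ.1 = n := fun χ h4 =>
    (h χ).imp_right fun h5 => h5.resolve_left fun h6 => h1 (h6 ▸ h3 χ h4)
  obtain ⟨χ, h5, h6⟩ := exists_nonlinear h2
  have h7 := h3 χ h5
  rw [(h4 χ h5).resolve_left h6] at h7
  have h8 : derivedSeries G 2 ≤ (commutator A).map A.subtype :=
    derived_le_of_quot (derived_two (m := n) fun φ => by
      obtain ⟨ψ, h8, h9⟩ := exists_deg_quot φ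
      exact h9 ▸ h4 ψ h8)
  replace h8 := derived_le_map (i := 2) (j := 1) (derivedSeries_one A ▸ h8) 1
  rw [derived_two (m := m.gcd (Nat.card A)) fun θ => ?_, Subgroup.map_bot] at h8
  · exact eq_bot_iff.2 h8
  obtain ⟨ψ, h9⟩ := exists_em_over θ
  rw [deg_eq_gcd hc h9]
  rcases h ψ with h10 | h10 | h10 <;> simp [h10, h7]

omit [Finite G] in
theorem lcs_eq_top (h : commutator G = ⊤) (k : ℕ) : (⊤ : Subgroup G).lowerCentralSeries k = ⊤ := by
  induction k with
  | zero => rfl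
  | succ k ih => rw [Subgroup.lowerCentralSeries_succ, ih]; exact h

theorem pResidual_eq_top [hp : Fact p.Prime] (h : commutator G = ⊤) : pResidual p G = ⊤ := by
  obtain ⟨k, hk⟩ := Transfer.index_pResidual (p := p) (G := G)
  obtain ⟨l, hl⟩ := lcs_le_of_index hp.out hk
  exact eq_top_iff.2 (lcs_eq_top h l ▸ hl)

omit [Finite G] in
theorem commutator_subgroupOf {U : Subgroup G} (h : ⁅D, D⁆ = D) (hU : D ≤ U) :
    commutator (D.subgroupOf U) = ⊤ := by
  refine Subgroup.map_injective (D.subgroupOf U).subtype_injective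
    (Subgroup.map_injective U.subtype_injective ?_)
  rw [Subgroup.map_subtype_commutator, Subgroup.map_commutator, ← MonoidHom.range_eq_map,
    Subgroup.range_subtype, Subgroup.map_subgroupOf_eq_of_le hU, h]

theorem not_dvd_card_of_perfect [hp : Fact p.Prime] [D.Normal] (hD : ⁅D, D⁆ = D)
    (h : ∀ χ : IrrCharacter G, ¬ D ≤ charKer χ.1 → p ∣ charDegree χ.1) : ¬ p ∣ Nat.card D := by
  obtain ⟨P⟩ : Nonempty (Sylow p G) := inferInstance
  have h1 := modEq_sum_icj_fixed (N := D) P.isPGroup' (fun θ => charDegree θ.1 ^ 2)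
    fun x _ θ => by rw [charDegree_icj]
  rw [sum_charDegree_sq, ← Finset.add_sum_erase _ _ (a := irrOne D)
    (Finset.mem_filter.2 ⟨Finset.mem_univ _, fun x _ => icj_irrOne x⟩), charDegree_irrOne] at h1
  intro h2
  refine hp.out.ne_one (Nat.dvd_one.1 ((Nat.dvd_add_left (Finset.dvd_sum fun θ hθ => ?_)).1
    ((h1.dvd_iff dvd_rfl).1 h2)))
  rw [Finset.mem_erase, Finset.mem_filter] at hθ
  refine dvd_pow (by_contra fun h3 => ?_) two_ne_zero
  obtain ⟨k, hk⟩ := index_sub_sup (U := D) P.isPGroup'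
  obtain ⟨ξ, ⟨-, h4⟩, -⟩ := existsUnique_canon hk (θ := sgo le_sup_left θ) (fun g => by
      rw [icj_sgo, icj_eq_iff.2 (sup_le (le_inertia θ.2.isClassFunction)
        (fun x hx => icj_eq_iff.1 (hθ.2.2 x hx)) g.2)])
    h3 (not_dvd_detOrder (pResidual_eq_top (commutator_subgroupOf hD le_sup_left))
      (sgo le_sup_left θ).2.isCharacter)
  obtain ⟨χ, h5, h6⟩ := exists_over_not_dvd (θ := ξ) fun h5 => (hp.out.dvd_mul.1 h5).elim
    (not_dvd_index_of_le le_sup_right P.not_dvd_index) (deg_eq_of_res h4 ▸ h3)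
  refine h6 (h χ fun h7 => hθ.1 (Subtype.ext (θ.2.eq_one_of_forall fun x => ?_)))
  have h8 := apply_eq_of_em h5 (x := ⟨x, Subgroup.mem_sup_left x.2⟩)
    (χ.2.isCharacter.mem_charKer.1 (h7 x.2))
  exact ((h4 ⟨_, x.2⟩).symm.trans h8).trans (h4 1)

theorem exists_deg_ne [D.Normal] (hD : ⁅D, D⁆ = D) (h0 : D ≠ ⊥) (c : ℕ) :
    ∃ χ : IrrCharacter G, ¬ D ≤ charKer χ.1 ∧ charDegree χ.1 ≠ c := by
  by_contra! h
  have h1 : (Nat.card D).Coprime c := Nat.coprime_of_dvd fun q hq h1 h2 =>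
    haveI := Fact.mk hq
    not_dvd_card_of_perfect hD (fun χ h3 => h χ h3 ▸ h2) h1
  refine h0 (hD.symm.trans (Subgroup.commutator_eq_bot_iff_le_centralizer.2 fun a ha b hb =>
    comm_of_deg (fun θ => ?_) b hb a ha))
  obtain ⟨χ, h2⟩ := exists_em_over θ
  by_cases h3 : D ≤ charKer χ.1
  · exact deg_eq_one_of_em h2 ((Subgroup.map_subtype_le _).trans h3)
  · exact Nat.eq_one_of_dvd_coprimes h1 (deg_dvd_card θ) (h χ h3 ▸ deg_dvd_of_em h2)

/-- Multiplicity of `φ` in `χ ψ`. -/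
noncomputable def mc (χ ψ φ : IrrCharacter G) : ℕ :=
  haveI := Fintype.ofFinite G
  ((χ.2.isCharacter.mul ψ.2.isCharacter).classInner_eq_nat φ.2.isCharacter).choose

theorem mc_spec [Fintype G] (χ ψ φ : IrrCharacter G) :
    classInner (χ.1 * ψ.1) φ.1 = mc χ ψ φ := by
  rw [classInner_congr_fintype _ (Fintype.ofFinite G)]
  exact (@IsCharacter.classInner_eq_nat _ _ (Fintype.ofFinite G) _ _
    (χ.2.isCharacter.mul ψ.2.isCharacter) φ.2.isCharacter).choose_spec

theorem mul_eq_sum_mc (χ ψ : IrrCharacter G) (g : G) :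
    χ.1 g * ψ.1 g = ∑ φ, mc χ ψ φ * φ.1 g := by
  have := Fintype.ofFinite G
  simpa only [mc_spec, Pi.mul_apply] using (χ.2.isCharacter.mul ψ.2.isCharacter).isClassFunction.apply_eq_sum g

theorem sum_mc_deg (χ ψ : IrrCharacter G) :
    ∑ φ, mc χ ψ φ * charDegree φ.1 = charDegree χ.1 * charDegree ψ.1 := by
  have := mul_eq_sum_mc χ ψ 1
  simp only [← cast_deg] at this
  exact_mod_cast this.symm

theorem mc_symm {ψ' : IrrCharacter G} (h : ∀ g, ψ'.1 g = conj (ψ.1 g)) (χ φ : IrrCharacter G) :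
    mc χ ψ φ = mc φ ψ' χ := by
  have := Fintype.ofFinite G
  have h1 : classInner (χ.1 * ψ.1) φ.1 = classInner (φ.1 * ψ'.1) χ.1 := by
    rw [classInner_mul_left, ← funext h, mul_comm,
      χ.2.isCharacter.classInner_comm (φ.2.isCharacter.mul ψ'.2.isCharacter)]
  rw [mc_spec, mc_spec] at h1
  exact_mod_cast h1

section
variable (h : ∀ χ : IrrCharacter G, charDegree χ.1 = 1 ∨ charDegree χ.1 = m ∨ charDegree χ.1 = n)
  (hc : m.Coprime n) (hm : m ≠ 1)
include h hc hm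

theorem mc_all (h1 : charDegree χ.1 = m) (h2 : charDegree ψ.1 = n) :
    (∀ φ, mc χ ψ φ ≠ 0 → charDegree φ.1 = m) ∨ ∀ φ, mc χ ψ φ ≠ 0 → charDegree φ.1 = n := by
  have hmn : m ≠ n := fun h3 => hm (by rw [← h3] at hc; simpa using hc)
  have h3 : ∀ φ, mc χ ψ φ ≠ 0 → charDegree φ.1 = m ∨ charDegree φ.1 = n := fun φ h3 => by
    refine (h φ).resolve_left fun h4 => hmn ?_
    have h5 := Finset.single_le_sum (f := fun x => mc φ ⟨_, ψ.2.conj⟩ x * charDegree x.1)
      (fun _ _ => Nat.zero_le _) (Finset.mem_univ χ)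
    have := Fintype.ofFinite G
    rw [mc_symm (ψ' := ⟨_, ψ.2.conj⟩) (fun _ => rfl), ← Nat.cast_ne_zero (R := ℂ),
      ← mc_spec] at h3
    have h6 := ψ.2.conj.mul_linear φ.2.isCharacter (by rw [← cast_deg, h4, Nat.cast_one])
    rw [← h1, ← h2, ← h6.eq_of_classInner_ne_zero χ.2 h3,
      deg_mul (ψ := ⟨_, ψ.2.conj⟩) h6 rfl, h4, one_mul]
    exact charDegree_of_eq (χ := ⟨_, ψ.2.conj⟩) (by
      rw [cast_deg]; exact ψ.2.isCharacter.conj_apply_one)
  have h4 := sum_mc_deg χ ψ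
  rw [← Finset.sum_filter_add_sum_filter_not _ (fun φ => charDegree φ.1 = m),
    Finset.sum_congr rfl (g := fun φ => mc χ ψ φ * m)
      (fun φ hφ => by rw [(Finset.mem_filter.1 hφ).2]),
    Finset.sum_congr (s₁ := Finset.filter (fun φ => ¬ _) _) rfl (g := fun φ => mc χ ψ φ * n)
      (fun φ hφ => by
        by_cases h4 : mc χ ψ φ = 0
        · simp [h4]
        · rw [(h3 φ h4).resolve_left (Finset.mem_filter.1 hφ).2]),
    ← Finset.sum_mul, ← Finset.sum_mul, h1, h2] at h4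
  generalize ha : ∑ φ with charDegree φ.1 = m, mc χ ψ φ = a at h4
  generalize hb : ∑ φ with ¬ charDegree φ.1 = m, mc χ ψ φ = b at h4
  have h5 : a = 0 ∨ b = 0 := by
    obtain ⟨c, rfl⟩ : n ∣ a := hc.symm.dvd_of_dvd_mul_right
      ((Nat.dvd_add_left (dvd_mul_left n b)).1 (h4 ▸ dvd_mul_left n m))
    have hn := Nat.pos_of_ne_zero (h2 ▸ charDegree_ne_zero ψ)
    rcases c with _ | c
    · simp
    · right; nlinarith [Nat.zero_le (n * c * m)]
  rcases h5 with rfl | rfl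
  · exact Or.inr fun φ h5 => (h3 φ h5).resolve_left fun h6 =>
      h5 (Finset.sum_eq_zero_iff.1 ha φ (Finset.mem_filter.2 ⟨Finset.mem_univ _, h6⟩))
  · exact Or.inl fun φ h5 => by_contra fun h6 =>
      h5 (Finset.sum_eq_zero_iff.1 hb φ (Finset.mem_filter.2 ⟨Finset.mem_univ _, h6⟩))

theorem mul_sigma {ψ' : IrrCharacter G} (h0 : ∀ g, ψ'.1 g = conj (ψ.1 g))
    (h2 : charDegree ψ.1 = n) (h2' : charDegree ψ'.1 = n) (g : G) :
    ψ.1 g * ∑ χ with charDegree χ.1 = m ∧ ∀ φ, mc χ ψ φ ≠ 0 → charDegree φ.1 = m, χ.1 g =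
      n * ∑ χ with charDegree χ.1 = m ∧ ∀ φ, mc χ ψ' φ ≠ 0 → charDegree φ.1 = m, χ.1 g := by
  have hmn : m ≠ n := fun h3 => hm (by rw [← h3] at hc; simpa using hc)
  have h0' : ∀ g, ψ.1 g = conj (ψ'.1 g) := fun g => by rw [h0, Complex.conj_conj]
  have h3 : ∀ {ψ ψ' χ φ : IrrCharacter G}, (∀ g, ψ'.1 g = conj (ψ.1 g)) → charDegree ψ'.1 = n →
      (charDegree χ.1 = m ∧ ∀ φ, mc χ ψ φ ≠ 0 → charDegree φ.1 = m) → mc χ ψ φ ≠ 0 →
      (charDegree φ.1 = m ∧ ∀ x, mc φ ψ' x ≠ 0 → charDegree x.1 = m) :=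
    fun {ψ ψ' χ φ} h0 h2 h3 h4 => ⟨h3.2 φ h4, (mc_all h hc hm (h3.2 φ h4) h2).resolve_right
      fun h5 => hmn (h3.1.symm.trans (h5 χ (mc_symm h0 χ φ ▸ h4)))⟩
  rw [Finset.mul_sum, Finset.mul_sum, Finset.sum_congr rfl fun χ _ =>
    (mul_comm _ _).trans (mul_eq_sum_mc χ ψ g), Finset.sum_comm, Finset.sum_filter]
  refine Finset.sum_congr rfl fun φ _ => ?_
  rw [← Finset.sum_mul]
  split_ifs with h4
  · congr 1
    have h5 := sum_mc_deg φ ψ'
    rw [Finset.sum_congr rfl (g := fun x => mc φ ψ' x * m) (fun x _ => by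
      by_cases h5 : mc φ ψ' x = 0
      · simp [h5]
      · rw [h4.2 x h5]), ← Finset.sum_mul, h4.1, h2', mul_comm m,
      Nat.mul_left_inj (h4.1 ▸ charDegree_ne_zero φ)] at h5
    rw [← h5, Nat.cast_sum, Finset.sum_filter]
    refine Finset.sum_congr rfl fun x _ => ?_
    rw [← mc_symm h0]
    split_ifs with h6
    · rfl
    · by_contra h7
      exact h6 (h3 h0' h2 h4 fun h8 => h7 (by rw [mc_symm h0, h8, Nat.cast_zero]))
  · rw [Finset.sum_eq_zero fun x hx => ?_, zero_mul]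
    by_contra h5
    exact h4 (h3 h0 h2' (Finset.mem_filter.1 hx).2 fun h6 => h5 (by rw [h6, Nat.cast_zero]))

theorem mc_all_right (h1 : charDegree χ.1 = m) (h2 : charDegree ψ.1 = n)
    (hZ : charCenter ψ.1 = ⊥) : ∀ φ, mc χ ψ φ ≠ 0 → charDegree φ.1 = n := by
  refine (mc_all h hc hm h1 h2).resolve_left fun h3 => ?_
  have := Fintype.ofFinite G
  have h2' : charDegree (fun g => conj (ψ.1 g)) = n :=
    charDegree_of_eq (χ := ⟨_, ψ.2.conj⟩) (by
      rw [← h2, cast_deg]; exact ψ.2.isCharacter.conj_apply_one)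
  set S := Finset.univ.filter fun χ : IrrCharacter G =>
    charDegree χ.1 = m ∧ ∀ φ, mc χ ψ φ ≠ 0 → charDegree φ.1 = m with hS
  have h4 : ∀ g, g ≠ 1 → ∑ χ ∈ S, χ.1 g = 0 := fun g hg => by
    have h4 := mul_sigma h hc hm (ψ' := ⟨_, ψ.2.conj⟩) (fun _ => rfl) h2 h2' g
    have h5 := mul_sigma h hc hm (ψ := ⟨_, ψ.2.conj⟩) (ψ' := ψ)
      (fun _ => (Complex.conj_conj _).symm) h2' h2 g
    rw [← hS] at h4 h5
    by_contra h6
    have h7 : conj (ψ.1 g) * ψ.1 g = n * n := mul_right_cancel₀ h6 (by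
      rw [mul_assoc, h4, mul_left_comm, h5, mul_assoc])
    refine hg (Subgroup.mem_bot.1 (hZ ▸ ψ.2.isCharacter.mem_charCenter.2 ?_))
    rw [← cast_deg, h2, ← sq_eq_sq₀ (norm_nonneg _) (norm_nonneg _), ← Complex.ofReal_inj,
      Complex.ofReal_pow, ← Complex.conj_mul', h7]
    simp [sq]
  have h5 : classInner (∑ χ ∈ S, χ.1) (irrOne G).1 = 0 := by
    rw [classInner_sum_left]
    refine Finset.sum_eq_zero fun x hx => ?_
    rw [classInner_irr, if_neg]
    rintro rfl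
    exact hm ((Finset.mem_filter.1 hx).2.1.symm.trans charDegree_irrOne)
  rw [coe_irrOne, classInner_one_right, Finset.sum_eq_single 1
    (fun g _ hg => by rw [Finset.sum_apply, h4 g hg]) (by simp), Finset.sum_apply,
    mul_eq_zero, inv_eq_zero] at h5
  have h6 := h5.resolve_left (card_ne_zero' G)
  simp only [← cast_deg] at h6
  have h7 : ∑ χ ∈ S, charDegree χ.1 = 0 := by exact_mod_cast h6
  exact charDegree_ne_zero χ (Finset.sum_eq_zero_iff.1 h7 χ
    (Finset.mem_filter.2 ⟨Finset.mem_univ _, h1, h3⟩))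

end

theorem mc_comm (χ ψ φ : IrrCharacter G) : mc χ ψ φ = mc ψ χ φ := by
  have := Fintype.ofFinite G
  have h1 := mc_spec χ ψ φ
  rw [mul_comm, mc_spec] at h1
  exact_mod_cast h1.symm

theorem coprime_contra
    (h : ∀ χ : IrrCharacter G, charDegree χ.1 = 1 ∨ charDegree χ.1 = m ∨ charDegree χ.1 = n)
    (hc : m.Coprime n) (hm : m ≠ 1) (hn : n ≠ 1) (h1 : charDegree χ.1 = m)
    (h2 : charDegree ψ.1 = n) (hZ : charCenter χ.1 = ⊥) (hZ' : charCenter ψ.1 = ⊥) : False := by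
  have h3 := sum_mc_deg χ ψ
  obtain ⟨φ, -, h4⟩ := Finset.exists_ne_zero_of_sum_ne_zero
    (h3 ▸ mul_ne_zero (charDegree_ne_zero χ) (charDegree_ne_zero ψ))
  have h5 := mc_all_right h hc hm h1 h2 hZ' φ (left_ne_zero_of_mul h4)
  have h6 := mc_all_right (fun χ => (h χ).imp_right Or.symm) hc.symm hn h2 h1 hZ φ
    (mc_comm χ ψ φ ▸ left_ne_zero_of_mul h4)
  rw [← h5, h6] at hc
  exact hm (by simpa using hc)

/-- In a nonsolvable group all of whose proper quotients are solvable. -/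
theorem exists_perfect (hs : ¬ Group.IsSolvable G)
    (h : ∀ (N : Subgroup G) [N.Normal], N ≠ ⊥ → Group.IsSolvable (G ⧸ N)) :
    ∃ D : Subgroup G, D.Normal ∧ ⁅D, D⁆ = D ∧ D ≠ ⊥ ∧
      ∀ χ : IrrCharacter G, ¬ D ≤ charKer χ.1 → charCenter χ.1 = ⊥ ∧ charDegree χ.1 ≠ 1 := by
  have h0 : (⊤ : Subgroup G) ≠ ⊥ := fun h0 => hs ⟨⟨0, h0⟩⟩
  obtain ⟨D, -, _, h1, h2⟩ := Solv.exists_minimal_normal_le ⊤ h0
  have h3 : ¬ Group.IsSolvable D := fun h3 =>
    hs (Solv.isSolvable_of_normal_of_quotient D h3 (h D h1))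
  have h4 : ⁅D, D⁆ = D := (h2 _ inferInstance (Subgroup.commutator_le_self D)).resolve_left
    fun h4 => h3 (Solv.isSolvable_of_isMulCommutative (Solv.isMulCommutative_iff.2 fun a ha b hb =>
      Subgroup.commutator_eq_bot_iff_le_centralizer.1 h4 hb a ha))
  have h5 : ∀ (N : Subgroup G) [N.Normal], N ≠ ⊥ → D ≤ N := fun N _ hN => by
    refine inf_eq_left.1 ((h2 _ inferInstance inf_le_left).resolve_left fun h5 => h3 ?_)
    haveI := h N hN
    exact Group.isSolvable_of_isSolvable_injective (f := (QuotientGroup.mk' N).comp D.subtype)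
      ((injective_iff_map_eq_one _).2 fun x hx => Subtype.ext (Subgroup.mem_bot.1
        (h5 ▸ ⟨x.2, (QuotientGroup.eq_one_iff _).1 hx⟩)))
  refine ⟨D, inferInstance, h4, h1, fun χ h6 => ⟨?_, fun h7 => h6 (h4.ge.trans
    ((Subgroup.commutator_mono le_top le_top).trans (deg_eq_one_iff.1 h7)))⟩⟩
  haveI := χ.2.isCharacter.normal_charKer
  rw [χ.2.charCenter_eq_center (by_contra fun h7 => h6 (h5 _ h7))]
  by_contra h7
  exact h1 (h4.symm.trans (Subgroup.commutator_eq_bot_iff_le_centralizer.2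
    ((h5 _ h7).trans (Subgroup.center_le_centralizer _))))

theorem three_coprime (hs : Group.IsSolvable G)
    (h : ∀ χ : IrrCharacter G, charDegree χ.1 = 1 ∨ charDegree χ.1 = m ∨ charDegree χ.1 = n)
    (hc : m.Coprime n) (hm : m ≠ 1) (hn : n ≠ 1) (h1 : charDegree χ.1 = m)
    (h2 : charDegree ψ.1 = n) : derivedSeries G 3 = ⊥ := by
  obtain ⟨K, -, hK⟩ := exists_maxNA (not_commutator_le_bot (h1 ▸ hm))
  haveI := hK.normal
  have hm0 := h1 ▸ charDegree_ne_zero χ
  have hn0 := h2 ▸ charDegree_ne_zero ψ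
  rcases hK.cases inferInstance with ⟨Z, p, f, τ, hA⟩ | ⟨N, p, hB⟩
  · exfalso
    have h3 := hA.one_lt
    wlog hf : f = m generalizing m n χ ψ
    · have h5 := hA.deg
      exact this (fun χ => (h χ).imp_right Or.symm) hc.symm hn hm h2 h1 hn0 hm0
        (by rcases h τ with h4 | h4 | h4 <;> omega)
    subst hf
    obtain ⟨φ, h4⟩ := hA.mul_of_not_dvd (χ := ψ) fun h4 =>
      hA.prime.ne_one (Nat.eq_one_of_dvd_coprimes hc hA.dvd (h2 ▸ h4))
    rw [h2] at h4
    rcases h φ with h5 | h5 | h5 <;> rw [h5] at h4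
    · exact hm (Nat.eq_one_of_mul_eq_one_right h4.symm)
    · exact hn ((Nat.mul_eq_left hm0).1 h4.symm)
    · exact hm ((Nat.mul_eq_right hn0).1 h4.symm)
  · haveI := hB.normal
    have h3 := hB.one_lt
    wlog hf : N.index = m generalizing m n χ ψ
    · obtain ⟨τ, hτ⟩ := hB.exists_deg
      exact this (fun χ => (h χ).imp_right Or.symm) hc.symm hn hm h2 h1 hn0 hm0
        (by rcases h τ with h4 | h4 | h4 <;> omega)
    have h4 := derived_le_map (G := G) (A := N) (i := 1) (j := 0) (by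
      rw [derivedSeries_one, derivedSeries_zero, ← MonoidHom.range_eq_map, Subgroup.range_subtype]
      exact hB.comm) 2
    rw [derived_two (m := n) fun θ => ?_, Subgroup.map_bot] at h4
    · exact eq_bot_iff.2 h4
    obtain ⟨φ, h5⟩ := exists_em_over θ
    obtain ⟨k, h6, h7⟩ := exists_deg_eq_mul h5
    rw [hf] at h6
    rcases h φ with h8 | h8 | h8 <;> rw [h8] at h7
    · exact Or.inl (Nat.eq_one_of_mul_eq_one_left h7.symm)
    · rcases hB.ind_or_dvd' θ with ⟨φ', h9⟩ | h9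
      · rw [hf] at h9
        rcases h φ' with h10 | h10 | h10 <;> rw [h10] at h9
        · exact Or.inl (Nat.eq_one_of_mul_eq_one_left h9.symm)
        · exact Or.inl ((Nat.mul_eq_left hm0).1 h9.symm)
        · exact (hm (Nat.eq_one_of_dvd_coprimes hc dvd_rfl ⟨_, h9⟩)).elim
      · exact (hB.not_dvd (hf ▸ h7 ▸ h9.mul_left k)).elim
    · rw [Nat.eq_one_of_dvd_coprimes hc h6 ⟨_, h7⟩, one_mul] at h7
      exact Or.inr h7.symm

theorem derived_three (G : Type u) [Group G] [Finite G] : ∀ {m n : ℕ},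
    (∀ χ : IrrCharacter G, charDegree χ.1 = 1 ∨ charDegree χ.1 = m ∨ charDegree χ.1 = n) →
      derivedSeries G 3 = ⊥ := by
  refine Solv.card_induction (P := fun G _ _ => ∀ {m n : ℕ},
    (∀ χ : IrrCharacter G, charDegree χ.1 = 1 ∨ charDegree χ.1 = m ∨ charDegree χ.1 = n) →
      derivedSeries G 3 = ⊥) (fun G _ _ ih => ?_) G
  intro m n h
  have h0 : ∀ {c : ℕ}, (∀ χ : IrrCharacter G, charDegree χ.1 = 1 ∨ charDegree χ.1 = c) →
      derivedSeries G 3 = ⊥ := fun h0 =>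
    eq_bot_iff.2 ((derivedSeries_antitone G (by norm_num)).trans (derived_two h0).le)
  by_cases h1 : ∃ χ : IrrCharacter G, charDegree χ.1 ≠ 1 ∧ charDegree χ.1 = m
  swap
  · exact h0 (c := n) fun χ => by have := h χ; simp only [not_exists] at h1; have := h1 χ; tauto
  by_cases h2 : ∃ χ : IrrCharacter G, charDegree χ.1 ≠ 1 ∧ charDegree χ.1 = n
  swap
  · exact h0 (c := m) fun χ => by have := h χ; simp only [not_exists] at h2; have := h2 χ; tauto
  obtain ⟨χ, hm, h1⟩ := h1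
  obtain ⟨ψ, hn, h2⟩ := h2
  rw [h1] at hm
  rw [h2] at hn
  by_cases hc : m.Coprime n
  · refine three_coprime (by_contra fun hs => ?_) h hc hm hn h1 h2
    obtain ⟨D, _, h3, h4, h5⟩ := exists_perfect hs fun N _ hN =>
      ⟨⟨3, ih _ (Solv.card_quotient_lt hN) (m := m) (n := n) fun φ => by
        obtain ⟨x, -, hx⟩ := exists_deg_quot φ
        exact hx ▸ h x⟩⟩
    obtain ⟨a, ha, ha'⟩ := exists_deg_ne h3 h4 n
    obtain ⟨b, hb, hb'⟩ := exists_deg_ne h3 h4 m
    exact coprime_contra h hc hm hn (((h a).resolve_left (h5 a ha).2).resolve_right ha')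
      (((h b).resolve_left (h5 b hb).2).resolve_left hb') (h5 a ha).1 (h5 b hb).1
  obtain ⟨A, _, h3, h4, k, h5⟩ := exists_pi_compl (d := m.gcd n)
    (Nat.gcd_ne_zero_left (h1 ▸ charDegree_ne_zero χ)) fun φ hφ => by
      rcases (h φ).resolve_left hφ with h3 | h3 <;> rw [h3]
      exacts [Nat.gcd_dvd_left _ _, Nat.gcd_dvd_right _ _]
  have h6 : (Nat.card A).Coprime A.index := Nat.coprime_of_dvd fun q hq h6 h7 =>
    hq.ne_one (Nat.eq_one_of_dvd_coprimes h3 h6 (h4 q hq h7))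
  have h7 : ∀ θ : IrrCharacter A, charDegree θ.1 = 1 ∨ charDegree θ.1 = m.gcd (Nat.card A) ∨
      charDegree θ.1 = n.gcd (Nat.card A) := fun θ => by
    obtain ⟨φ, h7⟩ := exists_em_over θ
    rw [deg_eq_gcd h6 h7]
    rcases h φ with h8 | h8 | h8 <;> simp [h8]
  by_cases h8 : commutator G ≤ (commutator A).map A.subtype
  · have h9 := derived_le_map (i := 1) (j := 1) h8 2
    rw [ih A (Solv.card_lt_of_ne_top fun h10 => hc ?_) h7, Subgroup.map_bot] at h9
    · exact eq_bot_iff.2 h9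
    · rw [h10, Subgroup.card_top] at h3
      exact Nat.eq_one_of_dvd_coprimes h3 ((Nat.gcd_dvd_left m n).trans (h1 ▸ deg_dvd_card χ))
        dvd_rfl
  by_cases h9 : m.gcd (Nat.card A) = 1
  swap
  · exact three_aux h6 h h9 h8
  by_cases h10 : n.gcd (Nat.card A) = 1
  swap
  · exact three_aux h6 (fun χ => (h χ).imp_right Or.symm) h10 h8
  have := Fintype.ofFinite G
  exact eq_bot_iff.2 ((derivedSeries_antitone G Finset.card_le_three).trans
    (taketa {1, m, n} (fun χ => by simpa using h χ) (monomial_of_lcs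
      (comm_of_deg fun θ => by simpa only [h9, h10, or_self] using h7 θ) h5)).le)

end Cfsg.Agent.Blk
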