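import Cfsg.Agent.Lib.Block.Cd2
import Cfsg.Agent.Lib.Solv.Fact
import Cfsg.Agent.S4464

/-! Large degrees, prime degrees. -/

set_option autoImplicit false

namespace Cfsg.Agent.Blk

open Cfsg.Agent.Char hiding cj cj_mul cj_inv_cj cj_cj_inv sum_cj_eq om
open scoped ComplexConjugate commutatorElement
attribute [local instance] _root_.Classical.propDecidable
open Subgroup (zpowers mem_zpowers)

universe u

variable {G : Type u} [Group G] [Finite G] {A D H K L M N Q Z : Subgroup G} {p q m n : ℕ}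
  {χ ψ : IrrCharacter G}

theorem mem_core_of_deg_le {θ : IrrCharacter H}
    (h : ∀ χ : IrrCharacter G, em H χ θ ≠ 0 → charDegree χ.1 ≤ charDegree θ.1) {x : H}
    (hx : θ.1 x ≠ 0) : (x : G) ∈ H.normalCore := by
  have := Fintype.ofFinite G
  have h1 : ∀ y : H, indFun H θ.1 y = (∑ χ, em H χ θ : ℂ) * θ.1 y := fun y => by
    rw [indFun_eq_sum_em, Finset.sum_mul]
    refine Finset.sum_congr rfl fun χ _ => ?_
    by_cases h1 : em H χ θ = 0
    · simp [h1]
    · rw [res_eq_of_deg_le h1 (h χ h1)]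
  have h2 := h1 1
  rw [OneMemClass.coe_one, indFun_one, mul_left_inj' θ.2.apply_one_ne_zero] at h2
  obtain ⟨χ, hχ⟩ := exists_em_over θ
  have h3 := h1 x
  rw [← h2, ← funext (res_eq_of_deg_le hχ (h χ hχ)), indFun_res H χ.2.isClassFunction,
    Pi.mul_apply, mul_left_inj' (by rwa [res_eq_of_deg_le hχ (h χ hχ)])] at h3
  have h4 := (mem_charKer_indFun_iff isCharacter_one isIrrCharacter_one.ne_zero).1
    ((isCharacter_one (G := H)).ind.mem_charKer.2 (h3.trans (by rw [indFun_one, mul_one])))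
  exact fun y => (h4 y).1

theorem isIrr_res_of_sup (h : charKer χ.1 ⊔ H = ⊤) : IsIrrCharacter H fun x : H => χ.1 x := by
  haveI := χ.2.isCharacter.normal_charKer
  obtain ⟨φ, h1, h2⟩ := χ.2.exists_quotient _ le_rfl
  simp only [← h2]
  refine h1.comp_surjective ((QuotientGroup.mk' _).comp H.subtype) fun y => ?_
  obtain ⟨g, rfl⟩ := QuotientGroup.mk_surjective y
  obtain ⟨k, hk, x, hx, rfl⟩ := (Solv.mem_sup_of_le_normalizer'
    Subgroup.le_normalizer_of_normal).1 (h ▸ Subgroup.mem_top g)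
  exact ⟨⟨x, hx⟩, by simp [(QuotientGroup.eq_one_iff k).2 hk]⟩

theorem exists_larger_aux [Fact q.Prime] [M.Normal] (hM : M ≤ Subgroup.closure {g | χ.1 g ≠ 0})
    (hQ : Solv.IsSylowIn q Q M) (hn : No Q ≠ ⊤) (h : charKer χ.1 ⊔ No Q = ⊤) :
    ∃ ψ : IrrCharacter G, charDegree χ.1 < charDegree ψ.1 ∧ charKer ψ.1 < charKer χ.1 := by
  haveI := χ.2.isCharacter.normal_charKer
  obtain ⟨H, hH, h1⟩ := Solv.exists_coatom_ge hn
  have h2 : charKer χ.1 ⊔ H = ⊤ := eq_top_iff.2 (h.ge.trans (sup_le_sup_left h1 _))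
  let θ : IrrCharacter H := ⟨_, isIrr_res_of_sup h2⟩
  have h3 : charDegree χ.1 = charDegree θ.1 := rfl
  by_cases h4 : ∀ ψ : IrrCharacter G, em H ψ θ ≠ 0 → charDegree ψ.1 ≤ charDegree θ.1
  · have h5 : ∀ x ∈ H, χ.1 x ≠ 0 → x ∈ H.normalCore := fun x hx h5 =>
      mem_core_of_deg_le h4 (x := ⟨x, hx⟩) h5
    have h6 : M ≤ charKer χ.1 ⊔ H.normalCore := hM.trans ((Subgroup.closure_le _).2 fun g hg => by
      obtain ⟨k, hk, x, hx, rfl⟩ := (Solv.mem_sup_of_le_normalizer'
        Subgroup.le_normalizer_of_normal).1 (h2 ▸ Subgroup.mem_top g)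
      exact Subgroup.mul_mem_sup hk (h5 x hx (by rwa [← mem_charKer.1 hk x])))
    have h7 : Q ≤ M ⊓ H.normalCore := fun x hx => ⟨hQ.le hx, by
      obtain ⟨k, hk, y, hy, rfl⟩ := (Solv.mem_sup_of_le_normalizer'
        Subgroup.le_normalizer_of_normal).1 (h6 (hQ.le hx))
      refine mul_mem (h5 k ((mul_mem_cancel_right (H.normalCore_le hy)).1
        (h1 (Subgroup.le_normalizer hx))) ?_) hy
      rw [χ.2.isCharacter.mem_charKer.1 hk]
      exact χ.2.apply_one_ne_zero⟩
    exact (hH.1 (eq_top_iff.2 ((hQ.of_le h7 inf_le_left).frattini_top.ge.trans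
      (sup_le (inf_le_right.trans H.normalCore_le) h1)))).elim
  · push Not at h4
    obtain ⟨ψ, h4, h5⟩ := h4
    haveI := ψ.2.isCharacter.normal_charKer
    have h6 : charKer ψ.1 ≤ H := by_contra fun h6 => by
      have h7 := isIrr_res_of_sup (χ := ψ) (hH.2 _ (right_lt_sup.2 h6))
      have h8 : charDegree ψ.1 = charDegree θ.1 := by
        rw [eq_of_res_of_em (θ := ⟨_, h7⟩) (fun _ => rfl) h4]; rfl
      omega
    refine ⟨ψ, h5, lt_of_le_of_ne (fun x hx => χ.2.isCharacter.mem_charKer.2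
      (apply_eq_of_em h4 (x := ⟨x, h6 hx⟩) (ψ.2.isCharacter.mem_charKer.1 hx))) fun h7 =>
      hH.1 (eq_top_iff.2 (h2.ge.trans (sup_le (h7 ▸ h6) le_rfl)))⟩

instance normal_van (χ : IrrCharacter G) : (Subgroup.closure {g | χ.1 g ≠ 0}).Normal :=
  Subgroup.normalizer_eq_top_iff.1 (eq_top_iff.2 (Subgroup.le_normalizer_closure_iff.2
    fun g _ x hx => Subgroup.subset_closure (by
      rwa [Set.mem_setOf_eq, χ.2.isClassFunction.apply_conj])))

theorem ker_le_van : charKer χ.1 ≤ Subgroup.closure {g | χ.1 g ≠ 0} := fun x hx =>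
  Subgroup.subset_closure (by
    rw [Set.mem_setOf_eq, χ.2.isCharacter.mem_charKer.1 hx]; exact χ.2.apply_one_ne_zero)

theorem exists_larger (h : ¬ charKer χ.1 ≤ fittingSubgroup G) :
    ∃ ψ : IrrCharacter G, charDegree χ.1 < charDegree ψ.1 ∧ charKer ψ.1 < charKer χ.1 := by
  haveI := χ.2.isCharacter.normal_charKer
  by_contra h1
  refine h (Solv.le_fitting (Solv.isNilpotent_of_forall_sylowIn fun q hq _ => ?_))
  haveI := Fact.mk hq
  obtain ⟨Q, hQ⟩ := Solv.exists_isSylowIn q (charKer χ.1)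
  exact ⟨Q, hQ, le_top.trans (by_contra fun h2 => h1 (exists_larger_aux ker_le_van hQ
    (fun h3 => h2 h3.ge) hQ.frattini_top))⟩

theorem exists_larger' [K.Normal] (hK : charKer χ.1 = K) (h : K = fittingSubgroup G)
    (hs : Group.IsSolvable (G ⧸ K)) (h1 : K ≠ ⊤) :
    ∃ ψ : IrrCharacter G, charDegree χ.1 < charDegree ψ.1 ∧ charKer ψ.1 < charKer χ.1 := by
  have h2 : ¬ Subgroup.closure {g | χ.1 g ≠ 0} ≤ K := fun h2 => by
    have := Fintype.ofFinite G
    have := Fintype.ofFinite K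
    have h3 : χ.1 ≠ fun _ => 1 := fun h3 => h1 (eq_top_iff.2 fun x _ =>
      hK ▸ χ.2.isCharacter.mem_charKer.2 (by rw [h3]))
    have h4 := χ.2.classInner_of_ne isIrrCharacter_one h3
    have h5 : ∑ g with g ∉ K, χ.1 g = 0 := Finset.sum_eq_zero fun g hg => by_contra fun h5 =>
      (Finset.mem_filter.1 hg).2 (h2 (Subgroup.subset_closure h5))
    rw [classInner_one_right, ← sum_subgroup_add_sum_not_mem K, h5,
      Finset.sum_congr rfl fun x _ => χ.2.isCharacter.mem_charKer.1 (hK ▸ x.2)] at h4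
    simp [χ.2.apply_one_ne_zero] at h4
  obtain ⟨M, h3, _, h4, -, -, q, hq, h5⟩ := Solv.exists_elementary_normal_le
    ((Subgroup.closure {g | χ.1 g ≠ 0}).map (QuotientGroup.mk' K)) inferInstance
    ((Solv.map_mk_eq_bot_iff K).not.2 h2)
  haveI := Fact.mk hq
  obtain ⟨Q, hQ⟩ := Solv.exists_isSylowIn q (M.comap (QuotientGroup.mk' K))
  have h6 : Q.map (QuotientGroup.mk' K) = M := by
    have h6 := hQ.map (QuotientGroup.mk' K)
    rw [Solv.map_comap_mk] at h6
    exact (h6.eq_of_le (Solv.isPGroup_of_pow_eq_one h5) le_rfl h6.le).symm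
  refine exists_larger_aux ((Subgroup.comap_mono h3).trans ?_) hQ (fun h7 => h4 ?_) ?_
  · rw [Solv.comap_map_mk]; exact sup_le le_rfl (hK ▸ ker_le_van)
  · haveI := Subgroup.normalizer_eq_top_iff.1 h7
    rw [← h6, Solv.map_mk_eq_bot_iff, h]
    exact Solv.le_fitting hQ.isPGroup.isNilpotent
  · refine eq_top_iff.2 (hQ.frattini_top.ge.trans (sup_le ?_ le_sup_right))
    rw [← h6, Solv.comap_map_mk, hK]
    exact sup_le (Subgroup.le_normalizer.trans le_sup_right) le_sup_left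

theorem garrison (n : ℕ) : ∀ (G : Type u) [Group G] [Finite G], Group.IsSolvable G →
    ∀ s : Finset ℕ, s.card ≤ n → (∀ χ : IrrCharacter G, charDegree χ.1 ≠ 1 → charDegree χ.1 ∈ s) →
    ∃ N : ℕ → Subgroup G, N 0 = ⊥ ∧ N (n + 1) = ⊤ ∧ Monotone N ∧ (∀ i, (N i).Normal) ∧
      ∀ i, ∃ k, (N (i + 1)).lowerCentralSeries k ≤ N i := by
  induction n with
  | zero =>
    intro G _ _ _ s h1 h2
    rw [Nat.le_zero, Finset.card_eq_zero] at h1
    refine ⟨fun i => if i = 0 then ⊥ else ⊤, rfl, rfl, monotone_nat_of_le_succ fun i => le_top,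
      fun i => by dsimp only; split_ifs <;> infer_instance, fun i => ⟨1, le_trans ?_ bot_le⟩⟩
    exact (eq_bot_of_forall_ker fun χ => deg_eq_one_iff.1 (by_contra fun h => by
      simpa [h1] using h2 χ h)).le
  | succ n ih =>
    intro G _ _ hs s h1 h2
    obtain ⟨t, h3, h4⟩ : ∃ t : Finset ℕ, t.card ≤ n ∧ ∀ φ : IrrCharacter (G ⧸ fittingSubgroup G),
        charDegree φ.1 ≠ 1 → charDegree φ.1 ∈ t := by
      by_cases h3 : fittingSubgroup G = ⊤
      · refine ⟨∅, Nat.zero_le _, fun φ h4 => (h4 ?_).elim⟩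
        obtain ⟨χ, h5, h6⟩ := exists_deg_quot φ
        exact h6 ▸ deg_eq_one_iff.2 (le_top.trans (h3 ▸ h5))
      obtain ⟨χ, -, hχ⟩ := Finset.exists_max_image Finset.univ
        (fun χ : IrrCharacter G => charDegree χ.1) Finset.univ_nonempty
      by_cases h4 : charDegree χ.1 ∈ s
      · refine ⟨s.erase (charDegree χ.1), by rw [Finset.card_erase_of_mem h4]; omega,
          fun φ h5 => ?_⟩
        obtain ⟨ψ, h6, h7⟩ := exists_deg_quot φ
        refine Finset.mem_erase.2 ⟨fun h8 => ?_, h7 ▸ h2 ψ (h7 ▸ h5)⟩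
        obtain ⟨ξ, h9, -⟩ : ∃ ξ : IrrCharacter G, charDegree ψ.1 < charDegree ξ.1 ∧
            charKer ξ.1 < charKer ψ.1 := by
          by_cases h9 : charKer ψ.1 ≤ fittingSubgroup G
          · exact exists_larger' (h9.antisymm h6) rfl inferInstance h3
          · exact exists_larger h9
        have := hχ ξ (Finset.mem_univ _)
        omega
      · refine ⟨∅, Nat.zero_le _, fun φ h5 => (h5 ?_).elim⟩
        obtain ⟨ψ, -, h7⟩ := exists_deg_quot φ
        have := hχ ψ (Finset.mem_univ _)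
        have := charDegree_ne_zero ψ
        have := (h2 χ).mt h4
        omega
    obtain ⟨N, h5, h6, h7, h8, h9⟩ := ih _ inferInstance t h3 h4
    refine ⟨fun i => Nat.casesOn i ⊥ fun j => (N j).comap (QuotientGroup.mk' _), rfl, by simp [h6],
      monotone_nat_of_le_succ fun i => ?_, fun i => ?_, fun i => ?_⟩
    · rcases i with _ | i
      exacts [bot_le, Subgroup.comap_mono (h7 i.le_succ)]
    · rcases i with _ | i
      exacts [Subgroup.normal_bot, (h8 i).comap _]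
    · rcases i with _ | i
      · obtain ⟨k, hk⟩ := (Subgroup.isNilpotent_iff_lowerCentralSeries _).1
          (Solv.isNilpotent_fitting G)
        exact ⟨k, by simp [h5, hk]⟩
      · obtain ⟨k, hk⟩ := h9 i
        exact ⟨k, Subgroup.map_le_iff_le_comap.1 (by
          rwa [Subgroup.map_lowerCentralSeries, Solv.map_comap_mk])⟩

omit [Finite G] in
theorem isNilpotent_quot_of_lcs {k : ℕ} (h : L.lowerCentralSeries k ≤ K)
    (_ : (K.subgroupOf L).Normal) : Group.IsNilpotent (L ⧸ K.subgroupOf L) :=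
  Subgroup.nilpotent_iff_lowerCentralSeries.2 ⟨k, by
    rw [← Subgroup.map_top_of_surjective _ (QuotientGroup.mk'_surjective _),
      ← Subgroup.map_lowerCentralSeries, Solv.map_mk_eq_bot_iff]
    exact Subgroup.map_le_iff_le_comap.1 (L.top_subtype_lowerCentralSeries k ▸ h)⟩

/-! ### Abelian subgroups of bounded index -/

theorem exists_small_class {b : ℕ} [Nontrivial G] (h : ∀ χ : IrrCharacter G, charDegree χ.1 ≤ b) :
    ∃ x : G, x ≠ 1 ∧ (Ce1 x).index ≤ b ^ 2 := by
  by_contra! h1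
  have := Fintype.ofFinite G
  have h2 := sum_card_centralizer (G := G)
  have h3 := sum_charDegree_sq (G := G)
  rw [← Finset.add_sum_erase _ _ (Finset.mem_univ 1), Subgroup.centralizer_eq_top_iff_subset.2
    (by simp), Subgroup.card_top] at h2
  rw [← Finset.add_sum_erase _ _ (Finset.mem_univ (irrOne G)), charDegree_irrOne] at h3
  have h4 := Finset.sum_le_card_nsmul (Finset.univ.erase (irrOne G))
    (fun χ : IrrCharacter G => charDegree χ.1 ^ 2) (b ^ 2) fun χ _ => Nat.pow_le_pow_left (h χ) 2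
  have h5 : ∑ x ∈ Finset.univ.erase (1 : G), Nat.card (Ce1 x) * b ^ 2 <
      ∑ x ∈ Finset.univ.erase (1 : G), Nat.card G :=
    Finset.sum_lt_sum_of_nonempty (by
      obtain ⟨x, hx⟩ := exists_ne (1 : G); exact ⟨x, by simp [hx]⟩) fun x hx => by
      rw [← (Ce1 x).card_mul_index]
      exact Nat.mul_lt_mul_of_pos_left (h1 x (Finset.mem_erase.1 hx).1) Nat.card_pos
  rw [← Finset.sum_mul, Finset.sum_const, Finset.card_erase_of_mem (Finset.mem_univ _),
    Finset.card_univ, ← Nat.card_eq_fintype_card] at h5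
  rw [Finset.card_erase_of_mem (Finset.mem_univ _), Finset.card_univ,
    ← Nat.card_eq_fintype_card] at h4
  obtain ⟨k, hk⟩ : ∃ k, Nat.card (IrrCharacter G) = k + 1 :=
    ⟨_, (Nat.succ_pred_eq_of_pos Nat.card_pos).symm⟩
  obtain ⟨g, hg⟩ : ∃ g, Nat.card G = g + 1 := ⟨_, (Nat.succ_pred_eq_of_pos Nat.card_pos).symm⟩
  rw [hk, hg] at h2
  simp only [hk, hg, add_tsub_cancel_right, smul_eq_mul] at h3 h4 h5
  generalize ∑ x ∈ Finset.univ.erase (1 : G), Nat.card (Ce1 x) = S at h2 h5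
  obtain rfl : S = k * (g + 1) := by nlinarith
  have h6 : g ≤ k * b ^ 2 := by omega
  nlinarith [Nat.mul_le_mul_right (g + 1) h6]

theorem two_mul_deg_le {b : ℕ} [K.Normal] (hK : ¬ commutator G ≤ K)
    (h : ∀ χ : IrrCharacter G, charDegree χ.1 ≤ b) (θ : IrrCharacter K) :
    charDegree θ.1 ≤ b / 2 := by
  obtain ⟨χ, h1⟩ := exists_em_over θ
  obtain ⟨k, hk⟩ := deg_dvd_of_em h1
  have h2 := h χ
  by_cases h3 : charDegree χ.1 ≤ charDegree θ.1
  · obtain ⟨β, h4, h5⟩ := exists_nonlinear hK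
    have h6 := β.2.mul_of_le_charKer h4 χ.2.isCharacter
      (by rw [funext (res_eq_of_deg_le h1 h3)]; exact θ.2)
    have h7 := h ⟨_, h6⟩
    have h8 := charDegree_ne_zero β
    have h9 := deg_le_of_em h1
    rw [deg_mul h6 rfl] at h7
    rw [Nat.le_div_iff_mul_le two_pos]
    nlinarith [show 2 ≤ charDegree β.1 by omega]
  · rw [Nat.le_div_iff_mul_le two_pos]
    rcases k with _ | _ | k
    · omega
    · omega
    · nlinarith

theorem solvable_of_deg_le_four (h0 : ∀ L : Subgroup G, L.Normal → L ≠ ⊥ → commutator G ≤ L)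
    (h : ∀ χ : IrrCharacter G, charDegree χ.1 ≤ 4) : Group.IsSolvable G := by
  by_contra hs
  refine hs (Solv.isSolvable_of_primes_subset Nat.prime_two Nat.prime_three fun r hr h1 => ?_)
  by_contra! h2
  have h3 : 4 < r := by
    by_contra! h3
    have := hr.two_le
    interval_cases r
    · simp at h2
    · simp at h2
    · exact absurd hr (by norm_num)
  obtain ⟨P, h4, h5, -, h6⟩ := S4464.result r hr fun χ => (h χ).trans_lt h3
  have h7 := h0 P h4 (by rintro rfl; exact h6 (by simpa using h1))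
  exact hs ⟨⟨2, Subgroup.commutator_eq_bot_iff_le_centralizer.2 fun a ha b hb =>
    h5 b (h7 hb) a (h7 ha)⟩⟩

theorem exists_comm_index (b : ℕ) : ∀ (G : Type u) [Group G] [Finite G],
    (∀ χ : IrrCharacter G, charDegree χ.1 ≤ b) →
      ∃ A : Subgroup G, (∀ x ∈ A, ∀ y ∈ A, x * y = y * x) ∧ A.index ≤ b.factorial ^ 2 := by
  induction b using Nat.strong_induction_on with
  | _ b ih =>
  intro G _ _ h
  have h0 : ∀ (H : Subgroup G) (c : ℕ), c < b → (∀ θ : IrrCharacter H, charDegree θ.1 ≤ c) →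
      H.index * c.factorial ^ 2 ≤ b.factorial ^ 2 →
      ∃ A : Subgroup G, (∀ x ∈ A, ∀ y ∈ A, x * y = y * x) ∧ A.index ≤ b.factorial ^ 2 := by
    intro H c h1 h2 h3
    obtain ⟨A, h4, h5⟩ := ih c h1 H h2
    refine ⟨A.map H.subtype, ?_, ?_⟩
    · rintro _ ⟨x, hx, rfl⟩ _ ⟨y, hy, rfl⟩
      rw [← map_mul, h4 x hx y hy, map_mul]
    · rw [Subgroup.index_map_subtype, mul_comm]
      exact (Nat.mul_le_mul_left _ h5).trans h3
  have hb : 0 < b := by have := h (irrOne G); rwa [charDegree_irrOne] at this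
  have h1 : ∀ H : Subgroup G, H.index ≤ b ^ 2 → (∀ θ : IrrCharacter H, charDegree θ.1 < b) →
      ∃ A : Subgroup G, (∀ x ∈ A, ∀ y ∈ A, x * y = y * x) ∧ A.index ≤ b.factorial ^ 2 :=
    fun H h1 h2 => h0 H (b - 1) (by omega) (fun θ => Nat.le_sub_one_of_lt (h2 θ)) (by
      rw [← Nat.mul_factorial_pred hb.ne', mul_pow]; exact Nat.mul_le_mul_right _ h1)
  by_cases h2 : commutator G ≤ ⊥
  · exact ⟨⊤, fun x _ y _ => commutatorElement_eq_one_iff_mul_comm.1 (h2 (comm_mem x y)), by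
      rw [Subgroup.index_top]; exact Nat.one_le_pow _ _ b.factorial_pos⟩
  obtain ⟨K, -, hK⟩ := exists_maxNA h2
  haveI := hK.normal
  have h3 := h0 K (b / 2) (by omega) (two_mul_deg_le hK.na h)
  by_cases hs : Group.IsSolvable (G ⧸ K)
  · rcases hK.cases hs with ⟨Z, p, f, τ, hA⟩ | ⟨N, p, hB⟩
    · refine h1 Z (hA.sq ▸ Nat.pow_le_pow_left (hA.deg ▸ h τ) 2) fun θ => by_contra fun h4 => ?_
      obtain ⟨χ, h5⟩ := exists_em_over θ
      have h6 := res_eq_of_deg_le h5 ((h χ).trans (not_lt.1 h4))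
      obtain ⟨ψ, h7⟩ := hA.mul_of_res h6
      have := h ψ
      rw [h7, deg_eq_of_res h6] at this
      nlinarith [hA.one_lt]
    · haveI := hB.normal
      obtain ⟨τ, hτ⟩ := hB.exists_deg
      have h4 : N.index ≤ b := hτ ▸ h τ
      have h5 := hB.one_lt
      by_cases h6 : ∀ θ : IrrCharacter N, charDegree θ.1 < b
      · exact h1 N (by nlinarith) h6
      obtain ⟨θ, h6⟩ := not_forall.1 h6
      obtain ⟨χ, h7⟩ := exists_em_over θ
      have h8 : charDegree θ.1 = b := by have := (deg_le_of_em h7).trans (h χ); omega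
      have h9 : K.relIndex N ∣ b ^ 2 := h8 ▸ (hB.ind_or_dvd θ).resolve_left fun ⟨ψ, h9⟩ => by
        have := h ψ
        rw [h9, h8] at this
        nlinarith
      have h10 : b ≠ 2 := by
        rintro rfl
        have h10 := hB.prime.dvd_of_dvd_pow (hB.dvd.trans h9)
        exact hB.not_dvd (show N.index = 2 by omega ▸ h10)
      obtain ⟨c, rfl⟩ : ∃ c, b = c + 3 := ⟨b - 3, by omega⟩
      refine h3 ?_
      rw [← Subgroup.relIndex_mul_index hB.lt.le, Nat.factorial_succ, Nat.factorial_succ,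
        ← mul_assoc, mul_pow]
      exact Nat.mul_le_mul ((Nat.mul_le_mul (Nat.le_of_dvd (by positivity) h9) h4).trans
        (by rw [mul_pow]; exact Nat.mul_le_mul_left _ (by nlinarith)))
        (Nat.pow_le_pow_left (Nat.factorial_le (by omega)) 2)
  obtain ⟨h4, h5⟩ := hK.quot
  have h6 : ∀ φ : IrrCharacter (G ⧸ K), charDegree φ.1 ≤ b := fun φ => by
    obtain ⟨χ, -, h6⟩ := exists_deg_quot φ
    exact h6 ▸ h χ
  haveI : Nontrivial (G ⧸ K) := Subgroup.nontrivial_iff.1 ⟨_, _, h4⟩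
  obtain ⟨x, h7, h8⟩ := exists_small_class h6
  rw [← Solv.index_comap_mk] at h8
  by_cases h9 : ∀ θ : IrrCharacter ((Ce1 x).comap (QuotientGroup.mk' K)), charDegree θ.1 < b
  · exact h1 _ h8 h9
  obtain ⟨θ, h9⟩ := not_forall.1 h9
  have h10 : ((Ce1 x).comap (QuotientGroup.mk' K)).normalCore = K := by
    by_contra h10
    have h11 := Subgroup.map_le_iff_le_comap.2 ((hK.max _ inferInstance
      (Subgroup.normal_le_normalCore.2 (Solv.le_comap_mk K _)) h10).trans
      (Subgroup.normalCore_le _))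
    rw [map_commutator_mk] at h11
    exact hs ⟨⟨2, Subgroup.commutator_eq_bot_iff_le_centralizer.2 (h5 _ inferInstance
      fun h12 => h7 (Subgroup.mem_bot.1 (h12.le fun y hy =>
        Subgroup.mem_centralizer_singleton_iff.1 (h11 hy))))⟩⟩
  have h11 := index_dvd_sq (χ := θ) (K := K.subgroupOf _) fun y hy => by_contra fun h11 =>
    hy (Subgroup.mem_subgroupOf.2 (h10.le (mem_core_of_deg_le
      (fun χ _ => (h χ).trans (not_lt.1 h9)) h11)))
  obtain ⟨χ, h12⟩ := exists_em_over θ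
  have h13 : 4 < b := by_contra fun h13 =>
    hs (solvable_of_deg_le_four h5 fun φ => (h6 φ).trans (not_lt.1 h13))
  obtain ⟨c, rfl⟩ : ∃ c, b = c + 5 := ⟨b - 5, by omega⟩
  refine h3 ?_
  rw [← Subgroup.relIndex_mul_index (Solv.le_comap_mk K (Ce1 x)), Nat.factorial_succ,
    Nat.factorial_succ, Nat.factorial_succ, ← mul_assoc, ← mul_assoc, mul_pow]
  refine Nat.mul_le_mul ((Nat.mul_le_mul ((Nat.le_of_dvd (pow_pos
    (Nat.pos_of_ne_zero (charDegree_ne_zero θ)) 2) h11).trans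
    (Nat.pow_le_pow_left ((deg_le_of_em h12).trans (h χ)) 2)) h8).trans ?_)
    (Nat.pow_le_pow_left (Nat.factorial_le (by omega)) 2)
  rw [← mul_pow]
  exact Nat.pow_le_pow_left (by nlinarith [Nat.zero_le (c * c * c)]) 2

/-! ### Prime degrees -/

theorem card_dvd_deg (h : ∀ y ∈ H, y ≠ 1 → χ.1 y = 0) : Nat.card H ∣ charDegree χ.1 := by
  have := Fintype.ofFinite H
  have h1 := em_spec χ (irrOne H)
  rw [coe_irrOne, classInner_one_right, Finset.sum_eq_single (1 : H)
    (fun y _ hy => h y y.2 fun h1 => hy (Subtype.ext h1)) (by simp), OneMemClass.coe_one,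
    ← cast_deg, inv_mul_eq_iff_eq_mul₀ (card_ne_zero' H)] at h1
  exact ⟨_, by exact_mod_cast h1⟩

theorem card_dvd_prime_deg (hq : q.Prime) (h1 : charDegree χ.1 = q) (hZ : charCenter χ.1 = ⊥)
    (h : ∀ y ∈ H, ¬ q ∣ (Ce1 y).index) : Nat.card H ∣ q :=
  h1 ▸ card_dvd_deg fun y hy h2 => (χ.2.eq_zero_or_norm_eq_of_coprime (cast_deg χ).symm
    (h1 ▸ hq.coprime_iff_not_dvd.2 (h y hy))).resolve_right fun h3 =>
    h2 (Subgroup.mem_bot.1 (hZ ▸ χ.2.isCharacter.mem_charCenter.2 h3))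

theorem card_sylow_dvd [hq : Fact q.Prime] (h1 : charDegree χ.1 = q) (hZ : charCenter χ.1 = ⊥)
    (P : Sylow q G) : Nat.card P ∣ q := by
  have h2 : ∀ θ : IrrCharacter P, em P χ θ ≠ 0 → charDegree θ.1 = 1 := fun θ h2 => by
    by_contra h3
    obtain ⟨k, hk⟩ := P.isPGroup'.exists_card_eq
    obtain ⟨e, -, he⟩ := (Nat.dvd_prime_pow hq.out).1 (hk ▸ deg_dvd_card θ)
    have h4 := res_eq_of_deg_le h2 (by
      rw [h1, he]; exact Nat.le_self_pow (by rintro rfl; exact h3 he) q)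
    haveI : Nontrivial P := Subgroup.nontrivial_iff.1 ⟨_, _, fun h5 => not_commutator_le_bot h3 h5.le⟩
    haveI := P.isPGroup'.center_nontrivial
    obtain ⟨z, hz⟩ := exists_ne (1 : Subgroup.center P)
    refine hz (Subtype.ext (Subtype.ext (Subgroup.mem_bot.1
      (hZ ▸ χ.2.isCharacter.mem_charCenter.2 ?_))))
    rw [h4, ← OneMemClass.coe_one (P : Subgroup G), h4]
    exact θ.2.isCharacter.mem_charCenter.1 (θ.2.center_le_charCenter z.2)
  have h3 : (P : Subgroup G) ≤ Ce P := fun x hx y hy => by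
    refine commutatorElement_eq_one_iff_mul_comm.1 (Subgroup.mem_bot.1 (hZ ▸ charKer_le_charCenter _
      (χ.2.isCharacter.mem_charKer.2 ?_)))
    have h3 := res_eq_sum_em (K := P) χ ⁅(⟨y, hy⟩ : P), (⟨x, hx⟩ : P)⁆
    refine h3.trans ((Finset.sum_congr rfl fun θ _ => ?_).trans (res_eq_sum_em (K := P) χ 1).symm)
    by_cases h4 : em P χ θ = 0
    · simp [h4]
    · rw [θ.2.isCharacter.mem_charKer.1 (deg_eq_one_iff.1 (h2 θ h4) (comm_mem _ _))]
  exact card_dvd_prime_deg hq.out h1 hZ fun y hy => not_dvd_index_of_le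
    (fun x hx => Subgroup.mem_centralizer_singleton_iff.2 (h3 hy x hx)) P.not_dvd_index

theorem not_sq_dvd (hq : q.Prime) (h1 : charDegree χ.1 = q) (hZ : charCenter χ.1 = ⊥) :
    ¬ q * q ∣ Nat.card G := fun h => by
  haveI := Fact.mk hq
  obtain ⟨P⟩ : Nonempty (Sylow q G) := inferInstance
  rw [← (P : Subgroup G).card_mul_index] at h
  exact P.not_dvd_index ((Nat.mul_dvd_mul_iff_left hq.pos).1
    (h.trans (Nat.mul_dvd_mul_right (card_sylow_dvd h1 hZ P) _)))

theorem eq_of_dvd_orderOf {r : ℕ} (hq : q.Prime) (hr : r.Prime) (h1 : charDegree χ.1 = q)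
    (hZ : charCenter χ.1 = ⊥) {g : G} (h2 : q ∣ orderOf g) (h3 : r ∣ orderOf g) : r = q := by
  have h4 := orderOf_pow_orderOf_div (orderOf_pos g).ne' h3
  rw [← Nat.card_zpowers] at h4
  refine (Nat.prime_dvd_prime_iff_eq hr hq).1 (h4.symm.dvd.trans
    (card_dvd_prime_deg hq h1 hZ fun y hy h5 => not_sq_dvd hq h1 hZ ?_))
  rw [← (Ce1 y).card_mul_index]
  refine Nat.mul_dvd_mul (h2.trans (Solv.orderOf_dvd_card_of_mem ?_)) h5
  obtain ⟨k, rfl⟩ := hy
  exact Subgroup.mem_centralizer_singleton_iff.2 (((Commute.refl g).pow_right _).zpow_right k)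

theorem solvable_of_prime_deg (G : Type u) [Group G] [Finite G] :
    (∀ χ : IrrCharacter G, charDegree χ.1 ≠ 1 → (charDegree χ.1).Prime) → Group.IsSolvable G := by
  refine Solv.card_induction (P := fun G _ _ =>
    (∀ χ : IrrCharacter G, charDegree χ.1 ≠ 1 → (charDegree χ.1).Prime) → Group.IsSolvable G)
    (fun G _ _ ih h => ?_) G
  by_cases h0 : ∃ N : Subgroup G, N.Normal ∧ N ≠ ⊥ ∧ N ≠ ⊤
  · obtain ⟨N, _, h1, h2⟩ := h0
    refine Solv.isSolvable_of_normal_of_quotient N (ih _ (Solv.card_lt_of_ne_top h2) fun θ h3 => ?_)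
      (ih _ (Solv.card_quotient_lt h1) fun φ h3 => ?_)
    · obtain ⟨χ, h4⟩ := exists_em_over θ
      have h5 := deg_dvd_of_em h4
      have h6 := h χ fun h6 => h3 (Nat.dvd_one.1 (h6 ▸ h5))
      rwa [(Nat.dvd_prime h6).1 h5 |>.resolve_left h3]
    · obtain ⟨χ, -, h4⟩ := exists_deg_quot φ
      exact h4 ▸ h χ (h4 ▸ h3)
  simp only [not_exists, not_and, not_not] at h0
  have h1 : ∀ χ : IrrCharacter G, charDegree χ.1 ≠ 1 → charCenter χ.1 = ⊥ := fun χ h1 => by
    by_contra h2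
    exact h1 (Nat.pow_eq_one.1 ((χ.2.degree_sq_eq_index (Z := ⊤)
      (h0 _ χ.2.isClassFunction.normal_charCenter h2).ge (by simp) (cast_deg χ).symm).trans
      Subgroup.index_top) |>.resolve_right two_ne_zero)
  by_contra hs
  have h2 : ∀ m n, ∃ χ : IrrCharacter G, charDegree χ.1 ≠ 1 ∧ charDegree χ.1 ≠ m ∧
      charDegree χ.1 ≠ n := fun m n => by_contra fun h2 =>
    hs ⟨⟨3, derived_three G (m := m) (n := n) fun χ => by
      simp only [not_exists] at h2; have := h2 χ; tauto⟩⟩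
  obtain ⟨χ, h3, h4⟩ := Finset.exists_min_image (Finset.univ.filter
    fun χ : IrrCharacter G => charDegree χ.1 ≠ 1) (fun χ => charDegree χ.1) (by
      obtain ⟨χ, h3, -⟩ := h2 1 1; exact ⟨χ, by simp [h3]⟩)
  simp only [Finset.mem_filter, Finset.mem_univ, true_and] at h3 h4
  have h5 : charDegree χ.1 ≠ 2 := fun h5 => by
    obtain ⟨P⟩ : Nonempty (Sylow 2 G) := inferInstance
    obtain ⟨N, _, h7⟩ : ∃ N : Subgroup G, N.Normal ∧ N.IsComplement' P :=
      ⟨_, inferInstance, IsCyclic.isComplement' ((Nat.minFac_eq_two_iff _).2 (h5 ▸ deg_dvd_card χ))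
        (isCyclic_of_card_dvd_prime (card_sylow_dvd h5 (h1 χ h3) P))⟩
    by_cases h8 : N = ⊥
    · rw [h8, Subgroup.isComplement'_bot_left] at h7
      haveI := (P.isPGroup'.of_equiv ((MulEquiv.subgroupCongr h7).trans
        Subgroup.topEquiv)).isNilpotent
      exact hs inferInstance
    · rw [h0 _ inferInstance h8, Subgroup.isComplement'_top_left] at h7
      exact P.ne_bot_of_dvd_card (h5 ▸ deg_dvd_card χ) h7
  have h6 : ∀ ψ : IrrCharacter G, charDegree ψ.1 ≠ 1 → charDegree ψ.1 ≠ charDegree χ.1 →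
      charDegree χ.1 + 1 < charDegree ψ.1 := fun ψ h6 h7 => by
    have := h4 ψ h6
    have := (h χ h3).two_le
    have := (h χ h3).eq_two_or_odd
    have := (h ψ h6).eq_two_or_odd
    omega
  obtain ⟨a, ha, ha', -⟩ := h2 (charDegree χ.1) 1
  obtain ⟨b, hb, hb', hb''⟩ := h2 (charDegree χ.1) (charDegree a.1)
  haveI := Fact.mk (h a ha)
  haveI := Fact.mk (h b hb)
  obtain ⟨g, h7, h8⟩ := exists_orderOf_dvd_irr χ (fun g hg => Subgroup.mem_bot.1 (h1 χ h3 ▸
    charKer_le_charCenter _ (χ.2.isCharacter.mem_charKer.2 hg))) (deg_dvd_card a) (h6 a ha ha')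
    (deg_dvd_card b) (h6 b hb hb')
  exact hb'' (eq_of_dvd_orderOf (h a ha) (h b hb) rfl (h1 a ha) h7 h8)

theorem three_of_prime_deg
    (h : ∀ χ : IrrCharacter G, charDegree χ.1 ≠ 1 → (charDegree χ.1).Prime) :
    ∃ m n, ∀ χ : IrrCharacter G, charDegree χ.1 = 1 ∨ charDegree χ.1 = m ∨ charDegree χ.1 = n := by
  haveI := solvable_of_prime_deg G h
  by_cases h0 : commutator G ≤ ⊥
  · exact ⟨1, 1, fun χ => Or.inl (deg_eq_one_iff.2 (h0.trans bot_le))⟩
  have h1 : ∀ (χ : IrrCharacter G) a b, charDegree χ.1 = a * b → a = 1 ∨ b = 1 := fun χ a b h1 => by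
    by_contra! h2
    exact Nat.not_prime_mul h2.1 h2.2 (h1 ▸ h χ fun h3 =>
      h2.1 (Nat.eq_one_of_mul_eq_one_right (h1 ▸ h3)))
  obtain ⟨K, -, hK⟩ := exists_maxNA h0
  haveI := hK.normal
  rcases hK.cases inferInstance with ⟨Z, p, f, τ, hA⟩ | ⟨N, p, hB⟩
  · refine ⟨p, p, fun χ => ?_⟩
    by_cases h2 : p ∣ charDegree χ.1
    · exact (eq_or_ne _ 1).imp_right fun h3 =>
        Or.inl ((Nat.prime_dvd_prime_iff_eq hA.prime (h χ h3)).1 h2).symm
    · obtain ⟨ψ, h3⟩ := hA.mul_of_not_dvd h2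
      exact Or.inl ((h1 ψ _ _ h3).resolve_left hA.one_lt.ne')
  · haveI := hB.normal
    refine ⟨p, N.index, fun χ => (eq_or_ne _ 1).imp_right fun h2 => ?_⟩
    obtain ⟨θ, h3⟩ := exists_em_under χ N
    obtain ⟨τ, hτ⟩ := hB.exists_deg
    rcases hB.ind_or_dvd' θ with ⟨ψ, h4⟩ | h4
    · obtain ⟨k, h5, h6⟩ := exists_deg_eq_mul h3
      rw [(h1 ψ _ _ h4).resolve_left hB.one_lt.ne', mul_one] at h6
      exact Or.inr ((Nat.prime_dvd_prime_iff_eq (h χ h2)
        (hτ ▸ h τ (hτ ▸ hB.one_lt.ne'))).1 (h6 ▸ h5))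
    · exact Or.inl ((Nat.prime_dvd_prime_iff_eq hB.prime (h χ h2)).1
        (h4.trans (deg_dvd_of_em h3))).symm

/-! ### Degrees `1` and `p` -/

/-- Linear characters of `Z` fixed by `g`. -/
def fixL {G : Type u} [Group G] (Z : Subgroup G) [Z.Normal] (g : G) : Subgroup (Z →* ℂˣ) where
  carrier := {l | ∀ z : Z, l (MulAut.conjNormal g z) = l z}
  mul_mem' ha hb z := by rw [MonoidHom.mul_apply, ha z, hb z]; rfl
  one_mem' _ := rfl
  inv_mem' ha z := by rw [MonoidHom.inv_apply, ha z]; rfl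

omit [Finite G] in
theorem mem_fixL [Z.Normal] {g : G} {l : Z →* ℂˣ} : l ∈ fixL Z g ↔ g ∈ inertia Z (lc l) :=
  ⟨fun h => mem_inertia'.2 fun z => congrArg Units.val (h z),
    fun h z => Units.ext (mem_inertia'.1 h z)⟩

theorem card_fixL [Z.Normal] (hZ : ∀ a ∈ Z, ∀ b ∈ Z, a * b = b * a) (g : G) :
    Nat.card (fixL Z g) = Nat.card (Ce1 g ⊓ Z : Subgroup G) := by
  have h0 : ∀ a b : Z, a * b = b * a := fun a b => Subtype.ext (hZ a a.2 b b.2)
  let f : Z →* Z := MonoidHom.mk' (fun z => MulAut.conjNormal g z * z⁻¹) fun a b => by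
    rw [map_mul, mul_inv_rev, mul_assoc, mul_assoc, ← mul_assoc _ b⁻¹, h0 _ a⁻¹]
  have h1 : fixL Z g = annih f.range := Subgroup.ext fun l => ⟨fun h x ⟨z, hz⟩ => by
    rw [← hz]; exact (map_mul l _ _).trans (by rw [h z]; simp), fun h z => by
    have := h _ ⟨z, rfl⟩
    rwa [show f z = _ * _ from rfl, map_mul, map_inv, mul_inv_eq_one] at this⟩
  rw [h1, card_annih (Subgroup.commutator_le.2 fun a _ b _ => by
    rw [commutatorElement_eq_one_iff_mul_comm.2 (h0 a b)]; exact one_mem _), Subgroup.index_range,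
    ← Solv.card_subgroupOf]
  congr 3
  ext z
  rw [MonoidHom.mem_ker, show f z = _ * _ from rfl, mul_inv_eq_one, Subtype.ext_iff,
    MulAut.conjNormal_apply, mul_inv_eq_iff_eq_mul, Subgroup.mem_subgroupOf,
    Subgroup.mem_centralizer_singleton_iff, eq_comm]

theorem sum_ite_mem [Fintype G] (H : Subgroup G) (c : ℤ) :
    ∑ g : G, (if g ∈ H then c else 0) = Nat.card H * c := by
  rw [← Finset.sum_filter, Finset.sum_const, nsmul_eq_mul, Nat.card_eq_fintype_card,
    Fintype.card_subtype]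

theorem NA.comm_of {τ : IrrCharacter G} (hA : NA K Z p m τ)
    (h : ∀ χ : IrrCharacter G, charDegree χ.1 = 1 ∨ charDegree χ.1 = m) (hm : m.Prime) :
    ∀ a ∈ Z, ∀ b ∈ Z, a * b = b * a := by
  haveI := hA.normal
  refine comm_of_deg fun θ => by_contra fun h1 => ?_
  obtain ⟨χ, h2⟩ := exists_em_over θ
  have h3 := deg_dvd_of_em h2
  have h4 := (h χ).resolve_left fun h4 => h1 (Nat.dvd_one.1 (h4 ▸ h3))
  obtain ⟨ψ, h5⟩ := hA.mul_of_res (res_eq_of_deg_le h2
    (h4 ▸ (((Nat.dvd_prime hm).1 (h4 ▸ h3)).resolve_left h1).ge))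
  have := hm.two_le
  rcases h ψ with h6 | h6 <;> nlinarith

theorem NA.index_sup [K.Normal] {τ : IrrCharacter G} (hA : NA K Z p m τ) (hm : m.Prime) {g : G}
    (hg : g ∉ Z) : (Z ⊔ zpowers g).index = m := by
  obtain ⟨i, h1, h2⟩ := (Nat.dvd_prime_pow hm).1
    (hA.sq ▸ Subgroup.index_dvd_of_le (le_sup_left (a := Z) (b := zpowers g)))
  interval_cases i
  · have h3 := Solv.isMulCommutative_sup_zpowers (A := Z.map (QuotientGroup.mk' K)) (x := g)
      (Solv.isMulCommutative_iff.2 (by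
        rintro _ ⟨a, ha, rfl⟩ _ ⟨b, -, rfl⟩
        exact comm_mem_iff.1 ((hA.cent a).1 ha b))) (by
        rintro _ ⟨a, ha, rfl⟩
        exact comm_mem_iff.1 ((hA.cent a).1 ha g))
    rw [← QuotientGroup.mk'_apply, ← MonoidHom.map_zpowers, ← Subgroup.map_sup,
      Subgroup.index_eq_one.1 h2, Solv.isMulCommutative_iff] at h3
    have h4 : commutator G ≤ K := Subgroup.commutator_le.2 fun a ha b hb =>
      comm_mem_iff.2 (h3 _ (Subgroup.mem_map_of_mem _ ha) _ (Subgroup.mem_map_of_mem _ hb))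
    have := deg_eq_one_iff.2 (h4.trans hA.ker)
    have := hA.deg
    have := hA.one_lt
    omega
  · rw [h2, pow_one]
  · have h3 := Subgroup.relIndex_mul_index (le_sup_left (a := Z) (b := zpowers g))
    rw [h2, ← hA.sq, Nat.mul_eq_right (pow_pos hm.pos 2).ne', Subgroup.relIndex_eq_one] at h3
    exact (hg (h3 (Subgroup.mem_sup_right (mem_zpowers g)))).elim

theorem arith_aux {a b c p : ℕ} (hp : 2 ≤ p) (hb : p ≤ b) (h1 : c ≤ a) (h2 : c ≤ b)
    (h : a * b + p ≤ a + p * c) : a = p ∧ b = p := by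
  have h3 : a ≤ p := by nlinarith
  have h4 : b ≤ p := by
    by_contra! h4
    nlinarith [Nat.mul_le_mul_left a (show p + 1 ≤ b from h4), Nat.mul_le_mul_left p h1]
  obtain rfl : b = p := h4.antisymm hb
  exact ⟨by nlinarith [Nat.mul_le_mul_left b h1], rfl⟩

theorem index_center_eq [K.Normal] {τ : IrrCharacter G} (hA : NA K Z p p τ)
    (h : ∀ χ : IrrCharacter G, charDegree χ.1 = 1 ∨ charDegree χ.1 = p)
    (hZ : ∃ k, (Subgroup.center G).index = p ^ k)
    (h0 : ¬ ∃ A : Subgroup G, A.Normal ∧ (∀ a ∈ A, ∀ b ∈ A, a * b = b * a) ∧ A.index = p) :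
    (Subgroup.center G).index = p ^ 3 := by
  haveI := hA.normal
  have := Fintype.ofFinite G
  have hp := hA.prime
  have h1 := hA.comm_of h hp
  have h2 : Subgroup.center G ≤ Z := fun z hz => (hA.cent z).2 fun g => by
    rw [commutatorElement_eq_one_iff_mul_comm.2 (Subgroup.mem_center_iff.1 hz g).symm]
    exact one_mem _
  have h3 : ∀ g, g ∉ Z → p ≤ (Ce1 g).relIndex Z := fun g hg => by
    obtain ⟨k, hk⟩ := hZ
    obtain ⟨i, -, hi⟩ := (Nat.dvd_prime_pow hp).1 (hk ▸ ((Subgroup.relIndex_dvd_of_le_left Z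
      (Subgroup.center_le_centralizer {g})).trans (Subgroup.relIndex_dvd_index_of_le h2)))
    rw [hi]
    refine Nat.le_self_pow (fun h3 => h0 ⟨Z ⊔ zpowers g,
      normal_of_commutator_le (hA.comm.trans le_sup_left), Solv.isMulCommutative_iff.1
      (Solv.isMulCommutative_sup_zpowers (Solv.isMulCommutative_iff.2 h1) fun z hz => ?_),
      hA.index_sup hp hg⟩) p
    rw [h3, pow_zero, Subgroup.relIndex_eq_one] at hi
    exact Subgroup.mem_centralizer_singleton_iff.1 (hi hz)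
  set W : Subgroup (Z →* ℂˣ) := ⨅ g, fixL Z g with hW
  have h4 : ∀ l, l ∈ W ↔ inertia Z (lc l) = ⊤ := fun l => by
    simp [hW, Subgroup.mem_iInf, mem_fixL, Subgroup.eq_top_iff']
  have hX : Nat.card (Z →* ℂˣ) = Nat.card Z := card_lc fun a b => Subtype.ext (h1 a a.2 b b.2)
  have hG : Nat.card G = Nat.card Z * p ^ 2 := by rw [hA.sq, Z.card_mul_index]
  have hz : 0 < Nat.card Z := Nat.card_pos
  have hw : 0 < Nat.card W := Nat.card_pos
  have h5 : ∑ g, (Nat.card (fixL Z g) : ℤ) = Nat.card Z * (Nat.card Z * p) +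
      Nat.card W * (Nat.card Z * p ^ 2 - Nat.card Z * p) := by
    rw [← sum_ite_mem W, ← hX, Nat.card_eq_fintype_card (α := Z →* ℂˣ), ← nsmul_eq_mul,
      ← Finset.card_univ, ← Finset.sum_const, ← Finset.sum_add_distrib, Finset.sum_congr rfl
        fun g _ => ((sum_ite_mem (fixL Z g) 1).trans (mul_one _)).symm, Finset.sum_comm]
    refine Finset.sum_congr rfl fun l _ => ?_
    simp only [mem_fixL, sum_ite_mem, mul_one, Finset.card_univ, ← Nat.card_eq_fintype_card, hX]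
    split_ifs with h5
    · rw [(h4 l).1 h5, Subgroup.card_top, hG]; push_cast; ring
    · obtain ⟨χ, h6⟩ := exists_em_over (ilc l)
      have h7 : (inertia Z (lc l)).index ∣ charDegree χ.1 :=
        ⟨em Z χ (ilc l) * charDegree (ilc l).1, by rw [deg_eq_em_mul h6]; ring!⟩
      have h8 : (inertia Z (lc l)).index ≠ 1 := Subgroup.index_eq_one.not.2 ((h4 l).not.1 h5)
      have h9 := (inertia Z (lc l)).card_mul_index
      rcases h χ with h10 | h10 <;> rw [h10] at h7
      · exact (h8 (Nat.dvd_one.1 h7)).elim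
      · rw [((Nat.dvd_prime hp).1 h7).resolve_left h8, hG, sq, ← mul_assoc,
          Nat.mul_left_inj hp.ne_zero] at h9
        rw [h9]; push_cast; ring
  obtain ⟨x, hx, h6⟩ := Finset.exists_max_image (Finset.univ.filter (· ∉ Z))
    (fun g => Nat.card (fixL Z g)) (by
      by_contra h6
      have : Z = ⊤ := eq_top_iff.2 fun g _ => by_contra fun h7 => h6 ⟨g, by simp [h7]⟩
      have h7 := hA.sq
      rw [this, Subgroup.index_top] at h7
      nlinarith [hp.two_le])
  simp only [Finset.mem_filter, Finset.mem_univ, true_and] at hx h6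
  have h7 : ∀ g, g ∉ Z ⊔ zpowers x → Z ⊔ zpowers x ⊔ zpowers g = ⊤ := fun g hg => by
    have h7 := Subgroup.relIndex_mul_index (le_sup_left (a := Z ⊔ zpowers x) (b := zpowers g))
    rw [hA.index_sup hp hx] at h7
    refine Subgroup.index_eq_one.1 (((Nat.dvd_prime hp).1 (Dvd.intro_left _ h7)).resolve_right
      fun h8 => ?_)
    rw [h8, Nat.mul_eq_right hp.ne_zero, Subgroup.relIndex_eq_one] at h7
    exact hg (h7 (Subgroup.mem_sup_right (mem_zpowers g)))
  have h8 : ∀ g, g ∉ Z ⊔ zpowers x → fixL Z g ⊓ fixL Z x ≤ W := fun g hg l hl =>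
    (h4 l).2 (eq_top_iff.2 ((h7 g hg).ge.trans (sup_le (sup_le
      (le_inertia (isIrr_lc l).isClassFunction) (Subgroup.zpowers_le.2 (mem_fixL.1 hl.2)))
      (Subgroup.zpowers_le.2 (mem_fixL.1 hl.1)))))
  obtain ⟨a, ha⟩ : Nat.card W ∣ Nat.card (fixL Z x) := Subgroup.card_dvd_of_le (iInf_le _ x)
  have hb := Solv.card_inf_mul_relIndex (Ce1 x) Z
  have hb' := h3 x hx
  have hb'' : (Ce1 x ⊓ Z).relIndex Z = (Ce1 x).relIndex Z := Subgroup.inf_relIndex_right _ _
  generalize (Ce1 x).relIndex Z = b at hb hb' hb''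
  rw [← card_fixL h1, ha] at hb
  have ha0 : 0 < a := Nat.pos_of_mul_pos_left (ha ▸ Nat.card_pos)
  have hM : Nat.card (Z ⊔ zpowers x : Subgroup G) = Nat.card Z * p := by
    have := (Z ⊔ zpowers x).card_mul_index
    rwa [hA.index_sup hp hx, hG, sq, ← mul_assoc, Nat.mul_left_inj hp.ne_zero] at this
  have h9 : ∀ g, (Nat.card (fixL Z g) : ℤ) ≤ Nat.card W * min a b +
      ((if g ∈ Z ⊔ zpowers x then Nat.card W * a - Nat.card W * min a b else 0 : ℤ) +
      (if g ∈ Z then Nat.card Z - Nat.card W * a else 0 : ℤ)) := fun g => by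
    by_cases h9 : g ∈ Z
    · rw [if_pos h9, if_pos (Subgroup.mem_sup_left h9), ← add_assoc, add_sub_cancel, add_sub_cancel,
        ← hX]
      exact_mod_cast Subgroup.card_le_card_group _
    have h10 := h6 g h9
    rw [if_neg h9, add_zero]
    split_ifs with h11
    · rw [add_sub_cancel]; exact_mod_cast ha ▸ h10
    · have h12 := (Solv.card_mul_card_le (S := ⊤) le_top le_top).trans
        (Nat.mul_le_mul_left _ (Subgroup.card_le_of_le (h8 g h11)))
      rw [Subgroup.card_top, hX, ← hb, ha, mul_comm, mul_assoc _ b, mul_comm b] at h12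
      have h13 := Nat.le_of_mul_le_mul_left h12 (by positivity)
      rw [add_zero]
      norm_cast
      rw [mul_min]
      exact le_min (ha ▸ h10) h13
  have h10 : ∑ g : G, (Nat.card W * min a b +
      ((if g ∈ Z ⊔ zpowers x then Nat.card W * a - Nat.card W * min a b else 0 : ℤ) +
      (if g ∈ Z then Nat.card Z - Nat.card W * a else 0 : ℤ)) : ℤ) =
      Nat.card Z * p ^ 2 * (Nat.card W * min a b) + (Nat.card Z * p *
        (Nat.card W * a - Nat.card W * min a b) + Nat.card Z * (Nat.card Z - Nat.card W * a)) := by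
    rw [Finset.sum_add_distrib, Finset.sum_add_distrib, sum_ite_mem, sum_ite_mem, Finset.sum_const,
      Finset.card_univ, ← Nat.card_eq_fintype_card, hG, hM, nsmul_eq_mul]
    push_cast; rfl
  have h11 := Finset.sum_le_sum fun g (_ : g ∈ Finset.univ) => h9 g
  obtain ⟨rfl, rfl⟩ : a = p ∧ b = p := by
    refine arith_aux hp.two_le hb' (min_le_left a b) (min_le_right a b) ?_
    rw [h5, h10] at h11
    generalize min a b = c at h11
    have h12 : (0 : ℤ) < (Nat.card Z : ℤ) * Nat.card W * (p - 1) := by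
      have := hp.one_lt
      have : (0 : ℤ) < p - 1 := by omega
      positivity
    zify at hb ⊢
    refine le_of_mul_le_mul_left ?_ h12
    linear_combination h11 + (Nat.card Z * (p - 1) : ℤ) * hb
  have h12 : ∀ g, g ∉ Z ⊔ zpowers x → Nat.card (fixL Z g) = Nat.card W * b := fun g hg => by
    have h12 := (Finset.sum_eq_sum_iff_of_le fun g (_ : g ∈ Finset.univ) => h9 g).1 (by
      rw [h5, h10, min_self]
      zify at hb
      linear_combination (Nat.card Z * (1 - b) : ℤ) * hb) g (Finset.mem_univ g)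
    rw [if_neg hg, if_neg fun h => hg (Subgroup.mem_sup_left h), min_self] at h12
    exact_mod_cast h12
  obtain ⟨y, hy⟩ : ∃ y, y ∉ Z ⊔ zpowers x := by
    by_contra! h13
    have h14 := hA.index_sup hp hx
    rw [(Subgroup.eq_top_iff' _).2 h13, Subgroup.index_top] at h14
    exact hp.ne_one h14.symm
  have hy' : y * x ∉ Z ⊔ zpowers x := fun h =>
    hy ((mul_mem_cancel_right (Subgroup.mem_sup_right (mem_zpowers x))).1 h)
  have h13 : fixL Z y ⊔ fixL Z (y * x) = ⊤ := by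
    haveI : (fixL Z (y * x)).Normal := ⟨fun l hl g => by
      rwa [comm_lc g l, show l * g * g⁻¹ = l from mul_inv_cancel_right l g]⟩
    have h13 := Solv.card_sup_mul_card_inf (H := fixL Z y) (N := fixL Z (y * x))
      Subgroup.le_normalizer_of_normal
    have h14 : fixL Z y ⊓ fixL Z (y * x) = W := le_antisymm (fun l hl => h8 y hy ⟨hl.1,
      mem_fixL.2 ((mul_mem_cancel_left (mem_fixL.1 hl.1)).1 (mem_fixL.1 hl.2))⟩)
      (le_inf (iInf_le _ _) (iInf_le _ _))
    rw [h14, h12 y hy, h12 _ hy', mul_comm, mul_assoc, Nat.mul_right_inj hw.ne'] at h13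
    refine Subgroup.eq_top_of_card_eq _ ?_
    rw [h13, hX, ← hb]; ring
  have h14 : Ce1 x ⊓ Z = Subgroup.center G := by
    refine le_antisymm (fun z hz => ?_) (le_inf (Subgroup.center_le_centralizer _) h2)
    have h14 := Subgroup.mem_centralizer_singleton_iff.1 hz.1
    have h15 : MulAut.conjNormal y (⟨z, hz.2⟩ : Z) = ⟨z, hz.2⟩ := by
      obtain ⟨c, hc⟩ := isConj_iff.1 ((isConj_iff_forall_irr (MulAut.conjNormal y (⟨z, hz.2⟩ : Z))
        ⟨z, hz.2⟩).2 fun θ => by
        obtain ⟨l, rfl⟩ := exists_ilc (deg_of_comm h1 θ)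
        obtain ⟨u, hu, v, hv, rfl⟩ := Subgroup.mem_sup.1 (h13 ▸ Subgroup.mem_top l)
        have h15 := hv ⟨z, hz.2⟩
        rw [show MulAut.conjNormal (y * x) (⟨z, hz.2⟩ : Z) = MulAut.conjNormal y ⟨z, hz.2⟩ from
          Subtype.ext (by simp [mul_assoc, ← h14])] at h15
        rw [ilc_apply, ilc_apply, MonoidHom.mul_apply, hu, h15, MonoidHom.mul_apply])
      rwa [show c * _ = _ * c from Subtype.ext (h1 _ c.2 _ (Subtype.prop _)),
        mul_inv_cancel_right] at hc
    have h16 : ⊤ ≤ Ce1 z := (h7 y hy).ge.trans (sup_le (sup_le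
      (fun t ht => Subgroup.mem_centralizer_singleton_iff.2 (h1 t ht z hz.2))
      (Subgroup.zpowers_le.2 (Subgroup.mem_centralizer_singleton_iff.2 h14.symm)))
      (Subgroup.zpowers_le.2 (Subgroup.mem_centralizer_singleton_iff.2
        (mul_inv_eq_iff_eq_mul.1 (congrArg Subtype.val h15)))))
    exact Subgroup.mem_center_iff.2 fun g =>
      Subgroup.mem_centralizer_singleton_iff.1 (h16 (Subgroup.mem_top g))
  rw [← Subgroup.relIndex_mul_index h2, ← h14, hb'', ← hA.sq]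
  ring

end Cfsg.Agent.Blk
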