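import Cfsg.Agent.Lib.Block.Quot
import Cfsg.Agent.Lib.Char.Triple

/-! Blocks of groups `G = P C_G(P)` with defect group `P`, and blocks with a normal defect group. -/

set_option autoImplicit false

namespace Cfsg.Agent.Blk

open MonoidAlgebra
open Cfsg.Agent.Char hiding cj cj_mul cj_inv_cj cj_cj_inv sum_cj_eq
open scoped ComplexConjugate

section
variable {G : Type*} [Group G] {p : ℕ} {P : Subgroup G}

theorem normal_of_top_le_No (h : ⊤ ≤ No P) : P.Normal :=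
  Subgroup.normalizer_eq_top_iff.1 (top_le_iff.1 h)

theorem normal_of_sup_Ce (hG : P ⊔ Ce P = ⊤) : P.Normal :=
  normal_of_top_le_No (hG ▸ sup_le (le_No P) (Ce_le_No P))

theorem exists_mul_of_sup_Ce (hG : P ⊔ Ce P = ⊤) (x : G) : ∃ u ∈ P, ∃ v ∈ Ce P, x = u * v :=
  exists_mul_of_mem_sup ((le_No P).trans (No_le_No_Ce P)) (hG ▸ Subgroup.mem_top x)

theorem sup_Ce_of_le_center (h : P ≤ Subgroup.center G) : P ⊔ Ce P = ⊤ :=
  top_le_iff.1 (le_sup_of_le_right fun g _ =>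
    mem_Ce.2 fun _ hq => (Subgroup.mem_center_iff.1 (h hq) g).symm)

theorem subgroupOf_sup_Ce {K : Subgroup G} (h1 : P ≤ K) (h : K ≤ P ⊔ Ce P) :
    P.subgroupOf K ⊔ Ce (P.subgroupOf K) = ⊤ := by
  refine top_le_iff.1 fun x _ => ?_
  obtain ⟨u, hu, v, hv, h2⟩ := exists_mul_of_mem_sup ((le_No P).trans (No_le_No_Ce P)) (h x.2)
  have h3 : v ∈ K := by
    have := mul_mem (inv_mem (h1 hu)) x.2
    rwa [h2, inv_mul_cancel_left] at this
  have : x = ⟨u, h1 hu⟩ * ⟨v, h3⟩ := Subtype.ext h2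
  rw [this]
  exact Subgroup.mul_mem_sup hu (mem_Ce.2 fun q hq => Subtype.ext (mem_Ce.1 hv q hq))

variable [Finite G]

theorem invariant_of_sup_Ce [P.Normal] (hG : P ⊔ Ce P = ⊤) {ζ : P → ℂ} (hζ : IsClassFunction P ζ)
    (g : G) : Char.cj P g ζ = ζ := by
  refine inertia_eq_top_iff.1 (top_le_iff.1 (hG ▸ sup_le (le_inertia hζ) fun c hc => ?_)) g
  refine mem_inertia'.2 fun n => congrArg ζ (Subtype.ext ?_)
  exact conj_eq_of_mem_Ce hc n.2

theorem irr_mul_of_sup_Ce (hG : P ⊔ Ce P = ⊤) (θ : IrrCharacter G) {y c : G} (hy : y ∈ P)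
    (hc : c ∈ Ce P) : θ.1 (y * c) * θ.1 1 = θ.1 y * θ.1 c := by
  have := Fintype.ofFinite G
  have h1 := θ.2.sum_conj_mul y c
  rw [Finset.sum_congr rfl fun x _ => show θ.1 (x * y * x⁻¹ * c) = θ.1 (y * c) by
    obtain ⟨u, hu, v, hv, rfl⟩ := exists_mul_of_sup_Ce hG x
    rw [show u * v * y * (u * v)⁻¹ * c = u * (v * y * v⁻¹) * (u⁻¹ * c) by group,
      conj_eq_of_mem_Ce hv hy, mem_Ce.1 hc _ (inv_mem hu), ← θ.2.isCharacter.apply_conj (y * c) u]
    group, Finset.sum_const, Finset.card_univ, ← Nat.card_eq_fintype_card, nsmul_eq_mul,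
    eq_div_iff θ.2.apply_one_ne_zero, mul_assoc, mul_assoc] at h1
  exact mul_left_cancel₀ (card_ne_zero' G) h1

variable [hp : Fact p.Prime]

theorem mem_Ce_of_preg (hP : IsPGroup p P) (hG : P ⊔ Ce P = ⊤) {g : G} (hg : ¬ p ∣ orderOf g) :
    g ∈ Ce P := by
  have := normal_of_sup_Ce hG
  obtain ⟨n, hn⟩ := relIndex_sup_pow hP (le_No_of_normal P (Ce P))
  rw [hG, Subgroup.relIndex_top_right] at hn
  exact mem_of_preg_of_index hn hg

open Classical in
theorem sum_ppart_mem {β : Type*} [AddCommMonoid β] [Fintype G] [Fintype P] (hP : IsPGroup p P)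
    (h : ∀ g, ¬ p ∣ orderOf g → g ∈ Ce P) (F : G → β) :
    (∑ g, if ∃ x ∈ P, IsPPart p g x then F g else 0) =
      ∑ y : P, ∑ s, if p ∣ orderOf s then 0 else F (y * s) := by
  have h1 : ∀ (y : P) (s : G), ¬ p ∣ orderOf s → IsPPart p (y * s) (y : G) := fun y s hs =>
    isPPart_mul (mem_Ce.1 (h s hs) _ y.2) (pelt_of_mem hP y.2) hs
  simp_rw [← ite_not (p ∣ _), ← Finset.sum_filter]
  rw [← Finset.sum_product']
  symm
  refine Finset.sum_bij (fun a _ => (a.1 : G) * a.2) (fun a ha => ?_) (fun a ha b hb hab => ?_)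
    (fun g hg => ?_) fun _ _ => rfl
  · simp only [Finset.mem_product, Finset.mem_filter, Finset.mem_univ, true_and] at ha ⊢
    exact ⟨_, a.1.2, h1 _ _ ha⟩
  · simp only [Finset.mem_product, Finset.mem_filter, Finset.mem_univ, true_and] at ha hb
    have h2 := (h1 _ _ ha).unique (hab ▸ h1 _ _ hb)
    rw [h2, mul_right_inj] at hab
    exact Prod.ext (Subtype.ext h2) hab
  · simp only [Finset.mem_filter, Finset.mem_univ, true_and] at hg
    obtain ⟨x, hx, h2⟩ := hg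
    exact ⟨(⟨x, hx⟩, x⁻¹ * g), by simpa using h2.preg, by simp⟩

open Classical in
/-- Truncation to the elements whose `p`-part lies in `P`. -/
noncomputable def trP (p : ℕ) (P : Subgroup G) (θ : G → ℂ) : G → ℂ :=
  fun g => if ∃ x ∈ P, IsPPart p g x then θ g else 0

theorem trP_eq_self {θ : G → ℂ} (h : ∀ g x, IsPPart p g x → x ∉ P → θ g = 0) : trP p P θ = θ :=
  funext fun g => by
    rw [trP]
    split_ifs with h1
    · rfl
    · obtain ⟨x, hx⟩ := exists_isPPart p g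
      exact (h g x hx fun h2 => h1 ⟨x, h2, hx⟩).symm

theorem classInner_trP [Fintype G] [Fintype P] (hP : IsPGroup p P)
    (h : ∀ g, ¬ p ∣ orderOf g → g ∈ Ce P) {θ φ α β : G → ℂ} {a b : P → ℂ}
    (h1 : ∀ (y : P) s, ¬ p ∣ orderOf s → θ (y * s) = a y * α s)
    (h2 : ∀ (y : P) s, ¬ p ∣ orderOf s → φ (y * s) = b y * β s) :
    classInner (trP p P θ) φ = Nat.card P * classInner a b * classInner (reg p α) β := by
  classical
  simp only [classInner, trP, ite_mul, zero_mul]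
  rw [sum_ppart_mem hP h fun g => θ g * conj (φ g), ← mul_assoc (Nat.card P : ℂ),
    mul_inv_cancel₀ (card_ne_zero' P), one_mul, mul_left_comm, Finset.sum_mul_sum]
  refine congrArg _ (Finset.sum_congr rfl fun y _ => Finset.sum_congr rfl fun s _ => ?_)
  split_ifs with hs
  · rw [reg_of_dvd hs, zero_mul, mul_zero]
  · rw [reg_of_preg hs, h1 y s hs, h2 y s hs, map_mul]; ring

omit hp in
theorem classInner_trP_self_re_le [Fintype G] (χ : IrrCharacter G) :
    (classInner (trP p P χ.1) χ.1).re ≤ 1 ∧ ((classInner (trP p P χ.1) χ.1).re = 1 →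
      ∀ g, (¬ ∃ x ∈ P, IsPPart p g x) → χ.1 g = 0) := by
  classical
  have h1 : classInner (trP p P χ.1) χ.1 = classInner (trP p P χ.1) (trP p P χ.1) := by
    simp only [classInner, trP]
    refine congrArg _ (Finset.sum_congr rfl fun g _ => ?_)
    split_ifs <;> simp
  have h2 : classInner (χ.1 - trP p P χ.1) χ.1 =
      classInner (χ.1 - trP p P χ.1) (χ.1 - trP p P χ.1) := by
    simp only [classInner, trP, Pi.sub_apply]
    refine congrArg _ (Finset.sum_congr rfl fun g _ => ?_)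
    split_ifs <;> simp
  have h3 := congrArg Complex.re h2
  rw [classInner_sub_left, χ.2.classInner_self, Complex.sub_re, Complex.one_re] at h3
  have h4 := classInner_self_re_nonneg (χ.1 - trP p P χ.1)
  refine ⟨by linarith, fun h5 g hg => ?_⟩
  have h6 := congrFun (classInner_self_eq_zero.1 (Complex.ext (show _ = (0 : ℝ) by linarith)
    (classInner_self_im (χ.1 - trP p P χ.1)))) g
  rwa [Pi.sub_apply, trP, if_neg hg, sub_zero] at h6

omit hp in
theorem eq_of_eq_on_section [Fact p.Prime] {θ φ : G → ℂ}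
    (h1 : ∀ g x, IsPPart p g x → x ∉ P → θ g = 0) (h2 : ∀ g x, IsPPart p g x → x ∉ P → φ g = 0)
    (h : ∀ (y : P) s, ¬ p ∣ orderOf s → Commute (y : G) s → θ (y * s) = φ (y * s)) : θ = φ :=
  funext fun g => by
    obtain ⟨x, hx⟩ := exists_isPPart p g
    by_cases h3 : x ∈ P
    · have := h ⟨x, h3⟩ _ hx.preg ((Commute.refl x).inv_right.mul_right hx.commute)
      rwa [mul_inv_cancel_left] at this
    · rw [h1 g x hx h3, h2 g x hx h3]

omit hp in
theorem charDegree_eq_one_of_nu [Fact p.Prime] (hG : IsPGroup p G) {ζ : IrrCharacter G}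
    (h : nu p ζ = 0) : ζ.1 1 = 1 := by
  obtain ⟨n, hn⟩ := hG.exists_card_eq
  obtain ⟨m, -, hm⟩ := (Nat.dvd_prime_pow Fact.out).1 (hn ▸ deg_dvd_card ζ)
  rw [nu, hm, factorization_pow_self] at h
  rw [← cast_deg, hm, h, pow_zero, Nat.cast_one]

omit hp in
theorem charDegree_of_eq {χ : IrrCharacter G} {n : ℕ} (h : χ.1 1 = n) : charDegree χ.1 = n := by
  exact_mod_cast (cast_deg χ).trans h

end

section
variable {G : Type*} [Group G] [Finite G] {M : Ideal AlgInt} {p : ℕ} [PMod M p] {P K : Subgroup G}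
  {B : Set (IrrCharacter G)} {χ θ : IrrCharacter G}

theorem exists_reg_eq_of_rank [Fact p.Prime] (h : blockRank p B = 1) (hχ : χ ∈ B) (hθ : θ ∈ B) :
    reg p χ.1 = (χ.1 1 / θ.1 1) • reg p θ.1 := by
  rw [blockRank_eq] at h
  have h0 : reg p θ.1 1 = θ.1 1 := reg_of_preg preg_one
  obtain ⟨c, hc⟩ := (finrank_eq_one_iff_of_nonzero' (⟨_, reg_mem_regSpan hθ⟩ : regSpan p B)
    (fun h1 => θ.2.apply_one_ne_zero (h0 ▸ congrFun (congrArg Subtype.val h1) 1))).1 h
    ⟨_, reg_mem_regSpan hχ⟩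
  have h1 : c • reg p θ.1 = reg p χ.1 := congrArg Subtype.val hc
  have h2 := congrFun h1 1
  rw [Pi.smul_apply, h0, reg_of_preg preg_one, smul_eq_mul] at h2
  rw [← h1, ← h2, mul_div_cancel_right₀ _ θ.2.apply_one_ne_zero]

theorem apply_eq_of_rank [Fact p.Prime] (h : blockRank p B = 1) (hχ : χ ∈ B) (hθ : θ ∈ B) {s : G}
    (hs : ¬ p ∣ orderOf s) : χ.1 s * θ.1 1 = χ.1 1 * θ.1 s := by
  have h1 := congrFun (exists_reg_eq_of_rank h hχ hθ) s
  rw [Pi.smul_apply, reg_of_preg hs, reg_of_preg hs, smul_eq_mul] at h1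
  rw [h1]; field_simp [θ.2.apply_one_ne_zero]

theorem bar_eq_one_of_pgroup (hG : IsPGroup p G) (hB : IsPBlock M B) : bar M B = 1 :=
  hB.isBlock.eq_one_of_Ce_le (P := ⊤) (hG.of_equiv Subgroup.topEquiv.symm) le_rfl (le_No _) le_top

theorem eq_univ_of_pgroup (hG : IsPGroup p G) (hB : IsPBlock M B) : B = Set.univ :=
  hB.isUB.bar_inj isUB_univ (by rw [bar_eq_one_of_pgroup hG hB, bar_univ])

theorem _root_.Cfsg.IsPBlock.exists_over_pgroup [P.Normal] [Fintype P] (hB : IsPBlock M B)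
    (hP : IsPGroup p P) (ζ : IrrCharacter P) :
    ∃ χ ∈ B, classInner (fun n : P => (χ : G → ℂ) n) (ζ : P → ℂ) ≠ 0 := by
  have hb := isPBlock_blockOf (M := M) ζ
  refine hb.exists_over_of_cover hB.isUB ?_ (mem_blockOf_self ζ)
  rw [barS, bar_eq_one_of_pgroup hP hb, map_one, mul_one]
  exact hB.isBlock.ne

theorem nu_infl {H : Type*} [Group H] [Finite H] {φ : G →* H} (hφ : Function.Surjective φ)
    (p : ℕ) (χ : IrrCharacter H) : nu p (infl hφ χ) = nu p χ := by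
  rw [nu, nu, charDegree_infl]

theorem _root_.Cfsg.IsPBlock.exists_canon [P.Normal] (hB : IsPBlock M B)
    (hD : IsDef p ⊤ (bar M B) P) (h : ∀ g, ¬ p ∣ orderOf g → g ∈ Ce P) :
    ∃ θ ∈ B, P ≤ charKer θ.1 ∧ nu p θ = P.index.factorization p ∧
      (∀ ψ ∈ B, P ≤ charKer ψ.1 → ψ = θ) ∧ blockRank p B = 1 := by
  have := Fact.mk (PMod.prime M)
  have hφ := QuotientGroup.mk'_surjective P
  have hk := QuotientGroup.ker_mk' P
  have hP' : IsPGroup p (QuotientGroup.mk' P).ker := by rw [hk]; exact hD.pg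
  have h1 : ∀ g, ¬ p ∣ orderOf g → g ∈ Ce (QuotientGroup.mk' P).ker := by rwa [hk]
  obtain ⟨χ, h2, h3⟩ := hB.exists_infl_mem hφ hP' hD
  have hb := isPBlock_blockOf (M := M) χ
  rw [(Subgroup.map_eq_bot_iff _).2 hk.ge, ← bar_blockOf,
    ← hb.defect_eq_zero_iff_isDef, hb.defect_eq_zero_iff (mem_blockOf_self χ)] at h3
  have h4 : infl hφ ⁻¹' B = {χ} := by
    rw [← hb.eq_singleton_of_nu (mem_blockOf_self χ) h3]
    ext ξ
    rw [Set.mem_preimage, mem_blockOf, hB.mem_iff, ← hB.blk_eq h2,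
      blk_infl_eq_iff hφ (exists_lift_top_of_preg hφ hP' h1)]
  refine ⟨_, h2, hk.ge.trans (ker_le_charKer_infl hφ χ), by rw [nu_infl, h3]; rfl,
    fun ψ hψ h5 => ?_, ?_⟩
  · obtain ⟨ξ, rfl⟩ := exists_infl_eq hφ (hk.le.trans h5)
    rw [show ξ = χ from h4.le hψ]
  rw [← hB.isUB.blockRank_preimage hφ hP' h1, h4]
  refine le_antisymm ((blockRank_le_card _).trans ?_) (blockRank_pos ⟨χ, rfl⟩)
  rw [← card_fs]; simp

theorem isDef_of_canon [P.Normal] (hP : IsPGroup p P) (h : ∀ g, ¬ p ∣ orderOf g → g ∈ Ce P)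
    (h0 : P ≤ charKer θ.1) (hn : P.index.factorization p ≤ nu p θ) : IsDef p ⊤ (blk M θ) P := by
  have := Fact.mk (PMod.prime M)
  have hφ := QuotientGroup.mk'_surjective P
  have hk := QuotientGroup.ker_mk' P
  have hP' : IsPGroup p (QuotientGroup.mk' P).ker := by rwa [hk]
  have h1 : ∀ g, ¬ p ∣ orderOf g → g ∈ Ce (QuotientGroup.mk' P).ker := by rwa [hk]
  obtain ⟨χ, rfl⟩ := exists_infl_eq hφ (hk.le.trans h0)
  have hB := isPBlock_blockOf (M := M) (infl hφ χ)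
  obtain ⟨D, hD⟩ := hB.isBlock.exists_isDef p
  obtain ⟨ξ, h2, h3⟩ := hB.exists_infl_mem hφ hP' hD
  rw [mem_blockOf, blk_infl_eq_iff hφ (exists_lift_top_of_preg hφ hP' h1)] at h2
  have hb := isPBlock_blockOf (M := M) χ
  have h4 := (hb.defect_eq_zero_iff (mem_blockOf_self χ)).2
    (le_antisymm (nu_le p χ) (by rwa [nu_infl] at hn))
  rw [hb.defect_eq_zero_iff_isDef, bar_blockOf, ← h2] at h4
  have h5 := h3.card_eq h4
  rw [Subgroup.card_bot, Subgroup.card_eq_one, Subgroup.map_eq_bot_iff, hk] at h5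
  rwa [le_antisymm h5 (hB.isBlock.le_of_isDef hD hP le_top (top_le_No P)), bar_blockOf] at hD

theorem _root_.Cfsg.IsPBlock.apply_eq_zero_of_notMem [P.Normal] (hB : IsPBlock M B)
    (hD : IsDef p ⊤ (bar M B) P) (hχ : χ ∈ B) (g x : G) (hx : IsPPart p g x) (h : x ∉ P) :
    χ.1 g = 0 := by_contra fun h1 => h (hB.mem_of_apply_ne_zero hD hχ hx h1)

theorem _root_.Cfsg.IsPBlock.apply_mul_canon [Fintype P] (hB : IsPBlock M B)
    (hD : IsDef p ⊤ (bar M B) P) (hG : P ⊔ Ce P = ⊤) (hθ : θ ∈ B) (h0 : P ≤ charKer θ.1)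
    (hχ : χ ∈ B) {ζ : IrrCharacter P} (h : classInner (fun n : P => χ.1 n) ζ.1 ≠ 0) (y : P)
    {s : G} (hs : ¬ p ∣ orderOf s) : χ.1 (y * s) = ζ.1 y * θ.1 s := by
  have := Fact.mk (PMod.prime M)
  have := Fintype.ofFinite G
  have := normal_of_sup_Ce hG
  have hC := fun g => mem_Ce_of_preg (g := g) hD.pg hG
  obtain ⟨-, -, -, -, -, hl⟩ := hB.exists_canon hD hC
  obtain ⟨e, he⟩ := (χ.2.isCharacter.res P).classInner_eq_nat ζ.2.isCharacter
  have h1 := χ.2.res_eq_smul_of_invariant ζ.2 (invariant_of_sup_Ce hG ζ.2.isClassFunction) h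
  rw [he] at h1
  have h2 : ∀ (y : P) s, ¬ p ∣ orderOf s → χ.1 (y * s) = ζ.1 y * ((e / θ.1 1) • θ.1) s := by
    intro y s hs
    have h3 := irr_mul_of_sup_Ce hG χ y.2 (hC s hs)
    have h4 := apply_eq_of_rank hl hχ hθ hs
    have h5 : χ.1 y = e * ζ.1 y := congrFun h1 y
    have := θ.2.apply_one_ne_zero
    have := χ.2.apply_one_ne_zero
    rw [Pi.smul_apply, smul_eq_mul]
    field_simp
    refine mul_right_cancel₀ this ?_
    linear_combination θ.1 1 * h3 + θ.1 1 * χ.1 s * h5 + e * ζ.1 y * h4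
  have h3 := classInner_trP hD.pg hC h2 h2
  have h4 : ∀ (y : P) s, ¬ p ∣ orderOf s → θ.1 (y * s) = (irrOne P).1 y * θ.1 s :=
    fun y s _ => by rw [mem_charKer.1 (h0 y.2), irrOne_apply, one_mul]
  have h5 := classInner_trP hD.pg hC h4 h4
  rw [trP_eq_self (hB.apply_eq_zero_of_notMem hD hθ), θ.2.classInner_self,
    (irrOne P).2.classInner_self] at h5
  rw [trP_eq_self (hB.apply_eq_zero_of_notMem hD hχ), χ.2.classInner_self, ζ.2.classInner_self,
    reg_smul, classInner_smul_left, classInner_smul_right, ← cast_deg θ, map_div₀,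
    Complex.conj_natCast, Complex.conj_natCast] at h3
  have h6 : (charDegree θ.1 : ℂ) ≠ 0 := Nat.cast_ne_zero.2 (charDegree_ne_zero θ)
  have h7 : (e : ℂ) ^ 2 = (charDegree θ.1 : ℂ) ^ 2 := by
    have : (e : ℂ) ^ 2 / (charDegree θ.1 : ℂ) ^ 2 = 1 := by
      linear_combination (e : ℂ) ^ 2 / (charDegree θ.1 : ℂ) ^ 2 * h5 - h3
    rwa [div_eq_one_iff_eq (pow_ne_zero _ h6)] at this
  have h8 : e = charDegree θ.1 := Nat.pow_left_injective two_ne_zero (by exact_mod_cast h7)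
  rw [h2 y s hs, h8, cast_deg, div_self θ.2.apply_one_ne_zero, one_smul]

theorem _root_.Cfsg.IsPBlock.height_eq_nu_of_sup [Fintype P] (hB : IsPBlock M B)
    (hD : IsDef p ⊤ (bar M B) P) (hG : P ⊔ Ce P = ⊤) (hχ : χ ∈ B) {ζ : IrrCharacter P}
    (h : classInner (fun n : P => χ.1 n) ζ.1 ≠ 0) :
    nu p χ = nu p ζ + P.index.factorization p := by
  have := Fact.mk (PMod.prime M)
  have := normal_of_sup_Ce hG
  obtain ⟨θ, hθ, h1, h2, -⟩ := hB.exists_canon hD fun g => mem_Ce_of_preg hD.pg hG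
  have h3 := hB.apply_mul_canon hD hG hθ h1 hχ h 1 preg_one
  rw [OneMemClass.coe_one, mul_one, ← cast_deg ζ, ← cast_deg θ, ← Nat.cast_mul] at h3
  rw [← h2, nu, charDegree_of_eq h3,
    Nat.factorization_mul (charDegree_ne_zero ζ) (charDegree_ne_zero θ), Finsupp.add_apply]

theorem _root_.Cfsg.IsPBlock.mnu_eq_index (hB : IsPBlock M B) (hD : IsDef p ⊤ (bar M B) P) :
    mnu p B = P.index.factorization p := by
  have := Fact.mk (PMod.prime M)
  have h1 := defect_add_mnu (p := p) hB.nonempty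
  have h2 := factorization_index_add p P
  rw [hB.card_isDef hD, factorization_pow_self] at h2
  omega

theorem _root_.Cfsg.IsPBlock.card_eq_of_sup (hB : IsPBlock M B) (hD : IsDef p ⊤ (bar M B) P)
    (hG : P ⊔ Ce P = ⊤) : Nat.card B = Nat.card (IrrCharacter P) := by
  have := Fact.mk (PMod.prime M)
  have := normal_of_sup_Ce hG
  have := Fintype.ofFinite P
  obtain ⟨θ, hθ, h1, -⟩ := hB.exists_canon hD fun g => mem_Ce_of_preg hD.pg hG
  choose f hf hf' using hB.exists_over_pgroup hD.pg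
  refine (Nat.card_eq_of_bijective (fun ζ => (⟨f ζ, hf ζ⟩ : B)) ⟨fun ζ ζ' h => ?_, fun χ => ?_⟩).symm
  · refine Subtype.ext (funext fun y => mul_right_cancel₀ θ.2.apply_one_ne_zero ?_)
    rw [← hB.apply_mul_canon hD hG hθ h1 (hf ζ) (hf' ζ) y preg_one,
      ← hB.apply_mul_canon hD hG hθ h1 (hf ζ') (hf' ζ') y preg_one,
      show f ζ = f ζ' from congrArg Subtype.val h]
  · obtain ⟨ζ, hζ⟩ := exists_under χ.1 P
    refine ⟨ζ, Subtype.ext (Subtype.ext (eq_of_eq_on_section (hB.apply_eq_zero_of_notMem hD (hf ζ))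
      (hB.apply_eq_zero_of_notMem hD χ.2) fun y s hs _ => ?_))⟩
    rw [hB.apply_mul_canon hD hG hθ h1 (hf ζ) (hf' ζ) y hs,
      hB.apply_mul_canon hD hG hθ h1 χ.2 hζ y hs]

/-- Degrees in a block of `K ≤ P C_G(P)` with defect group `P`. -/
theorem nu_eq_of_le_sup [Fintype P] (hPK : P ≤ K) (hK : K ≤ P ⊔ Ce P) {ψ : IrrCharacter K}
    (hD : IsDef p K (es K (blk M ψ)) P) {ζ : IrrCharacter P}
    (h : classInner (fun n : P => ψ.1 ⟨n, hPK n.2⟩) ζ.1 ≠ 0) :
    nu p ψ = nu p ζ + (P.relIndex K).factorization p := by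
  have := Fintype.ofFinite (P.subgroupOf K)
  have hb := isPBlock_blockOf (M := M) ψ
  have h1 : IsDef p ⊤ (bar M (blockOf M ψ.1)) (P.subgroupOf K) := by
    rwa [bar_blockOf, ← isDef_es_iff, Subgroup.map_subgroupOf_eq_of_le hPK]
  have h2 := hb.height_eq_nu_of_sup h1 (subgroupOf_sup_Ce hPK hK) (mem_blockOf_self ψ)
    (ζ := ⟨_, (isIrr_subgroupOf_iff hPK).2 ζ.2⟩) (by
      rw [← classInner_subgroupOf hPK] at h; exact h)
  rw [h2, nu, nu, charDegree_of_eq (χ := ⟨_, (isIrr_subgroupOf_iff hPK).2 ζ.2⟩) (cast_deg ζ).symm]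
  rfl

theorem IsMP.of_normal [P.Normal] {e : (kk M)[G]} (hB : IsPBlock M B) (hD : IsDef p ⊤ (bar M B) P)
    (he : IsBlock (P ⊔ Ce P) e) (h : bar M B * e ≠ 0) : IsMP p ⊤ (bar M B) P e := by
  have := Fact.mk (PMod.prime M)
  have h1 := hB.isBlock.Br_eq_self hD.pg le_top (top_le_No P)
  have h2 : IsBlock (⊤ ⊓ Ce P) e := (isBlock_sup_iff hD.pg le_top).1 (by rwa [top_inf_eq])
  refine ⟨⟨hD.pg, le_top, h2⟩, hB.isBlock, ?_, hD⟩
  rw [h1]
  refine h2.mul_eq_self_of_ne_zero ?_ hB.isBlock.idem h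
  rw [← h1]
  exact Br_mem_Z_Ce (mem_sup_top _) (inv_anti le_top hB.isBlock.inv)

theorem _root_.Cfsg.IsPBlock.height_eq_nu [P.Normal] [Fintype P] (hB : IsPBlock M B)
    (hD : IsDef p ⊤ (bar M B) P) (hχ : χ ∈ B) {ζ : IrrCharacter P}
    (h : classInner (fun n : P => χ.1 n) ζ.1 ≠ 0) : blockHeight p B χ.1 = nu p ζ := by
  have hp := Fact.mk (PMod.prime M)
  have := Fintype.ofFinite G
  have := Fintype.ofFinite ↥(P ⊔ Ce P)
  obtain ⟨ψ, hψ, h1, h2⟩ := χ.2.isCharacter.exists_between (le_sup_left : P ≤ P ⊔ Ce P) h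
  have h3 := blk_mul_ne_zero (M := M) (θ := ⟨ψ, hψ⟩) h1
  rw [hB.blk_eq hχ] at h3
  have hb := isBlock_es_blk (M := M) (⟨ψ, hψ⟩ : IrrCharacter _)
  have hm := IsMP.of_normal hB hD hb h3
  have h4 := nu_eq_of_le_sup le_sup_left le_rfl
    (hm.isDef_of_le le_sup_left (le_inf le_top (le_No_of_normal _ _)) hb) h2
  obtain ⟨e, he⟩ := (χ.2.isCharacter.res (P ⊔ Ce P)).classInner_eq_nat hψ.isCharacter
  have he0 : e ≠ 0 := fun h0 => h1 (by rw [he, h0, Nat.cast_zero])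
  have h5 := χ.2.classInner_dvd_relIndex hψ he0 he
  have h6 := χ.2.clifford_degree hψ h1
  have h7 := hm.not_dvd_index
  rw [top_inf_eq, top_le_iff.1 (top_le_No P), top_inf_eq] at h7
  have h8 := (isPBlock_blockOf (M := M) (⟨ψ, hψ⟩ : IrrCharacter _)).inertia_le_stab
    (mem_blockOf_self _)
  rw [barS_blockOf] at h8
  have h9 : ¬ p ∣ (P ⊔ Ce P).relIndex (inertia (P ⊔ Ce P) ψ) := fun h0 =>
    h7 (h0.trans (Dvd.intro _ (Subgroup.relIndex_mul_relIndex _ _ _ (le_inertia hψ.isClassFunction) h8)))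
  rw [he, ← hψ.isCharacter.cast_charDegree, ← Nat.cast_mul, ← Nat.cast_mul] at h6
  have h10 := height_add_mnu (p := p) hχ
  have h11 := Subgroup.relIndex_mul_index (le_inertia hψ.isClassFunction)
  have h12 := Subgroup.relIndex_mul_index (le_sup_left : P ≤ P ⊔ Ce P)
  have h13 := Nat.factorization_eq_zero_of_not_dvd fun h0 => h9 (h0.trans h5)
  have h14 := Nat.factorization_eq_zero_of_not_dvd h9
  have hi : ∀ L : Subgroup G, L.index ≠ 0 := fun L => L.index_ne_zero_of_finite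
  have hr : ∀ L L' : Subgroup G, L.relIndex L' ≠ 0 := fun L L' => Subgroup.index_ne_zero_of_finite
  rw [hB.mnu_eq_index hD, nu, charDegree_of_eq h6, ← h12, ← h11,
    Nat.factorization_mul (hr _ _) (mul_ne_zero (hr _ _) (hi _)),
    Nat.factorization_mul (hr _ _) (hi _),
    Nat.factorization_mul (mul_ne_zero he0 (hi _)) (charDegree_ne_zero ⟨ψ, hψ⟩),
    Nat.factorization_mul he0 (hi _)] at h10
  simp only [Finsupp.add_apply, h13, h14] at h10
  change (charDegree ψ).factorization p = _ at h4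
  omega

end

end Cfsg.Agent.Blk
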