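import Cfsg.Prelude.Def_Blocks
import Mathlib.RingTheory.LocalRing.ResidueField.Basic
import Mathlib.FieldTheory.IsAlgClosed.Basic
import Mathlib.Analysis.Complex.Polynomial.Basic
import Mathlib.RingTheory.IntegralClosure.IsIntegral.Basic
import Mathlib.RingTheory.IntegralClosure.IsIntegralClosure.Basic
import Mathlib.Algebra.CharP.Lemmas
import Mathlib.RingTheory.Polynomial.Cyclotomic.Basic

/-!
The local ring `O M` of complex numbers that are local integers at a maximal ideal `M` of the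
algebraic integers, its residue field `kk M`, and the reduction map.
-/

namespace Cfsg.Agent.Blk

open Polynomial

/-- Class version of `IsPModular`, with the prime as an output parameter. -/
class PMod (M : Ideal AlgInt) (p : outParam ℕ) : Prop where
  out : IsPModular p M

instance instIsMaximalOfPMod (M : Ideal AlgInt) (p : ℕ) [h : PMod M p] : M.IsMaximal := h.out.2.1

theorem PMod.prime (M : Ideal AlgInt) {p : ℕ} [h : PMod M p] : p.Prime := h.out.1

theorem PMod.mem (M : Ideal AlgInt) {p : ℕ} [h : PMod M p] : (p : AlgInt) ∈ M := h.out.2.2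

section Basic

variable (M : Ideal AlgInt) [hM : M.IsPrime]

omit hM in
theorem ne_zero_of_notMem {b : AlgInt} (hb : b ∉ M) : (b : ℂ) ≠ 0 := by
  intro h
  apply hb
  have : b = 0 := Subtype.ext h
  rw [this]; exact M.zero_mem

theorem mul_notMem {a b : AlgInt} (ha : a ∉ M) (hb : b ∉ M) : a * b ∉ M := fun h =>
  (hM.mem_or_mem h).elim ha hb

theorem one_notMem : (1 : AlgInt) ∉ M := fun h => hM.ne_top ((Ideal.eq_top_iff_one M).2 h)

/-- The ring of local integers at `M`. -/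
def O : Subring ℂ where
  carrier := {z | MemLocalRing M z}
  mul_mem' := by
    rintro _ _ ⟨a, b, hb, rfl⟩ ⟨c, d, hd, rfl⟩
    exact ⟨a * c, b * d, mul_notMem M hb hd, by push_cast; rw [mul_div_mul_comm]⟩
  one_mem' := ⟨1, 1, one_notMem M, by simp⟩
  add_mem' := by
    rintro _ _ ⟨a, b, hb, rfl⟩ ⟨c, d, hd, rfl⟩
    refine ⟨a * d + b * c, b * d, mul_notMem M hb hd, ?_⟩
    have := ne_zero_of_notMem M hb
    have := ne_zero_of_notMem M hd
    push_cast; field_simp
  zero_mem' := ⟨0, 1, one_notMem M, by simp⟩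
  neg_mem' := by
    rintro _ ⟨a, b, hb, rfl⟩
    exact ⟨-a, b, hb, by push_cast; rw [neg_div]⟩

theorem mem_O {z : ℂ} : z ∈ O M ↔ MemLocalRing M z := Iff.rfl

theorem coe_mem_O (a : AlgInt) : (a : ℂ) ∈ O M := ⟨a, 1, one_notMem M, by simp⟩

theorem mem_O_of_isIntegral {z : ℂ} (hz : IsIntegral ℤ z) : z ∈ O M := coe_mem_O M ⟨z, hz⟩

theorem inv_mem_O {b : AlgInt} (hb : b ∉ M) : (b : ℂ)⁻¹ ∈ O M := ⟨1, b, hb, by simp⟩

variable {M}

omit hM in
theorem _root_.Cfsg.MemLocalIdeal.memRing {z : ℂ} (h : MemLocalIdeal M z) : MemLocalRing M z := by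
  obtain ⟨a, b, -, hb, rfl⟩ := h
  exact ⟨a, b, hb, rfl⟩

theorem LI_mem_O {z : ℂ} (h : MemLocalIdeal M z) : z ∈ O M := h.memRing

theorem LI_zero : MemLocalIdeal M 0 := ⟨0, 1, M.zero_mem, one_notMem M, by simp⟩

theorem LI_add {z w : ℂ} (hz : MemLocalIdeal M z) (hw : MemLocalIdeal M w) :
    MemLocalIdeal M (z + w) := by
  obtain ⟨a, b, ha, hb, rfl⟩ := hz
  obtain ⟨c, d, hc, hd, rfl⟩ := hw
  refine ⟨a * d + b * c, b * d, M.add_mem (M.mul_mem_right _ ha) (M.mul_mem_left _ hc),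
    mul_notMem M hb hd, ?_⟩
  have := ne_zero_of_notMem M hb
  have := ne_zero_of_notMem M hd
  push_cast; field_simp

theorem LI_mul_left {z w : ℂ} (hz : z ∈ O M) (hw : MemLocalIdeal M w) :
    MemLocalIdeal M (z * w) := by
  obtain ⟨a, b, hb, rfl⟩ := hz
  obtain ⟨c, d, hc, hd, rfl⟩ := hw
  exact ⟨a * c, b * d, M.mul_mem_left _ hc, mul_notMem M hb hd, by
    push_cast; rw [mul_div_mul_comm]⟩

theorem LI_mul_right {z w : ℂ} (hz : MemLocalIdeal M z) (hw : w ∈ O M) :
    MemLocalIdeal M (z * w) := by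
  rw [mul_comm]; exact LI_mul_left hw hz

theorem LI_neg {z : ℂ} (hz : MemLocalIdeal M z) : MemLocalIdeal M (-z) := by
  have := LI_mul_left ((O M).neg_mem (O M).one_mem) hz
  simpa using this

theorem LI_neg_iff {z : ℂ} : MemLocalIdeal M (-z) ↔ MemLocalIdeal M z :=
  ⟨fun h => by simpa using LI_neg h, LI_neg⟩

theorem LI_sub {z w : ℂ} (hz : MemLocalIdeal M z) (hw : MemLocalIdeal M w) :
    MemLocalIdeal M (z - w) := by
  rw [sub_eq_add_neg]; exact LI_add hz (LI_neg hw)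

theorem LI_sub_comm {z w : ℂ} : MemLocalIdeal M (z - w) ↔ MemLocalIdeal M (w - z) := by
  rw [← LI_neg_iff, neg_sub]

theorem LI_sum {ι : Type*} (s : Finset ι) (f : ι → ℂ) (h : ∀ i ∈ s, MemLocalIdeal M (f i)) :
    MemLocalIdeal M (∑ i ∈ s, f i) :=
  Finset.sum_induction f _ (fun _ _ => LI_add) LI_zero h

theorem LI_coe_iff {a : AlgInt} : MemLocalIdeal M (a : ℂ) ↔ a ∈ M := by
  constructor
  · rintro ⟨c, d, hc, hd, h⟩
    have hd0 := ne_zero_of_notMem M hd
    have : c = a * d := by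
      apply Subtype.ext
      push_cast
      rw [← h]; field_simp
    rw [this] at hc
    exact (hM.mem_or_mem hc).resolve_right hd
  · intro h
    exact ⟨a, 1, h, one_notMem M, by simp⟩

theorem not_LI_one : ¬ MemLocalIdeal M 1 := by
  intro h
  have : MemLocalIdeal M ((1 : AlgInt) : ℂ) := by simpa using h
  exact one_notMem M (LI_coe_iff.1 this)

theorem ne_zero_of_not_LI {z : ℂ} (h : ¬ MemLocalIdeal M z) : z ≠ 0 := by
  rintro rfl; exact h LI_zero

theorem inv_mem_O_of_not_LI {z : ℂ} (hz : z ∈ O M) (h : ¬ MemLocalIdeal M z) : z⁻¹ ∈ O M := by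
  obtain ⟨a, b, hb, rfl⟩ := hz
  have ha : a ∉ M := fun ha => h ⟨a, b, ha, hb, rfl⟩
  exact ⟨b, a, ha, by rw [inv_div]⟩

theorem not_LI_of_inv_mem_O {z : ℂ} (hz0 : z ≠ 0) (hz : z⁻¹ ∈ O M) : ¬ MemLocalIdeal M z := by
  intro h
  have := LI_mul_left hz h
  rw [inv_mul_cancel₀ hz0] at this
  exact not_LI_one this

theorem not_LI_inv {z : ℂ} (hz : z ∈ O M) (hz0 : z ≠ 0) : ¬ MemLocalIdeal M z⁻¹ :=
  not_LI_of_inv_mem_O (inv_ne_zero hz0) (by simpa using hz)

theorem LI_mul_iff {z w : ℂ} (hz : z ∈ O M) (hw : w ∈ O M) :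
    MemLocalIdeal M (z * w) ↔ MemLocalIdeal M z ∨ MemLocalIdeal M w := by
  constructor
  · intro h
    by_contra hc
    push Not at hc
    have h1 := LI_mul_left (inv_mem_O_of_not_LI hz hc.1) h
    rw [← mul_assoc, inv_mul_cancel₀ (ne_zero_of_not_LI hc.1), one_mul] at h1
    exact hc.2 h1
  · rintro (h | h)
    · exact LI_mul_right h hw
    · exact LI_mul_left hz h

theorem isUnit_iff_not_LI (z : O M) : IsUnit z ↔ ¬ MemLocalIdeal M z := by
  constructor
  · rintro ⟨u, rfl⟩ h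
    have := LI_mul_right h (u⁻¹ : (O M)ˣ).1.2
    rw [← Subring.coe_mul, Units.mul_inv] at this
    exact not_LI_one this
  · intro h
    refine IsUnit.of_mul_eq_one ⟨(z : ℂ)⁻¹, inv_mem_O_of_not_LI z.2 h⟩ ?_
    apply Subtype.ext
    simp [mul_inv_cancel₀ (ne_zero_of_not_LI h)]

instance instIsLocalRingO : IsLocalRing (O M) := by
  apply IsLocalRing.of_nonunits_add
  intro a b ha hb
  rw [mem_nonunits_iff, isUnit_iff_not_LI, not_not] at *
  exact LI_add ha hb

theorem mem_maximalIdeal_iff (z : O M) :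
    z ∈ IsLocalRing.maximalIdeal (O M) ↔ MemLocalIdeal M z := by
  rw [IsLocalRing.mem_maximalIdeal, mem_nonunits_iff, isUnit_iff_not_LI, not_not]

variable (M)

/-- The residue field. -/
abbrev kk : Type := IsLocalRing.ResidueField (O M)

/-- The reduction map on the local ring. -/
noncomputable abbrev res : O M →+* kk M := IsLocalRing.residue (O M)

open Classical in
/-- A complex number as an element of `O M` (junk value `0`). -/
noncomputable def toO (z : ℂ) : O M := if h : z ∈ O M then ⟨z, h⟩ else 0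

/-- Reduction of a complex number (junk value `0` outside `O M`). -/
noncomputable def rd (z : ℂ) : kk M := res M (toO M z)

variable {M}

theorem coe_toO {z : ℂ} (hz : z ∈ O M) : (toO M z : ℂ) = z := by simp [toO, hz]

@[simp] theorem toO_coe (z : O M) : toO M (z : ℂ) = z := by simp [toO]

@[simp] theorem rd_coe (z : O M) : rd M (z : ℂ) = res M z := by simp [rd]

theorem rd_eq {z : ℂ} (hz : z ∈ O M) : rd M z = res M ⟨z, hz⟩ := rd_coe (⟨z, hz⟩ : O M)

theorem res_eq_zero_iff (z : O M) : res M z = 0 ↔ MemLocalIdeal M z := by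
  rw [IsLocalRing.residue_eq_zero_iff, mem_maximalIdeal_iff]

theorem rd_eq_zero_iff {z : ℂ} (hz : z ∈ O M) : rd M z = 0 ↔ MemLocalIdeal M z := by
  rw [rd_eq hz, res_eq_zero_iff]

theorem rd_add {z w : ℂ} (hz : z ∈ O M) (hw : w ∈ O M) : rd M (z + w) = rd M z + rd M w := by
  rw [rd_eq hz, rd_eq hw, ← map_add, rd_eq ((O M).add_mem hz hw)]; rfl

theorem rd_sub {z w : ℂ} (hz : z ∈ O M) (hw : w ∈ O M) : rd M (z - w) = rd M z - rd M w := by
  rw [rd_eq hz, rd_eq hw, ← map_sub, rd_eq ((O M).sub_mem hz hw)]; rfl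

theorem rd_mul {z w : ℂ} (hz : z ∈ O M) (hw : w ∈ O M) : rd M (z * w) = rd M z * rd M w := by
  rw [rd_eq hz, rd_eq hw, ← map_mul, rd_eq ((O M).mul_mem hz hw)]; rfl

theorem rd_neg {z : ℂ} (hz : z ∈ O M) : rd M (-z) = - rd M z := by
  rw [rd_eq hz, ← map_neg, rd_eq ((O M).neg_mem hz)]; rfl

theorem rd_pow {z : ℂ} (hz : z ∈ O M) (n : ℕ) : rd M (z ^ n) = rd M z ^ n := by
  rw [rd_eq hz, ← map_pow, rd_eq ((O M).pow_mem hz n)]; rfl

@[simp] theorem rd_zero : rd M 0 = 0 := by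
  rw [rd_eq (O M).zero_mem]; exact map_zero _

@[simp] theorem rd_one : rd M 1 = 1 := by
  rw [rd_eq (O M).one_mem]; exact map_one _

@[simp] theorem rd_natCast (n : ℕ) : rd M n = n := by
  rw [rd_eq (natCast_mem (O M) n), ← map_natCast (res M)]; rfl

@[simp] theorem rd_intCast (n : ℤ) : rd M n = n := by
  rw [rd_eq (intCast_mem (O M) n), ← map_intCast (res M)]; rfl

theorem rd_sum {ι : Type*} (s : Finset ι) (f : ι → ℂ) (h : ∀ i ∈ s, f i ∈ O M) :
    rd M (∑ i ∈ s, f i) = ∑ i ∈ s, rd M (f i) := by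
  classical
  induction s using Finset.induction_on with
  | empty => simp
  | insert a s ha ih =>
    rw [Finset.sum_insert ha, Finset.sum_insert ha, rd_add (h a (by simp))
      ((O M).sum_mem fun i hi => h i (by simp [hi])), ih fun i hi => h i (by simp [hi])]

theorem rd_eq_iff {z w : ℂ} (hz : z ∈ O M) (hw : w ∈ O M) :
    rd M z = rd M w ↔ MemLocalIdeal M (z - w) := by
  rw [← rd_eq_zero_iff ((O M).sub_mem hz hw), rd_sub hz hw, sub_eq_zero]

theorem rd_inv {z : ℂ} (hz : z ∈ O M) (h : ¬ MemLocalIdeal M z) : rd M z⁻¹ = (rd M z)⁻¹ := by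
  apply eq_inv_of_mul_eq_one_left
  rw [← rd_mul (inv_mem_O_of_not_LI hz h) hz, inv_mul_cancel₀ (ne_zero_of_not_LI h), rd_one]

theorem res_surjective : Function.Surjective (res M) := IsLocalRing.residue_surjective

end Basic

section Maximal

variable {M : Ideal AlgInt} [hM : M.IsMaximal]

theorem exists_algInt_rd_eq (c : kk M) : ∃ a : AlgInt, rd M a = c := by
  obtain ⟨z, rfl⟩ := res_surjective c
  obtain ⟨a, b, hb, hz⟩ := (mem_O M).1 z.2
  obtain ⟨y, i, hi, h⟩ := hM.exists_inv hb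
  refine ⟨a * y, ?_⟩
  rw [← rd_coe, rd_eq_iff (coe_mem_O M _) z.2, ← hz]
  have hb0 := ne_zero_of_notMem M hb
  refine ⟨-(a * i), b, M.neg_mem (M.mul_mem_left _ hi), hb, ?_⟩
  have h' : (y : ℂ) * b + i = 1 := by exact_mod_cast congrArg Subtype.val h
  push_cast
  field_simp
  linear_combination (-(a : ℂ)) * h'

/-- The reduction map on algebraic integers. -/
noncomputable def rdInt (M : Ideal AlgInt) [M.IsMaximal] : AlgInt →+* kk M where
  toFun a := rd M a
  map_one' := by simp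
  map_mul' a b := by push_cast; exact rd_mul (coe_mem_O M a) (coe_mem_O M b)
  map_zero' := by simp
  map_add' a b := by push_cast; exact rd_add (coe_mem_O M a) (coe_mem_O M b)

theorem rdInt_apply (a : AlgInt) : rdInt M a = rd M a := rfl

theorem rdInt_surjective : Function.Surjective (rdInt M) := exists_algInt_rd_eq

instance instIsAlgClosedkk : IsAlgClosed (kk M) := by
  apply IsAlgClosed.of_exists_root
  intro f hf hirr
  obtain ⟨g, hg, hdeg, hgm⟩ := Polynomial.lifts_and_degree_eq_and_monic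
    (f := rdInt M) (p := f) (by
      rw [Polynomial.lifts_iff_coeff_lifts]
      intro n; exact rdInt_surjective _) hf
  have hdeg' : (g.map (algebraMap AlgInt ℂ)).degree ≠ 0 := by
    rw [hgm.degree_map, hdeg]
    exact (Polynomial.degree_pos_of_irreducible hirr).ne'
  obtain ⟨z, hz⟩ := IsAlgClosed.exists_root _ hdeg'
  have hzi : IsIntegral AlgInt z := ⟨g, hgm, by rwa [IsRoot.def, eval_map] at hz⟩
  have hzi' : IsIntegral ℤ z := isIntegral_trans z hzi
  refine ⟨rdInt M ⟨z, hzi'⟩, ?_⟩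
  rw [← hg, eval_map, Polynomial.eval₂_at_apply]
  have : g.eval ⟨z, hzi'⟩ = 0 := by
    apply Subtype.ext
    have h1 : (g.map (algebraMap AlgInt ℂ)).eval (algebraMap AlgInt ℂ ⟨z, hzi'⟩) = 0 := hz
    rw [eval_map, Polynomial.eval₂_at_apply] at h1
    exact h1
  rw [this, map_zero]

end Maximal

section Prime

variable {M : Ideal AlgInt} {p : ℕ} [hM : PMod M p]

theorem LI_p : MemLocalIdeal M (p : ℂ) := by
  have : MemLocalIdeal M ((p : AlgInt) : ℂ) := LI_coe_iff.2 (PMod.mem M)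
  simpa using this

instance instCharPkk : CharP (kk M) p := by
  have hp := PMod.prime M
  have h0 : (p : kk M) = 0 := by
    rw [← rd_natCast, rd_eq_zero_iff (natCast_mem _ _)]; exact LI_p
  exact (CharP.charP_iff_prime_eq_zero hp).2 h0

theorem LI_natCast_iff {n : ℕ} : MemLocalIdeal M (n : ℂ) ↔ p ∣ n := by
  rw [← rd_eq_zero_iff (natCast_mem _ _), rd_natCast, CharP.cast_eq_zero_iff (kk M) p]

theorem LI_intCast_iff {n : ℤ} : MemLocalIdeal M (n : ℂ) ↔ (p : ℤ) ∣ n := by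
  rw [← rd_eq_zero_iff (intCast_mem _ _), rd_intCast, CharP.intCast_eq_zero_iff (kk M) p]

theorem natCast_inv_mem_O {n : ℕ} (h : ¬ p ∣ n) : (n : ℂ)⁻¹ ∈ O M :=
  inv_mem_O_of_not_LI (natCast_mem _ _) (by rwa [LI_natCast_iff])

theorem isUnit_natCast {n : ℕ} (h : ¬ p ∣ n) : IsUnit (n : O M) := by
  rw [isUnit_iff_not_LI]
  simpa [LI_natCast_iff] using h

theorem p_ne_zero (M : Ideal AlgInt) {p : ℕ} [PMod M p] : (p : ℂ) ≠ 0 := by
  exact_mod_cast (PMod.prime M).ne_zero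

/-- `p ^ i / p ^ j` is a local integer iff `j ≤ i`. -/
theorem pow_div_pow_mem_O_iff {i j : ℕ} : (p : ℂ) ^ i / (p : ℂ) ^ j ∈ O M ↔ j ≤ i := by
  have hp := p_ne_zero M
  constructor
  · intro h
    by_contra hlt
    push Not at hlt
    obtain ⟨t, rfl⟩ := Nat.exists_eq_add_of_lt hlt
    have h1 := LI_mul_right (LI_mul_right (LI_p (M := M)) ((O M).pow_mem (natCast_mem (O M) p) t)) h
    have : (p : ℂ) * p ^ t * (p ^ i / p ^ (i + t + 1)) = 1 := by field_simp; ring
    rw [this] at h1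
    exact not_LI_one h1
  · intro h
    obtain ⟨t, rfl⟩ := Nat.exists_eq_add_of_le h
    have : (p : ℂ) ^ (j + t) / p ^ j = p ^ t := by field_simp; ring
    rw [this]; exact (O M).pow_mem (natCast_mem _ _) _

theorem LI_pow_div_pow_iff {i j : ℕ} : MemLocalIdeal M ((p : ℂ) ^ i / (p : ℂ) ^ j) ↔ j < i := by
  have hp := p_ne_zero M
  constructor
  · intro h
    have hle := pow_div_pow_mem_O_iff.1 (LI_mem_O h)
    rcases hle.lt_or_eq with h1 | rfl
    · exact h1
    · rw [div_self (pow_ne_zero _ hp)] at h; exact absurd h not_LI_one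
  · intro h
    obtain ⟨t, rfl⟩ := Nat.exists_eq_add_of_lt h
    have : (p : ℂ) ^ (j + t + 1) / p ^ j = p ^ t * p := by field_simp; ring
    rw [this]; exact LI_mul_left ((O M).pow_mem (natCast_mem _ _) _) LI_p

theorem natCast_eq_pow_mul (M : Ideal AlgInt) {p : ℕ} [PMod M p] {a : ℕ} (ha : a ≠ 0) :
    ∃ u : ℂ, u ∈ O M ∧ ¬ MemLocalIdeal M u ∧ (a : ℂ) = (p : ℂ) ^ a.factorization p * u := by
  refine ⟨(a / p ^ a.factorization p : ℕ), natCast_mem _ _, ?_, ?_⟩
  · rw [LI_natCast_iff]; exact Nat.not_dvd_ordCompl (PMod.prime M) ha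
  · exact_mod_cast (Nat.ordProj_mul_ordCompl_eq_self a p).symm

theorem mul_unit_mem_O_iff {z u : ℂ} (hu : u ∈ O M) (hu' : ¬ MemLocalIdeal M u) :
    z * u ∈ O M ↔ z ∈ O M := by
  refine ⟨fun h => ?_, fun h => (O M).mul_mem h hu⟩
  have := (O M).mul_mem h (inv_mem_O_of_not_LI hu hu')
  rwa [mul_inv_cancel_right₀ (ne_zero_of_not_LI hu')] at this

theorem LI_mul_unit_iff {z u : ℂ} (hu : u ∈ O M) (hu' : ¬ MemLocalIdeal M u) :
    MemLocalIdeal M (z * u) ↔ MemLocalIdeal M z := by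
  refine ⟨fun h => ?_, fun h => LI_mul_right h hu⟩
  have := LI_mul_right h (inv_mem_O_of_not_LI hu hu')
  rwa [mul_inv_cancel_right₀ (ne_zero_of_not_LI hu')] at this

theorem natDiv_eq (M : Ideal AlgInt) {p : ℕ} [PMod M p] {a b : ℕ} (ha : a ≠ 0) (hb : b ≠ 0) :
    ∃ u : ℂ, u ∈ O M ∧ ¬ MemLocalIdeal M u ∧
      (a : ℂ) / b = (p : ℂ) ^ a.factorization p / (p : ℂ) ^ b.factorization p * u := by
  obtain ⟨u, hu, hu', h1⟩ := natCast_eq_pow_mul M ha
  obtain ⟨v, hv, hv', h2⟩ := natCast_eq_pow_mul M hb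
  refine ⟨u * v⁻¹, (O M).mul_mem hu (inv_mem_O_of_not_LI hv hv'), ?_, ?_⟩
  · rw [LI_mul_iff hu (inv_mem_O_of_not_LI hv hv')]
    rintro (h | h)
    · exact hu' h
    · exact not_LI_inv hv (ne_zero_of_not_LI hv') h
  · conv_lhs => rw [h1, h2]
    have := ne_zero_of_not_LI hv'
    have := p_ne_zero M
    field_simp

theorem natDiv_mem_O_iff {a b : ℕ} (ha : a ≠ 0) (hb : b ≠ 0) :
    (a : ℂ) / b ∈ O M ↔ b.factorization p ≤ a.factorization p := by
  obtain ⟨u, hu, hu', h⟩ := natDiv_eq M ha hb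
  rw [h, mul_unit_mem_O_iff hu hu', pow_div_pow_mem_O_iff]

theorem LI_natDiv_iff {a b : ℕ} (ha : a ≠ 0) (hb : b ≠ 0) :
    MemLocalIdeal M ((a : ℂ) / b) ↔ b.factorization p < a.factorization p := by
  obtain ⟨u, hu, hu', h⟩ := natDiv_eq M ha hb
  rw [h, LI_mul_unit_iff hu hu', LI_pow_div_pow_iff]

theorem isIntegral_of_pow_eq_one {z : ℂ} {n : ℕ} (hn : n ≠ 0) (hz : z ^ n = 1) :
    IsIntegral ℤ z :=
  IsIntegral.of_pow (Nat.pos_of_ne_zero hn) (hz ▸ isIntegral_one)

theorem mem_O_of_pow_eq_one (M : Ideal AlgInt) [M.IsPrime] {z : ℂ} {n : ℕ} (hn : n ≠ 0)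
    (hz : z ^ n = 1) : z ∈ O M :=
  mem_O_of_isIntegral M (isIntegral_of_pow_eq_one hn hz)

/-- A `p`-power root of unity reduces to `1`. -/
theorem rd_eq_one_of_pow_eq_one {z : ℂ} {n : ℕ} (hz : z ^ p ^ n = 1) : rd M z = 1 := by
  have hp := PMod.prime M
  have : Fact p.Prime := ⟨hp⟩
  have hzO := mem_O_of_pow_eq_one M (pow_ne_zero n hp.ne_zero) hz
  have h1 : (rd M z) ^ p ^ n = 1 := by rw [← rd_pow hzO, hz, rd_one]
  have h2 : (rd M z - 1) ^ p ^ n = 0 := by rw [sub_pow_char_pow, h1, one_pow, sub_self]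
  exact sub_eq_zero.1 (pow_eq_zero_iff (pow_ne_zero n hp.ne_zero) |>.1 h2)

theorem LI_sub_one_of_pow_eq_one {z : ℂ} {n : ℕ} (hz : z ^ p ^ n = 1) :
    MemLocalIdeal M (z - 1) := by
  have hzO := mem_O_of_pow_eq_one M (pow_ne_zero n (PMod.prime M).ne_zero) hz
  rw [← rd_eq_iff hzO (O M).one_mem, rd_eq_one_of_pow_eq_one hz, rd_one]

/-- A root of unity of order prime to `p` that reduces to `1` is `1`. -/
theorem eq_one_of_LI_sub_one {z : ℂ} {n : ℕ} (hn : ¬ p ∣ n) (hz : z ^ n = 1)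
    (h : MemLocalIdeal M (z - 1)) : z = 1 := by
  have hn0 : n ≠ 0 := by rintro rfl; exact hn (dvd_zero p)
  have hzO := mem_O_of_pow_eq_one M hn0 hz
  by_contra hne
  have h1 : ∑ i ∈ Finset.range n, z ^ i = 0 := by
    have := geom_sum_mul z n
    rw [hz, sub_self] at this
    exact (mul_eq_zero.1 this).resolve_right (sub_ne_zero.2 hne)
  have h2 : rd M z = 1 := by rw [← rd_one (M := M), rd_eq_iff hzO (O M).one_mem]; exact h
  have h3 := congrArg (rd M) h1
  rw [rd_sum _ _ (fun i _ => (O M).pow_mem hzO i)] at h3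
  simp only [rd_pow hzO, h2, one_pow, Finset.sum_const, Finset.card_range, nsmul_eq_mul,
    mul_one, rd_zero] at h3
  exact hn ((CharP.cast_eq_zero_iff (kk M) p n).1 h3)

end Prime

end Cfsg.Agent.Blk
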