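import Cfsg.Agent.Lib.Block.Emb
import Cfsg.Agent.Lib.Block.Ring
import Cfsg.Agent.Lib.Char.Orth

/-!
Characters as linear functionals on `ℂ[G]`, central characters, central idempotents.
-/

namespace Cfsg.Agent.Blk

open MonoidAlgebra Cfsg.Agent.Char
open scoped ComplexConjugate

variable {G H : Type*} [Group G] [Group H]

/-- Linear extension of a function on `G` to the group algebra. -/
noncomputable def ch (χ : G → ℂ) : ℂ[G] →ₗ[ℂ] ℂ :=
  (Finsupp.linearCombination ℂ χ).comp (coeffLinearEquiv ℂ).toLinearMap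

@[simp] theorem ch_single (χ : G → ℂ) (g : G) (c : ℂ) : ch χ (single g c) = c * χ g := by
  simp [ch]

theorem ch_eq_sum [Fintype G] (χ : G → ℂ) (a : ℂ[G]) : ch χ a = ∑ g, a.coeff g * χ g := by
  conv_lhs => rw [eq_sum_single a]
  simp only [map_sum, map_smul, ch_single, one_mul, smul_eq_mul]

theorem ch_one (χ : G → ℂ) : ch χ 1 = χ 1 := by rw [one_def, ch_single, one_mul]

theorem ch_emb (φ : H →* G) (χ : G → ℂ) (a : ℂ[H]) : ch χ (emb φ a) = ch (fun h => χ (φ h)) a := by
  induction a using MonoidAlgebra.induction_linear with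
  | zero => simp
  | add a b ha hb => simp [ha, hb]
  | single g c => simp

theorem ch_add_left (χ ψ : G → ℂ) (a : ℂ[G]) : ch (χ + ψ) a = ch χ a + ch ψ a := by
  induction a using MonoidAlgebra.induction_linear with
  | zero => simp
  | add a b ha hb => simp only [map_add, ha, hb]; ring
  | single g c => simp [mul_add]

theorem ch_smul_left (c : ℂ) (χ : G → ℂ) (a : ℂ[G]) : ch (c • χ) a = c * ch χ a := by
  induction a using MonoidAlgebra.induction_linear with
  | zero => simp
  | add a b ha hb => simp only [map_add, ha, hb]; ring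
  | single g c => simp; ring

theorem ch_zero_left (a : ℂ[G]) : ch (0 : G → ℂ) a = 0 := by
  have := ch_smul_left 0 (0 : G → ℂ) a
  simpa using this

theorem ch_sum_left {ι : Type*} (s : Finset ι) (χ : ι → G → ℂ) (a : ℂ[G]) :
    ch (∑ i ∈ s, χ i) a = ∑ i ∈ s, ch (χ i) a := by
  classical
  induction s using Finset.induction_on with
  | empty => simpa using ch_zero_left a
  | insert i s hi ih => rw [Finset.sum_insert hi, Finset.sum_insert hi, ch_add_left, ih]

theorem ch_mul_comm {χ : G → ℂ} (hχ : IsClassFunction G χ) (a b : ℂ[G]) :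
    ch χ (a * b) = ch χ (b * a) := by
  induction a using MonoidAlgebra.induction_linear with
  | zero => simp
  | add a a' ha ha' => simp only [add_mul, mul_add, map_add, ha, ha']
  | single g c =>
    induction b using MonoidAlgebra.induction_linear with
    | zero => simp
    | add b b' hb hb' => simp only [add_mul, mul_add, map_add, hb, hb']
    | single h d => simp [hχ.apply_mul_comm g h, mul_comm]

theorem ch_cj {χ : G → ℂ} (hχ : IsClassFunction G χ) (x : G) (a : ℂ[G]) :
    ch χ (cj x a) = ch χ a := by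
  rw [cj_eq, ch_mul_comm hχ, ← mul_assoc]; simp [← one_def]

theorem ch_mul_single [Fintype G] (χ : G → ℂ) (a : ℂ[G]) (x : G) :
    ch χ (a * single x 1) = ∑ g, a.coeff g * χ (g * x) := by
  conv_lhs => rw [eq_sum_single a]
  simp only [Finset.sum_mul, map_sum, smul_mul_assoc, map_smul, single_mul_single, ch_single,
    one_mul, smul_eq_mul]

theorem ch_single_mul [Fintype G] (χ : G → ℂ) (a : ℂ[G]) (x : G) :
    ch χ (single x 1 * a) = ∑ g, a.coeff g * χ (x * g) := by
  conv_lhs => rw [eq_sum_single a]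
  simp only [Finset.mul_sum, map_sum, mul_smul_comm, map_smul, single_mul_single, ch_single,
    one_mul, smul_eq_mul]

theorem isClassFunction_coeff {z : ℂ[G]} (hz : z ∈ Z ℂ (⊤ : Subgroup G)) :
    IsClassFunction G z.coeff := fun g h => mem_Z_top.1 hz h g

theorem ofFun_mem_Z [Finite G] {R : Type*} [CommRing R] {f : G → R}
    (hf : ∀ x g, f (x * g * x⁻¹) = f g) : ofFun f ∈ Z R (⊤ : Subgroup G) := mem_Z_top.2 hf

/-- The central character attached to `χ`, on the group algebra. -/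
noncomputable def om (χ : G → ℂ) (z : ℂ[G]) : ℂ := ch χ z / χ 1

theorem om_add (χ : G → ℂ) (a b : ℂ[G]) : om χ (a + b) = om χ a + om χ b := by
  simp [om, add_div]

theorem om_sub (χ : G → ℂ) (a b : ℂ[G]) : om χ (a - b) = om χ a - om χ b := by
  simp [om, sub_div]

theorem om_smul (χ : G → ℂ) (c : ℂ) (a : ℂ[G]) : om χ (c • a) = c * om χ a := by
  simp [om, mul_div_assoc]

theorem om_zero (χ : G → ℂ) : om χ 0 = 0 := by simp [om]

theorem om_sum (χ : G → ℂ) {ι : Type*} (s : Finset ι) (f : ι → ℂ[G]) :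
    om χ (∑ i ∈ s, f i) = ∑ i ∈ s, om χ (f i) := by simp [om, Finset.sum_div]

theorem om_eq_sum [Fintype G] (χ : G → ℂ) (a : ℂ[G]) : om χ a = ∑ g, a.coeff g * χ g / χ 1 := by
  rw [om, ch_eq_sum, Finset.sum_div]

variable [Finite G]

theorem ch_central_mul {χ : G → ℂ} (hχ : IsIrrCharacter G χ) {z : ℂ[G]}
    (hz : z ∈ Z ℂ (⊤ : Subgroup G)) (a : ℂ[G]) : ch χ (z * a) = om χ z * ch χ a := by
  have := Fintype.ofFinite G
  induction a using MonoidAlgebra.induction_linear with
  | zero => simp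
  | add a b ha hb => simp only [mul_add, map_add, ha, hb]
  | single g c =>
    rw [← mul_one c, ← smul_single', mul_smul_comm, map_smul, map_smul, ch_mul_single,
      hχ.sum_mul_apply_mul (isClassFunction_coeff hz), om, ch_eq_sum χ z]
    simp; ring

theorem om_one {χ : G → ℂ} (hχ : IsIrrCharacter G χ) : om χ 1 = 1 := by
  rw [om, ch_one, div_self hχ.apply_one_ne_zero]

theorem om_mul {χ : G → ℂ} (hχ : IsIrrCharacter G χ) {z : ℂ[G]}
    (hz : z ∈ Z ℂ (⊤ : Subgroup G)) (a : ℂ[G]) : om χ (z * a) = om χ z * om χ a := by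
  rw [om, ch_central_mul hχ hz, mul_div_assoc]; rfl

theorem ch_eq_om {χ : G → ℂ} (hχ : IsIrrCharacter G χ) (z : ℂ[G]) : ch χ z = om χ z * χ 1 := by
  rw [om, div_mul_cancel₀ _ hχ.apply_one_ne_zero]

theorem om_algebraMap {χ : G → ℂ} (hχ : IsIrrCharacter G χ) (c : ℂ) :
    om χ (algebraMap ℂ _ c) = c := by
  rw [Algebra.algebraMap_eq_smul_one, om_smul, om_one hχ, mul_one]

/-- The central character as an algebra homomorphism on the centre. -/
noncomputable def omHom {χ : G → ℂ} (hχ : IsIrrCharacter G χ) :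
    Z ℂ (⊤ : Subgroup G) →ₐ[ℂ] ℂ where
  toFun z := om χ z
  map_one' := om_one hχ
  map_mul' z w := om_mul hχ z.2 w
  map_zero' := om_zero χ
  map_add' z w := om_add χ z w
  commutes' := om_algebraMap hχ

omit [Finite G] in
theorem exists_conj_top_iff {g h : G} :
    (∃ x ∈ (⊤ : Subgroup G), x * g * x⁻¹ = h) ↔ IsConj g h := by
  simp [isConj_iff]

theorem ch_cls {χ : G → ℂ} (hχ : IsClassFunction G χ) (g : G) :
    ch χ (cls ℂ ⊤ g) = (Ce1 g).index * χ g := by
  have := Fintype.ofFinite G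
  rw [ch_eq_sum, ← sum_classInd_mul g hχ]
  apply Finset.sum_congr rfl
  intro x _
  rw [coeff_cls, classInd]
  congr 2
  exact propext exists_conj_top_iff

theorem om_cls {χ : G → ℂ} (hχ : IsClassFunction G χ) (g : G) :
    om χ (cls ℂ ⊤ g) = centralChar χ g := by
  rw [om, ch_cls hχ, centralChar]

theorem isIntegral_centralChar {χ : G → ℂ} (hχ : IsIrrCharacter G χ) (g : G) :
    IsIntegral ℤ (centralChar χ g) := by
  rw [← om_cls hχ.isClassFunction]
  have h1 : IsIntegral ℤ (cls ℤ ⊤ g) := Algebra.IsIntegral.isIntegral _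
  have h2 : IsIntegral ℤ (cls ℂ ⊤ g) := by
    rw [← cf_cls (Int.castRingHom ℂ)]
    exact h1.map (cf (Int.castRingHom ℂ)).toIntAlgHom
  have h3 : IsIntegral ℤ (⟨cls ℂ ⊤ g, cls_mem_Z trivial⟩ : Z ℂ (⊤ : Subgroup G)) :=
    (isIntegral_algHom_iff (Z ℂ (⊤ : Subgroup G)).val.toRingHom.toIntAlgHom
      Subtype.val_injective).1 h2
  exact h3.map (omHom hχ).toRingHom.toIntAlgHom

/-- The regular character extracts the coefficient of `1`. -/
theorem sum_degree_mul_ch (a : ℂ[G]) :
    ∑ χ : IrrCharacter G, (χ : G → ℂ) 1 * ch χ a = Nat.card G * a.coeff 1 := by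
  have := Fintype.ofFinite G
  simp only [ch_eq_sum, Finset.mul_sum]
  rw [Finset.sum_comm, Finset.sum_eq_single 1]
  · simp only [mul_left_comm _ (a.coeff 1), ← Finset.mul_sum]
    rw [sum_degree_mul, regChar_one, mul_comm]
  · intro g _ hg
    simp only [mul_left_comm _ (a.coeff g), ← Finset.mul_sum]
    rw [sum_degree_mul, regChar_of_ne hg, mul_zero]
  · simp

theorem coeff_eq_sum_ch (a : ℂ[G]) (g : G) : a.coeff g =
    (Nat.card G : ℂ)⁻¹ * ∑ χ : IrrCharacter G, (χ : G → ℂ) 1 * ch χ (a * single g⁻¹ 1) := by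
  rw [sum_degree_mul_ch, ← mul_assoc, inv_mul_cancel₀ (card_ne_zero' G)]
  simp

theorem eq_of_forall_ch {a b : ℂ[G]}
    (h : ∀ χ : IrrCharacter G, ∀ g, ch χ (a * single g 1) = ch χ (b * single g 1)) : a = b :=
  ext' fun g => by simp only [coeff_eq_sum_ch a, coeff_eq_sum_ch b, h]

theorem Z_ext_om {a b : ℂ[G]} (ha : a ∈ Z ℂ (⊤ : Subgroup G)) (hb : b ∈ Z ℂ (⊤ : Subgroup G))
    (h : ∀ χ : IrrCharacter G, om χ a = om χ b) : a = b :=
  eq_of_forall_ch fun χ g => by rw [ch_central_mul χ.2 ha, ch_central_mul χ.2 hb, h]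

theorem coeff_Z_eq_sum {z : ℂ[G]} (hz : z ∈ Z ℂ (⊤ : Subgroup G)) (g : G) : z.coeff g =
    (Nat.card G : ℂ)⁻¹ * ∑ χ : IrrCharacter G,
      om χ z * ((χ : G → ℂ) 1 * conj ((χ : G → ℂ) g)) := by
  rw [coeff_eq_sum_ch]
  congr 1
  apply Finset.sum_congr rfl
  intro χ _
  rw [ch_central_mul χ.2 hz, ch_single, χ.2.isCharacter.apply_inv]; ring

/-- The trace of `b ↦ a b y⁻¹`, computed in two ways. -/
theorem sum_ch_mul_conj [Fintype G] (a : ℂ[G]) (y : G) :
    ∑ χ : IrrCharacter G, ch χ a * conj ((χ : G → ℂ) y) = ∑ x, a.coeff (x * y * x⁻¹) := by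
  have h1 : ∀ x, a.coeff (x * y * x⁻¹) = (Nat.card G : ℂ)⁻¹ * ∑ χ : IrrCharacter G,
      (χ : G → ℂ) 1 * ∑ g, a.coeff g * (χ : G → ℂ) (x * y⁻¹ * x⁻¹ * g) := by
    intro x
    rw [coeff_eq_sum_ch]
    congr 1
    apply Finset.sum_congr rfl
    intro χ _
    rw [ch_mul_comm χ.2.isClassFunction, ch_single_mul]
    simp [mul_assoc]
  simp only [h1, ← Finset.mul_sum]
  rw [Finset.sum_comm, Finset.mul_sum]
  apply Finset.sum_congr rfl
  intro χ _
  rw [← Finset.mul_sum, Finset.sum_comm]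
  simp only [← Finset.mul_sum, χ.2.sum_conj_mul, ch_eq_sum, χ.2.isCharacter.apply_inv,
    Finset.sum_mul]
  rw [Finset.mul_sum, Finset.mul_sum]
  apply Finset.sum_congr rfl
  intro g _
  have := χ.2.apply_one_ne_zero
  have := card_ne_zero' G
  field_simp

/-! ### Sums of central idempotents -/

open Classical in
theorem finsum_mem_irr {β : Type*} [AddCommMonoid β] (A : Set (IrrCharacter G))
    (f : IrrCharacter G → β) :
    ∑ᶠ χ ∈ A, f χ = ∑ χ : IrrCharacter G, if χ ∈ A then f χ else 0 := by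
  rw [finsum_mem_def, finsum_eq_sum_of_fintype]
  apply Finset.sum_congr rfl
  intro χ _
  simp [Set.indicator_apply]

open Classical in
theorem blockCoeff_eq (A : Set (IrrCharacter G)) (g : G) : blockCoeff A g =
    (Nat.card G : ℂ)⁻¹ * ∑ χ : IrrCharacter G,
      if χ ∈ A then (χ : G → ℂ) 1 * conj ((χ : G → ℂ) g) else 0 := by
  rw [blockCoeff, finsum_mem_irr]

theorem blockCoeff_conj (A : Set (IrrCharacter G)) (x g : G) :
    blockCoeff A (x * g * x⁻¹) = blockCoeff A g := by
  simp only [blockCoeff_eq]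
  congr 1
  apply Finset.sum_congr rfl
  intro χ _
  rw [χ.2.isCharacter.apply_conj]

/-- The sum of the central idempotents of the characters in `A`. -/
noncomputable def fC (A : Set (IrrCharacter G)) : ℂ[G] := ofFun (blockCoeff A)

@[simp] theorem coeff_fC (A : Set (IrrCharacter G)) (g : G) : (fC A).coeff g = blockCoeff A g := rfl

theorem fC_mem (A : Set (IrrCharacter G)) : fC A ∈ Z ℂ (⊤ : Subgroup G) :=
  ofFun_mem_Z (blockCoeff_conj A)

open Classical in
theorem om_fC (A : Set (IrrCharacter G)) (χ : IrrCharacter G) :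
    om χ (fC A) = if χ ∈ A then 1 else 0 := by
  have := Fintype.ofFinite G
  rw [om, ch_eq_sum]
  simp only [coeff_fC, blockCoeff_eq, Finset.mul_sum, Finset.sum_mul]
  rw [Finset.sum_comm, Finset.sum_eq_single χ]
  · have h := χ.2.sum_conj_mul_apply_mul χ.2 1
    simp only [mul_one, if_true] at h
    split_ifs
    · simp only [mul_assoc, ← Finset.mul_sum, h]
      have := χ.2.apply_one_ne_zero
      have := card_ne_zero' G
      field_simp
    · simp
  · intro ψ _ hne
    have h := χ.2.sum_conj_mul_apply_mul ψ.2 1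
    rw [if_neg (fun h1 => hne (Subtype.ext h1.symm))] at h
    simp only [mul_one] at h
    split_ifs
    · simp only [mul_assoc, ← Finset.mul_sum, h, mul_zero]
    · simp
  · simp

theorem om_fC_of_mem {A : Set (IrrCharacter G)} {χ : IrrCharacter G} (h : χ ∈ A) :
    om χ (fC A) = 1 := by rw [om_fC, if_pos h]

theorem om_fC_of_notMem {A : Set (IrrCharacter G)} {χ : IrrCharacter G} (h : χ ∉ A) :
    om χ (fC A) = 0 := by rw [om_fC, if_neg h]

theorem ch_fC_mul_of_mem {A : Set (IrrCharacter G)} {χ : IrrCharacter G} (h : χ ∈ A) (a : ℂ[G]) :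
    ch χ (fC A * a) = ch χ a := by rw [ch_central_mul χ.2 (fC_mem A), om_fC_of_mem h, one_mul]

theorem ch_fC_mul_of_notMem {A : Set (IrrCharacter G)} {χ : IrrCharacter G} (h : χ ∉ A)
    (a : ℂ[G]) : ch χ (fC A * a) = 0 := by
  rw [ch_central_mul χ.2 (fC_mem A), om_fC_of_notMem h, zero_mul]

theorem fC_mul_fC (A B : Set (IrrCharacter G)) : fC A * fC B = fC (A ∩ B) :=
  Z_ext_om ((Z ℂ ⊤).mul_mem (fC_mem A) (fC_mem B)) (fC_mem _) fun χ => by
    rw [om_mul χ.2 (fC_mem A)]
    by_cases h1 : χ ∈ A <;> by_cases h2 : χ ∈ B <;> simp [om_fC, h1, h2]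

theorem fC_idem (A : Set (IrrCharacter G)) : IsIdempotentElem (fC A) := by
  unfold IsIdempotentElem; rw [fC_mul_fC, Set.inter_self]

theorem fC_univ : fC (Set.univ : Set (IrrCharacter G)) = 1 :=
  Z_ext_om (fC_mem _) (Z ℂ ⊤).one_mem fun χ => by rw [om_fC_of_mem (Set.mem_univ _), om_one χ.2]

theorem fC_empty : fC (∅ : Set (IrrCharacter G)) = 0 :=
  Z_ext_om (fC_mem _) (Z ℂ ⊤).zero_mem fun χ => by rw [om_fC_of_notMem (Set.notMem_empty _), om_zero]

theorem fC_compl (A : Set (IrrCharacter G)) : fC Aᶜ = 1 - fC A :=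
  Z_ext_om (fC_mem Aᶜ) (sub_mem (one_mem _) (fC_mem A)) fun χ => by
    rw [om_sub, om_one χ.2]
    by_cases h1 : χ ∈ A
    · rw [om_fC_of_mem h1, om_fC_of_notMem (A := Aᶜ) (fun h => h h1), sub_self]
    · rw [om_fC_of_notMem h1, om_fC_of_mem (A := Aᶜ) h1, sub_zero]

theorem fC_injective : Function.Injective (fC : Set (IrrCharacter G) → ℂ[G]) := by
  intro A B h
  ext χ
  have h1 := om_fC A χ
  rw [h, om_fC] at h1
  by_cases h2 : χ ∈ A <;> by_cases h3 : χ ∈ B <;> simp_all

/-- Every central idempotent is a sum of character idempotents. -/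
theorem eq_fC_of_idem {z : ℂ[G]} (hz : z ∈ Z ℂ (⊤ : Subgroup G)) (hzi : IsIdempotentElem z) :
    z = fC {χ | om χ z = 1} :=
  Z_ext_om hz (fC_mem _) fun χ => by
    have h : IsIdempotentElem (om χ z) := by
      unfold IsIdempotentElem; rw [← om_mul χ.2 hz, hzi.eq]
    rcases IsIdempotentElem.iff_eq_zero_or_one.1 h with h1 | h1
    · rw [om_fC_of_notMem (by simp [h1]), h1]
    · rw [om_fC_of_mem (by simpa using h1), h1]

open Classical in
/-- Evaluating a class function on `fC A * a` picks out the `A`-part. -/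
theorem ch_fC_mul_eq [Fintype G] {θ : G → ℂ} (hθ : IsClassFunction G θ) (A : Set (IrrCharacter G))
    (a : ℂ[G]) : ch θ (fC A * a) =
      ∑ χ : IrrCharacter G, if χ ∈ A then classInner θ χ * ch χ a else 0 := by
  conv_lhs => rw [hθ.eq_sum, ch_sum_left]
  apply Finset.sum_congr rfl
  intro χ _
  rw [ch_smul_left]
  split_ifs with h
  · rw [ch_fC_mul_of_mem h]
  · rw [ch_fC_mul_of_notMem h, mul_zero]

open Classical in
theorem blockPart_eq [Fintype G] (A : Set (IrrCharacter G)) (θ : G → ℂ) (g : G) :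
    blockPart A θ g =
      ∑ χ : IrrCharacter G, if χ ∈ A then classInner θ χ * (χ : G → ℂ) g else 0 := by
  rw [blockPart, finsum_mem_irr]
  simp only [classInner_congr_fintype (Fintype.ofFinite G) inferInstance]

theorem blockPart_eq_ch {θ : G → ℂ} (hθ : IsClassFunction G θ) (A : Set (IrrCharacter G)) (g : G) :
    blockPart A θ g = ch θ (fC A * single g 1) := by
  have := Fintype.ofFinite G
  rw [blockPart_eq, ch_fC_mul_eq hθ]
  simp

open Classical in
/-- The kernel function of a set of characters as a trace. -/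
theorem sum_mul_conj_eq [Fintype G] (A : Set (IrrCharacter G)) (a : ℂ[G]) (y : G) :
    (∑ χ : IrrCharacter G, if χ ∈ A then ch χ a * conj ((χ : G → ℂ) y) else 0) =
      ∑ x, (fC A * a).coeff (x * y * x⁻¹) := by
  rw [← sum_ch_mul_conj]
  apply Finset.sum_congr rfl
  intro χ _
  split_ifs with h
  · rw [ch_fC_mul_of_mem h]
  · rw [ch_fC_mul_of_notMem h, zero_mul]

end Cfsg.Agent.Blk
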