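import Cfsg.Agent.Lib.Block.Wat

set_option autoImplicit false

/-! Alternating sums over normal chains of `p`-subgroups. -/

namespace Cfsg.Agent.Blk

open MonoidAlgebra
open Cfsg.Agent.Char hiding cj cj_mul cj_inv_cj cj_cj_inv sum_cj_eq om
open scoped ComplexConjugate

attribute [local instance] _root_.Classical.propDecidable

section Comb

variable {G : Type*} [Group G] {p : ℕ} {u g : G} {s : Finset (Subgroup G)} {Q T : Subgroup G}

/-- the normal closure of `u` under `T` -/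
def ncl (T : Subgroup G) (u : G) : Subgroup G := Subgroup.closure {x | ∃ t ∈ T, t * u * t⁻¹ = x}

theorem mem_ncl (T : Subgroup G) (u : G) : u ∈ ncl T u :=
  Subgroup.subset_closure ⟨1, T.one_mem, by simp⟩

theorem ncl_le (hu : u ∈ Q) (h : T ≤ No Q) : ncl T u ≤ Q :=
  (Subgroup.closure_le _).2 <| by
    rintro _ ⟨t, ht, rfl⟩
    exact (Subgroup.mem_normalizer_iff.1 (h ht) u).1 hu

theorem cs_ncl (g : G) (T : Subgroup G) (u : G) :
    cs g (ncl T u) = ncl (cs g T) (g * u * g⁻¹) := by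
  rw [ncl, ncl, cs, MonoidHom.map_closure]
  congr 1
  ext x
  constructor
  · rintro ⟨_, ⟨t, ht, rfl⟩, rfl⟩
    exact ⟨g * t * g⁻¹, conj_mem_cs.2 ht, by simp [mul_assoc]⟩
  · rintro ⟨t, ht, rfl⟩
    exact ⟨_, ⟨_, mem_cs.1 ht, rfl⟩, by simp [mul_assoc]⟩

theorem ncl_conj (hg : g ∈ T) : ncl T (g * u * g⁻¹) = ncl T u := by
  rw [ncl, ncl]
  congr 1
  ext x
  constructor
  · rintro ⟨t, ht, rfl⟩
    exact ⟨t * g, T.mul_mem ht hg, by simp [mul_assoc]⟩
  · rintro ⟨t, ht, rfl⟩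
    exact ⟨t * g⁻¹, T.mul_mem ht (T.inv_mem hg), by simp [mul_assoc]⟩

theorem le_No_ncl (T : Subgroup G) (u : G) : T ≤ No (ncl T u) := fun g hg => by
  rw [mem_No, cs_ncl, cs_eq_of_mem hg, ncl_conj hg]

theorem mem_No_ncl (h1 : g ∈ No T) (h2 : g ∈ Ce1 u) : g ∈ No (ncl T u) := by
  rw [mem_No, cs_ncl, mem_No.1 h1, mem_Ce1.1 h2, mul_inv_cancel_right]

theorem mem_No_sup (h : ∀ Q ∈ s, g ∈ No Q) : g ∈ No (s.sup id) :=
  Finset.sup_induction (p := fun Q => g ∈ No Q) (mem_No.2 (cs_bot g))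
    (fun _ h1 _ h2 => No_sup_le _ _ ⟨h1, h2⟩) h

theorem sup_mem_of_chain (h : ∀ Q ∈ s, ∀ R ∈ s, Q ≤ R ∨ R ≤ Q) : s.sup id = ⊥ ∨ s.sup id ∈ s :=
  Finset.sup_induction (p := fun Q => Q = ⊥ ∨ Q ∈ s) (.inl rfl) (by
    rintro a (rfl | h1) b h2
    · rwa [bot_sup_eq]
    · rcases h2 with rfl | h2
      · rw [sup_bot_eq]; exact .inr h1
      · rcases h a h1 b h2 with h3 | h3
        · rw [sup_eq_right.2 h3]; exact .inr h2
        · rw [sup_eq_left.2 h3]; exact .inr h1) fun _ h => .inr h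

/-- the top of the chain together with `u` -/
def Tp (u : G) (s : Finset (Subgroup G)) : Subgroup G := s.sup id ⊔ Subgroup.zpowers u

/-- the largest member of the chain not containing `u` -/
noncomputable def Lw (u : G) (s : Finset (Subgroup G)) : Subgroup G :=
  (s.filter (u ∉ ·)).sup id

/-- the subgroup to be inserted or removed -/
noncomputable def Rr (u : G) (s : Finset (Subgroup G)) : Subgroup G := Lw u s ⊔ ncl (Tp u s) u

/-- the sign reversing involution -/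
noncomputable def flip (u : G) (s : Finset (Subgroup G)) : Finset (Subgroup G) :=
  if Rr u s ∈ s then s.erase (Rr u s) else insert (Rr u s) s

variable (p) in
/-- normal chains of nontrivial `p`-subgroups -/
structure NCh (s : Finset (Subgroup G)) : Prop where
  chain : ∀ Q ∈ s, ∀ R ∈ s, Q ≤ R ∨ R ≤ Q
  pg : ∀ Q ∈ s, Q ≠ ⊥ ∧ IsPGroup p Q
  norm : ∀ Q ∈ s, s.sup id ≤ No Q

/-- the stabilizer of a chain -/
abbrev Ks (s : Finset (Subgroup G)) : Subgroup G := ⨅ Q ∈ s, No Q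

theorem mem_Ks : g ∈ Ks s ↔ ∀ Q ∈ s, g ∈ No Q := by simp [Ks, Subgroup.mem_iInf]

theorem mem_Tp (u : G) (s : Finset (Subgroup G)) : u ∈ Tp u s :=
  Subgroup.mem_sup_right (Subgroup.mem_zpowers u)

theorem mem_Rr (u : G) (s : Finset (Subgroup G)) : u ∈ Rr u s :=
  Subgroup.mem_sup_right (mem_ncl _ u)

theorem Lw_le (u : G) (s : Finset (Subgroup G)) : Lw u s ≤ s.sup id :=
  Finset.sup_mono (Finset.filter_subset _ _)

theorem Rr_le (u : G) (s : Finset (Subgroup G)) : Rr u s ≤ Tp u s :=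
  sup_le ((Lw_le u s).trans le_sup_left) (ncl_le (mem_Tp u s) (le_No _))

theorem mem_No_Lw (h : g ∈ Ks s) : g ∈ No (Lw u s) :=
  mem_No_sup fun Q hQ => mem_Ks.1 h Q (Finset.mem_filter.1 hQ).1

theorem mem_No_Rr (h1 : g ∈ Ks s) (h2 : g ∈ Ce1 u) : g ∈ No (Rr u s) :=
  No_sup_le _ _ ⟨mem_No_Lw h1, mem_No_ncl (No_sup_le _ _
    ⟨mem_No_sup (mem_Ks.1 h1), Ce_le_No _ (by rwa [Ce_zpowers])⟩) h2⟩

theorem Lw_flip (u : G) (s : Finset (Subgroup G)) : Lw u (flip u s) = Lw u s := by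
  have := mem_Rr u s
  rw [Lw, Lw, flip]
  congr 1
  split_ifs
  · rw [Finset.filter_erase, Finset.erase_eq_of_notMem (by simp [this])]
  · rw [Finset.filter_insert, if_neg (by simp [this])]

namespace NCh

theorem sup_pg (h : NCh p s) : IsPGroup p (s.sup id : Subgroup G) := by
  rcases sup_mem_of_chain h.chain with h1 | h1
  · rw [h1]; exact IsPGroup.of_bot
  · exact (h.pg _ h1).2

theorem sup_le_Ks (h : NCh p s) : s.sup id ≤ Ks s := fun _ hg => mem_Ks.2 fun Q hQ => h.norm Q hQ hg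

theorem Tp_le (h : NCh p s) (hu : u ∈ Ks s) : Tp u s ≤ Ks s :=
  sup_le h.sup_le_Ks (Subgroup.zpowers_le.2 hu)

theorem Tp_pg (h : NCh p s) (hp : ∃ k : ℕ, orderOf u = p ^ k) (hu : u ∈ Ks s) :
    IsPGroup p (Tp u s) := by
  rw [Tp, sup_comm]
  exact isPGroup_sup (isPGroup_zpowers hp) h.sup_pg
    (Subgroup.zpowers_le.2 (mem_No_sup (mem_Ks.1 hu)))

theorem Rr_le_of_mem (h : NCh p s) (hu : u ∈ Ks s) (hQ : Q ∈ s) (h1 : u ∈ Q) : Rr u s ≤ Q :=
  sup_le (Finset.sup_le fun R hR => (h.chain R (Finset.mem_filter.1 hR).1 Q hQ).resolve_right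
    fun h2 => (Finset.mem_filter.1 hR).2 (h2 h1))
    (ncl_le h1 fun _ hg => mem_Ks.1 (h.Tp_le hu hg) Q hQ)

theorem Tp_le_No (h : NCh p s) (hu : u ∈ Ks s) : Tp u s ≤ No (Rr u s) := fun _ hg =>
  No_sup_le _ _ ⟨mem_No_Lw (h.Tp_le hu hg), le_No_ncl _ _ hg⟩

variable [Finite G] [Fact p.Prime]

theorem Tp_flip (h : NCh p s) (hp : ∃ k : ℕ, orderOf u = p ^ k) (hu : u ∈ Ks s) :
    Tp u (flip u s) = Tp u s := by
  rw [flip]
  split_ifs with h1
  · refine le_antisymm (sup_le_sup_right (Finset.sup_mono (Finset.erase_subset _ _)) _) ?_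
    by_contra h2
    obtain ⟨H, h3, h4⟩ := Finite.exists_le_maximal (p := fun H => H < Tp u s)
      (a := Tp u (s.erase (Rr u s))) (lt_of_le_not_ge
        (sup_le_sup_right (Finset.sup_mono (Finset.erase_subset _ _)) _) h2)
    have h5 := lt_inf_No (h.Tp_pg hp hu) h4.prop
    have h6 : Tp u s ≤ No H := by
      by_contra h6
      exact h5.not_ge (h4.le_of_ge (lt_of_le_not_ge inf_le_left fun h => h6 (h.trans inf_le_right))
        h5.le)
    have h7 : ∀ Q ∈ s, Q ≠ Rr u s → Q ≤ H := fun Q hQ h7 =>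
      ((Finset.le_sup (f := id) (Finset.mem_erase.2 ⟨h7, hQ⟩)).trans le_sup_left).trans h3
    have h8 : Rr u s ≤ H := sup_le (Finset.sup_le fun Q hQ => h7 Q (Finset.mem_filter.1 hQ).1
      fun h => (Finset.mem_filter.1 hQ).2 (h ▸ mem_Rr u s)) (ncl_le (h3 (mem_Tp _ _)) h6)
    refine h4.prop.not_ge (sup_le (Finset.sup_le fun Q hQ => ?_)
      (Subgroup.zpowers_le.2 (h3 (mem_Tp _ _))))
    by_cases h9 : Q = Rr u s
    exacts [h9 ▸ h8, h7 Q hQ h9]
  · rw [Tp, Finset.sup_insert, sup_assoc]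
    exact sup_eq_right.2 (Rr_le u s)

theorem Rr_flip (h : NCh p s) (hp : ∃ k : ℕ, orderOf u = p ^ k) (hu : u ∈ Ks s) :
    Rr u (flip u s) = Rr u s := by rw [Rr, Rr, h.Tp_flip hp hu, Lw_flip]

theorem flip_flip (h : NCh p s) (hp : ∃ k : ℕ, orderOf u = p ^ k) (hu : u ∈ Ks s) :
    flip u (flip u s) = s := by
  rw [flip, h.Rr_flip hp hu, flip]
  by_cases h1 : Rr u s ∈ s
  · rw [if_pos h1, if_neg (Finset.notMem_erase _ _), Finset.insert_erase h1]
  · rw [if_neg h1, if_pos (Finset.mem_insert_self _ _), Finset.erase_insert h1]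

theorem flip_mem (h : NCh p s) (hp : ∃ k : ℕ, orderOf u = p ^ k) (h1 : u ≠ 1) (hu : u ∈ Ks s) :
    NCh p (flip u s) ∧ u ∈ Ks (flip u s) := by
  have h2 : ∀ Q ∈ flip u s, Q = Rr u s ∨ Q ∈ s := fun Q hQ => by
    rw [flip] at hQ
    split_ifs at hQ
    exacts [.inr (Finset.mem_of_mem_erase hQ), Finset.mem_insert.1 hQ]
  have h3 : ∀ Q ∈ flip u s, Tp u (flip u s) ≤ No Q := fun Q hQ => by
    rw [h.Tp_flip hp hu]
    rcases h2 Q hQ with rfl | h2
    exacts [h.Tp_le_No hu, fun _ hg => mem_Ks.1 (h.Tp_le hu hg) Q h2]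
  have h4 : ∀ Q ∈ s, Q ≤ Rr u s ∨ Rr u s ≤ Q := fun Q hQ => by
    by_cases h : u ∈ Q
    · exact .inr (Rr_le_of_mem ‹_› hu hQ h)
    · exact .inl ((Finset.le_sup (f := id) (Finset.mem_filter.2 ⟨hQ, h⟩)).trans le_sup_left)
  refine ⟨⟨fun Q hQ R hR => ?_, fun Q hQ => ?_, fun Q hQ => le_sup_left.trans (h3 Q hQ)⟩,
    mem_Ks.2 fun Q hQ => h3 Q hQ (mem_Tp _ _)⟩
  · rcases h2 Q hQ with rfl | h5 <;> rcases h2 R hR with rfl | h6
    exacts [.inl le_rfl, (h4 R h6).symm, h4 Q h5, h.chain Q h5 R h6]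
  · rcases h2 Q hQ with rfl | h5
    exacts [⟨fun h => h1 (Subgroup.mem_bot.1 (h ▸ mem_Rr u s)),
      isPGroup_le (h.Tp_pg hp hu) (Rr_le u s)⟩, h.pg Q h5]

theorem Ks_flip (h : NCh p s) (hp : ∃ k : ℕ, orderOf u = p ^ k) (hu : u ∈ Ks s) :
    Ks (flip u s) ⊓ Ce1 u = Ks s ⊓ Ce1 u := by
  have h1 : ∀ s : Finset (Subgroup G), Ks (insert (Rr u s) s) ⊓ Ce1 u = Ks s ⊓ Ce1 u := fun s => by
    ext g
    simp only [Subgroup.mem_inf, mem_Ks, Finset.mem_insert, forall_eq_or_imp]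
    exact ⟨fun h => ⟨h.1.2, h.2⟩, fun h => ⟨⟨mem_No_Rr (mem_Ks.2 h.1) h.2, h.1⟩, h.2⟩⟩
  by_cases h2 : Rr u s ∈ s
  · rw [← h1, h.Rr_flip hp hu, flip, if_pos h2, Finset.insert_erase h2]
  · rw [flip, if_neg h2, h1]

end NCh

theorem sign_flip (u : G) (s : Finset (Subgroup G)) :
    (-1 : ℤ) ^ (flip u s).card = -(-1) ^ s.card := by
  rw [flip]
  split_ifs with h
  · rw [← Finset.card_erase_add_one h, pow_succ]; ring
  · rw [Finset.card_insert_of_notMem h, pow_succ]; ring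

theorem sum_chain_eq_zero [Fintype G] [Fact p.Prime] (hp : ∃ k : ℕ, orderOf u = p ^ k) (h1 : u ≠ 1)
    (F : Subgroup G → Subgroup G → ℤ) :
    ∑ s : Finset (Subgroup G) with NCh p s ∧ u ∈ Ks s,
      (-1 : ℤ) ^ s.card * F (Ks s ⊓ Ce1 u) (Tp u s) = 0 := by
  refine Finset.sum_involution (fun s _ => flip u s) (fun s hs => ?_) (fun s _ _ h => ?_)
    (fun s hs => ?_) fun s hs => ?_
  · obtain ⟨h2, h3⟩ := (Finset.mem_filter.1 hs).2
    rw [h2.Ks_flip hp h3, h2.Tp_flip hp h3, sign_flip]; ring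
  · have := sign_flip u s
    rw [h] at this
    have h2 : ((-1 : ℤ) ^ s.card) ≠ 0 := pow_ne_zero _ (by norm_num)
    omega
  · obtain ⟨h2, h3⟩ := (Finset.mem_filter.1 hs).2
    exact Finset.mem_filter.2 ⟨Finset.mem_univ _, h2.flip_mem hp h1 h3⟩
  · obtain ⟨h2, h3⟩ := (Finset.mem_filter.1 hs).2
    exact h2.flip_flip hp h3

end Comb

section Cnt

variable {G H : Type*} [Group G] [Finite G] [Group H] [Finite H] {M : Ideal AlgInt} {p : ℕ}
  [PMod M p] {φ : H →* G}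

omit [Finite G] in
theorem sum_by_pPart [Fintype G] [Fact p.Prime] [∀ u : G, Fintype (Ce1 u)] (F : G → ℂ) :
    ∑ g, F g = ∑ u with ∃ k : ℕ, orderOf u = p ^ k, ∑ s : Ce1 u, reg p (Ru u F) s := by
  have h1 : ∀ g, F g = ∑ u with ∃ k : ℕ, orderOf u = p ^ k, if IsPPart p g u then F g else 0 :=
    fun g => by
      obtain ⟨x, hx⟩ := exists_isPPart p g
      rw [Finset.sum_eq_single_of_mem x (Finset.mem_filter.2 ⟨Finset.mem_univ _, hx.pelt⟩)
        fun y _ h => if_neg fun hy => h (hy.unique hx), if_pos hx]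
  rw [Finset.sum_congr rfl fun g _ => h1 g, Finset.sum_comm]
  refine Finset.sum_congr rfl fun u hu => ?_
  have hu := (Finset.mem_filter.1 hu).2
  symm
  refine Finset.sum_of_injOn (fun s : Ce1 u => u * s) (fun s _ t _ h => Subtype.ext
    (mul_left_cancel h)) (fun _ _ => Finset.mem_univ _) (fun g _ h => if_neg fun hg => h ?_)
    fun s _ => ?_
  · exact ⟨⟨u⁻¹ * g, mem_Ce1.2 (by rw [mul_assoc, ← hg.commute.eq]; simp)⟩, by simp, by simp⟩
  · by_cases hs : p ∣ orderOf s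
    · rw [reg_of_dvd hs, if_neg fun h => h.preg (by simpa using hs)]
    · rw [reg_of_preg hs, if_pos (isPPart_Ce1 hu hs)]; rfl

theorem IsUB.card_mul_eq [Fintype G] {A : Set (IrrCharacter G)} (hA : IsUB M A) :
    Nat.card G * (fs A).card = ∑ u with ∃ k : ℕ, orderOf u = p ^ k,
      Nat.card (Ce1 u) * blockRank p (locSet M (Ce1 u) A) := by
  have := Fact.mk (PMod.prime M)
  have := fun u : G => Fintype.ofFinite (Ce1 u)
  apply Nat.cast_injective (R := ℂ)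
  have h1 : ∀ χ ∈ fs A, (Nat.card G : ℂ) = ∑ u with ∃ k : ℕ, orderOf u = p ^ k,
      Nat.card (Ce1 u) * classInner (reg p (Ru u χ.1)) (reg p (Ru u χ.1)) := fun χ _ => by
    have h2 := χ.2.classInner_self
    rw [classInner, inv_mul_eq_one₀ (card_ne_zero' G), sum_by_pPart (p := p)] at h2
    rw [h2]
    refine Finset.sum_congr rfl fun u _ => ?_
    rw [classInner, mul_inv_cancel_left₀ (card_ne_zero' _)]
    refine Finset.sum_congr rfl fun s _ => ?_
    by_cases hs : p ∣ orderOf s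
    · simp [reg_of_dvd hs]
    · simp only [reg_of_preg hs]; rfl
  rw [Nat.cast_mul, mul_comm, ← nsmul_eq_mul, ← Finset.sum_const, Finset.sum_congr rfl h1,
    Finset.sum_comm, Nat.cast_sum]
  refine Finset.sum_congr rfl fun u hu => ?_
  have hu := (Finset.mem_filter.1 hu).2
  rw [← Finset.mul_sum, Nat.cast_mul, ← (isUB_locSet _ A).sum_classInner_loc hu,
    ← sum_fs_eq_univ A fun χ hχ => by
    rw [hA.loc_eq_zero_of_notMem hu (isUB_locSet _ A) subset_rfl hχ, classInner_zero_left]]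
  congr 1
  exact Finset.sum_congr rfl fun χ hχ => by rw [hA.loc_locSet hu (mem_fs.1 hχ)]

variable (p) in
/-- the rank of the blocks of `L` below an idempotent -/
noncomputable def rkS (L : Subgroup G) (ε : (kk M)[G]) : ℕ :=
  blockRank p {ξ : IrrCharacter L | lam (es L (blk M ξ)) ε ≠ 0}

theorem IsUB.rkS_emb (hφ : Function.Injective φ) {L : Subgroup G} (hL : φ.range = L)
    {A : Set (IrrCharacter H)} (hA : IsUB M A) : rkS p L (emb φ (bar M A)) = blockRank p A := by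
  subst hL
  rw [← rank_image (MonoidHom.ofInjective hφ) hA, rkS]
  congr 1
  ext ξ
  obtain ⟨χ, rfl⟩ := (irrMap (MonoidHom.ofInjective hφ)).surjective ξ
  rw [(irrMap _).injective.mem_set_image, Set.mem_setOf_eq, blk_irrMap, es, emb_emb,
    show φ.range.subtype.comp (MonoidHom.ofInjective hφ).toMonoidHom = φ from rfl, lam_emb hφ]
  by_cases h : χ ∈ A
  · simp [h, hA.lam_bar_of_mem h]
  · simp [h, hA.lam_bar_of_notMem h]

theorem IsUB.card_mul_sub [Fintype G] (hφ : Function.Injective φ) {A : Set (IrrCharacter H)}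
    (hA : IsUB M A) : (Nat.card H : ℤ) * ((Nat.card A : ℤ) - blockRank p A) =
      ∑ u : G with (∃ k : ℕ, orderOf u = p ^ k) ∧ u ≠ 1, if u ∈ φ.range then
        ((Nat.card (φ.range ⊓ Ce1 u : Subgroup G) * rkS p (φ.range ⊓ Ce1 u)
          (tr (Ce1 u : Set G) (emb φ (bar M A))) : ℕ) : ℤ) else 0 := by
  have := Fintype.ofFinite H
  have h1 : ∀ u : H, (∃ k : ℕ, orderOf u = p ^ k) →
      Nat.card (Ce1 u) * blockRank p (locSet M (Ce1 u) A) =
      Nat.card (φ.range ⊓ Ce1 (φ u) : Subgroup G) * rkS p (φ.range ⊓ Ce1 (φ u))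
        (tr (Ce1 (φ u) : Set G) (emb φ (bar M A))) := fun u hu => by
    have h2 : (φ.comp (Ce1 u).subtype).range = φ.range ⊓ Ce1 (φ u) := by
      rw [MonoidHom.range_comp, Subgroup.range_subtype, MonoidHom.range_eq_map, ← map_inf_Ce1 hφ,
        top_inf_eq]
    have h3 : Function.Injective (φ.comp (Ce1 u).subtype) := hφ.comp (Ce1 u).subtype_injective
    rw [← (isUB_locSet _ A).rkS_emb h3 h2, ← emb_emb, ← h2,
      ← Nat.card_congr (MonoidHom.ofInjective h3).toEquiv, emb_tr hφ]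
    congr 3
    rw [show φ ⁻¹' (Ce1 (φ u) : Set G) = Ce1 u from congrArg SetLike.coe (comap_Ce1_map hφ u),
      tr_Ce1]
    exact barS_locSet_Ce1 hu hA
  have h2 := hA.card_mul_eq (p := p)
  rw [Finset.sum_congr rfl fun u hu => h1 u (Finset.mem_filter.1 hu).2,
    ← Finset.add_sum_erase _ _ (Finset.mem_filter.2 ⟨Finset.mem_univ 1, pelt_one⟩)] at h2
  have h3 : Ce1 (φ 1) = ⊤ := by ext; simp [mem_Ce1]
  rw [h3, inf_top_eq, tr_of_mem_sup (mem_sup_top _), hA.rkS_emb hφ rfl,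
    ← Nat.card_congr (MonoidHom.ofInjective hφ).toEquiv] at h2
  rw [card_fs, mul_sub, sub_eq_iff_eq_add', ← Nat.cast_mul, h2, Nat.cast_add, Nat.cast_mul,
    Nat.cast_sum]
  congr 1
  refine Finset.sum_of_injOn φ hφ.injOn (fun u hu => ?_) (fun g hg h => if_neg ?_)
    fun u _ => (if_pos ⟨u, rfl⟩).symm
  · simpa [orderOf_injective φ hφ, map_eq_one_iff φ hφ, and_comm] using hu
  · rintro ⟨u, rfl⟩
    exact h ⟨u, by simpa [orderOf_injective φ hφ, map_eq_one_iff φ hφ, and_comm] using hg, rfl⟩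

theorem barS_locSet_of_No {K T : Subgroup G} (hT : IsPGroup p T) (h1 : T ≤ K) (h2 : Ce T ≤ K)
    (h3 : K ≤ No T) {A : Set (IrrCharacter G)} (hA : IsUB M A) :
    barS M K (locSet M K A) = Br T (bar M A) := by
  haveI : Fact p.Prime := ⟨PMod.prime M⟩
  have h4 : Br T (bar M A) ∈ Z (kk M) K := Br_mem_Z (inf_le_right.trans h2) le_top h3 (bar_mem A)
  have h5 := Br_idem hT (inv_anti le_top (bar_mem (M := M) A).2) hA.bar_idem
  refine idem_ext (barS_mem _ _) (isUB_locSet _ _).barS_idem h4 h5 fun e he => ?_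
  obtain ⟨ξ, rfl⟩ := exists_es_blk_eq he
  rw [← (isUB_locSet _ _).mem_iffS, ← he.lam_idem_ne_zero_iff h4 h5,
    ← he.lam_tr_eq_Br hT h1 (inf_le_right.trans h2) le_top h3 (bar_mem A)]; rfl

theorem setOf_induced_eq {K T : Subgroup G} (hT : IsPGroup p T) (h1 : T ≤ K) (h2 : Ce T ≤ K)
    (h3 : K ≤ No T) {B : Set (IrrCharacter G)} (hB : IsPBlock M B) :
    {ψ : IrrCharacter K | ∃ β, ψ ∈ β ∧ IsInducedBlock M K β B} = locSet M K B := by
  haveI : Fact p.Prime := ⟨PMod.prime M⟩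
  ext ψ
  refine ⟨fun ⟨β, h4, h5⟩ => h5.subset_locSet h4, fun h => ⟨_, mem_blockOf_self (M := M) ψ, ?_⟩⟩
  have hb := isPBlock_blockOf (M := M) ψ
  obtain ⟨e, he, h4⟩ := exists_ind (H := ⊤) hT h1 (inf_le_right.trans h2) le_top h3 hb.isBlockS
  obtain ⟨B', hB', rfl⟩ := exists_isPBlock_bar_eq he
  have h5 := isInducedBlock_iff.2 ⟨hb, hB', h4⟩
  obtain ⟨χ, hχ⟩ := hB'.nonempty
  rwa [← hB'.eq_of_mem hB hχ ((mem_locSet_iff hB.isUB h5 (mem_blockOf_self ψ)).1 h hχ)]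

theorem IsUB.sum_chain [Fintype G] {A : Set (IrrCharacter G)} (hA : IsUB M A) :
    (Nat.card G : ℤ) * ((Nat.card A : ℤ) - blockRank p A) +
      ∑ s ∈ (Finset.univ.filter (NCh p)).erase (∅ : Finset (Subgroup G)), (-1 : ℤ) ^ s.card *
        ((Nat.card (Ks s) : ℤ) * ((Nat.card (locSet M (Ks s) A) : ℤ) -
          blockRank p (locSet M (Ks s) A))) = 0 := by
  haveI : Fact p.Prime := ⟨PMod.prime M⟩
  let F : G → Finset (Subgroup G) → ℤ := fun u s => if u ∈ Ks s then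
    ((Nat.card (Ks s ⊓ Ce1 u : Subgroup G) * rkS p (Ks s ⊓ Ce1 u) (Br (Tp u s) (bar M A)) : ℕ) : ℤ)
    else 0
  have h1 : ∀ (u : G) (s : Finset (Subgroup G)),
      tr (Ce1 u : Set G) (Br (s.sup id) (bar M A)) = Br (Tp u s) (bar M A) := fun u s => by
    rw [tr_tr, Tp, Br, Ce_sup, Ce_zpowers, Set.inter_comm]; rfl
  have h2 : (Nat.card G : ℤ) * ((Nat.card A : ℤ) - blockRank p A) = (-1 : ℤ) ^ (∅ : Finset
      (Subgroup G)).card * ∑ u : G with (∃ k : ℕ, orderOf u = p ^ k) ∧ u ≠ 1, F u ∅ := by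
    rw [hA.card_mul_sub (φ := MonoidHom.id G) Function.injective_id, Finset.card_empty, pow_zero,
      one_mul]
    refine Finset.sum_congr rfl fun u _ => ?_
    have h3 : (MonoidHom.id G).range = Ks ∅ := by ext; simp [mem_Ks]
    simp only [F, h3, ← h1, emb_id, Finset.sup_empty, Br, Ce_bot, tr_of_mem_sup (mem_sup_top _)]
  rw [h2, Finset.sum_congr rfl fun s hs => show _ = (-1 : ℤ) ^ s.card *
    ∑ u : G with (∃ k : ℕ, orderOf u = p ^ k) ∧ u ≠ 1, F u s by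
      have hs := (Finset.mem_filter.1 (Finset.mem_of_mem_erase hs)).2
      rw [(isUB_locSet _ A).card_mul_sub (Ks s).subtype_injective, Subgroup.range_subtype]
      have h3 := barS_locSet_of_No hs.sup_pg hs.sup_le_Ks (fun g hg => mem_Ks.2 fun Q hQ =>
        Ce_le_No Q (Ce_anti (Finset.le_sup (f := id) hQ) hg))
        (fun g hg => mem_No_sup (mem_Ks.1 hg)) hA
      rw [barS, es] at h3
      simp only [F, h3, h1],
    Finset.add_sum_erase _ (fun s : Finset (Subgroup G) => (-1 : ℤ) ^ s.card *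
      ∑ u : G with (∃ k : ℕ, orderOf u = p ^ k) ∧ u ≠ 1, F u s)
      (Finset.mem_filter.2 ⟨Finset.mem_univ _, by simp, by simp, by simp⟩)]
  simp only [Finset.mul_sum]
  rw [Finset.sum_comm]
  refine Finset.sum_eq_zero fun u hu => ?_
  obtain ⟨h3, h4⟩ := (Finset.mem_filter.1 hu).2
  rw [← sum_chain_eq_zero h3 h4 fun L T => ((Nat.card L * rkS p L (Br T (bar M A)) : ℕ) : ℤ),
    ← Finset.filter_filter, Finset.sum_filter (fun s => u ∈ Ks s)]
  exact Finset.sum_congr rfl fun s _ => by simp only [F, mul_ite, mul_zero]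

end Cnt

end Cfsg.Agent.Blk
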