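import Cfsg.Agent.Lib.Block.PrFree

/-! Blocks with Klein four defect groups. -/

set_option autoImplicit false

namespace Cfsg.Agent.Blk

open MonoidAlgebra
open Cfsg.Agent.Char hiding cj cj_mul cj_inv_cj cj_cj_inv sum_cj_eq om
open scoped ComplexConjugate

variable {G : Type*} [Group G] [Finite G] {M : Ideal AlgInt} [PMod M 2]
  {B : Set (IrrCharacter G)} {P : Subgroup G} {e : (kk M)[G]} {u s : G} {χ : IrrCharacter G}

theorem MP.fa_of_omega_four (h : MP 2 B P e) (hc : P ≤ Ce P)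
    (h4 : Nat.card {v : P // v * v = 1} = 4) :
    FA 2 B P e ∧ (Nat.card (autE P e) = 1 ∨ Nat.card (autE P e) = 3) :=
  have := free_of_omega_four (comm_of_le_Ce hc) h.bp.pg h4 (h.not_dvd_autE hc)
  ⟨⟨h, hc, this.1⟩, this.2⟩

theorem FA.dn_eq_sign (h : FA 2 B P e) (hu : u ∈ P) (h1 : u ≠ 1) (h2 : u * u = 1)
    (hk : Nat.card P < (fs B).card + 3) :
    (fs B).card = Nat.card P ∧
      ∀ χ ∈ B, dn 2 u (sb 2 P e u) χ.1 = 1 ∨ dn 2 u (sb 2 P e u) χ.1 = -1 := by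
  choose d hd using fun χ : IrrCharacter G =>
    (h.nilp_sb hu h1).exists_int_dn h2 χ.2.isCharacter.isGen
  have h3 := h.sum_dn hu h1
  simp only [hd, map_intCast, ← sq] at h3
  have h4 : ∑ χ ∈ fs B, d χ ^ 2 = Nat.card P := by exact_mod_cast h3
  have h5 : ∀ χ ∈ fs B, d χ = 1 ∨ d χ = -1 := fun χ hχ => sq_eq_one_of_sum_le
    (fun χ hχ h0 => h.dn_ne_zero hu h1 (mem_fs.1 hχ) (by rw [hd, h0, Int.cast_zero]))
    (by rw [h4]; exact_mod_cast hk) hχ
  refine ⟨?_, fun χ hχ => by rcases h5 χ (mem_fs.2 hχ) with h | h <;> simp [hd, h]⟩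
  rw [Finset.sum_congr rfl fun χ hχ => show d χ ^ 2 = 1 by
    rcases h5 χ hχ with h | h <;> simp [h]] at h4
  simpa using h4

omit [Finite G] in
theorem le_Ce_of_mul_self (h : ∀ u : P, u * u = 1) : P ≤ Ce P := fun x hx =>
  mem_Ce.2 fun y hy => by
    have h1 : ∀ u ∈ P, u⁻¹ = u := fun u hu =>
      inv_eq_of_mul_eq_one_right (congrArg Subtype.val (h ⟨u, hu⟩))
    rw [← h1 _ (P.mul_mem hy hx), mul_inv_rev, h1 x hx, h1 y hy]

theorem MP.klein (h : MP 2 B P e) (h4 : Nat.card P = 4) (h2 : ∀ u : P, u * u = 1) :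
    FA 2 B P e ∧ (Nat.card (autE P e) = 1 ∨ Nat.card (autE P e) = 3) ∧ (fs B).card = 4 ∧
      blockRank 2 B = Nat.card (autE P e) ∧ ∀ u ∈ P, u ≠ 1 →
      ∀ χ ∈ B, dn 2 u (sb 2 P e u) χ.1 = 1 ∨ dn 2 u (sb 2 P e u) χ.1 = -1 := by
  haveI : Fact (Nat.Prime 2) := ⟨Nat.prime_two⟩
  obtain ⟨hf, he⟩ := h.fa_of_omega_four (le_Ce_of_mul_self h2)
    ((Nat.card_congr (Equiv.subtypeUnivEquiv h2)).trans h4)
  have h1 := hf.card_eq_rank
  have h3 := blockRank_pos (p := 2) h.blk.nonempty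
  have h5 : Nat.card P < (fs B).card + 3 := by
    rw [h4] at h1 ⊢; rcases he with he | he <;> rw [he] at h1 <;> omega
  have h6 := fun u hu h1 => hf.dn_eq_sign hu h1 (congrArg Subtype.val (h2 ⟨u, hu⟩)) h5
  have : Nontrivial P := Finite.one_lt_card_iff_nontrivial.1 (by omega)
  obtain ⟨u, hu⟩ := exists_ne (1 : P)
  have h7 := (h6 u u.2 fun h => hu (Subtype.ext h)).1
  refine ⟨hf, he, h7.trans h4, ?_, fun u hu h1 => (h6 u hu h1).2⟩
  rw [h7, h4] at h1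
  rcases he with he | he <;> rw [he] at h1 ⊢ <;> omega

theorem klein_principal (hP : IsSyl 2 P ⊤) (h4 : Nat.card P = 4) (h2 : ∀ u : P, u * u = 1)
    (hone : ∀ s t : G, orderOf s = 2 → orderOf t = 2 → IsConj s t) :
    Nat.card (autE P (e0 M P)) = 3 := by
  haveI : Fact (Nat.Prime 2) := ⟨Nat.prime_two⟩
  obtain ⟨hf, he, -⟩ := (mp_principal (M := M) hP).klein h4 h2
  refine he.resolve_left fun h1 => ?_
  have := Fintype.ofFinite P
  obtain ⟨a, b, c, hab, hac, hbc⟩ := Fintype.two_lt_card_iff.1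
    (show 2 < Fintype.card P by rw [← Nat.card_eq_fintype_card, h4]; norm_num)
  have key : ∀ u v : P, u ≠ 1 → v ≠ 1 → u = v := fun u v hu hv => by
    have h3 : ∀ u : P, u ≠ 1 → orderOf (u : G) = 2 := fun u hu => by
      rw [Subgroup.orderOf_coe]; exact orderOf_eq_prime ((sq u).trans (h2 u)) hu
    obtain ⟨σ, hσ, rfl⟩ := (hf.fc u v).1
      ((fc_principal_iff hP.pg u.2 v.2).2 (hone _ _ (h3 u hu) (h3 v hv)))
    rw [Subgroup.card_eq_one] at h1
    rw [h1, Subgroup.mem_bot] at hσ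
    rw [hσ, MulAut.one_apply]
  by_cases ha : a = 1
  · exact hbc (key b c (ha ▸ hab.symm) (ha ▸ hac.symm))
  · by_cases hb : b = 1
    · exact hac (key a c ha (hb ▸ hbc.symm))
    · exact hab (key a b ha hb)

end Cfsg.Agent.Blk
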