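import Cfsg.Agent.Lib.Block.BLeon
import Cfsg.Agent.Lib.Block.Klein
import Cfsg.Agent.Lib.Solv.PGrp

/-! Perfect isometries between blocks of Frobenius type. -/

set_option autoImplicit false

namespace Cfsg.Agent.Blk

open MonoidAlgebra
open Cfsg.Agent.Char hiding cj cj_mul cj_inv_cj cj_cj_inv sum_cj_eq om
open scoped ComplexConjugate Classical

section
variable {G H W W' ι : Type*} [Group G] [Finite G] [Group H] [Finite H] [Group W] [Fintype W]
  [Group W'] [Fintype W'] {p : ℕ} {θ : G → ℂ} {S : Finset ι} {a : ι → G → ℂ} {b : ι → H → ℂ}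
  {D : ι → W → ℂ}

theorem isIntegral_avg_gen (hθ : IsGeneralizedCharacter G θ) {x : G} {K : Subgroup G} [Fintype K]
    (hK : K ≤ Ce1 x) : IsIntegral ℤ ((Nat.card K : ℂ)⁻¹ * ∑ u : K, θ (x * u)) := by
  obtain ⟨α, β, h1, h2, rfl⟩ := hθ
  simpa [mul_sub] using (isIntegral_avg h1 hK).sub (isIntegral_avg h2 hK)

theorem isIntegral_div_card [Fact p.Prime] (ha : ∀ i ∈ S, IsGeneralizedCharacter G (a i))
    {c : ι → ℂ} (hc : ∀ i ∈ S, IsIntegral ℤ (c i))
    (h : ∀ x, p ∣ orderOf x → ∑ i ∈ S, a i x * c i = 0) (x : G) :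
    IsIntegral ℤ ((∑ i ∈ S, a i x * c i) / (p : ℂ) ^ (Nat.card (Ce1 x)).factorization p) := by
  by_cases hx : p ∣ orderOf x
  · rw [h x hx, zero_div]; exact isIntegral_zero
  obtain ⟨K, hK⟩ := exists_isSyl p (Ce1 x)
  have := Fintype.ofFinite K
  have h1 := IsIntegral.sum (fun i => ((Nat.card K : ℂ)⁻¹ * ∑ u : K, a i (x * u)) * c i)
    fun i hi => (isIntegral_avg_gen (ha i hi) hK.le).mul (hc i hi)
  simp only [mul_assoc, Finset.sum_mul] at h1
  rw [← Finset.mul_sum, Finset.sum_comm, Finset.sum_eq_single_of_mem 1 (Finset.mem_univ _)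
    fun u _ hu => h _ ?_, hK.card_eq, ← div_eq_inv_mul, Nat.cast_pow, OneMemClass.coe_one,
    mul_one] at h1
  · exact h1
  · have h1 : Commute (u : G) x := mem_Ce1.1 (hK.le u.2)
    rw [← h1.eq]
    exact not_not.1 fun h2 => coe_ne_one hu
      ((isPPart_mul h1 (pelt_of_mem hK.pg u.2) hx).eq_one_iff.2 h2)

theorem Iu_cases [Fintype G] [Fact p.Prime] {u : G} (hu : ∃ k : ℕ, orderOf u = p ^ k)
    {φ : Ce1 u → ℂ} (hφ : IsClassFunction (Ce1 u) φ) (g : G) : Iu p u φ g = 0 ∨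
      ∃ s : Ce1 u, Iu p u φ g = reg p φ s ∧ Nat.card (Ce1 g) = Nat.card (Ce1 s) := by
  obtain ⟨x, hx⟩ := exists_isPPart p g
  by_cases hc : IsConj u x
  · obtain ⟨c, rfl⟩ := isConj_iff.1 hc
    have h1 := hx.conj c⁻¹
    simp only [inv_inv, mul_assoc, inv_mul_cancel_left, inv_mul_cancel, mul_one] at h1
    have h2 : u⁻¹ * (c⁻¹ * (g * c)) ∈ Ce1 u :=
      mem_Ce1.2 ((Commute.refl u).inv_left.mul_left h1.commute.symm)
    have h4 : ¬ p ∣ orderOf (⟨_, h2⟩ : Ce1 u) := by rw [← Subgroup.orderOf_coe]; exact h1.preg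
    have h3 := Iu_apply hu hφ h4
    simp only [mul_inv_cancel_left] at h3
    refine Or.inr ⟨⟨_, h2⟩, by rw [← (isClassFunction_Iu (p := p) u φ).apply_conj' g c, mul_assoc,
      h3, reg_of_preg h4], ?_⟩
    rw [← card_cs c⁻¹, cs_Ce1, ← Subgroup.card_map_of_injective (Ce1 u).subtype_injective,
      map_Ce1_subtype, inv_inv, mul_assoc]
    congr 2
    refine le_antisymm (le_inf h1.Ce1_le h1.Ce1_le_reg) fun y hy => mem_Ce1.2 ?_
    have := (show Commute y u from mem_Ce1.1 hy.1).mul_right (mem_Ce1.1 hy.2)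
    rwa [mul_inv_cancel_left] at this
  · exact Or.inl (Iu_eq_zero hu φ hx hc)

variable (p) in
/-- a family of virtual characters with prescribed generalized decomposition numbers -/
structure PD (S : Finset ι) (a : ι → G → ℂ) (D : ι → W → ℂ) : Prop where
  gen : ∀ i ∈ S, IsGeneralizedCharacter G (a i)
  reg0 : ∀ u, u ≠ 1 → ∀ x, ¬ p ∣ orderOf x → ∑ i ∈ S, a i x * conj (D i u) = 0
  orth : ∀ u v, u ≠ 1 → v ≠ 1 → ∃ n : ℕ, ∑ i ∈ S, D i u * conj (D i v) = n * Nat.card W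
  ex : ∃ (k : ℕ) (Φ : W → G → ℂ), ¬ p ∣ k ∧
    (∀ i ∈ S, ∀ x, p ∣ orderOf x → k * a i x = ∑ u ∈ Finset.univ.erase 1, D i u * Φ u x) ∧
    ∀ u, u ≠ 1 → ∀ x, IsIntegral ℤ (Φ u x) ∧
      IsIntegral ℤ (Nat.card W * Φ u x / (p : ℂ) ^ (Nat.card (Ce1 x)).factorization p)

theorem PD.sep [Fact p.Prime] (ha : PD p S a D) (hb : PD p S b D) {x : G} {y : H}
    (hx : ¬ p ∣ orderOf x) (hy : p ∣ orderOf y) : ∑ i ∈ S, a i x * conj (b i y) = 0 := by
  obtain ⟨k, Φ, h1, h2, -⟩ := hb.ex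
  refine mul_left_cancel₀ (a := (k : ℂ)) (Nat.cast_ne_zero.2 fun h => h1 (h ▸ dvd_zero p)) ?_
  rw [mul_zero, Finset.mul_sum, Finset.sum_congr rfl fun i hi => by
    rw [mul_left_comm, ← Complex.conj_natCast, ← map_mul, h2 i hi y hy, map_sum, Finset.mul_sum],
    Finset.sum_comm]
  refine Finset.sum_eq_zero fun u hu => ?_
  simp only [map_mul, ← mul_assoc, ← Finset.sum_mul]
  rw [ha.reg0 u (Finset.ne_of_mem_erase hu) x hx, zero_mul]

theorem PD.sep' [Fact p.Prime] (ha : PD p S a D) (hb : PD p S b D) {x : G} {y : H}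
    (hx : p ∣ orderOf x) (hy : ¬ p ∣ orderOf y) : ∑ i ∈ S, a i x * conj (b i y) = 0 := by
  simpa [mul_comm] using congrArg conj (hb.sep ha hy hx)

theorem PD.div [hp : Fact p.Prime] (ha : PD p S a D) (hb : PD p S b D) (x : G) (y : H) :
    ∃ k : ℕ, ¬ p ∣ k ∧ IsIntegral ℤ (k * (∑ i ∈ S, a i x * conj (b i y)) /
      (p : ℂ) ^ (Nat.card (Ce1 x)).factorization p) := by
  by_cases hy : p ∣ orderOf y
  swap
  · exact ⟨1, hp.out.not_dvd_one, by simpa using isIntegral_div_card ha.gen (fun i hi =>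
      isIntegral_conj ((hb.gen i hi).isIntegral y)) (fun x hx => ha.sep' hb hx hy) x⟩
  by_cases hx : p ∣ orderOf x
  swap
  · exact ⟨1, hp.out.not_dvd_one, by simpa [ha.sep hb hx hy] using isIntegral_zero⟩
  obtain ⟨k, Φ, h1, h2, h3⟩ := ha.ex
  obtain ⟨l, Ψ, h4, h5, h6⟩ := hb.ex
  refine ⟨k * l, hp.out.not_dvd_mul h1 h4, ?_⟩
  rw [Finset.mul_sum, Finset.sum_congr rfl fun i hi => by
    rw [Nat.cast_mul, mul_mul_mul_comm, ← Complex.conj_natCast l, ← map_mul, h2 i hi x hx,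
      h5 i hi y hy, map_sum, Finset.sum_mul_sum], Finset.sum_comm, Finset.sum_div]
  refine IsIntegral.sum _ fun u hu => ?_
  rw [Finset.sum_comm, Finset.sum_div]
  refine IsIntegral.sum _ fun v hv => ?_
  obtain ⟨n, hn⟩ := ha.orth u v (Finset.ne_of_mem_erase hu) (Finset.ne_of_mem_erase hv)
  convert ((isIntegral_natCast n).mul (h3 u (Finset.ne_of_mem_erase hu) x).2).mul
    (isIntegral_conj (h6 v (Finset.ne_of_mem_erase hv) y).1) using 1
  rw [Finset.sum_congr rfl fun i _ => by rw [map_mul, mul_mul_mul_comm], ← Finset.sum_mul, hn]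
  ring

theorem div_card_mem_O (M : Ideal AlgInt) [PMod M p] {z : ℂ} {k n : ℕ} (hn : n ≠ 0) (hk : ¬ p ∣ k)
    (h : IsIntegral ℤ (k * z / (p : ℂ) ^ n.factorization p)) : z / n ∈ O M := by
  obtain ⟨u, h1, h2, h3⟩ := natCast_eq_pow_mul M hn
  have : (k : ℂ) ≠ 0 := Nat.cast_ne_zero.2 fun h => hk (h ▸ dvd_zero p)
  convert mul_mem (mul_mem (mem_O_of_isIntegral M h) (natCast_inv_mem_O hk))
    (inv_mem_O_of_not_LI h1 h2) using 1
  conv_lhs => rw [h3]
  field_simp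

theorem PD.perfect (M : Ideal AlgInt) [PMod M p] (ha : PD p S a D) (hb : PD p S b D) :
    IsPerfectFun p M fun x y => ∑ i ∈ S, a i x * b i y := fun x y => by
  haveI : Fact p.Prime := ⟨PMod.prime M⟩
  have h0 : ∑ i ∈ S, a i x * b i y = ∑ i ∈ S, a i x * conj (b i y⁻¹) :=
    Finset.sum_congr rfl fun i hi => by rw [(hb.gen i hi).apply_inv, Complex.conj_conj]
  obtain ⟨k, h1, h2⟩ := ha.div hb x y⁻¹
  obtain ⟨l, h3, h4⟩ := hb.div ha y x⁻¹
  beta_reduce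
  refine ⟨h0 ▸ div_card_mem_O M Nat.card_pos.ne' h1 h2, div_card_mem_O M Nat.card_pos.ne' h3 ?_, ?_⟩
  · rwa [Finset.sum_congr rfl fun i hi => by
      rw [(ha.gen i hi).apply_inv, Complex.conj_conj, mul_comm]] at h4
  · rw [h0, IsPRegular, IsPRegular]
    by_cases hx : p ∣ orderOf x <;> by_cases hy : p ∣ orderOf y
    · simp [hx, hy]
    · exact Or.inr (ha.sep' hb hx (by rwa [orderOf_inv]))
    · exact Or.inr (ha.sep hb hx (by rwa [orderOf_inv]))
    · simp [hx, hy]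

theorem PD.reindex {ι' : Type*} (ha : PD p S a D) {S' : Finset ι'} {I : ι' → ι}
    (hI : Set.BijOn I S' S) {s : ι' → ℤ} (hs : ∀ i ∈ S', s i * s i = 1) (κ : W' ≃* W)
    {D' : ι' → W' → ℂ} (h : ∀ i ∈ S', ∀ u, u ≠ 1 → D' i u = s i * D (I i) (κ u)) :
    PD p S' (fun i => (s i : ℂ) • a (I i)) D' := by
  have h0 : ∀ F : ι → ℂ, ∑ i ∈ S', F (I i) = ∑ i ∈ S, F i := fun F =>
    Finset.sum_nbij I hI.mapsTo hI.injOn hI.surjOn fun _ _ => rfl
  have h1 : ∀ i ∈ S', ∀ z w : ℂ, s i * z * conj (s i * w) = z * conj w := fun i hi z w => by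
    rw [map_mul, map_intCast, mul_mul_mul_comm, ← Int.cast_mul, hs i hi, Int.cast_one, one_mul]
  have h2 : ∀ {u}, u ≠ 1 → κ u ≠ 1 := fun hu => κ.map_ne_one_iff.2 hu
  refine ⟨fun i hi => (ha.gen _ (hI.mapsTo hi)).intCast_smul _, fun u hu x hx => ?_,
    fun u v hu hv => ?_, ?_⟩
  · rw [← ha.reg0 _ (h2 hu) x hx, ← h0]
    exact Finset.sum_congr rfl fun i hi => by rw [h i hi u hu]; exact h1 i hi _ _
  · rw [Nat.card_congr κ.toEquiv, Finset.sum_congr rfl fun i hi => by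
      rw [h i hi u hu, h i hi v hv, h1 i hi], h0 fun i => D i (κ u) * conj (D i (κ v))]
    exact ha.orth _ _ (h2 hu) (h2 hv)
  · obtain ⟨k, Φ, h3, h4, h5⟩ := ha.ex
    refine ⟨k, fun u => Φ (κ u), h3, fun i hi x hx => ?_, fun u hu => ?_⟩
    · rw [Pi.smul_apply, smul_eq_mul, mul_left_comm, h4 _ (hI.mapsTo hi) x hx, Finset.mul_sum]
      exact (Finset.sum_equiv κ.toEquiv (by simp) fun u hu => by
        rw [h i hi u (Finset.ne_of_mem_erase hu), mul_assoc]; rfl).symm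
    · rw [Nat.card_congr κ.toEquiv]; exact h5 _ (h2 hu)

end

section
variable {W W' : Type*} [Group W] [Group W'] {E : Subgroup (MulAut W)} {E' : Subgroup (MulAut W')}

/-- transport of linear characters -/
abbrev lmap (κ : W' ≃* W) (l : W' →* ℂˣ) : W →* ℂˣ := l.comp κ.symm.toMonoidHom

theorem lmap_ne_one (κ : W' ≃* W) {l : W' →* ℂˣ} (hl : l ≠ 1) : lmap κ l ≠ 1 := fun h =>
  hl (MonoidHom.ext fun u => by simpa using DFunLike.congr_fun h (κ u))

theorem lmap_lmap (κ : W' ≃* W) (l : W →* ℂˣ) : lmap κ (lmap κ.symm l) = l := by ext; simp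

theorem orb_lmap {κ : W' ≃* W} (h : E'.map (MulAut.congr κ).toMonoidHom = E) {l m : W' →* ℂˣ} :
    Orb E (lmap κ l) (lmap κ m) ↔ Orb E' l m := by
  subst h
  refine ⟨fun ⟨_, ⟨σ, h1, h2⟩, h3⟩ => ⟨σ, h1, MonoidHom.ext fun u => ?_⟩,
    fun ⟨σ, h1, h2⟩ => ⟨_, ⟨σ, h1, rfl⟩, MonoidHom.ext fun u => ?_⟩⟩
  · subst h2; simpa using DFunLike.congr_fun h3 (κ u)
  · simp [← h2]

theorem eta_lmap [Finite W] [Finite W'] {κ : W' ≃* W}
    (h : E'.map (MulAut.congr κ).toMonoidHom = E) (l : W' →* ℂˣ) (u : W') :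
    eta E (lmap κ l) (κ u) = eta E' l u := by
  simp only [eta, Finset.sum_apply]
  refine (Finset.sum_nbij' (lmap κ) (lmap κ.symm) (by simp [orb_lmap h]) (fun m hm => ?_)
    (fun m _ => lmap_lmap κ.symm m) (fun m _ => lmap_lmap κ m) (by simp)).symm
  rw [Finset.mem_filter, ← orb_lmap h, lmap_lmap]
  simpa using hm

theorem aut_eq_of_card [Finite W] {p : ℕ} [hp : Fact p.Prime] (hc : IsCyclic W) (hW : IsPGroup p W)
    {E F : Subgroup (MulAut W)} (h : Nat.card E = Nat.card F) (h1 : Nat.card E ∣ p - 1) :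
    E = F := by
  by_cases h2 : p = 2
  · subst h2
    exact (Subgroup.card_eq_one.1 (Nat.dvd_one.1 h1)).trans
      (Subgroup.card_eq_one.1 (h ▸ Nat.dvd_one.1 h1)).symm
  obtain ⟨n, hn⟩ := hW.exists_card_eq
  have := ZMod.isCyclic_units_of_prime_pow p hp.out h2 n
  rw [← hn] at this
  have := isCyclic_of_surjective _ (IsCyclic.mulAutMulEquiv W).symm.surjective
  exact Solv.eq_of_isCyclic_of_card_eq (C := ⊤) inferInstance le_top le_top h

end

variable {G H : Type*} [Group G] [Finite G] [Group H] [Finite H] {M : Ideal AlgInt} {p : ℕ}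
  [PMod M p] {B : Set (IrrCharacter G)} {P : Subgroup G} [Fintype P] {e : (kk M)[G]}
  {D : IrrCharacter G → P → ℂ} {ε : P → ℂ} {δ : ℤ} {ζ : (P →* ℂˣ) → IrrCharacter G}
  {a : IrrCharacter G → ℤ} {c : Set (IrrCharacter H)} {Q : Subgroup H} [Fintype Q] {f : (kk M)[H]}
  {D' : IrrCharacter H → Q → ℂ} {ε' : Q → ℂ} {δ' : ℤ} {ζ' : (Q →* ℂˣ) → IrrCharacter H}
  {a' : IrrCharacter H → ℤ}

theorem DD.pd (h : DD p B P e D ε δ ζ a) : PD p (fs B) (fun χ => χ.1) D := by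
  haveI : Fact p.Prime := ⟨PMod.prime M⟩
  have := Fintype.ofFinite G
  refine ⟨fun χ _ => χ.2.isGen, fun u hu x hx => ?_, fun u v hu hv => ?_,
    Nat.card (autE P e), fun u => conj (ε u) • Iu p (u : G) (phi p (sb p P e u)),
    h.not_dvd_autE h.comm, fun χ hχ x hx => ?_, fun u hu x => ?_⟩
  · simpa [reg_of_preg hx, mul_comm] using congrFun (h.exd.reg0 u hu) x
  · rw [h.exd.orth u v hu hv]
    split_ifs
    exacts [⟨1, by simp⟩, ⟨0, by simp⟩]
  · rw [mem_fs] at hχ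
    rw [h.eq_reg_add (blockPart_irr_of_mem hχ), Pi.add_apply, reg_of_dvd hx, zero_add,
      Finset.sum_apply, Finset.mul_sum]
    refine Finset.sum_congr (by convert rfl) fun u hu => ?_
    replace hu : u ≠ 1 := by simpa using hu
    rw [h.nF_eq hu, h.loc_eq hχ hu, Iu_smul]
    simp only [Pi.smul_apply, smul_eq_mul]
    rw [mul_inv_cancel_left₀ (card_ne_zero' _)]; ring
  · have h1 := h.isIntegral_conj_ε hu
    have h2 := h.nilp_sb' hu
    simp only [Pi.smul_apply, smul_eq_mul]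
    rcases Iu_cases (h.pelt u.2) (isClassFunction_phi p (sb p P e u)) x with h3 | ⟨s, h3, h4⟩
    · simpa [h3] using isIntegral_zero
    rw [h3, h4, reg_phi, ← h.pow_defect_sb_comm h.comm u.2, mul_left_comm, mul_div_assoc]
    refine ⟨h1.mul ?_, h1.mul ?_⟩
    · by_cases hs : p ∣ orderOf s
      · rw [phi, reg_of_dvd hs]; exact isIntegral_zero
      · rw [phi, reg_of_preg hs]; exact (hz p _).2.isCharacter.isIntegral s
    · have h5 := isGen_pow_reg_irr (p := p) (hz p (sb p P e u))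
      rw [(height_eq_zero_iff h2.hz_mem).1 h2.hz_height] at h5
      simpa [blockDefect, phi] using isIntegral_div_card (p := p) (S := {()}) (fun _ _ => h5) (c := fun _ => 1)
        (fun _ _ => isIntegral_one) (fun x hx => by simp [reg_of_dvd hx]) s

theorem DD.perfect (h : DD p B P e D ε δ ζ a) (h' : DD p c Q f D' ε' δ' ζ' a') (κ : Q ≃* P)
    (hE : (autE Q f).map (MulAut.congr κ).toMonoidHom = autE P e) :
    ∃ I s, IsPerfectIsometry p M c B I s ∧ ∀ η ∈ excSet ζ', s η = δ * δ' := by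
  obtain ⟨τ⟩ : Nonempty (↥(fs c \ excSet ζ') ≃ ↥(fs B \ excSet ζ)) :=
    ⟨Finset.equivOfCardEq (by rw [h.card, h'.card, ← hE,
      Subgroup.card_map_of_injective (MulAut.congr κ).injective])⟩
  obtain ⟨I, h1, h2⟩ : ∃ I : IrrCharacter H → IrrCharacter G,
      (∀ l, l ≠ 1 → I (ζ' l) = ζ (lmap κ l)) ∧ ∀ η : ↥(fs c \ excSet ζ'), I η = τ η := by
    refine ⟨fun η => if h1 : η ∈ excSet ζ' then ζ (lmap κ (mem_excSet.1 h1).choose) else
      if h2 : η ∈ fs c \ excSet ζ' then τ ⟨η, h2⟩ else irrOne G, fun l hl => ?_, fun η => ?_⟩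
    · have h1 := (mem_excSet.1 (EXC.mem_exc ζ' hl)).choose_spec
      simp only [dif_pos (EXC.mem_exc ζ' hl)]
      exact (h.exc.inj _ _ (lmap_ne_one κ h1.1) (lmap_ne_one κ hl)).2
        ((orb_lmap hE).2 ((h'.exc.inj _ _ h1.1 hl).1 h1.2))
    · simp only [dif_neg (Finset.mem_sdiff.1 η.2).2, dif_pos η.2]
  have h3 : Set.BijOn I (excSet ζ') (excSet ζ) := by
    refine ⟨fun η hη => ?_, fun η hη η' hη' h3 => ?_, fun χ hχ => ?_⟩
    · obtain ⟨l, hl, rfl⟩ := mem_excSet.1 hη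
      exact h1 l hl ▸ EXC.mem_exc ζ (lmap_ne_one κ hl)
    · obtain ⟨l, hl, rfl⟩ := mem_excSet.1 hη
      obtain ⟨m, hm, rfl⟩ := mem_excSet.1 hη'
      rw [h1 l hl, h1 m hm, h.exc.inj _ _ (lmap_ne_one κ hl) (lmap_ne_one κ hm), orb_lmap hE] at h3
      exact (h'.exc.inj _ _ hl hm).2 h3
    · obtain ⟨l, hl, rfl⟩ := mem_excSet.1 hχ
      exact ⟨_, EXC.mem_exc ζ' (lmap_ne_one κ.symm hl), by
        rw [h1 _ (lmap_ne_one κ.symm hl), lmap_lmap]⟩
  have h4 : Set.BijOn I (fs c \ excSet ζ' : Finset _) (fs B \ excSet ζ : Finset _) :=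
    ⟨fun η hη => h2 ⟨η, hη⟩ ▸ (τ ⟨η, hη⟩).2, fun η hη η' hη' h4 => congrArg Subtype.val
      (τ.injective (Subtype.ext ((h2 ⟨η, hη⟩).symm.trans (h4.trans (h2 ⟨η', hη'⟩))))),
      fun χ hχ => ⟨_, (τ.symm ⟨χ, hχ⟩).2, by rw [h2, Equiv.apply_symm_apply]⟩⟩
  have h5 : Set.BijOn I c B := by
    rw [h.union, h'.union]
    exact h4.union h3 ((Set.injOn_union (DD.disjoint _ _)).2 ⟨h4.injOn, h3.injOn, fun x hx y hy h5 =>
      Set.disjoint_left.1 (DD.disjoint B ζ) (h4.mapsTo hx) (h5 ▸ h3.mapsTo hy)⟩)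
  have h6 : ∀ η ∈ c, η ∉ excSet ζ' → I η ∈ B ∧ I η ∉ excSet ζ := fun η h6 h7 =>
    DD.mem_nexc.1 (h4.mapsTo (DD.mem_nexc.2 ⟨h6, h7⟩))
  have h7 : ∀ η ∈ c, (if η ∈ excSet ζ' then δ * δ' else a (I η) * a' η) *
      (if η ∈ excSet ζ' then δ * δ' else a (I η) * a' η) = 1 := fun η hη => by
    split_ifs with h7
    · rw [mul_mul_mul_comm, h.δ_sq, h'.δ_sq, one_mul]
    · rw [mul_mul_mul_comm, h.a_sq (h6 η hη h7).1 (h6 η hη h7).2, h'.a_sq hη h7, one_mul]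
  refine ⟨I, fun η => if η ∈ excSet ζ' then δ * δ' else a (I η) * a' η, ⟨h5,
    fun η hη => Int.eq_one_or_neg_one_of_mul_eq_one (h7 η hη), ?_⟩, fun η hη => if_pos hη⟩
  convert (h.pd.reindex (S' := fs c) (I := I) (by rwa [coe_fs, coe_fs]) (fun η hη => h7 η (mem_fs.1 hη)) κ
    fun η hη u hu => ?_).perfect M h'.pd using 1
  · funext x y
    rw [signedBijectionKernel, finsum_mem_irr, fs, Finset.sum_filter]; rfl
  rw [mem_fs] at hη
  split_ifs with h8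
  · obtain ⟨l, hl, rfl⟩ := mem_excSet.1 h8
    rw [h1 l hl, h.D_exc (lmap_ne_one κ hl) (κ.map_ne_one_iff.2 hu), h'.D_exc hl hu, eta_lmap hE,
      ← mul_assoc, ← Int.cast_mul, mul_right_comm, h.δ_sq, one_mul]
  · rw [h.D_nexc (h6 η hη h8).1 (h6 η hη h8).2 (κ.map_ne_one_iff.2 hu), h'.D_nexc hη h8 hu,
      ← Int.cast_mul, mul_right_comm, h.a_sq (h6 η hη h8).1 (h6 η hη h8).2, one_mul]

omit [Fintype P] in
theorem exists_mp_pair {K : Subgroup G} {c : Set (IrrCharacter K)} (hK : No P ≤ K)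
    (hP : IsDefectGroup p M B P) (hc : IsDefectGroup p M c (P.subgroupOf K))
    (h : IsInducedBlock M K c B) : ∃ e : (kk M)[G], MP p B P e ∧ MP p c (P.subgroupOf K) (rs K e) ∧
      (autE (P.subgroupOf K) (rs K e)).map (MulAut.congr
        (Subgroup.subgroupOfEquivOfLe ((le_No P).trans hK))).toMonoidHom = autE P e := by
  haveI : Fact p.Prime := ⟨PMod.prime M⟩
  have h1 := (le_No P).trans hK
  obtain ⟨e, he⟩ := ((h.1.isDefectGroup_subgroupOf_iff h1).1 hc).exists_isMP h.1.isBlockS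
  obtain ⟨h2, h3⟩ := he.pair_of_ind (inf_le_right.trans ((Ce_le_No P).trans hK)) le_top
    h.2.1.isBlock (isInducedBlock_iff.1 h).2.2
  have h4 : e ∈ sup (kk M) K := sup_mono inf_le_left he.bp.blk.sup
  refine ⟨e, ⟨h.2.1, h2, h.2.1.isBlock, h3, h.2.1.isDefectGroup_iff.1 hP⟩,
    ⟨h.1, (isMP_emb_iff K.subtype_injective).1 ?_⟩, Subgroup.ext fun σ => ?_⟩
  · rwa [top_map_subtype, Subgroup.map_subgroupOf_eq_of_le h1, ← es, ← barS, es_rs_of_mem h4]
  · have h5 : ∀ t : K, t ∈ stab (⊤ ⊓ No (P.subgroupOf K)) (rs K e) ↔ (t : G) ∈ stab (⊤ ⊓ No P) e :=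
      fun t => by
        rw [mem_stab, mem_stab, top_inf_eq, top_inf_eq, ← comap_No_map K.subtype_injective,
          Subgroup.map_subgroupOf_eq_of_le h1, ← (emb_injective K.subtype_injective).eq_iff, emb_cj,
          ← es, es_rs_of_mem h4]; rfl
    refine ⟨fun ⟨τ, h6, h7⟩ => ?_, fun h6 => ?_⟩
    · obtain ⟨t, h8, h9⟩ := mem_autE.1 h6
      exact mem_autE.2 ⟨t, (h5 t).1 h8, fun u => h7 ▸ congrArg Subtype.val (h9 _)⟩
    · obtain ⟨t, h8, h9⟩ := mem_autE.1 h6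
      exact ⟨(MulAut.congr (Subgroup.subgroupOfEquivOfLe h1)).symm σ, mem_autE.2
        ⟨⟨t, hK h8.1.2⟩, (h5 _).2 h8, fun u => Subtype.ext (h9 _)⟩, MulEquiv.apply_symm_apply _ _⟩

theorem exists_gen_klein {W : Type*} [Group W] [Fintype W] (hc : ∀ a b : W, a * b = b * a)
    (h4 : Nat.card W = 4) (h2 : ∀ u : W, u * u = 1) {d : W → ℂ}
    (h : ∀ u, u ≠ 1 → d u = 1 ∨ d u = -1) :
    ∃ f, IsGeneralizedCharacter W f ∧ ∀ u, u ≠ 1 → f u = d u := by
  refine ⟨(∑ u with d u = 1 ∧ u ≠ 1, ∑ l : W →* ℂˣ with l u = 1, lc l) - fun _ => 1,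
    (IsGeneralizedCharacter.sum fun _ _ => IsGeneralizedCharacter.sum fun l _ =>
      (isIrr_lc l).isGen).sub isCharacter_one.isGen, fun v hv => ?_⟩
  have h1 : ∀ u : W, ∑ l : W →* ℂˣ with l u = 1, (l v : ℂ) = if u = v then 2 else 0 := fun u => by
    have h3 : ∀ l : W →* ℂˣ, (if l u = 1 then (l v : ℂ) else 0) = (l v + l (u * v)) / 2 := fun l => by
      rcases mul_self_eq_one_iff.1 (show (l u : ℂ) * l u = 1 by
        rw [← Units.val_mul, ← map_mul, h2, map_one, Units.val_one]) with h | h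
      · simp [Units.val_eq_one.1 h]
      · rw [if_neg fun h3 => by norm_num [h3] at h]; simp [h]
    rw [Finset.sum_filter, Finset.sum_congr rfl fun l _ => h3 l, ← Finset.sum_div,
      Finset.sum_add_distrib, sum_lc hc, sum_lc hc, if_neg hv, h4, mul_eq_one_iff_eq_inv,
      inv_eq_of_mul_eq_one_right (h2 v)]
    split_ifs <;> norm_num
  simp only [Pi.sub_apply, Finset.sum_apply, lc_apply, h1, Finset.sum_ite_eq', Finset.mem_filter]
  rcases h v hv with h | h <;> norm_num [h, hv]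

theorem MP.exists_dd_klein {M : Ideal AlgInt} [PMod M 2] {e : (kk M)[G]} (h : MP 2 B P e)
    (h4 : Nat.card P = 4) (h2 : ∀ u : P, u * u = 1) :
    ∃ D δ ζ a, DD 2 B P e D (fun _ => 1) δ ζ a := by
  obtain ⟨hf, -, -, h5, h6⟩ := h.klein h4 h2
  choose! D h7 h8 using fun (χ : IrrCharacter G) (hχ : χ ∈ B) => exists_gen_klein hf.comm' h4 h2
    (d := fun u => dn 2 (u : G) (sb 2 P e u) χ.1) fun u hu => h6 u u.2 (coe_ne_one hu) χ hχ
  have h9 : ∀ χ ∈ B, ∀ u : P, u ≠ 1 → D χ u = 1 * dn 2 (u : G) (sb 2 P e u) χ.1 := by simpa using h8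
  obtain ⟨δ, ζ, a, h10, -⟩ := hf.exists_dd (ε := fun _ => 1) (fun h => by simp [h] at h4) h9
    (by simp) (hf.exd h9 (by simp) h7 (by simp)) h5 h.blk.nonempty.choose_spec
  exact ⟨D, δ, ζ, a, h10⟩

end Cfsg.Agent.Blk
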