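import Cfsg.Agent.Lib.Block.Sub

/-!
Block induction, Brauer's first main theorem, orbit sums and covering (abstract form).
-/

namespace Cfsg.Agent.Blk

open MonoidAlgebra

variable {G : Type*} [Group G] {k : Type*} [Field k] {p : ℕ}

theorem tr_tr_of_le {R : Type*} [CommRing R] {K L : Subgroup G} (h : K ≤ L) (a : R[G]) :
    tr (K : Set G) (tr (L : Set G) a) = tr (K : Set G) a := by
  rw [tr_tr, Set.inter_eq_left.2 (by exact h)]

theorem Br_tr {R : Type*} [CommRing R] {L K P : Subgroup G} (h : L ⊓ Ce P ≤ K) {a : R[G]}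
    (ha : a ∈ sup R L) : Br P (tr (K : Set G) a) = Br P a := by
  classical
  refine ext' fun g => ?_
  rw [coeff_tr, coeff_tr, coeff_tr]
  split_ifs with h1 h2
  · rfl
  · exact (mem_sup.1 ha g fun h3 => h2 (h ⟨h3, h1⟩)).symm
  · rfl

theorem Br_tr_comm {R : Type*} [CommRing R] (K P : Subgroup G) (a : R[G]) :
    Br P (tr (K : Set G) a) = tr (K : Set G) (Br P a) := by
  rw [tr_tr, tr_tr, Set.inter_comm]

theorem tr_ne_zero_mono {R : Type*} [CommRing R] {S T : Set G} {a : R[G]}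
    (h : tr S (tr T a) ≠ 0) : tr S a ≠ 0 := by
  classical
  rw [tr_ne_zero_iff] at h ⊢
  obtain ⟨g, hg, h⟩ := h
  refine ⟨g, hg, fun h0 => h ?_⟩
  rw [coeff_tr, h0, ite_self]

namespace Ind

variable {N L K : Subgroup G} {b B C : k[G]}

theorem refl (K : Subgroup G) (b : k[G]) : Ind K K b b :=
  fun _ hz => by rw [tr_of_mem_sup hz.1]

theorem trans (hKL : K ≤ L) (hLN : L ≤ N) (h1 : Ind L K b B) (h2 : Ind N L B C) :
    Ind N K b C := fun z hz => by
  rw [← h2 z hz, ← h1 _ (tr_mem_Z hLN hz), tr_tr_of_le hKL]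

theorem of_trans (hKL : K ≤ L) (hLN : L ≤ N) (h1 : Ind L K b B) (h2 : Ind N K b C) :
    Ind N L B C := fun z hz => by
  rw [← h2 z hz, ← h1 _ (tr_mem_Z hLN hz), tr_tr_of_le hKL]

variable [Finite G] [IsAlgClosed k]

theorem unique (h1 : Ind L K b B) (h2 : Ind L K b C) (hB : IsBlock L B) (hC : IsBlock L C) :
    B = C := hB.ext_lam hC fun z hz => (h1 z hz).symm.trans (h2 z hz)

theorem cj (hKL : K ≤ L) (hb : IsBlock K b) (hB : IsBlock L B) (h : Ind L K b B) (x : G) :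
    Ind (cs x L) (cs x K) (cj x b) (cj x B) := fun z hz => by
  have hz' : Blk.cj x⁻¹ z ∈ Z k L := by have := cj_mem_Z x⁻¹ hz; rwa [cs_inv_cs] at this
  rw [← cj_cj_inv x z, ← cj_tr, hb.lam_cj (tr_mem_Z hKL hz'), hB.lam_cj hz', h _ hz']

theorem cj_of_mem (hKL : K ≤ L) (hb : IsBlock K b) (hB : IsBlock L B) (h : Ind L K b B) {x : G}
    (hx : x ∈ L) : Ind L (cs x K) (Blk.cj x b) B := by
  have := h.cj hKL hb hB x
  rwa [cs_eq_of_mem hx, hB.cj_eq hx] at this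

omit [Finite G] [IsAlgClosed k] in
theorem lam_tr_self (hB : IsBlock L B) (h : Ind L K b B) : lam b (tr (K : Set G) B) = 1 := by
  rw [h B hB.mem, hB.lam_self]

omit [Finite G] [IsAlgClosed k] in
theorem lam_tr_of_ne (hB : IsBlock L B) (hC : IsBlock L C) (h : Ind L K b B) (hne : C ≠ B) :
    lam b (tr (K : Set G) C) = 0 := by
  rw [h C hC.mem, hB.lam_of_ne hC hne]

variable [Fact p.Prime] [CharP k p]

theorem Br_ne_zero {Q : Subgroup G} (hKL : K ≤ L) (hb : IsBlock K b) (hB : IsBlock L B)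
    (h : Ind L K b B) (hQK : Q ≤ K) (hQ : IsPGroup p Q) (h1 : Br Q b ≠ 0) : Br Q B ≠ 0 :=
  tr_ne_zero_mono (hb.Br_ne_zero_of_lam (tr_mem_Z hKL hB.mem)
    (by rw [h.lam_tr_self hB]; exact one_ne_zero) hQK hQ h1)

theorem exists_isDef_ge {D : Subgroup G} (hKL : K ≤ L) (hb : IsBlock K b) (hB : IsBlock L B)
    (h : Ind L K b B) (hD : IsDef p K b D) : ∃ E, IsDef p L B E ∧ D ≤ E :=
  hB.exists_isDef_ge (hD.le.trans hKL) hD.pg (h.Br_ne_zero hKL hb hB hD.le hD.pg hD.ne)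

theorem card_le {D E : Subgroup G} (hKL : K ≤ L) (hb : IsBlock K b) (hB : IsBlock L B)
    (h : Ind L K b B) (hD : IsDef p K b D) (hE : IsDef p L B E) : Nat.card D ≤ Nat.card E :=
  hE.card_le (hD.le.trans hKL) hD.pg (h.Br_ne_zero hKL hb hB hD.le hD.pg hD.ne)

end Ind

section

variable [Finite G] [Fact p.Prime]

theorem exists_mem_No_conj {H D : Subgroup G} {g x : G} (hD : IsSyl p D (H ⊓ Ce1 g)) (hx : x ∈ H)
    (h : x * g * x⁻¹ ∈ Ce D) : ∃ n ∈ H ⊓ No D, n * g * n⁻¹ = x * g * x⁻¹ := by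
  have h1 := hD.cs x
  rw [cs_inf, cs_eq_of_mem hx, cs_Ce1] at h1
  have h2 : IsSyl p D (H ⊓ Ce1 (x * g * x⁻¹)) := by
    refine isSyl_of_card (le_inf (hD.le.trans inf_le_left) (mem_Ce_iff_le.1 h)) ?_
    rw [← h1.card_eq, card_cs]
  obtain ⟨c, hc, h3⟩ := h2.exists_cs_eq h1
  refine ⟨c * x, ⟨H.mul_mem hc.1 hx, mem_No.2 (by rw [cs_mul, h3])⟩, ?_⟩
  have := mem_Ce1.1 hc.2
  calc c * x * g * (c * x)⁻¹ = c * (x * g * x⁻¹) * c⁻¹ := by group
    _ = x * g * x⁻¹ := by rw [this]; group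

theorem conj_mem_Ce {D : Subgroup G} {g n : G} (hg : g ∈ Ce D) (hn : n ∈ No D) :
    n * g * n⁻¹ ∈ Ce D := by
  have := (conj_mem_cs (x := n)).2 hg
  rwa [cs_Ce, mem_No.1 hn] at this

theorem Br_cls {R : Type*} [CommRing R] {H D : Subgroup G} {g : G} (hD : IsSyl p D (H ⊓ Ce1 g)) :
    Br D (cls R H g) = cls R (H ⊓ No D) g := by
  classical
  refine ext' fun h => ?_
  rw [coeff_tr, coeff_cls, coeff_cls]
  by_cases h1 : ∃ x ∈ H ⊓ No D, x * g * x⁻¹ = h
  · obtain ⟨x, hx, rfl⟩ := h1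
    have h2 : x * g * x⁻¹ ∈ (Ce D : Set G) :=
      conj_mem_Ce (mem_Ce_iff_le.2 (hD.le.trans inf_le_right)) hx.2
    rw [if_pos h2, if_pos ⟨x, hx.1, rfl⟩, if_pos ⟨x, hx, rfl⟩]
  · rw [if_neg h1]
    split_ifs with h2 h3
    · obtain ⟨x, hx, rfl⟩ := h3
      exact absurd (exists_mem_No_conj hD hx h2) h1
    · rfl
    · rfl

end

section

variable [Finite G] [IsAlgClosed k] [Fact p.Prime] [CharP k p] {H K P D : Subgroup G}
  {b b' B : k[G]}

theorem IsBlock.lam_tr_eq_Br (hP : IsPGroup p P) (hPK : P ≤ K) (h1 : H ⊓ Ce P ≤ K) (h2 : K ≤ H)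
    (h3 : K ≤ No P) (hb : IsBlock K b) {z : k[G]} (hz : z ∈ Z k H) :
    lam b (tr (K : Set G) z) = lam b (Br P z) := by
  rw [← hb.lam_Br_self hP hPK h3 (tr_mem_Z h2 hz), Br_tr h1 hz.1]

theorem ind_iff_Br (hP : IsPGroup p P) (hPK : P ≤ K) (h1 : H ⊓ Ce P ≤ K) (h2 : K ≤ H)
    (h3 : K ≤ No P) (hb : IsBlock K b) (hB : IsBlock H B) : Ind H K b B ↔ Br P B * b = b := by
  rw [Br_mul_eq_iff_lam hP (hPK.trans h2) h1 h2 h3 hB hb]
  exact forall₂_congr fun z hz => by rw [hb.lam_tr_eq_Br hP hPK h1 h2 h3 hz]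

theorem exists_ind (hP : IsPGroup p P) (hPK : P ≤ K) (h1 : H ⊓ Ce P ≤ K) (h2 : K ≤ H)
    (h3 : K ≤ No P) (hb : IsBlock K b) : ∃ B, IsBlock H B ∧ Ind H K b B := by
  obtain ⟨B, ⟨hB, h⟩, -⟩ := existsUnique_block_Br hP (hPK.trans h2) h1 h2 h3 hb
  exact ⟨B, hB, (ind_iff_Br hP hPK h1 h2 h3 hb hB).2 h⟩

/-- For the centralizer itself, block induction is given by the Brauer map when `P` is
abelian; in general the Brauer map condition is the right notion. -/
theorem ind_Ce_iff_Br (hP : IsPGroup p P) (hPH : P ≤ H) (hb : IsBlock (H ⊓ Ce P) b)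
    (hB : IsBlock H B) : Ind H (H ⊓ Ce P) b B ↔ Br P B * b = b := by
  rw [Br_mul_eq_iff_lam hP hPH le_rfl inf_le_left (inf_le_right.trans (Ce_le_No P)) hB hb]
  refine forall₂_congr fun z hz => ?_
  rw [show tr ((H ⊓ Ce P : Subgroup G) : Set G) z = Br P z by
    rw [← tr_of_mem_sup hz.1, tr_tr, tr_tr]
    congr 2
    ext g
    simp only [Subgroup.coe_inf, Set.mem_inter_iff]
    tauto]

theorem exists_ind_Ce (hP : IsPGroup p P) (hPH : P ≤ H) (hb : IsBlock (H ⊓ Ce P) b) :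
    ∃ B, IsBlock H B ∧ Ind H (H ⊓ Ce P) b B := by
  obtain ⟨B, ⟨hB, h⟩, -⟩ := existsUnique_block_Br hP hPH le_rfl inf_le_left
    (inf_le_right.trans (Ce_le_No P)) hb
  exact ⟨B, hB, (ind_Ce_iff_Br hP hPH hb hB).2 h⟩

theorem inf_Ce_le_inf_No (H D : Subgroup G) : H ⊓ Ce D ≤ H ⊓ No D :=
  inf_le_inf_left _ (Ce_le_No D)

/-- First main theorem, part (i). -/
theorem isDef_of_Br_mul (hb : IsBlock (H ⊓ No D) b) (hD : IsDef p (H ⊓ No D) b D)
    (hB : IsBlock H B) (h : Br D B * b = b) : IsDef p H B D := by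
  obtain ⟨g, hg, -, h2, h3⟩ := hb.defectClass_of_isDef hD
  have h4 : IsSyl p D (H ⊓ Ce1 g) := IsSyl.of_inf_No (by rwa [inf_right_comm])
  have hDH : D ≤ H := hD.le.trans inf_le_left
  have h5 : lam B (cls k H g) ≠ 0 := by
    rwa [← lam_Br hD.pg hDH (inf_Ce_le_inf_No H D) inf_le_left inf_le_right hB hb h
      (cls_mem_Z hg.1), Br_cls h4]
  exact ⟨hDH, hD.pg, Br_ne_zero_of_mul_eq hb.ne h, hB.brSub_of_lam (cls_mem_Z hg.1) h5
    (brSub_cls h4)⟩

/-- A local block corresponding to `B` at a defect group `D` has defect group `D`. -/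
theorem isDef_local (hB : IsBlock H B) (hD : IsDef p H B D) (hDK : D ≤ K) (h1 : H ⊓ Ce D ≤ K)
    (h2 : K ≤ H) (h3 : K ≤ No D) (hb : IsBlock K b) (h : Br D B * b = b) : IsDef p K b D := by
  obtain ⟨E, hE⟩ := hb.exists_isDef p
  have h4 := hb.le_of_isDef hE hD.pg hDK h3
  have h5 := ((ind_iff_Br hD.pg hDK h1 h2 h3 hb hB).2 h).card_le h2 hb hB hE hD
  rwa [Subgroup.eq_of_le_of_card_ge h4 h5]

theorem exists_Br_eq_of_isDef (hb : IsBlock (H ⊓ No D) b) (hD : IsDef p (H ⊓ No D) b D) :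
    ∃ w ∈ Z k H, Br D w = b := by
  refine inv_induction (P := fun z => ∃ w ∈ Z k H, Br D w = z) hb.inv ⟨0, zero_mem _, map_zero _⟩
    ?_ ?_
  · rintro _ _ - - ⟨w, hw, rfl⟩ ⟨w', hw', rfl⟩
    exact ⟨w + w', add_mem hw hw', map_add _ _ _⟩
  · intro g hg
    have h1 := mem_of_coeff_ne_zero hb.sup hg
    have h2 := mem_of_coeff_ne_zero (hb.mem_sup_Ce hD.pg hD.le inf_le_right) hg
    have h4 : IsSyl p D (H ⊓ Ce1 g) := IsSyl.of_inf_No (by
      rw [inf_right_comm]; exact hD.isSyl h2 hg)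
    exact ⟨b.coeff g • cls k H g, Subalgebra.smul_mem _ (cls_mem_Z h1.1) _, by
      rw [map_smul, Br_cls h4]⟩

/-- First main theorem, uniqueness. -/
theorem eq_of_Br_mul (hb : IsBlock (H ⊓ No D) b) (hD : IsDef p (H ⊓ No D) b D)
    (hb' : IsBlock (H ⊓ No D) b') (hB : IsBlock H B) (h : Br D B * b = b)
    (h' : Br D B * b' = b') : b = b' := by
  obtain ⟨w, hw, hwb⟩ := exists_Br_eq_of_isDef hb hD
  have hDH : D ≤ H := hD.le.trans inf_le_left
  refine hb'.eq_of_lam_ne_zero hb ?_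
  rw [← hwb, lam_Br hD.pg hDH (inf_Ce_le_inf_No H D) inf_le_left inf_le_right hB hb' h' hw,
    ← lam_Br hD.pg hDH (inf_Ce_le_inf_No H D) inf_le_left inf_le_right hB hb h hw, hwb,
    hb.lam_self]
  exact one_ne_zero

theorem IsBlock.Br_mem_Z_No (hB : IsBlock H B) (D : Subgroup G) : Br D B ∈ Z k (H ⊓ No D) :=
  Br_mem_Z (inf_Ce_le_inf_No H D) inf_le_left inf_le_right hB.mem

/-- The Brauer correspondent of `B` is `Br D B`. -/
theorem IsBlock.isBlock_Br (hB : IsBlock H B) (hD : IsDef p H B D) :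
    IsBlock (H ⊓ No D) (Br D B) := by
  classical
  have hi := Br_idem hD.pg (inv_anti hD.le hB.inv) hB.idem
  obtain ⟨b, hb, h⟩ := exists_block_mul_eq (hB.Br_mem_Z_No D) hi hD.ne
  have hbD := isDef_local hB hD (le_inf hD.le (le_No D)) (inf_Ce_le_inf_No H D) inf_le_left
    inf_le_right hb h
  have : Br D B = b := by
    refine idem_ext (hB.Br_mem_Z_No D) hi hb.mem hb.idem fun e he => ⟨fun h' => ?_, fun h' => ?_⟩
    · rw [← eq_of_Br_mul hb hbD he hB h h', hb.mul_self]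
    · rw [← h', ← mul_assoc, h]
  rwa [this]

theorem IsBlock.Br_mul_Br (hB : IsBlock H B) (hP : IsPGroup p P) (hPH : P ≤ H) :
    Br P B * Br P B = Br P B := Br_idem hP (inv_anti hPH hB.inv) hB.idem

theorem IsBlock.isDef_Br (hB : IsBlock H B) (hD : IsDef p H B D) :
    IsDef p (H ⊓ No D) (Br D B) D :=
  isDef_local hB hD (le_inf hD.le (le_No D)) (inf_Ce_le_inf_No H D) inf_le_left
    inf_le_right (hB.isBlock_Br hD) (hB.Br_mul_Br hD.pg hD.le)

theorem IsBlock.ind_Br (hB : IsBlock H B) (hD : IsDef p H B D) :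
    Ind H (H ⊓ No D) (Br D B) B :=
  (ind_iff_Br hD.pg (le_inf hD.le (le_No D)) (inf_Ce_le_inf_No H D) inf_le_left
    inf_le_right (hB.isBlock_Br hD) hB).2 (hB.Br_mul_Br hD.pg hD.le)

theorem IsBlock.eq_Br_of_mul (hB : IsBlock H B) (hD : IsDef p H B D)
    (hb : IsBlock (H ⊓ No D) b) (h : Br D B * b = b) : b = Br D B :=
  ((hB.isBlock_Br hD).eq_of_mul_ne_zero hb (by rw [h]; exact hb.ne)).symm

/-- The induced block is defined if `K` contains the centralizer of a defect group. -/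
theorem exists_ind_of_isDef (hb : IsBlock K b) (hD : IsDef p K b D) (h1 : H ⊓ Ce D ≤ K)
    (h2 : K ≤ H) : ∃ B, IsBlock H B ∧ Ind H K b B := by
  obtain ⟨B, hB, h⟩ := exists_ind (H := H) hD.pg (le_inf hD.le (le_No D))
    (le_inf h1 (inf_le_right.trans (Ce_le_No D))) (inf_le_left.trans h2) inf_le_right
    (hb.isBlock_Br hD)
  exact ⟨B, hB, Ind.of_trans inf_le_left h2 (hb.ind_Br hD) h⟩

/-- If `b` has defect group `D` and `C_H(D) ≤ K`, then `b ^ H = B` iff `Br_D B` covers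
`Br_D b`. -/
theorem ind_iff_Br_Br (hb : IsBlock K b) (hD : IsDef p K b D) (h1 : H ⊓ Ce D ≤ K)
    (h2 : K ≤ H) (hB : IsBlock H B) : Ind H K b B ↔ Br D B * Br D b = Br D b := by
  rw [← ind_iff_Br (H := H) hD.pg (le_inf hD.le (le_No D))
    (le_inf h1 (inf_le_right.trans (Ce_le_No D))) (inf_le_left.trans h2) inf_le_right
    (hb.isBlock_Br hD) hB]
  exact ⟨fun h => Ind.trans inf_le_left h2 (hb.ind_Br hD) h,
    fun h => Ind.of_trans inf_le_left h2 (hb.ind_Br hD) h⟩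

end

/-! ### Orbit sums -/

section orb

variable {R : Type*} [CommRing R] [Finite G]

theorem finite_orbit (N : Subgroup G) (e : R[G]) : {f | ∃ x ∈ N, cj x e = f}.Finite :=
  (Set.finite_range fun x : G => cj x e).subset (by rintro _ ⟨x, -, rfl⟩; exact ⟨x, rfl⟩)

/-- The orbit of `e` under conjugation by `N`. -/
noncomputable def orbit (N : Subgroup G) (e : R[G]) : Finset R[G] := (finite_orbit N e).toFinset

theorem mem_orbit {N : Subgroup G} {e f : R[G]} : f ∈ orbit N e ↔ ∃ x ∈ N, cj x e = f :=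
  Set.Finite.mem_toFinset _

theorem mem_orbit_self (N : Subgroup G) (e : R[G]) : e ∈ orbit N e :=
  mem_orbit.2 ⟨1, N.one_mem, cj_one' e⟩

theorem cj_mem_orbit {N : Subgroup G} {x : G} (hx : x ∈ N) (e : R[G]) : cj x e ∈ orbit N e :=
  mem_orbit.2 ⟨x, hx, rfl⟩

theorem orbit_eq_of_mem {N : Subgroup G} {e f : R[G]} (h : f ∈ orbit N e) :
    orbit N f = orbit N e := by
  obtain ⟨x, hx, rfl⟩ := mem_orbit.1 h
  ext g
  rw [mem_orbit, mem_orbit]
  constructor
  · rintro ⟨y, hy, rfl⟩; exact ⟨y * x, N.mul_mem hy hx, cj_mul _ _ _⟩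
  · rintro ⟨y, hy, rfl⟩
    exact ⟨y * x⁻¹, N.mul_mem hy (N.inv_mem hx), by rw [← cj_mul, inv_mul_cancel_right]⟩

/-- The orbit sum. -/
noncomputable def orb (N : Subgroup G) (e : R[G]) : R[G] := ∑ f ∈ orbit N e, f

theorem orb_eq_of_mem {N : Subgroup G} {e f : R[G]} (h : f ∈ orbit N e) : orb N f = orb N e := by
  rw [orb, orb, orbit_eq_of_mem h]

theorem orb_mem_inv (N : Subgroup G) (e : R[G]) : orb N e ∈ inv R N := by
  refine mem_inv.2 fun x hx => ?_
  rw [orb, map_sum]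
  refine Finset.sum_bij' (fun f _ => cj x f) (fun f _ => cj x⁻¹ f) ?_ ?_ ?_ ?_ ?_
  · intro f hf; rw [← orbit_eq_of_mem hf]; exact cj_mem_orbit hx f
  · intro f hf; rw [← orbit_eq_of_mem hf]; exact cj_mem_orbit (N.inv_mem hx) f
  · intro f _; exact cj_inv_cj x f
  · intro f _; exact cj_cj_inv x f
  · intro f _; rfl

theorem orb_mem_sup {N K : Subgroup G} (hN : N ≤ No K) {e : R[G]} (he : e ∈ sup R K) :
    orb N e ∈ sup R K := by
  refine Subalgebra.sum_mem _ fun f hf => ?_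
  obtain ⟨x, hx, rfl⟩ := mem_orbit.1 hf
  have := cj_mem_sup x he
  rwa [mem_No.1 (hN hx)] at this

theorem orb_of_inv {N : Subgroup G} {e : R[G]} (he : e ∈ inv R N) : orb N e = e := by
  have : orbit N e = {e} := by
    ext f
    rw [mem_orbit, Finset.mem_singleton]
    exact ⟨by rintro ⟨x, hx, rfl⟩; exact mem_inv.1 he x hx,
      by rintro rfl; exact ⟨1, N.one_mem, cj_one' _⟩⟩
  rw [orb, this, Finset.sum_singleton]

variable {N K : Subgroup G} {e f B : k[G]}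

theorem IsBlock.of_mem_orbit (he : IsBlock K e) (hN : N ≤ No K) (hf : f ∈ orbit N e) :
    IsBlock K f := by
  obtain ⟨x, hx, rfl⟩ := mem_orbit.1 hf
  exact he.cj_of_mem_No (hN hx)

theorem IsBlock.orb_mem (he : IsBlock K e) (hN : N ≤ No K) : orb N e ∈ Z k K :=
  sum_blocks_mem fun _ hf => he.of_mem_orbit hN hf

theorem IsBlock.orb_mem_Z (he : IsBlock K e) (hKN : K ≤ N) (hN : N ≤ No K) : orb N e ∈ Z k N :=
  ⟨sup_mono hKN (he.orb_mem hN).1, orb_mem_inv N e⟩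

theorem IsBlock.orb_idem (he : IsBlock K e) (hN : N ≤ No K) : IsIdempotentElem (orb N e) :=
  sum_blocks_idem fun _ hf => he.of_mem_orbit hN hf

theorem IsBlock.orb_mul_of_mem (he : IsBlock K e) (hN : N ≤ No K) (hf : f ∈ orbit N e) :
    orb N e * f = f := sum_blocks_mul_of_mem (fun _ hf => he.of_mem_orbit hN hf) hf

theorem IsBlock.orb_mul_self (he : IsBlock K e) (hN : N ≤ No K) : orb N e * e = e :=
  he.orb_mul_of_mem hN (mem_orbit_self N e)

theorem IsBlock.orb_mul_of_notMem (he : IsBlock K e) (hN : N ≤ No K) (hf : IsBlock K f)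
    (h : f ∉ orbit N e) : orb N e * f = 0 :=
  sum_blocks_mul_of_notMem (fun _ hf => he.of_mem_orbit hN hf) hf h

theorem IsBlock.mem_orbit_of_mul (he : IsBlock K e) (hN : N ≤ No K) (hf : IsBlock K f)
    (h : orb N e * f ≠ 0) : f ∈ orbit N e := by
  by_contra hn; exact h (he.orb_mul_of_notMem hN hf hn)

theorem IsBlock.orb_ne_zero (he : IsBlock K e) (hN : N ≤ No K) : orb N e ≠ 0 := fun h => by
  have := he.orb_mul_self hN
  rw [h, zero_mul] at this
  exact he.ne this.symm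

theorem mul_ne_zero_of_mem_orbit {z : k[G]} (hz : z ∈ inv k N) (hf : f ∈ orbit N e)
    (h : z * e ≠ 0) : z * f ≠ 0 := by
  obtain ⟨x, hx, rfl⟩ := mem_orbit.1 hf
  rw [← mem_inv.1 hz x hx, ← map_mul]
  exact fun h0 => h ((cj x).injective (by rw [h0, map_zero]))

theorem mul_eq_of_mem_orbit {z : k[G]} (hz : z ∈ inv k N) (hf : f ∈ orbit N e)
    (h : z * e = e) : z * f = f := by
  obtain ⟨x, hx, rfl⟩ := mem_orbit.1 hf
  rw [← mem_inv.1 hz x hx, ← map_mul, h]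

theorem mul_orb_eq {z : k[G]} (hz : z ∈ inv k N) (h : z * e = e) : z * orb N e = orb N e := by
  rw [orb, Finset.mul_sum]
  exact Finset.sum_congr rfl fun f hf => mul_eq_of_mem_orbit hz hf h

/-- `B` covers `e` iff the orbit sum of `e` acts as the identity on `B`. -/
theorem IsBlock.cover_iff (he : IsBlock K e) (hKN : K ≤ N) (hN : N ≤ No K) (hB : IsBlock N B) :
    B * e ≠ 0 ↔ orb N e * B = B := by
  constructor
  · intro h
    refine hB.mul_eq_self_of_ne_zero (he.orb_mem_Z hKN hN) (he.orb_idem hN) fun h0 => h ?_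
    rw [← he.orb_mul_self hN, ← mul_assoc, (Z_comm hB.mem (he.orb_mem_Z hKN hN)).eq, h0, zero_mul]
  · intro h h0
    apply hB.ne
    rw [← h, ← (Z_comm hB.mem (he.orb_mem_Z hKN hN)).eq, orb, Finset.mul_sum]
    refine Finset.sum_eq_zero fun f hf => ?_
    by_contra h1
    refine mul_ne_zero_of_mem_orbit hB.inv ?_ h1 h0
    rw [orbit_eq_of_mem hf]; exact mem_orbit_self N e

theorem IsBlock.cover_iff_lam (he : IsBlock K e) (hKN : K ≤ N) (hN : N ≤ No K)
    (hB : IsBlock N B) : B * e ≠ 0 ↔ lam B (orb N e) = 1 := by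
  rw [he.cover_iff hKN hN hB, hB.lam_idem_eq_one_iff (he.orb_mem_Z hKN hN) (he.orb_idem hN)]

/-- Blocks covered by the same block are conjugate. -/
theorem IsBlock.mem_orbit_of_cover (he : IsBlock K e) (hf : IsBlock K f) (hKN : K ≤ N)
    (hN : N ≤ No K) (hB : IsBlock N B) (h1 : B * e ≠ 0) (h2 : B * f ≠ 0) : f ∈ orbit N e := by
  refine he.mem_orbit_of_mul hN hf fun h => h2 ?_
  rw [← (he.cover_iff hKN hN hB).1 h1, ← (Z_comm hB.mem (he.orb_mem_Z hKN hN)).eq, mul_assoc, h,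
    mul_zero]

theorem IsBlock.exists_cover (he : IsBlock K e) (N : Subgroup G) :
    ∃ B, IsBlock N B ∧ B * e ≠ 0 := exists_block_mul_ne_zero' N he.ne

theorem IsBlock.exists_covered (hB : IsBlock N B) (K : Subgroup G) :
    ∃ e, IsBlock K e ∧ B * e ≠ 0 := exists_block_mul_ne_zero K hB.ne

/-- A block supported on the normal subgroup `K` is an orbit sum. -/
theorem IsBlock.eq_orb (he : IsBlock K e) (hKN : K ≤ N) (hN : N ≤ No K) (hB : IsBlock N B)
    (hBK : B ∈ Blk.sup k K) (h : B * e ≠ 0) : B = orb N e := by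
  have hBZ : B ∈ Z k K := ⟨hBK, inv_anti hKN hB.inv⟩
  have h1 := he.mul_eq_self_of_ne_zero hBZ hB.idem h
  rw [← mul_orb_eq hB.inv h1, (Z_comm hB.mem (he.orb_mem_Z hKN hN)).eq,
    (he.cover_iff hKN hN hB).1 h]

variable [IsAlgClosed k]

/-- On elements supported in `K`, the central character of a covering block agrees with that of
the covered block. -/
theorem IsBlock.lam_cover (he : IsBlock K e) (hKN : K ≤ N) (hB : IsBlock N B) (h : B * e ≠ 0)
    {z : k[G]} (hz : z ∈ Blk.sup k K) (hz' : z ∈ Blk.inv k N) : lam B z = lam e z := by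
  have hzK : z ∈ Z k K := ⟨hz, inv_anti hKN hz'⟩
  have hzN : z ∈ Z k N := ⟨sup_mono hKN hz, hz'⟩
  have hBe : Commute B e := commute_of_mem hB.inv (sup_mono hKN he.sup)
  have hi : IsIdempotentElem (B * e) := hB.idem.mul_of_commute hBe he.idem
  have hzB : Commute z B := Z_comm hzN hB.mem
  have hze : Commute z e := Z_comm hzK he.mem
  have hc : Commute z (B * e) := hzB.mul_right hze
  have c1 : ∀ c : k, ∀ w : k[G], Commute z w → Commute (z - algebraMap k k[G] c) w :=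
    fun c w hw => hw.sub_left (Algebra.commutes c w)
  rw [← Blk.lam_eq hi h hc (c := lam B z), ← Blk.lam_eq hi h hc (c := lam e z)]
  · rw [hBe.eq, ← mul_assoc]
    exact ((c1 _ _ hzB).mul_left hBe.symm).isNilpotent_mul_right (he.lam_spec hzK)
  · rw [← mul_assoc]
    exact ((c1 _ _ hze).mul_left hBe).isNilpotent_mul_right (hB.lam_spec hzN)

/-- Passman's criterion, abstract form. -/
theorem IsBlock.cover_iff_forall_lam (he : IsBlock K e) (hKN : K ≤ N) (hN : N ≤ No K)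
    (hB : IsBlock N B) :
    B * e ≠ 0 ↔ ∀ z ∈ Blk.sup k K, z ∈ Blk.inv k N → lam B z = lam e z := by
  refine ⟨fun h z hz hz' => he.lam_cover hKN hB h hz hz', fun h => ?_⟩
  rw [he.cover_iff_lam hKN hN hB, h _ (he.orb_mem hN).1 (orb_mem_inv N e),
    he.lam_idem_eq_one_iff (he.orb_mem hN) (he.orb_idem hN), he.orb_mul_self hN]

variable [Fact p.Prime] [CharP k p] {P : Subgroup G}

theorem IsBlock.mem_sup_of_normal (hB : IsBlock N B) (hP : IsPGroup p P) (hPN : P ≤ N)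
    (hNP : N ≤ No P) (h1 : N ⊓ Ce P ≤ K) : B ∈ Blk.sup k K :=
  sup_mono h1 (mem_sup_inf.2 ⟨hB.sup, hB.mem_sup_Ce hP hPN hNP⟩)

/-- Blocks of a group with a normal `p`-subgroup `P` are orbit sums of blocks of a normal
subgroup containing the centralizer of `P`. -/
theorem IsBlock.eq_orb_of_normal (he : IsBlock K e) (hKN : K ≤ N) (hN : N ≤ No K)
    (hB : IsBlock N B) (hP : IsPGroup p P) (hPN : P ≤ N) (hNP : N ≤ No P) (h1 : N ⊓ Ce P ≤ K)
    (h : B * e ≠ 0) : B = orb N e :=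
  he.eq_orb hKN hN hB (hB.mem_sup_of_normal hP hPN hNP h1) h

theorem IsBlock.isBlock_orb (he : IsBlock K e) (hKN : K ≤ N) (hN : N ≤ No K)
    (hP : IsPGroup p P) (hPN : P ≤ N) (hNP : N ≤ No P) (h1 : N ⊓ Ce P ≤ K) :
    IsBlock N (orb N e) := by
  obtain ⟨B, hB, h⟩ := he.exists_cover N
  rwa [← he.eq_orb_of_normal hKN hN hB hP hPN hNP h1 h]

/-- An `N`-stable block of `K` is a block of `N`. -/
theorem IsBlock.isBlock_of_inv (he : IsBlock K e) (hKN : K ≤ N) (hN : N ≤ No K)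
    (hP : IsPGroup p P) (hPN : P ≤ N) (hNP : N ≤ No P) (h1 : N ⊓ Ce P ≤ K)
    (hinv : e ∈ Blk.inv k N) : IsBlock N e := by
  have := he.isBlock_orb hKN hN hP hPN hNP h1
  rwa [orb_of_inv hinv] at this

/-- Blocks of `C_H(P)` and of `P C_H(P)` are the same. -/
theorem isBlock_sup_iff {H : Subgroup G} (hP : IsPGroup p P) (hPH : P ≤ H) :
    IsBlock (P ⊔ H ⊓ Ce P) e ↔ IsBlock (H ⊓ Ce P) e := by
  have h1 : P ⊔ H ⊓ Ce P ≤ No P := sup_le (le_No P) (inf_le_right.trans (Ce_le_No P))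
  have h2 : P ⊔ H ⊓ Ce P ≤ No (H ⊓ Ce P) :=
    (le_inf ((sup_le hPH inf_le_left).trans (le_No H)) (h1.trans (No_le_No_Ce P))).trans
      (No_inf_le _ _)
  have h3 : (P ⊔ H ⊓ Ce P) ⊓ Ce P ≤ H ⊓ Ce P := inf_le_inf_right _ (sup_le hPH inf_le_left)
  have h4 : ∀ f : k[G], IsBlock (H ⊓ Ce P) f → f ∈ inv k (P ⊔ H ⊓ Ce P) := fun f hf =>
    mem_inv_sup.2 ⟨sup_le_inv_Ce P (sup_mono inf_le_right hf.sup), hf.inv⟩
  constructor
  · intro he
    obtain ⟨f, hf, h⟩ := he.exists_covered (H ⊓ Ce P)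
    rwa [hf.eq_orb_of_normal le_sup_right h2 he hP le_sup_left h1 h3 h, orb_of_inv (h4 f hf)]
  · intro he
    exact he.isBlock_of_inv le_sup_right h2 hP le_sup_left h1 h3 (h4 e he)

end orb

end Cfsg.Agent.Blk
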