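import Cfsg.Agent.Lib.Block.Green
import Cfsg.Agent.Lib.Block.Perf
import Cfsg.Agent.S0920

set_option autoImplicit false

namespace Cfsg.Agent.Blk

open MonoidAlgebra
open Cfsg.Agent.Char hiding cj cj_mul cj_inv_cj cj_cj_inv sum_cj_eq om
open scoped ComplexConjugate Classical

variable {G : Type*} [Group G] [Finite G] {M : Ideal AlgInt} {p : ℕ} [PMod M p]
  {B : Set (IrrCharacter G)} {P D : Subgroup G}

variable (M) in
/-- Brauer's first main theorem as a bijection -/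
theorem exists_brauer_equiv (hD : IsPGroup p D) :
    ∃ F : {b : Set (IrrCharacter (No D)) // IsPBlock M b ∧ IsDefectGroup p M b (D.subgroupOf (No D))} ≃
      {B : Set (IrrCharacter G) // IsPBlock M B ∧ IsDefectGroup p M B D},
      ∀ b, IsInducedBlock M (No D) b.1 (F b).1 := by
  haveI : Fact p.Prime := ⟨PMod.prime M⟩
  obtain ⟨h1, h2⟩ := S0920.result p M PMod.out D hD
  choose f hf1 hf2 hf3 using h1
  refine ⟨Equiv.ofBijective (fun b => ⟨f b.1 b.2.1 b.2.2, hf1 _ _ _, hf2 _ _ _⟩)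
    ⟨fun b c h => Subtype.ext ?_, fun B => ?_⟩, fun b => hf3 _ b.2.1 b.2.2⟩
  · have h3 : f b.1 b.2.1 b.2.2 = f c.1 c.2.1 c.2.2 := congrArg Subtype.val h
    exact (h2 _ (hf1 _ b.2.1 b.2.2) (hf2 _ _ _)).unique ⟨b.2.1, b.2.2, hf3 _ _ _⟩
      ⟨c.2.1, c.2.2, h3 ▸ hf3 _ _ _⟩
  · obtain ⟨b, ⟨h3, h4, h5⟩, -⟩ := h2 B.1 B.2.1 B.2.2
    exact ⟨⟨b, h3, h4⟩, Subtype.ext ((hf3 _ _ _).unique h5)⟩

theorem _root_.Cfsg.IsPBlock.isDef_of_normal_syl [P.Normal] (hB : IsPBlock M B) (hP : IsSyl p P ⊤) :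
    IsDef p ⊤ (bar M B) P := by
  haveI : Fact p.Prime := ⟨PMod.prime M⟩
  obtain ⟨D, hD⟩ := hB.isBlock.exists_isDef p
  have h1 := hB.isBlock.le_of_isDef hD hP.pg le_top (top_le_No P)
  exact hP.max D le_top hD.pg h1 ▸ hD

variable (M) in
theorem card_blocks_normal_syl [P.Normal] (hP : IsSyl p P ⊤) :
    Nat.card {B // IsPBlock M B ∧ IsDef p ⊤ (bar M B) P} =
      Nat.card {C : ConjClasses G // ∀ n, ConjClasses.mk n = C → ¬ p ∣ orderOf n ∧ n ∈ Ce P} := by
  haveI : Fact p.Prime := ⟨PMod.prime M⟩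
  have := Fintype.ofFinite
    {C : ConjClasses G // ∀ n, ConjClasses.mk n = C → ¬ p ∣ orderOf n ∧ n ∈ Ce P}
  have h0 : ∀ i : {C : ConjClasses G // ∀ n, ConjClasses.mk n = C → ¬ p ∣ orderOf n ∧ n ∈ Ce P},
      IsSyl p P (⊤ ⊓ Ce1 (rp i.1)) := fun i =>
    hP.of_le (le_inf le_top (mem_Ce_iff_le.1 (i.2 _ (mk_rp _)).2)) le_top
  rw [robinson_rank (M := M) (D := P) hP
    (x := fun i : {C : ConjClasses G // ∀ n, ConjClasses.mk n = C → ¬ p ∣ orderOf n ∧ n ∈ Ce P} =>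
      rp i.1) (fun i j h => Subtype.ext ((mk_rp _).symm.trans (isConj_rp_iff.1 h.symm))) h0
    (fun g h1 h2 => ⟨⟨ConjClasses.mk g, fun n hn => ?_⟩, isConj_rp_mk g⟩) rfl]
  · rw [hP.card_eq, Subgroup.card_top, factorization_pow_self, Nat.sub_self, pow_zero]
    have h1 : (Matrix.of fun i j : {C : ConjClasses G // ∀ n, ConjClasses.mk n = C →
        ¬ p ∣ orderOf n ∧ n ∈ Ce P} => ((pairCount P (rp i.1) (rp j.1) / 1 : ℕ) : kk M)) =
        Matrix.diagonal fun i => ((Ce1 (rp i.1)).index : kk M) := by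
      ext i j
      have h2 : ∀ y z : G, IsConj (rp i.1) y → IsConj (rp j.1) z → z * y⁻¹ ∈ P → z = y := by
        intro y z hy hz h
        have h3 := i.2 y (isConj_rp_iff.1 hy)
        have h4 := isPPart_mul (mem_Ce.1 h3.2 _ h) (pelt_of_mem hP.pg h) h3.1
        rw [inv_mul_cancel_right] at h4
        exact mul_inv_eq_one.1 (h4.eq_one_iff.2 (j.2 z (isConj_rp_iff.1 hz)).1)
      rw [Matrix.of_apply, Nat.div_one, Matrix.diagonal_apply, pairCount]
      split_ifs with h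
      · subst h
        rw [← card_isConj_eq_index]
        congr 1
        exact Nat.card_congr ⟨fun y => ⟨y.1.1, y.2.1⟩, fun y => ⟨(y.1, y.1), y.2, y.2, by simp⟩,
          fun y => Subtype.ext (Prod.ext rfl (h2 _ _ y.2.1 y.2.2.1 y.2.2.2).symm), fun _ => rfl⟩
      · rw [Nat.card_eq_zero.2 (Or.inl ⟨fun y => h (Subtype.ext ?_)⟩), Nat.cast_zero]
        exact (isConj_rp_iff.1 y.2.1).symm.trans
          (isConj_rp_iff.1 (h2 _ _ y.2.1 y.2.2.1 y.2.2.2 ▸ y.2.2.1))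
    rw [h1, Matrix.rank_diagonal, Nat.card_eq_fintype_card]
    refine Fintype.card_congr (Equiv.subtypeUnivEquiv fun i => ?_)
    rw [Ne, CharP.cast_eq_zero_iff (kk M) p]
    refine fun h => hP.not_dvd_relIndex ?_
    rw [Subgroup.relIndex_top_right]
    exact h.trans (Subgroup.index_dvd_of_le ((h0 i).le.trans inf_le_right))
  · obtain ⟨c, rfl⟩ := isConj_iff.1 (ConjClasses.mk_eq_mk_iff_isConj.1 hn.symm)
    exact ⟨by rwa [orderOf_conj'], conj_mem_Ce (mem_Ce_iff_le.2 (h2.le.trans inf_le_right))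
      (top_le_No P trivial)⟩

theorem normal_subgroupOf_No (P : Subgroup G) : (P.subgroupOf (No P)).Normal :=
  Subgroup.normal_in_normalizer

theorem card_eq_sum_blocks {A : Set (IrrCharacter G)} (hA : IsUB M A) :
    Nat.card A = ∑ B ∈ blocksIn M A, (fs B).card := by
  rw [card_fs, Finset.card_eq_sum_ones, ← hA.sum_blocksIn]
  simp

/-- a sum over the blocks with given defect group equals the sum over the Brauer correspondents -/
theorem sum_brauer {β : Type*} [AddCommMonoid β] (hD : IsPGroup p D)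
    {S : Finset (Set (IrrCharacter G))} {T : Finset (Set (IrrCharacter (No D)))}
    (hS : ∀ B, B ∈ S ↔ IsPBlock M B ∧ IsDefectGroup p M B D)
    (hT : ∀ b, b ∈ T ↔ IsPBlock M b ∧ IsDefectGroup p M b (D.subgroupOf (No D)))
    {f : Set (IrrCharacter G) → β} {g : Set (IrrCharacter (No D)) → β}
    (h : ∀ b B, IsDefectGroup p M b (D.subgroupOf (No D)) → IsDefectGroup p M B D →
      IsInducedBlock M (No D) b B → f B = g b) : ∑ B ∈ S, f B = ∑ b ∈ T, g b := by
  obtain ⟨F, hF⟩ := exists_brauer_equiv M hD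
  refine (Finset.sum_bij (fun b hb => (F ⟨b, (hT b).1 hb⟩).1) (fun b hb => (hS _).2 (F _).2)
    (fun b hb c hc e => congrArg Subtype.val (F.injective (Subtype.ext e))) (fun B hB => ?_)
    fun b hb => (h _ _ ((hT b).1 hb).2 (F _).2.2 (hF ⟨b, (hT b).1 hb⟩)).symm).symm
  exact ⟨(F.symm ⟨B, (hS B).1 hB⟩).1, (hT _).2 (F.symm _).2, by simp⟩

theorem card_eq_of_cyclic {K : Subgroup G} {c : Set (IrrCharacter K)} (hK : No P ≤ K)
    (hc : IsCyclic P) (h1 : P ≠ ⊥) (hP : IsDefectGroup p M B P)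
    (hc' : IsDefectGroup p M c (P.subgroupOf K)) (h : IsInducedBlock M K c B) :
    (fs B).card = (fs c).card := by
  obtain ⟨e, h2, h3, h4⟩ := exists_mp_pair hK hP hc' h
  have := Fintype.ofFinite P
  have := Fintype.ofFinite (P.subgroupOf K)
  have ε := Subgroup.subgroupOfEquivOfLe ((le_No P).trans hK)
  obtain ⟨χ, hχ⟩ := h.2.1.nonempty
  obtain ⟨ξ, hξ⟩ := h.1.nonempty
  obtain ⟨_, _, _, _, _, h5, -⟩ := h2.exists_dd hc h1 hχ
  obtain ⟨_, _, _, _, _, h6, -⟩ := h3.exists_dd (isCyclic_of_surjective ε.symm ε.symm.surjective)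
    (fun e => h1 (by
      rw [← Subgroup.card_eq_one, ← Nat.card_congr ε.toEquiv, e, Subgroup.card_bot])) hξ
  rw [h5.card_eq, h6.card_eq, ← h4, Subgroup.card_map_of_injective (MulEquiv.injective _),
    Nat.card_congr ε.toEquiv]

end Cfsg.Agent.Blk
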