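import Cfsg.Agent.Lib.Block.FongR

/-! Characters of groups with a normal nilpotent subgroup acted on coprimely. -/

set_option autoImplicit false

namespace Cfsg.Agent.Blk

open Cfsg.Agent.Char hiding cj cj_mul cj_inv_cj cj_cj_inv sum_cj_eq om
open scoped ComplexConjugate commutatorElement
attribute [local instance] _root_.Classical.propDecidable
open Subgroup (zpowers mem_zpowers)

universe u

section
variable {G : Type u} [Group G] [Finite G] {p q : ℕ} {E N P Q R Z : Subgroup G}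
  {χ ψ : IrrCharacter G}

instance normal_charCenter (χ : IrrCharacter G) : (charCenter χ.1).Normal :=
  χ.2.isClassFunction.normal_charCenter

theorem mem_charCenter_of_inv [R.Normal] {θ : IrrCharacter R} (hθ : ∀ g, icj R g θ = θ)
    (h : em R χ θ ≠ 0) (x : R) : (x : G) ∈ charCenter χ.1 ↔ x ∈ charCenter θ.1 := by
  have h1 := res_eq_em_mul hθ h 1
  rw [χ.2.isCharacter.mem_charCenter, θ.2.isCharacter.mem_charCenter, res_eq_em_mul hθ h,
    show χ.1 1 = _ from h1, norm_mul, norm_mul, mul_right_inj' (by simpa using h)]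

theorem eq_zero_of_inv [R.Normal] {θ : IrrCharacter R} (hθ : ∀ g, icj R g θ = θ)
    (h : em R χ θ ≠ 0) {g : G} (hg : g ∈ R) (h1 : ∀ x ∈ R, ⁅g, x⁆ ∈ charCenter χ.1)
    (h2 : g ∉ charCenter χ.1) : χ.1 g = 0 := by
  rw [show χ.1 g = _ from res_eq_em_mul hθ h ⟨g, hg⟩, θ.2.eq_zero_of_commutator_mem
    (fun x => (mem_charCenter_of_inv hθ h _).1 ?_)
    fun h3 => h2 ((mem_charCenter_of_inv hθ h _).2 h3), mul_zero]
  rw [← commutatorElement_inv]
  exact inv_mem (h1 x x.2)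

theorem relIndex_dvd_sq {φ : G → ℂ} (hφ : IsCharacter G φ) (hZ : Z ≤ charCenter φ)
    (h : ∀ g ∈ E, g ∉ Z → φ g = 0) : Z.relIndex E ∣ charDegree φ ^ 2 := by
  letI := Fintype.ofFinite E
  letI := Fintype.ofFinite (Z.subgroupOf E)
  have h1 := (classInner_res_self_eq_iff (Z.subgroupOf E) fun x : E => φ x).2 fun g => h g g.2
  obtain ⟨n, hn⟩ := (hφ.res E).classInner_eq_nat (hφ.res E)
  rw [hn, classInner_self, Finset.sum_congr rfl fun x _ => by
    rw [hφ.mem_charCenter.1 (show ((x : E) : G) ∈ _ from hZ x.2), ← hφ.cast_charDegree,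
      Complex.norm_natCast],
    Finset.sum_const, Finset.card_univ, nsmul_eq_mul, ← Nat.card_eq_fintype_card,
    inv_mul_cancel_left₀ (by simpa using Nat.card_pos.ne')] at h1
  exact ⟨n, by exact_mod_cast h1⟩

theorem comm_mem_charKer {z : G} (hz : z ∈ charCenter χ.1) (g : G) : ⁅z, g⁆ ∈ charKer χ.1 :=
  χ.2.isCharacter.commutator_mem_charKer hz g

theorem comm_le_charKer (h : Z ≤ charCenter χ.1) (H : Subgroup G) : ⁅Z, H⁆ ≤ charKer χ.1 :=
  Subgroup.commutator_le.2 fun _ hz g _ => comm_mem_charKer (h hz) g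

theorem le_charCenter_of_comm [R.Normal] {θ : IrrCharacter R} (hθ : ∀ g, icj R g θ = θ)
    (h : em R χ θ ≠ 0) (h1 : E ≤ R) (h2 : ⁅E, R⁆ ≤ charKer χ.1) : E ≤ charCenter χ.1 :=
  fun x hx => (mem_charCenter_of_inv hθ h ⟨x, h1 hx⟩).2 (θ.2.mem_charCenter_iff.2 fun g =>
    θ.2.isCharacter.mem_charKer.2 (apply_eq_of_em h (χ.2.isCharacter.mem_charKer.1
      (h2 (Subgroup.commutator_mem_commutator hx g.2)))))

/-- A subgroup centralizing `P` and central modulo `Z(χ)` in `R = [R, P]` centralizes `R` modulo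
the kernel. -/
theorem comm_le_ker_of_comm (hR : R ≤ ⁅R, P⁆) (h1 : ⁅E, P⁆ ≤ charKer χ.1)
    (h : ⁅E, R⁆ ≤ charCenter χ.1) : ⁅E, R⁆ ≤ charKer χ.1 := by
  haveI := χ.2.isCharacter.normal_charKer
  rw [Subgroup.commutator_comm]
  refine (Subgroup.commutator_mono hR le_rfl).trans (Comp.three_subgroups_le
    (le_No_of_normal _ _) (le_No_of_normal _ _) (le_No_of_normal _ _) ?_ (comm_le_charKer h _))
  rw [Subgroup.commutator_comm P]
  exact (Subgroup.commutator_mono h1 le_rfl).trans (Subgroup.commutator_le_left _ _)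

theorem card_lt_relIndex (hZ : P ≤ No Z) (hE : P ≤ No E) {g : G} (hg : g ∈ E) (h1 : g ∉ Z)
    (h : ∀ x ∈ P, ⁅g⁻¹, x⁆ ∈ Z → x = 1) : Nat.card P < Z.relIndex E := by
  let f : Option P → E ⧸ Z.subgroupOf E := fun x => x.elim ((1 : E) : _)
    fun x => ((⟨x * g * x⁻¹, conj_mem_of_No (hE x.2) hg⟩ : E) : _)
  have h2 : ∀ x : P, f none ≠ f (some x) := fun x h2 => h1 (by
    simpa [mul_assoc] using conj_mem_of_No' (hZ x.2)
      (show (x : G) * g * (x : G)⁻¹ ∈ Z by simpa [Subgroup.mem_subgroupOf] using QuotientGroup.eq.1 h2))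
  have h3 : Function.Injective f := by
    rintro (_ | x) (_ | y) e
    · rfl
    · exact absurd e (h2 y)
    · exact absurd e.symm (h2 x)
    · have h3 : (x * g * x⁻¹ : G)⁻¹ * (y * g * y⁻¹) ∈ Z :=
        QuotientGroup.eq (s := Z.subgroupOf E).1 e
      have h4 := h (x⁻¹ * y) (mul_mem (inv_mem x.2) y.2) (by
        simpa [mul_assoc, commutatorElement_def] using conj_mem_of_No' (hZ x.2) h3)
      exact congrArg some (Subtype.ext (inv_mul_eq_one.1 h4))
  have := Nat.card_le_card_of_injective f h3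
  rwa [Finite.card_option] at this

theorem card_lt_sq [hp : Fact p.Prime] [R.Normal] (hP : IsPGroup p P) (h0 : P ≠ ⊥)
    (hR : ¬ p ∣ Nat.card R) (hn : Group.IsNilpotent R) (h1 : R ≤ ⁅R, P⁆) (h2 : R ⊔ P = ⊤)
    (h3 : ∀ x ∈ P, x ≠ 1 → R ⊓ Ce1 x ≤ Ce P) (h4 : ¬ R ≤ charKer χ.1) :
    Nat.card P < charDegree χ.1 ^ 2 := by
  obtain ⟨θ, hθ⟩ := exists_em_under χ R
  by_cases h5 : ∀ x ∈ P, icj R x θ = θ
  swap
  · have h6 : P ⊓ inertia R θ.1 = ⊥ := by
      rw [eq_bot_iff]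
      by_contra h6
      obtain ⟨x, hx, h7⟩ := SetLike.not_le_iff_exists.1 h6
      have h8 : R ⊓ Ce (zpowers x) = R ⊓ Ce P := le_antisymm
        (le_inf inf_le_left (Ce_zpowers x ▸ h3 x hx.1 h7))
        (inf_le_inf_left _ (Ce_anti (Subgroup.zpowers_le.2 hx.1)))
      have h9 := card_invS (isPGroup_le hP (Subgroup.zpowers_le.2 hx.1)) hR
      rw [h8, ← card_invS hP hR] at h9
      have h10 := Set.eq_of_subset_of_ncard_le (s := {θ | ∀ x ∈ P, icj R x θ = θ})
        (t := {θ | ∀ y ∈ zpowers x, icj R y θ = θ})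
        (fun φ h y hy => h y (Subgroup.zpowers_le.2 hx.1 hy)) h9.le
      exact h5 (h10.ge fun y hy => icj_eq_iff.2 (Subgroup.zpowers_le.2 hx.2 hy))
    have h7 := Solv.card_mul_card_le (S := ⊤) (H := P) (K := inertia R θ.1) le_top le_top
    rw [h6, Subgroup.card_bot, mul_one, Subgroup.card_top, ← (inertia R θ.1).index_mul_card] at h7
    have h8 := (Nat.le_of_mul_le_mul_right h7 Nat.card_pos).trans (index_inertia_le hθ)
    have h9 := P.one_lt_card_iff_ne_bot.2 h0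
    nlinarith
  have h6 := icj_eq_of_sup h2 h5
  haveI := χ.2.isCharacter.normal_charKer
  let Z := R ⊓ charCenter χ.1
  let E := R ⊓ Solv.centralMod R (charCenter χ.1)
  have h7 : ¬ R ≤ charCenter χ.1 := fun h => h4 (h1.trans (comm_le_charKer h _))
  obtain ⟨g, hg, h8, h9⟩ := Solv.exists_central_mod hn le_rfl (le_No R) h7
  have hE : ∀ x, x ∈ E ↔ x ∈ R ∧ ∀ y ∈ R, ⁅x, y⁆ ∈ charCenter χ.1 := fun x =>
    and_congr_right fun _ => Solv.mem_centralMod.trans (and_iff_right (top_le_No _ trivial))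
  have h10 := relIndex_dvd_sq (E := E) (Z := Z) χ.2.isCharacter inf_le_right fun x hx h =>
    eq_zero_of_inv h6 hθ hx.1 ((hE x).1 hx).2 fun h' => h ⟨hx.1, h'⟩
  refine lt_of_lt_of_le (card_lt_relIndex (Z := Z) (le_No_of_normal _ _)
    (Solv.le_normalizer_of_conj_mem fun x _ y hy => (hE _).2 ⟨‹R.Normal›.conj_mem y hy.1 x,
      fun z hz => ?_⟩) ((hE g).2 ⟨hg, h9⟩) (fun h => h8 h.2) fun x hx h => ?_)
    (Nat.le_of_dvd (pow_pos (Nat.pos_of_ne_zero (charDegree_ne_zero χ)) 2) h10)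
  · have := (normal_charCenter χ).conj_mem _ (((hE y).1 hy).2 _ (‹R.Normal›.conj_mem' z hz x)) x
    simpa [commutatorElement_def, mul_assoc] using this
  by_contra h11
  obtain ⟨z, hz, h12⟩ := Solv.coprime_fixed_coset (A := zpowers x) (N := Z) (k := g)
    (le_No_of_normal _ _) (Solv.coprime_card_of_isPGroup
      (isPGroup_le hP (Subgroup.zpowers_le.2 hx))
      fun h => hR (h.trans (Subgroup.card_dvd_of_le inf_le_left)))
    (Or.inl (Solv.isSolvable_zpowers x)) (top_le_No _ trivial) (by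
      rintro _ ⟨k, rfl⟩
      exact comm_mem_iff.2 ((Commute.inv_left_iff.1
        (show Commute (g : G ⧸ Z)⁻¹ x from comm_mem_iff.1 h)).zpow_right k).symm)
  have h13 : z * g ∈ E := mul_mem ⟨hz.1, Solv.le_centralMod (le_No_of_normal _ _) hz.2⟩
    ((hE g).2 ⟨hg, h9⟩)
  have h14 := h3 x hx h11 ⟨h13.1, Ce_zpowers x ▸ h12⟩
  have h15 := le_charCenter_of_comm (E := E ⊓ Ce P) h6 hθ (inf_le_left.trans inf_le_left)
    (comm_le_ker_of_comm h1 ((Subgroup.commutator_eq_bot_iff_le_centralizer.2 inf_le_right).trans_le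
      bot_le) ((Subgroup.commutator_mono (inf_le_left.trans inf_le_right) le_rfl).trans
        Solv.commutator_centralMod_le)) ⟨h13, h14⟩
  exact h8 ((Subgroup.mul_mem_cancel_left _ hz.2).1 h15)

end

end Cfsg.Agent.Blk
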