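import Cfsg.Agent.Lib.Block.Second
import Cfsg.Agent.Lib.Char.Clifford
import Cfsg.Agent.Lib.Solv.Cores

/-!
Blocks and normal subgroups: covering, kernels, defect zero.
-/

namespace Cfsg.Agent.Blk

open MonoidAlgebra
open Cfsg.Agent.Char hiding cj cj_mul cj_inv_cj cj_cj_inv
open scoped ComplexConjugate

variable {G : Type*} [Group G] [Finite G] {M : Ideal AlgInt} {p : ℕ}

theorem trace_eq_sum_coeff {R : Type*} [CommRing R] [Fintype G] (T : R[G] →ₗ[R] R[G]) :
    LinearMap.trace R R[G] T = ∑ g, (T (single g 1)).coeff g := by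
  classical
  rw [LinearMap.trace_eq_matrix_trace R (MonoidAlgebra.basis G R), Matrix.trace]
  refine Finset.sum_congr rfl fun g _ => ?_
  rw [Matrix.diag_apply, LinearMap.toMatrix_apply, MonoidAlgebra.basis_apply]
  rfl

theorem trace_mulLeft {R : Type*} [CommRing R] (a : R[G]) :
    LinearMap.trace R R[G] (LinearMap.mulLeft R a) = Nat.card G * a.coeff 1 := by
  have := Fintype.ofFinite G
  rw [trace_eq_sum_coeff]
  simp [Nat.card_eq_fintype_card]

theorem idem_eq_zero_of_coeff_one {e : ℂ[G]} (he : IsIdempotentElem e) (h : e.coeff 1 = 0) :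
    e = 0 := by
  have h1 : IsIdempotentElem (LinearMap.mulLeft ℂ e) := by
    rw [IsIdempotentElem, Module.End.mul_eq_comp, ← LinearMap.mulLeft_mul, he.eq]
  have h2 := LinearMap.IsIdempotentElem.eq_zero_of_trace_eq_zero h1
    (by rw [trace_mulLeft, h, mul_zero])
  simpa using congrArg (fun T => T 1) h2

theorem ch_es_fC (N : Subgroup G) [Fintype N] {χ : G → ℂ} (hχ : IsClassFunction G χ)
    (A : Set (IrrCharacter N)) [DecidablePred (· ∈ A)] : ch χ (es N (fC A)) =
      ∑ θ : IrrCharacter N, if θ ∈ A then classInner (fun n : N => χ n) θ * (θ : N → ℂ) 1 else 0 := by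
  rw [ch_es, ← mul_one (fC A), ch_fC_mul_eq (hχ.res N)]
  simp only [ch_one]

theorem ch_es_fC_ne_zero_iff (N : Subgroup G) [Fintype N] {χ : G → ℂ} (hχ : IsCharacter G χ)
    (A : Set (IrrCharacter N)) : ch χ (es N (fC A)) ≠ 0 ↔
      ∃ θ ∈ A, classInner (fun n : N => χ n) (θ : N → ℂ) ≠ 0 := by
  classical
  obtain ⟨c, hc, -⟩ := (hχ.res N).exists_coeff
  rw [ch_es_fC N hχ.isClassFunction]
  have : (∑ θ : IrrCharacter N, if θ ∈ A then classInner (fun n : N => χ n) θ * (θ : N → ℂ) 1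
      else 0) = ((∑ θ : IrrCharacter N, if θ ∈ A then c θ * charDegree (θ : N → ℂ) else 0 : ℕ) : ℂ) := by
    push_cast
    simp only [hc, cast_deg]
  rw [this, Nat.cast_ne_zero, Ne, Finset.sum_eq_zero_iff]
  simp only [hc, Finset.mem_univ, true_imp_iff, ite_eq_right_iff, mul_eq_zero,
    charDegree_ne_zero, or_false, Nat.cast_ne_zero]
  push Not
  rfl

theorem fC_mul_es_ne_zero_iff (N : Subgroup G) [Fintype N] (B : Set (IrrCharacter G))
    (A : Set (IrrCharacter N)) : fC B * es N (fC A) ≠ 0 ↔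
      ∃ χ ∈ B, ∃ θ ∈ A, classInner (fun n : N => (χ : G → ℂ) n) (θ : N → ℂ) ≠ 0 := by
  constructor
  · intro h
    by_contra hn
    apply h
    refine idem_eq_zero_of_coeff_one ((fC_idem B).mul_of_commute (Z_top_comm (fC_mem B) _)
      ((fC_idem A).map (es N))) ?_
    have h1 := sum_degree_mul_ch (fC B * es N (fC A))
    rw [Finset.sum_eq_zero] at h1
    · exact (mul_eq_zero.1 h1.symm).resolve_left (card_ne_zero' G)
    · intro χ _
      by_cases hχ : χ ∈ B
      · rw [ch_fC_mul_of_mem hχ]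
        by_contra h2
        exact hn ⟨χ, hχ, (ch_es_fC_ne_zero_iff N χ.2.isCharacter A).1 (right_ne_zero_of_mul h2)⟩
      · rw [ch_fC_mul_of_notMem hχ, mul_zero]
  · rintro ⟨χ, hχ, h⟩ h0
    apply (ch_es_fC_ne_zero_iff N χ.2.isCharacter A).2 h
    rw [← ch_fC_mul_of_mem hχ, h0, map_zero]

/-- On central elements supported on `N`, the central characters of `χ` and of a constituent of
its restriction agree. -/
theorem om_eq_om_rs {N : Subgroup G} [Fintype N] {χ : IrrCharacter G} {θ : IrrCharacter N}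
    (h : classInner (fun n : N => (χ : G → ℂ) n) (θ : N → ℂ) ≠ 0) {z : ℂ[G]}
    (hz : z ∈ Z ℂ (⊤ : Subgroup G)) (hz' : z ∈ sup ℂ N) : om χ z = om θ (rs N z) := by
  have h1 : ch χ (es N (fC {θ})) ≠ 0 :=
    (ch_es_fC_ne_zero_iff N χ.2.isCharacter _).2 ⟨θ, rfl, h⟩
  have h2 : rs N z ∈ Z ℂ (⊤ : Subgroup N) := rs_mem_Z (inv_anti le_top hz.2)
  have h3 : rs N z * fC {θ} = om θ (rs N z) • fC {θ} := by
    refine Z_ext_om (mul_mem h2 (fC_mem _)) (Subalgebra.smul_mem _ (fC_mem _) _) fun ψ => ?_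
    rw [om_mul ψ.2 h2, om_smul]
    by_cases hψ : ψ = θ
    · rw [hψ]
    · rw [om_fC_of_notMem (show ψ ∉ ({θ} : Set _) from hψ), mul_zero, mul_zero]
  apply mul_right_cancel₀ h1
  rw [← ch_central_mul χ.2 hz, ← smul_eq_mul (om _ _), ← map_smul, ← map_smul, ← h3,
    map_mul (es N), es_rs_of_mem hz']

theorem linear_ext_cls {R V : Type*} [CommRing R] [AddCommGroup V] [Module R V]
    {φ ψ : R[G] →ₗ[R] V} {H : Subgroup G} {z : R[G]} (hz : z ∈ inv R H)
    (h : ∀ g, z.coeff g ≠ 0 → φ (cls R H g) = ψ (cls R H g)) : φ z = ψ z :=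
  inv_induction (P := fun z => φ z = ψ z) hz (by simp)
    (fun a b _ _ h1 h2 => by simp only [map_add, h1, h2])
    (fun g hg => by simp only [map_smul, h g hg])

theorem exists_over {N : Subgroup G} [Fintype N] (θ : IrrCharacter N) :
    ∃ χ : IrrCharacter G, classInner (fun n : N => (χ : G → ℂ) n) (θ : N → ℂ) ≠ 0 := by
  have := Fintype.ofFinite G
  obtain ⟨χ, h1, h2⟩ := θ.2.exists_irr_over
  exact ⟨⟨χ, h1⟩, h2⟩

theorem exists_under (χ : IrrCharacter G) (N : Subgroup G) [Fintype N] :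
    ∃ θ : IrrCharacter N, classInner (fun n : N => (χ : G → ℂ) n) (θ : N → ℂ) ≠ 0 := by
  obtain ⟨θ, h1, h2⟩ := χ.2.exists_irr_under N
  exact ⟨⟨θ, h1⟩, h2⟩

theorem classInner_res_irrMap {N : Subgroup G} [Fintype N] {χ : G → ℂ} (hχ : IsClassFunction G χ)
    {x : G} (hx : cs x N = N) (θ : IrrCharacter N) :
    classInner (fun n : N => χ n) (irrMap (conjIso hx) θ : N → ℂ) =
      classInner (fun n : N => χ n) (θ : N → ℂ) := by
  rw [← classInner_comp_equiv (conjIso hx)]
  simp only [irrMap_apply', coe_conjIso, hχ.apply_conj]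

section

variable [M.IsMaximal]

theorem IsUB.cover_iff {N : Subgroup G} [Fintype N] {B : Set (IrrCharacter G)}
    {b : Set (IrrCharacter N)} (hB : IsUB M B) (hb : IsUB M b) :
    (∃ χ ∈ B, ∃ θ ∈ b, classInner (fun n : N => (χ : G → ℂ) n) (θ : N → ℂ) ≠ 0) ↔
      bar M B * barS M N b ≠ 0 := by
  rw [← fC_mul_es_ne_zero_iff, ← hB.toC_fO, ← hb.toC_fOS, ← map_mul (toC M), ← toK_fO, ← toK_fOS,
    ← map_mul (toK M), map_ne_zero_iff _ toC_injective]
  refine not_congr ⟨fun h => by rw [h, map_zero], fun h => idem_eq_zero_of_toK ?_ h⟩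
  exact hB.fO_idem.mul_of_commute (Z_top_comm (fO_mem B) _) hb.fOS_idem

theorem blk_mul_ne_zero {N : Subgroup G} [Fintype N] {χ : IrrCharacter G} {θ : IrrCharacter N}
    (h : classInner (fun n : N => (χ : G → ℂ) n) (θ : N → ℂ) ≠ 0) :
    blk M χ * es N (blk M θ) ≠ 0 := by
  rw [← bar_blockOf, ← barS_blockOf, ← (isUB_blockOf χ).cover_iff (isUB_blockOf θ)]
  exact ⟨χ, mem_blockOf_self χ, θ, mem_blockOf_self θ, h⟩

theorem IsBlock.cover_iff_cls {k : Type*} [Field k] [IsAlgClosed k] {N K : Subgroup G}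
    {e B : k[G]} (he : IsBlock K e) (hKN : K ≤ N) (hN : N ≤ No K) (hB : IsBlock N B) :
    B * e ≠ 0 ↔ ∀ g ∈ K, lam B (cls k N g) = lam e (cls k N g) := by
  rw [he.cover_iff_forall_lam hKN hN hB]
  refine ⟨fun h g hg => h _ (cls_mem_sup hN hg) (cls_mem_inv _ _), fun h z hz hz' => ?_⟩
  have key : z ∈ Blk.sup k K ∧ lam B z = lam e z := by
    refine inv_induction (P := fun z => z ∈ Blk.sup k K ∧ lam B z = lam e z) hz'
      ⟨zero_mem _, by rw [hB.lam_zero, he.lam_zero]⟩ ?_ ?_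
    · rintro a b ha hb ⟨h1, h2⟩ ⟨h3, h4⟩
      exact ⟨add_mem h1 h3, by
        rw [hB.lam_add ⟨sup_mono hKN h1, ha⟩ ⟨sup_mono hKN h3, hb⟩,
          he.lam_add ⟨h1, inv_anti hKN ha⟩ ⟨h3, inv_anti hKN hb⟩, h2, h4]⟩
    · intro g hg
      have hgK := mem_of_coeff_ne_zero hz hg
      have h1 := cls_mem_sup (R := k) hN hgK
      exact ⟨Subalgebra.smul_mem _ h1 _, by
        rw [hB.lam_smul _ (cls_mem_Z (hKN hgK)),
          he.lam_smul _ ⟨h1, inv_anti hKN (cls_mem_inv _ _)⟩, h g hgK]⟩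
  exact key.2

omit [Finite G] in
theorem top_le_No (N : Subgroup G) [N.Normal] : ⊤ ≤ No N := fun x _ => mem_No.2 (cs_normal x N)

omit [Finite G] in
theorem le_No_of_normal (H N : Subgroup G) [N.Normal] : H ≤ No N := le_top.trans (top_le_No N)

/-- Two blocks of a normal subgroup covered by the same block are conjugate. -/
theorem exists_conj_of_cover {N : Subgroup G} [N.Normal] {B : (kk M)[G]} (hB : IsBlock ⊤ B)
    {b b' : Set (IrrCharacter N)} (hb : IsPBlock M b) (hb' : IsPBlock M b')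
    (h : B * barS M N b ≠ 0) (h' : B * barS M N b' ≠ 0) :
    ∃ x : G, b' = irrMap (conjIso (cs_normal x N)) '' b := by
  obtain ⟨x, -, hx⟩ := mem_orbit.1
    (hb.isBlockS.mem_orbit_of_cover hb'.isBlockS le_top (top_le_No N) hB h h')
  exact ⟨x, hb'.barS_inj ((isPBlock_image_iff _).2 hb) (by rw [barS_image_conj, hx])⟩

theorem IsUB.eq_of_forall {A : Set (IrrCharacter G)} {χ : IrrCharacter G} (hA : IsUB M A)
    (h : χ ∈ A) : blockOf M (χ : G → ℂ) ⊆ A := fun _ hψ => hA χ h _ (mem_blockOf.1 hψ)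

theorem _root_.Cfsg.IsPBlock.subset_of_mem {A B : Set (IrrCharacter G)} {χ : IrrCharacter G}
    (hB : IsPBlock M B) (hA : IsUB M A) (hχ : χ ∈ B) (h : χ ∈ A) : B ⊆ A := by
  rw [hB.eq_blockOf hχ]; exact hA.eq_of_forall h

theorem blockOf_eq_singleton_iff {χ : IrrCharacter G} :
    blockOf M (χ : G → ℂ) = {χ} ↔ IsUB M {χ} :=
  ⟨fun h => h ▸ isUB_blockOf χ, fun h => (h.eq_of_forall rfl).antisymm
    (Set.singleton_subset_iff.2 (mem_blockOf_self χ))⟩

end

variable [PMod M p]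

theorem isUB_of_not_dvd (h : ¬ p ∣ Nat.card G) (A : Set (IrrCharacter G)) : IsUB M A := by
  classical
  refine isUB_of_isInt fun g => ?_
  rw [coeff_fC, blockCoeff_eq]
  refine mul_mem (natCast_inv_mem_O h) (sum_mem fun χ _ => ?_)
  split_ifs
  · exact mul_mem (irr_mem_O M χ 1) (conj_irr_mem_O M χ g)
  · exact zero_mem _

theorem blockOf_of_not_dvd (h : ¬ p ∣ Nat.card G) (χ : IrrCharacter G) :
    blockOf M (χ : G → ℂ) = {χ} := blockOf_eq_singleton_iff.2 (isUB_of_not_dvd h _)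

include p in
theorem IsBlock.mem_sup_of_preg {L K : Subgroup G} {B : (kk M)[G]} (hB : IsBlock L B)
    (h : ∀ g ∈ L, ¬ p ∣ orderOf g → g ∈ K) : B ∈ Blk.sup (kk M) K := by
  refine mem_sup.2 fun g hg => ?_
  by_contra h0
  exact hg (h g (mem_of_coeff_ne_zero hB.sup h0) (preg_of_coeff_idem hB.mem hB.idem h0))

omit [Finite G] in
theorem mem_of_preg_of_relIndex [hp : Fact p.Prime] {K L : Subgroup G} (hL : L ≤ No K) {n : ℕ}
    (h : K.relIndex L = p ^ n) {g : G} (hg : g ∈ L) (h1 : ¬ p ∣ orderOf g) : g ∈ K := by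
  have : (K.subgroupOf L).Normal := Subgroup.normal_subgroupOf_of_le_normalizer hL
  have h2 : (⟨g, hg⟩ : L) ^ p ^ n ∈ K.subgroupOf L := by
    rw [← h]; exact Subgroup.pow_index_mem _ _
  exact (Subgroup.zpowers_le.2 (Subgroup.mem_subgroupOf.1 h2)) (preg_mem_zpowers_pow h1 n)

omit [Finite G] in
theorem mem_of_preg_of_index [hp : Fact p.Prime] {K : Subgroup G} [K.Normal] {n : ℕ}
    (h : K.index = p ^ n) {g : G} (h1 : ¬ p ∣ orderOf g) : g ∈ K :=
  mem_of_preg_of_relIndex (top_le_No K) (by rw [Subgroup.relIndex_top_right, h]) trivial h1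

include p in
/-- If the `p`-regular elements of `N` lie in the normal subgroup `K`, a block of `K` is covered by
a unique block of `N`. -/
theorem IsBlock.eq_orb_of_preg {N K : Subgroup G} {e B : (kk M)[G]} (he : IsBlock K e)
    (hKN : K ≤ N) (hN : N ≤ No K) (hB : IsBlock N B) (h : ∀ g ∈ N, ¬ p ∣ orderOf g → g ∈ K)
    (h1 : B * e ≠ 0) : B = orb N e := he.eq_orb hKN hN hB (hB.mem_sup_of_preg h) h1

include p in
theorem IsBlock.isBlock_orb_of_preg {N K : Subgroup G} {e : (kk M)[G]} (he : IsBlock K e)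
    (hKN : K ≤ N) (hN : N ≤ No K) (h : ∀ g ∈ N, ¬ p ∣ orderOf g → g ∈ K) :
    IsBlock N (orb N e) := by
  obtain ⟨B, hB, h1⟩ := he.exists_cover N
  rwa [← he.eq_orb_of_preg hKN hN hB h h1]

/-- The characters over a given character of a normal `p'`-subgroup form a union of blocks. -/
theorem isUB_over {N : Subgroup G} [N.Normal] [Fintype N] (hN : ¬ p ∣ Nat.card N)
    (θ : IrrCharacter N) :
    IsUB M {χ : IrrCharacter G | classInner (fun n : N => (χ : G → ℂ) n) (θ : N → ℂ) ≠ 0} := by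
  intro χ hχ ψ hψ
  obtain ⟨θ', h'⟩ := exists_under ψ N
  have h1 := blk_mul_ne_zero (M := M) hχ
  have h2 := blk_mul_ne_zero (M := M) h'
  rw [hψ] at h2
  rw [← barS_blockOf] at h1 h2
  obtain ⟨x, hx⟩ := exists_conj_of_cover (isBlock_blk χ) (isPBlock_blockOf θ)
    (isPBlock_blockOf θ') h1 h2
  rw [blockOf_of_not_dvd hN, blockOf_of_not_dvd hN, Set.image_singleton,
    Set.singleton_eq_singleton_iff] at hx
  rwa [hx, classInner_res_irrMap ψ.2.isClassFunction] at h'

theorem le_charKer_iff_over {N : Subgroup G} [N.Normal] [Fintype N] (χ : IrrCharacter G) :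
    N ≤ charKer (χ : G → ℂ) ↔ classInner (fun n : N => (χ : G → ℂ) n) (irrOne N : N → ℂ) ≠ 0 := by
  have := Fintype.ofFinite G
  refine ⟨fun h => ?_, χ.2.le_charKer_of_over_one⟩
  rw [coe_irrOne, (χ.2.isCharacter.le_charKer_iff N).1 h]
  exact χ.2.apply_one_ne_zero

theorem isUB_ker {N : Subgroup G} [N.Normal] (hN : ¬ p ∣ Nat.card N) :
    IsUB M {χ : IrrCharacter G | N ≤ charKer (χ : G → ℂ)} := by
  have := Fintype.ofFinite N
  simp only [le_charKer_iff_over]
  exact isUB_over hN _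

theorem _root_.Cfsg.IsPBlock.le_charKer {B : Set (IrrCharacter G)} (hB : IsPBlock M B)
    {N : Subgroup G} [N.Normal] (hN : ¬ p ∣ Nat.card N) {χ ψ : IrrCharacter G} (hχ : χ ∈ B)
    (hψ : ψ ∈ B) (h : N ≤ charKer (χ : G → ℂ)) : N ≤ charKer (ψ : G → ℂ) :=
  hB.subset_of_mem (isUB_ker hN) hχ h hψ

omit [Finite G] in
theorem charKer_irrOne : charKer (irrOne G : G → ℂ) = ⊤ := by
  ext g; simp [mem_charKer]

theorem le_charKer_of_principal {N : Subgroup G} [N.Normal] (hN : ¬ p ∣ Nat.card N)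
    {χ : IrrCharacter G} (hχ : χ ∈ principalBlock M G) : N ≤ charKer (χ : G → ℂ) :=
  isPBlock_principal.le_charKer hN irrOne_mem_principal hχ (by rw [charKer_irrOne]; exact le_top)

/-- The kernel of a nonempty union of blocks consists of `p`-regular elements. -/
theorem IsUB.preg_of_ker {A : Set (IrrCharacter G)} (hA : IsUB M A) (h0 : A.Nonempty) {g : G}
    (h : ∀ χ ∈ A, (χ : G → ℂ) g = (χ : G → ℂ) 1) : ¬ p ∣ orderOf g := by
  classical
  have := Fact.mk (PMod.prime M)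
  intro hg
  have h1 := hA.weak_orthogonality preg_one hg
  have h2 : (∑ χ : IrrCharacter G, if χ ∈ A then (χ : G → ℂ) 1 * conj ((χ : G → ℂ) g) else 0) =
      ((∑ χ : IrrCharacter G, if χ ∈ A then charDegree (χ : G → ℂ) * charDegree (χ : G → ℂ) else 0
        : ℕ) : ℂ) := by
    push_cast
    refine Finset.sum_congr rfl fun χ _ => ?_
    split_ifs with hχ
    · rw [h χ hχ, ← cast_deg, map_natCast]
    · rfl
  obtain ⟨χ, hχ⟩ := h0
  have h3 := Finset.sum_eq_zero_iff.1 (Nat.cast_eq_zero.1 (h2.symm.trans (by convert h1))) χ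
    (Finset.mem_univ _)
  rw [if_pos hχ, mul_self_eq_zero] at h3
  exact charDegree_ne_zero χ h3

/-- Blocks of a group with a normal `p`-complement. -/
theorem blk_eq_iff_of_npc {N : Subgroup G} [N.Normal] [Fintype N] (hN : ¬ p ∣ Nat.card N) {n : ℕ}
    (hidx : N.index = p ^ n) {χ ψ : IrrCharacter G} {θ : IrrCharacter N}
    (h : classInner (fun n : N => (χ : G → ℂ) n) (θ : N → ℂ) ≠ 0) :
    blk M ψ = blk M χ ↔ classInner (fun n : N => (ψ : G → ℂ) n) (θ : N → ℂ) ≠ 0 := by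
  have := Fact.mk (PMod.prime M)
  refine ⟨fun h1 => isUB_over hN θ χ h ψ h1, fun h1 => ?_⟩
  have key : ∀ χ : IrrCharacter G, classInner (fun n : N => (χ : G → ℂ) n) (θ : N → ℂ) ≠ 0 →
      blk M χ = orb ⊤ (es N (blk M θ)) := fun χ h =>
    (isBlock_es_blk θ).eq_orb_of_preg le_top (top_le_No N) (isBlock_blk χ)
      (fun g _ hg => mem_of_preg_of_index hidx hg) (blk_mul_ne_zero h)
  rw [key χ h, key ψ h1]

theorem mem_principal_iff_of_npc {N : Subgroup G} [N.Normal] (hN : ¬ p ∣ Nat.card N) {n : ℕ}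
    (hidx : N.index = p ^ n) {χ : IrrCharacter G} :
    χ ∈ principalBlock M G ↔ N ≤ charKer (χ : G → ℂ) := by
  have := Fintype.ofFinite N
  rw [principalBlock_eq, mem_blockOf, le_charKer_iff_over]
  exact blk_eq_iff_of_npc hN hidx ((le_charKer_iff_over _).1 (by rw [charKer_irrOne]; exact le_top))

/-! ### The idempotent of the characters with `N` in their kernel -/

theorem blockCoeff_ker (N : Subgroup G) [hN : N.Normal] (g : G) [Decidable (g ∈ N)] :
    blockCoeff {χ : IrrCharacter G | N ≤ charKer (χ : G → ℂ)} g =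
      if g ∈ N then (Nat.card N : ℂ)⁻¹ else 0 := by
  classical
  have := Fintype.ofFinite N
  have := Fintype.ofFinite G
  have h1 : fC {χ : IrrCharacter G | N ≤ charKer (χ : G → ℂ)} =
      ofFun fun g => if g ∈ N then (Nat.card N : ℂ)⁻¹ else 0 := by
    refine Z_ext_om (fC_mem _) (ofFun_mem_Z fun x g => ?_) fun χ => ?_
    · rw [if_congr (hN.mem_comm_iff.trans (by rw [inv_mul_cancel_left])) rfl rfl]
    have h2 : om χ (ofFun fun g => if g ∈ N then (Nat.card N : ℂ)⁻¹ else 0) =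
        classInner (fun n : N => (χ : G → ℂ) n) (fun _ => 1) / (χ : G → ℂ) 1 := by
      rw [om, ch_eq_sum, classInner_one_right, Finset.mul_sum]
      congr 1
      simp only [coeff_ofFun, ite_mul, zero_mul]
      rw [← Finset.sum_filter]
      exact Finset.sum_subtype _ (by simp) fun g => (Nat.card N : ℂ)⁻¹ * (χ : G → ℂ) g
    rw [h2]
    by_cases h : N ≤ charKer (χ : G → ℂ)
    · rw [om_fC_of_mem h, (χ.2.isCharacter.le_charKer_iff N).1 h, div_self χ.2.apply_one_ne_zero]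
    · rw [om_fC_of_notMem h]
      by_contra h3
      exact h (χ.2.le_charKer_of_over_one fun h4 => h3 (by rw [h4, zero_div]))
  rw [← coeff_fC, h1, coeff_ofFun]
  congr

theorem sum_degree_mul_conj_ker (N : Subgroup G) [hN : N.Normal] {g : G} (hg : g ∈ N)
    [DecidablePred fun χ : IrrCharacter G => N ≤ charKer (χ : G → ℂ)] :
    (∑ χ : IrrCharacter G, if N ≤ charKer (χ : G → ℂ) then
      (χ : G → ℂ) 1 * conj ((χ : G → ℂ) g) else 0) = N.index := by
  classical
  have h1 := blockCoeff_ker N g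
  rw [blockCoeff_eq, if_pos hg, inv_mul_eq_iff_eq_mul₀ (card_ne_zero' G), ← N.index_mul_card,
    Nat.cast_mul, mul_inv_cancel_right₀ (card_ne_zero' N)] at h1
  convert h1
  rfl

/-! ### Values on `p`-sections -/

theorem apply_eq_sum_locSet {H : Subgroup G} [Fintype H] {A : Set (IrrCharacter G)} (hA : IsUB M A)
    {χ : IrrCharacter G} (hχ : χ ∈ A) {h : H} {x : G} (hx : IsPPart p (h : G) x) (hC : Ce1 x ≤ H)
    [DecidablePred (· ∈ locSet M H A)] :
    (χ : G → ℂ) h = ∑ ξ : IrrCharacter H, if ξ ∈ locSet M H A then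
      classInner (fun h : H => (χ : G → ℂ) h) ξ * (ξ : H → ℂ) h else 0 := by
  rw [apply_eq_ch_locSet hA hχ h.2 hx hC, ← es_single, ← map_mul (es H), ch_es,
    ch_fC_mul_eq (χ.2.isClassFunction.res H)]
  simp only [ch_single, one_mul]

/-- Characters of the principal block are constant on `u O_{p'}(C(u))`-cosets in `p`-sections. -/
theorem principal_apply_mul {u : G} (hu : ∃ k : ℕ, orderOf u = p ^ k) {N : Subgroup (Ce1 u)}
    [N.Normal] (hN : ¬ p ∣ Nat.card N) {χ : IrrCharacter G} (hχ : χ ∈ principalBlock M G)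
    {y v : Ce1 u} (hy : ¬ p ∣ orderOf y) (hv : v ∈ N) (hyv : ¬ p ∣ orderOf (y * v)) :
    (χ : G → ℂ) (u * (y * v)) = (χ : G → ℂ) (u * y) := by
  classical
  have := Fintype.ofFinite (Ce1 u)
  have := Fact.mk (PMod.prime M)
  set u' : Ce1 u := ⟨u, mem_Ce1.2 rfl⟩
  have key : ∀ y : Ce1 u, ¬ p ∣ orderOf y → (χ : G → ℂ) (u * y) = ∑ ξ : IrrCharacter (Ce1 u),
      if ξ ∈ principalBlock M (Ce1 u) then classInner (fun h : Ce1 u => (χ : G → ℂ) h) ξ *
        (ξ : Ce1 u → ℂ) (u' * y) else 0 := fun y hy => by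
    have := apply_eq_sum_locSet (H := Ce1 u) (h := u' * y) isPBlock_principal.isUB hχ
      (isPPart_mul (mem_Ce1.1 y.2).symm hu (by rwa [Subgroup.orderOf_coe])) le_rfl
    simp only [locSet_Ce1_principal hu] at this
    convert this
    rfl
  rw [← Subgroup.coe_mul, key _ hyv, key _ hy]
  refine Finset.sum_congr rfl fun ξ _ => ?_
  split_ifs with hξ
  · rw [← mul_assoc, ξ.2.isCharacter.apply_mul_of_apply_eq'
      (ξ.2.isCharacter.mem_charKer.1 (le_charKer_of_principal hN hξ hv))]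
  · rfl

/-! ### Defect zero -/

theorem exists_degree_eq_of_vanish {χ : G → ℂ} (hχ : IsGeneralizedCharacter G χ) (P : Subgroup G)
    (h : ∀ x ∈ P, x ≠ 1 → χ x = 0) : ∃ n : ℤ, χ 1 = Nat.card P * n := by
  classical
  have := Fintype.ofFinite P
  obtain ⟨n, hn⟩ := (hχ.res P).classInner_eq_int isCharacter_one.isGen
  rw [classInner_one_right, Finset.sum_eq_single (1 : P)
    (fun (x : P) _ hx => h x x.2 (by simpa using hx)) (by simp), inv_mul_eq_iff_eq_mul₀ (card_ne_zero' P)] at hn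
  exact ⟨n, hn⟩

theorem nu_eq_of_vanish [hp : Fact p.Prime] {χ : IrrCharacter G}
    (h : ∀ x, (∃ k, orderOf x = p ^ k) → x ≠ 1 → (χ : G → ℂ) x = 0) :
    nu p χ = (Nat.card G).factorization p := by
  obtain ⟨P⟩ := (inferInstance : Nonempty (Sylow p G))
  obtain ⟨n, hn⟩ := exists_degree_eq_of_vanish χ.2.isGen (P : Subgroup G)
    fun x hx => h x (pelt_of_mem P.2 hx)
  refine (nu_le p χ).antisymm ((hp.out.pow_dvd_iff_le_factorization (charDegree_ne_zero χ)).1 ?_)
  rw [← P.card_eq_multiplicity, ← Int.natCast_dvd_natCast]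
  exact ⟨n, by rw [← cast_deg] at hn; exact_mod_cast hn⟩

theorem blockCoeff_singleton (χ : IrrCharacter G) (g : G) :
    blockCoeff {χ} g = (Nat.card G : ℂ)⁻¹ * ((χ : G → ℂ) 1 * conj ((χ : G → ℂ) g)) := by
  rw [blockCoeff, finsum_mem_singleton]

theorem isUB_singleton_of_nu {χ : IrrCharacter G} (h : nu p χ = (Nat.card G).factorization p) :
    IsUB M {χ} := by
  classical
  refine isUB_of_isInt fun g => ?_
  rw [coeff_fC, blockCoeff_singleton, ← mul_assoc, ← cast_deg, inv_mul_eq_div]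
  exact mul_mem ((natDiv_mem_O_iff (charDegree_ne_zero χ) Nat.card_pos.ne').2 h.ge)
    (conj_irr_mem_O M χ g)

theorem IsUB.apply_eq_zero {χ : IrrCharacter G} (h : IsUB M {χ}) {y : G} (hy : p ∣ orderOf y) :
    (χ : G → ℂ) y = 0 := by
  classical
  have h1 := h.blockCoeff_eq_zero hy
  rw [blockCoeff_singleton] at h1
  simpa [χ.2.apply_one_ne_zero, Nat.card_pos.ne'] using h1

theorem isUB_singleton_iff {χ : IrrCharacter G} :
    IsUB M {χ} ↔ nu p χ = (Nat.card G).factorization p :=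
  have := Fact.mk (PMod.prime M)
  ⟨fun h => nu_eq_of_vanish fun _ h1 h2 => h.apply_eq_zero (dvd_orderOf_of_pelt h1 h2),
    isUB_singleton_of_nu⟩

theorem _root_.Cfsg.IsPBlock.eq_singleton_of_nu {B : Set (IrrCharacter G)} (hB : IsPBlock M B)
    {χ : IrrCharacter G} (hχ : χ ∈ B) (h : nu p χ = (Nat.card G).factorization p) : B = {χ} := by
  rw [hB.eq_blockOf hχ, blockOf_eq_singleton_iff, isUB_singleton_iff, h]

theorem _root_.Cfsg.IsPBlock.defect_eq_zero_iff {B : Set (IrrCharacter G)} (hB : IsPBlock M B)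
    {χ : IrrCharacter G} (hχ : χ ∈ B) :
    blockDefect p B = 0 ↔ nu p χ = (Nat.card G).factorization p := by
  have h1 := defect_add_mnu (p := p) hB.nonempty
  have h2 := mnu_le p hχ
  have h3 := nu_le p χ
  refine ⟨fun h => by omega, fun h => ?_⟩
  obtain ⟨ψ, hψ, h4⟩ := exists_nu_eq_mnu p hB.nonempty
  rw [hB.eq_singleton_of_nu hχ h] at hψ
  rw [hψ] at h4
  omega

theorem _root_.Cfsg.IsPBlock.defect_eq_zero_iff_isDef {B : Set (IrrCharacter G)}
    (hB : IsPBlock M B) : blockDefect p B = 0 ↔ IsDef p ⊤ (bar M B) ⊥ := by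
  have hp := Fact.mk (PMod.prime M)
  refine ⟨fun h => hB.isDef_of_card IsPGroup.of_bot (by simpa using hB.isBlock.ne) (by simp [h]),
    fun h => ?_⟩
  have := hB.card_isDef h
  rw [Subgroup.card_bot] at this
  exact (Nat.pow_eq_one.1 this.symm).resolve_left hp.out.ne_one

theorem isDef_principal_iff {D : Subgroup G} :
    IsDef p ⊤ (bar M (principalBlock M G)) D ↔ IsSyl p D ⊤ := by
  have hp := Fact.mk (PMod.prime M)
  have hB := isPBlock_principal (M := M) (G := G)
  have h1 : blockDefect p (principalBlock M G) = (Nat.card G).factorization p := by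
    have h1 := defect_add_mnu (p := p) hB.nonempty
    have h2 := (height_eq_zero_iff irrOne_mem_principal).1 (height_irrOne p (principalBlock M G))
    have h3 : nu p (irrOne G) = 0 := by simp [nu, charDegree]
    omega
  have key : ∀ D, IsDef p ⊤ (bar M (principalBlock M G)) D → IsSyl p D ⊤ := fun D h =>
    isSyl_of_card le_top (by rw [hB.card_isDef h, h1, Subgroup.card_top])
  refine ⟨key D, fun h => ?_⟩
  obtain ⟨E, hE⟩ := hB.isBlock.exists_isDef p
  obtain ⟨x, -, rfl⟩ := h.exists_cs_eq (key E hE)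
  exact hE.cs_of_mem hB.isBlock.inv trivial

omit [Finite G] in
theorem eq_one_of_mem_sup_bot {k : Type*} [Field k] {e : k[G]} (he : IsIdempotentElem e)
    (h0 : e ≠ 0) (h : e ∈ sup k (⊥ : Subgroup G)) : e = 1 := by
  classical
  have h1 : e = single 1 (e.coeff 1) := ext' fun g => by
    rw [coeff_single']
    split_ifs with hg
    · rw [hg]
    · exact mem_sup.1 h g (by simpa [eq_comm] using hg)
  have h2 : e.coeff 1 ≠ 0 := fun h => h0 (by rw [h1, h, single_zero])
  have h3 : e.coeff 1 * e.coeff 1 = e.coeff 1 := by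
    have := congrArg (fun a : k[G] => a.coeff 1) he.eq
    rw [h1, single_mul_single] at this
    simpa using this
  rw [h1, mul_left_cancel₀ h2 (h3.trans (mul_one _).symm), one_def]

include p in
theorem IsBlock.eq_one_of_Ce_le {H P : Subgroup G} {B : (kk M)[G]} (hB : IsBlock H B)
    (hP : IsPGroup p P) (hPH : P ≤ H) (hH : H ≤ No P) (h : H ⊓ Ce P ≤ P) : B = 1 := by
  have hp := Fact.mk (PMod.prime M)
  refine eq_one_of_mem_sup_bot hB.idem hB.ne (mem_sup.2 fun g hg => by_contra fun h0 => hg ?_)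
  exact eq_one_of_pelt_of_preg (pelt_of_mem hP (h ⟨mem_of_coeff_ne_zero hB.sup h0,
    mem_of_coeff_ne_zero (hB.mem_sup_Ce hP hPH hH) h0⟩)) (preg_of_coeff_idem hB.mem hB.idem h0)

/-- A central idempotent supported, modulo `M`, on a normal subgroup is supported on it. -/
theorem IsUB.fO_eq_fOS {K : Subgroup G} {A : Set (IrrCharacter G)} {b : Set (IrrCharacter K)}
    (hA : IsUB M A) (hb : IsUB M b) (h : bar M A = barS M K b) : fO M A = fOS M K b :=
  idem_eq_of_toK_eq hA.fO_idem hb.fOS_idem (Z_top_comm (fO_mem A) _) (by rw [toK_fO, toK_fOS, h])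

theorem IsUB.blockCoeff_eq_zero_of_mem_sup {K : Subgroup G} {A : Set (IrrCharacter G)}
    (hA : IsUB M A) (h : bar M A ∈ sup (kk M) K) {g : G} (hg : g ∉ K) : blockCoeff A g = 0 := by
  obtain ⟨b, hb, h1⟩ := exists_isUB_barS_eq ⟨h, inv_anti le_top (bar_mem A).2⟩ hA.bar_idem
  rw [← hA.coeff_fO, hA.fO_eq_fOS hb h1.symm, mem_sup.1 (fOS_mem K b).1 g hg,
    ZeroMemClass.coe_zero]

theorem IsUB.coeff_fOS {K : Subgroup G} {b : Set (IrrCharacter K)} (hb : IsUB M b) (g : G) :
    ((fOS M K b).coeff g : ℂ) = subgroupBlockCoeff K b g := by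
  rw [← coeff_toC, hb.toC_fOS, coeff_es_fC]

theorem IsUB.fOS_eq_of_barS_eq {K L : Subgroup G} (hKL : K ≤ L) {b : Set (IrrCharacter K)}
    {c : Set (IrrCharacter L)} (hb : IsUB M b) (hc : IsUB M c) (h : barS M L c = barS M K b) :
    fOS M L c = fOS M K b :=
  idem_eq_of_toK_eq hc.fOS_idem hb.fOS_idem
    (commute_of_mem (fOS_mem L c).2 (sup_mono hKL (fOS_mem K b).1)) (by rw [toK_fOS, toK_fOS, h])

omit [Finite G] in
theorem subgroupBlockCoeff_coe (K : Subgroup G) (b : Set (IrrCharacter K)) (g : K) :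
    subgroupBlockCoeff K b g = blockCoeff b g := dif_pos g.2

/-- Equality of idempotents of blocks of different subgroups, in terms of coefficients. -/
theorem IsUB.forall_coeff_eq_iff {K L : Subgroup G} (hKL : K ≤ L) {b : Set (IrrCharacter K)}
    {c : Set (IrrCharacter L)} (hb : IsUB M b) (hc : IsUB M c) :
    (∀ t : L, blockCoeff c t = subgroupBlockCoeff K b t) ↔ barS M L c = barS M K b := by
  refine ⟨fun h => ?_, fun h t => by
    rw [← subgroupBlockCoeff_coe, ← hc.coeff_fOS, hb.fOS_eq_of_barS_eq hKL hc h, hb.coeff_fOS]⟩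
  rw [← toK_fOS, ← toK_fOS]
  congr 1
  refine ext' fun g => ?_
  by_cases hg : g ∈ L
  · apply Subtype.ext
    rw [hc.coeff_fOS, hb.coeff_fOS, ← h ⟨g, hg⟩, ← subgroupBlockCoeff_coe]
  · rw [mem_sup.1 (fOS_mem L c).1 g hg, mem_sup.1 (fOS_mem K b).1 g fun h => hg (hKL h)]

theorem IsUB.forall_coeff_eq_iff_top {K : Subgroup G} {b : Set (IrrCharacter K)}
    {B : Set (IrrCharacter G)} (hb : IsUB M b) (hB : IsUB M B) :
    (∀ g, blockCoeff B g = subgroupBlockCoeff K b g) ↔ bar M B = barS M K b := by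
  refine ⟨fun h => ?_, fun h t => by rw [← hB.coeff_fO, hB.fO_eq_fOS hb h, hb.coeff_fOS]⟩
  rw [← toK_fOS, ← toK_fO]
  congr 1
  exact ext' fun g => Subtype.ext (by rw [hB.coeff_fO, hb.coeff_fOS, h])

end Cfsg.Agent.Blk
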