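import Cfsg.Agent.Lib.Block.Point
import Cfsg.Agent.Lib.Block.More

/-!
A lower bound for the number of simple modules of a block which is stably controlled by a
uniserial algebra.
-/

set_option autoImplicit false

namespace Cfsg.Agent.Blk

open MonoidAlgebra Polynomial

universe w

variable {k : Type*} [Field k] {G : Type*} [Group G]

theorem sup_induction [Finite G] {R : Type*} [CommRing R] {K : Subgroup G} {C : R[G] → Prop}
    (h0 : C 0) (hadd : ∀ a b, C a → C b → C (a + b))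
    (hs : ∀ (c : R), ∀ x ∈ K, C (c • single x 1)) {a : R[G]} (ha : a ∈ sup R K) : C a := by
  classical
  have := Fintype.ofFinite G
  rw [eq_sum_single a]
  refine Finset.sum_induction _ C hadd h0 fun g _ => ?_
  by_cases hg : g ∈ K
  · exact hs _ g hg
  · rw [mem_sup.1 ha g hg, zero_smul]; exact h0

/-- partition of unity on a finite set with an action with stabilizers of invertible order -/
theorem exists_weight {C X : Type*} [Group C] [Fintype C] [Finite X] (ρ : C →* Equiv.Perm X) :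
    ∃ w : X → k, ∀ x, (Nat.card {c : C // ρ c x = x} : k) ≠ 0 → ∑ c, w (ρ c x) = 1 := by
  classical
  letI : MulAction C X := MulAction.compHom X ρ
  let r : X → X := fun x => (Quotient.mk (MulAction.orbitRel C X) x).out
  have hr : ∀ x, ∃ c, ρ c x = r x := fun x =>
    MulAction.orbitRel_apply.1 (Quotient.exact (Quotient.out_eq (Quotient.mk _ x)))
  have hr' : ∀ c x, r (ρ c x) = r x := fun c x =>
    congrArg Quotient.out (Quotient.sound (MulAction.orbitRel_apply.2 ⟨c, rfl⟩))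
  have h1 : ∀ x, Nat.card {c : C // ρ c x = r x} = Nat.card {c : C // ρ c x = x} := fun x => by
    obtain ⟨d, hd⟩ := hr x
    refine Nat.card_congr ((Equiv.mulLeft d⁻¹).subtypeEquiv fun c => ?_)
    rw [← hd, Equiv.coe_mulLeft, map_mul, map_inv, Equiv.Perm.mul_apply, Equiv.Perm.inv_eq_iff_eq]
  refine ⟨fun x => if x = r x then (Nat.card {c : C // ρ c x = x} : k)⁻¹ else 0, fun x hx => ?_⟩
  have h2 : ∀ c, ρ c x = r (ρ c x) → Nat.card {d : C // ρ d (ρ c x) = ρ c x} =
      Nat.card {d : C // ρ d x = x} := fun c hc => by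
    rw [← h1 x]
    refine Nat.card_congr ((Equiv.mulRight c).subtypeEquiv fun d => ?_)
    rw [Equiv.coe_mulRight, map_mul, Equiv.Perm.mul_apply, ← hr' c x, ← hc]
  rw [Finset.sum_congr rfl fun c _ => show _ = if ρ c x = r x then
    (Nat.card {d : C // ρ d x = x} : k)⁻¹ else 0 by
      beta_reduce
      rw [hr']
      split_ifs with h3
      · rw [h2 c (h3.trans (hr' c x).symm)]
      · rfl, ← Finset.sum_filter, Finset.sum_const, ← Fintype.card_subtype,
    ← Nat.card_eq_fintype_card, h1, nsmul_eq_mul, mul_inv_cancel₀ hx]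

/-- data controlling a block by a uniserial algebra -/
structure CD (p : ℕ) (b : k[G]) (C T : Subgroup G) (f i y H : k[G]) (e m : ℕ) : Prop where
  le : C ≤ T
  fC : f ∈ sup k C
  fT : f ∈ inv k T
  ff : IsIdempotentElem f
  iC : i ∈ sup k C
  ii : IsIdempotentElem i
  fi : f * i = i
  dec : ∃ (n : ℕ) (a c : Fin n → k[G]), (∀ j, a j ∈ sup k C) ∧ (∀ j, c j ∈ sup k C) ∧
    f = ∑ j, a j * i * c j
  yC : y ∈ sup k C
  iy : i * y = y
  yi : y * i = y
  y0 : y ^ (m + 1) = 0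
  y1 : y ^ m ≠ 0
  m0 : m ≠ 0
  uni : ∀ a ∈ sup k C, ∃ q : k[X], i * a * i = aeval y q * i
  HT : H ∈ sup k T
  He : H ^ e = 1
  e0 : (e : k) ≠ 0
  Hi : Commute H i
  g1 : ∀ x ∈ T, ∃ s, i * single x 1 * H ^ s * i ∈ sup k C
  g2 : ∀ c ∈ sup k C, H * (i * c * i) * H ^ (e - 1) ∈ sup k C
  g3 : ∀ s, 0 < s → s < e → tr (C : Set G) (H ^ s * i) = 0
  bi : IsIdempotentElem b
  p1 : ∀ Q ≤ C, IsPGroup p Q → Q ≠ ⊥ → Br Q ((1 - b) * f) = 0
  b1 : b ∈ inv k C
  p2 : ∀ x ∉ T, ∀ Q ≤ C ⊓ cs x T, IsPGroup p Q → Q ≠ ⊥ → Br Q (cj x f * f) = 0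

section Mod
variable (V : Type w) [AddCommGroup V] [Module k[G] V]

/-- the image of an element -/
def Im (a : k[G]) : Set V := {v | ∃ w : V, a • w = v}

variable [Module k V]

/-- a nonprojective socle element with eigenvalue `ζ` -/
def HZ (i y H : k[G]) (m : ℕ) (ζ : k) : Prop :=
  ∃ v : V, i • v = v ∧ y • v = 0 ∧ H • v = ζ • v ∧ v ∉ Im V (y ^ m)

variable {V} {a : k[G]} {v v' : V}

omit [Module k V] in
theorem Im.zero : (0 : V) ∈ Im V a := ⟨0, smul_zero _⟩

omit [Module k V] in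
theorem Im.add (h : v ∈ Im V a) (h' : v' ∈ Im V a) : v + v' ∈ Im V a :=
  let ⟨w, h⟩ := h; let ⟨w', h'⟩ := h'; ⟨w + w', by rw [smul_add, h, h']⟩

omit [Module k V] in
theorem Im.sum {ι : Type*} {s : Finset ι} {F : ι → V} (h : ∀ j ∈ s, F j ∈ Im V a) :
    ∑ j ∈ s, F j ∈ Im V a := Finset.sum_induction _ (· ∈ Im V a) (fun _ _ => Im.add) Im.zero h

theorem Im.smul [IsScalarTower k k[G] V] (h : v ∈ Im V a) (c : k) : c • v ∈ Im V a :=
  let ⟨w, h⟩ := h; ⟨c • w, by rw [smul_comm, h]⟩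

end Mod

namespace CD

variable {p : ℕ} {b : k[G]} {C T : Subgroup G} {f i y H a c : k[G]} {e m : ℕ}
  (h : CD p b C T f i y H e m)
include h

theorem e_pos : 0 < e := Nat.pos_of_ne_zero fun h1 => h.e0 (by rw [h1, Nat.cast_zero])

theorem HK : H * H ^ (e - 1) = 1 := by rw [← pow_succ', Nat.sub_add_cancel h.e_pos, h.He]

theorem KH : H ^ (e - 1) * H = 1 := by rw [← pow_succ, Nat.sub_add_cancel h.e_pos, h.He]

theorem HK' (s : ℕ) : H ^ s * (H ^ (e - 1)) ^ s = 1 := by
  rw [← (Commute.self_pow H _).mul_pow, h.HK, one_pow]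

theorem KH' (s : ℕ) : (H ^ (e - 1)) ^ s * H ^ s = 1 := by
  rw [← (Commute.pow_self H _).mul_pow, h.KH, one_pow]

theorem cyi : Commute y i := h.yi.trans h.iy.symm

theorem nil : IsNilpotent y := ⟨_, h.y0⟩

theorem i_pow {n : ℕ} (hn : n ≠ 0) : i * y ^ n = y ^ n := by
  obtain ⟨n, rfl⟩ := Nat.exists_eq_succ_of_ne_zero hn
  rw [pow_succ', ← mul_assoc, h.iy]

theorem pow_i {n : ℕ} (hn : n ≠ 0) : y ^ n * i = y ^ n := by
  rw [(h.cyi.pow_left n).eq, h.i_pow hn]

theorem i_ne : i ≠ 0 := fun h1 => h.y1 (by rw [← h.i_pow h.m0, h1, zero_mul])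

theorem if' : i * f = i := by rw [← (commute_of_mem (inv_anti h.le h.fT) h.iC).eq, h.fi]

theorem isUnit_aeval {q : k[X]} (hq : ¬ X ∣ q) : IsUnit (aeval y q) := by
  have h1 := commute_aeval' y X q.divX
  rw [aeval_X] at h1
  have h2 : IsUnit (algebraMap k k[G] (q.coeff 0)) :=
    (IsUnit.mk0 _ fun h1 => hq (X_dvd_iff.2 h1)).map _
  have h3 := (h1.isNilpotent_mul_right h.nil).isUnit_add_right_of_commute h2
    (Algebra.commute_algebraMap_right _ _)
  rwa [← X_mul_divX_add q, map_add, map_mul, aeval_X, aeval_C]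

theorem commute_aeval (q : k[X]) : Commute y (aeval y q) := by
  simpa using commute_aeval' y X q

theorem commute_i_aeval (q : k[X]) : Commute i (aeval y q) := by
  induction q using Polynomial.induction_on' with
  | add a b ha hb => rw [map_add]; exact ha.add_right hb
  | monomial n a =>
    rw [aeval_monomial]
    exact (Algebra.commute_algebraMap_right _ _).mul_right (h.cyi.symm.pow_right n)

theorem ann (ha : a ∈ sup k C) (h1 : y * (i * a * i) = 0) : ∃ c, i * a * i = y ^ m * c := by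
  obtain ⟨q, hq⟩ := h.uni a ha
  rw [hq] at h1 ⊢
  by_cases h0 : q = 0
  · exact ⟨0, by simp [h0]⟩
  obtain ⟨r, h2, h3⟩ := exists_eq_pow_rootMultiplicity_mul_and_not_dvd q h0 0
  rw [map_zero, sub_zero] at h2 h3
  generalize rootMultiplicity 0 q = s at h2
  rw [h2, map_mul, map_pow, aeval_X] at h1 ⊢
  rw [mul_assoc, ← (h.commute_i_aeval r).eq, ← mul_assoc, ← mul_assoc, ← pow_succ',
    (h.isUnit_aeval h3).mul_left_eq_zero, h.pow_i s.succ_ne_zero] at h1
  obtain ⟨t, rfl⟩ := Nat.exists_eq_add_of_le (show m ≤ s by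
    by_contra h4
    obtain ⟨t, ht⟩ := Nat.exists_eq_add_of_le (show s + 1 ≤ m by omega)
    exact h.y1 (by rw [ht, pow_add, h1, zero_mul]))
  exact ⟨y ^ t * aeval y r * i, by simp only [pow_add, mul_assoc]⟩

theorem ann' (ha : a ∈ sup k C) (h1 : i * a = a) (h2 : y * a = 0) : ∃ c, a = y ^ m * c := by
  obtain ⟨n, u, v, hu, -, h3⟩ := h.dec
  have h4 : a = ∑ j, i * (a * u j) * i * v j := by
    conv_lhs => rw [← h1, ← h.if', mul_assoc, (commute_of_mem (inv_anti h.le h.fT) ha).eq, h3]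
    simp only [Finset.mul_sum, mul_assoc]
  choose c hc using fun j => h.ann (mul_mem ha (hu j)) (by
    rw [← mul_assoc, ← mul_assoc, ← mul_assoc, h.yi, h2, zero_mul, zero_mul])
  exact ⟨∑ j, c j * v j, by rw [h4, Finset.mul_sum]; simp only [hc, mul_assoc]⟩

theorem nil_dvd (ha : a ∈ sup k C) (h1 : IsNilpotent (i * a * i)) :
    ∃ r ∈ sup k C, Commute y r ∧ i * a * i = y * r := by
  obtain ⟨q, hq⟩ := h.uni a ha
  rw [hq] at h1 ⊢
  by_cases h2 : X ∣ q
  · obtain ⟨r, rfl⟩ := h2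
    exact ⟨aeval y r * i, mul_mem (aeval_mem_sub h.yC r) h.iC,
      (h.commute_aeval r).mul_right h.cyi, by rw [map_mul, aeval_X, mul_assoc]⟩
  · obtain ⟨n, hn⟩ := h1
    have h3 : (aeval y q * i) ^ (n + 1) = 0 := by rw [pow_succ, hn, zero_mul]
    rw [(h.commute_i_aeval q).symm.mul_pow, h.ii.pow_succ_eq,
      ((h.isUnit_aeval h2).pow _).mul_right_eq_zero] at h3
    exact absurd h3 h.i_ne

theorem conj_pow (a : k[G]) (n : ℕ) : (H * a * H ^ (e - 1)) ^ n = H * a ^ n * H ^ (e - 1) := by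
  induction n with
  | zero => rw [pow_zero, pow_zero, mul_one, h.HK]
  | succ n ih =>
    rw [pow_succ, ih, pow_succ]
    calc _ = H * a ^ n * (H ^ (e - 1) * H) * a * H ^ (e - 1) := by simp only [mul_assoc]
      _ = _ := by rw [h.KH]; simp only [mul_assoc, one_mul]

theorem exists_Hy : ∃ r ∈ sup k C, Commute y r ∧ H * y * H ^ (e - 1) = y * r := by
  have h1 := h.g2 y h.yC
  rw [h.iy, h.yi] at h1
  have h2 : i * (H * y * H ^ (e - 1)) * i = H * y * H ^ (e - 1) := by
    rw [← mul_assoc, ← mul_assoc, ← h.Hi.eq, mul_assoc H, h.iy, mul_assoc, (h.Hi.pow_left _).eq,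
      ← mul_assoc, mul_assoc H, h.yi]
  obtain ⟨r, h3, h4, h5⟩ := h.nil_dvd h1 (h2.symm ▸ ⟨m + 1, by rw [h.conj_pow, h.y0]; simp⟩)
  exact ⟨r, h3, h4, h2 ▸ h5⟩

theorem exists_H_pow (n s : ℕ) : ∃ r ∈ sup k T, H ^ s * y ^ n = y ^ n * r := by
  obtain ⟨r, h1, h2, h3⟩ := h.exists_Hy
  have h4 : H * y ^ n = y ^ n * (r ^ n * H) := by
    rw [← mul_assoc, ← h2.mul_pow, ← h3, h.conj_pow, mul_assoc, h.KH, mul_one]
  induction s with
  | zero => exact ⟨1, one_mem _, by simp⟩
  | succ s ih =>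
    obtain ⟨t, h5, h6⟩ := ih
    exact ⟨r ^ n * H * t, mul_mem (mul_mem (pow_mem (sup_mono h.le h1) _) h.HT) h5, by
      rw [pow_succ', mul_assoc, h6, ← mul_assoc, h4, mul_assoc]⟩

theorem conj_mem (s : ℕ) (hc : c ∈ sup k C) :
    H ^ s * (i * c * i) * (H ^ (e - 1)) ^ s ∈ sup k C := by
  induction s with
  | zero => simpa using mul_mem (mul_mem h.iC hc) h.iC
  | succ s ih =>
    have h1 := h.g2 _ ih
    have h2 : ∀ a : k[G], i * (H ^ s * (i * c * i) * (H ^ (e - 1)) ^ s) * i =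
        H ^ s * (i * c * i) * (H ^ (e - 1)) ^ s := fun a => by
      rw [mul_assoc, mul_assoc, ((h.Hi.pow_left _).pow_left _).eq, ← mul_assoc, ← mul_assoc,
        ← mul_assoc, ← (h.Hi.pow_left _).eq]
      simp only [mul_assoc]
      rw [← mul_assoc i i, h.ii.eq, ← mul_assoc i i, h.ii.eq]
    rw [h2 c] at h1
    rw [pow_succ', pow_succ]
    simpa only [mul_assoc] using h1

theorem eq_mul_pow {x : G} (hx : x ∈ T) : ∃ (s : ℕ) (q : k[X]),
    i * single x 1 * i = aeval y q * i * H ^ s := by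
  obtain ⟨s, hs⟩ := h.g1 x hx
  obtain ⟨q, hq⟩ := h.uni _ hs
  refine ⟨(e - 1) * s, q, ?_⟩
  rw [← hq, pow_mul]
  simp only [← mul_assoc, h.ii.eq]
  rw [mul_assoc _ i i, h.ii.eq, mul_assoc _ i, ← ((h.Hi.pow_left _).pow_left _).eq, ← mul_assoc,
    mul_assoc _ (H ^ s), h.HK', mul_one]

theorem exists_mul_y [Finite G] (ha : a ∈ sup k T) : ∃ r ∈ sup k T, i * a * i * y = y * r := by
  refine sup_induction (C := fun a => ∃ r ∈ sup k T, i * a * i * y = y * r) ⟨0, zero_mem _, by simp⟩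
    ?_ (fun c x hx => ?_) ha
  · rintro a b ⟨r, h1, h2⟩ ⟨s, h3, h4⟩
    exact ⟨r + s, add_mem h1 h3, by simp only [mul_add, add_mul, h2, h4]⟩
  · obtain ⟨s, q, h1⟩ := h.eq_mul_pow hx
    obtain ⟨r, h2, h3⟩ := h.exists_H_pow 1 s
    rw [pow_one] at h3
    refine ⟨c • (aeval y q * r), Subalgebra.smul_mem _
      (mul_mem (sup_mono h.le (aeval_mem_sub h.yC q)) h2) _, ?_⟩
    rw [mul_smul_comm, smul_mul_assoc, smul_mul_assoc, h1, mul_assoc, h3, mul_assoc, ← mul_assoc i,
      h.iy, mul_smul_comm, ← mul_assoc, ← mul_assoc, (h.commute_aeval q).eq]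

variable {V : Type w} [AddCommGroup V] [Module k[G] V] [Module k V] [IsScalarTower k k[G] V]
  {v v' : V} {ζ ζ' : k}

omit [Module k V] [IsScalarTower k k[G] V] in
theorem Im_H (s : ℕ) (hv : v ∈ Im V (y ^ m)) : H ^ s • v ∈ Im V (y ^ m) := by
  obtain ⟨w, rfl⟩ := hv
  obtain ⟨r, -, hr⟩ := h.exists_H_pow m s
  exact ⟨r • w, by rw [smul_smul, smul_smul, hr]⟩

omit h in
theorem pow_smul_eig (hv : H • v = ζ • v) (s : ℕ) : H ^ s • v = ζ ^ s • v := by
  induction s with
  | zero => simp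
  | succ s ih => rw [pow_succ, mul_smul, hv, smul_comm, ih, smul_smul, pow_succ']

variable (H e) in
/-- projection to an eigenspace -/
noncomputable def _root_.Cfsg.Agent.Blk.pr (ζ : k) : k[G] :=
  (e : k)⁻¹ • ∑ s ∈ Finset.range e, ζ⁻¹ ^ s • H ^ s

theorem zeta_ne (hζ : ζ ^ e = 1) : ζ ≠ 0 := fun h1 => by
  rw [h1, zero_pow h.e_pos.ne'] at hζ; exact zero_ne_one hζ

theorem H_pr (hζ : ζ ^ e = 1) : H * pr H e ζ = ζ • pr H e ζ := by
  have h1 := Finset.sum_range_succ (fun s => ζ⁻¹ ^ s • H ^ s) e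
  rw [Finset.sum_range_succ', inv_pow, inv_pow, hζ, h.He, pow_zero, pow_zero, add_left_inj] at h1
  rw [pr, mul_smul_comm, smul_comm ζ]
  congr 1
  conv_rhs => rw [← h1]
  rw [Finset.mul_sum, Finset.smul_sum]
  refine Finset.sum_congr rfl fun s _ => ?_
  rw [mul_smul_comm, smul_smul, pow_succ', pow_succ', mul_inv_cancel_left₀ (h.zeta_ne hζ)]

theorem pr_smul (hζ : ζ ^ e = 1) (hv : H • v = ζ • v) : pr H e ζ • v = v := by
  rw [pr, smul_assoc, Finset.sum_smul, Finset.sum_congr rfl fun s _ => by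
    rw [smul_assoc, pow_smul_eig hv, smul_smul, ← mul_pow, inv_mul_cancel₀ (h.zeta_ne hζ), one_pow,
      one_smul], Finset.sum_const, Finset.card_range, ← Nat.cast_smul_eq_nsmul k, smul_smul,
    inv_mul_cancel₀ h.e0, one_smul]

theorem commute_i_pr (ζ : k) : Commute i (pr H e ζ) :=
  (Commute.sum_right _ _ _ fun _ _ => (h.Hi.symm.pow_right _).smul_right _).smul_right _

theorem Im_pr (ζ : k) (hv : v ∈ Im V (y ^ m)) : pr H e ζ • v ∈ Im V (y ^ m) := by
  rw [pr, smul_assoc, Finset.sum_smul]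
  refine Im.smul (Im.sum fun s _ => ?_) _
  rw [smul_assoc]
  exact Im.smul (h.Im_H s hv) _

omit [Module k V] [IsScalarTower k k[G] V] in
theorem y_smul_Im (hv : v ∈ Im V (y ^ m)) : y • v = 0 := by
  obtain ⟨w, rfl⟩ := hv
  rw [smul_smul, ← pow_succ', h.y0, zero_smul]

theorem half_exact (hζ : ζ ^ e = 1) (h1 : HZ V i y H m ζ) (N : Submodule k[G] V) :
    HZ N i y H m ζ ∨ HZ (V ⧸ N) i y H m ζ := by
  obtain ⟨v, h1, h2, h3, h4⟩ := h1
  by_cases h5 : N.mkQ v ∈ Im (V ⧸ N) (y ^ m)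
  · obtain ⟨w, h5⟩ := h5
    obtain ⟨w, rfl⟩ := N.mkQ_surjective w
    rw [← map_smul, eq_comm, Submodule.mkQ_apply, Submodule.mkQ_apply, Submodule.Quotient.eq] at h5
    have h6 : pr H e ζ • y ^ m • w ∈ Im V (y ^ m) := h.Im_pr ζ ⟨w, rfl⟩
    refine Or.inl ⟨pr H e ζ • ⟨_, h5⟩, Subtype.ext ?_, Subtype.ext ?_, Subtype.ext ?_, ?_⟩
    · simp only [SetLike.val_smul]
      rw [smul_smul, (h.commute_i_pr ζ).eq, mul_smul, smul_sub i, h1, smul_smul i, h.i_pow h.m0]
    · simp only [SetLike.val_smul, ZeroMemClass.coe_zero]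
      rw [smul_sub, h.pr_smul hζ h3, smul_sub, h2, h.y_smul_Im h6, sub_zero]
    · simp only [SetLike.val_smul, Submodule.coe_smul_of_tower]
      rw [smul_smul, h.H_pr hζ, smul_assoc]
    · rintro ⟨u, hu⟩
      have h7 := congrArg Subtype.val hu
      simp only [SetLike.val_smul] at h7
      rw [smul_sub, h.pr_smul hζ h3, eq_sub_iff_add_eq] at h7
      exact h4 (h7 ▸ Im.add ⟨u, rfl⟩ h6)
  · exact Or.inr ⟨N.mkQ v, by rw [← map_smul, h1], by rw [← map_smul, h2, map_zero],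
      by rw [← map_smul, h3, LinearMap.map_smul_of_tower], h5⟩

theorem exists_simple (hζ : ζ ^ e = 1) (n : ℕ) : ∀ (V : Type w) [AddCommGroup V] [Module k[G] V]
    [Module k V] [IsScalarTower k k[G] V] [Module.Finite k V], Module.finrank k V = n →
    HZ V i y H m ζ → ∃ (S : Type w) (_ : AddCommGroup S) (_ : Module k[G] S) (_ : Module k S)
      (_ : IsScalarTower k k[G] S) (_ : Module.Finite k S),
      IsSimpleModule k[G] S ∧ HZ S i y H m ζ := by
  induction n using Nat.strong_induction_on with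
  | _ n ih =>
  intro V _ _ _ _ _ hn h1
  by_cases h2 : IsSimpleModule k[G] V
  · exact ⟨V, _, _, _, inferInstance, inferInstance, h2, h1⟩
  have : Nontrivial V := by
    obtain ⟨v, -, -, -, h3⟩ := h1
    exact ⟨v, 0, fun h4 => h3 (h4 ▸ Im.zero)⟩
  obtain ⟨N, h3, h4⟩ : ∃ N : Submodule k[G] V, N ≠ ⊥ ∧ N ≠ ⊤ := by
    by_contra h3
    refine h2 { eq_bot_or_eq_top := fun N => ?_ }
    by_contra h4
    exact h3 ⟨N, fun h => h4 (Or.inl h), fun h => h4 (Or.inr h)⟩
  have h5 := (N.restrictScalars k).finrank_quotient_add_finrank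
  have h6 : Module.finrank k (N.restrictScalars k) < Module.finrank k V :=
    Submodule.finrank_lt (by simpa using h4)
  have h7 : Module.finrank k (N.restrictScalars k) ≠ 0 := by simpa using h3
  have : Module.Finite k N := inferInstanceAs (Module.Finite k (N.restrictScalars k))
  rcases h.half_exact hζ h1 N with h8 | h8
  · exact ih _ (hn ▸ h6) N rfl h8
  · refine ih _ ?_ (V ⧸ N) rfl h8
    rw [← (Submodule.Quotient.restrictScalarsEquiv k N).finrank_eq]
    omega

theorem hz_quot [Finite G] (hζ : ζ ^ e = 1) : HZ (k[G] ⧸ Submodule.span k[G]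
    ({y, H - algebraMap k _ ζ, 1 - i} : Set k[G])) i y H m ζ := by
  refine ⟨Submodule.mkQ _ 1, ?_, ?_, ?_, ?_⟩
  · rw [← map_smul, eq_comm, Submodule.mkQ_apply, Submodule.mkQ_apply, Submodule.Quotient.eq]
    exact Submodule.subset_span (by simp)
  · rw [← map_smul, Submodule.mkQ_apply, Submodule.Quotient.mk_eq_zero]
    exact Submodule.subset_span (by simp)
  · rw [← map_smul, ← LinearMap.map_smul_of_tower, Submodule.mkQ_apply, Submodule.mkQ_apply,
      Submodule.Quotient.eq]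
    exact Submodule.subset_span (by simp [Algebra.algebraMap_eq_smul_one])
  · rintro ⟨w, hw⟩
    obtain ⟨w, rfl⟩ := Submodule.mkQ_surjective _ w
    rw [← map_smul, eq_comm, Submodule.mkQ_apply, Submodule.mkQ_apply, Submodule.Quotient.eq,
      Submodule.mem_span_insert] at hw
    obtain ⟨a, z, hz, h1⟩ := hw
    obtain ⟨c, d, rfl⟩ := Submodule.mem_span_pair.1 hz
    have hT : pr H e ζ * i ∈ sup k T := mul_mem (Subalgebra.smul_mem _ (sum_mem fun s _ =>
      Subalgebra.smul_mem _ (pow_mem h.HT _) _) _) (sup_mono h.le h.iC)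
    have h2 : i * (pr H e ζ * i) = pr H e ζ * i := by
      rw [← mul_assoc, (h.commute_i_pr ζ).eq, mul_assoc, h.ii.eq]
    have h3 : pr H e ζ * i = y ^ m * (w * (pr H e ζ * i)) + a * (y * (pr H e ζ * i)) := by
      have h4 := congrArg (· * (pr H e ζ * i)) h1
      simp only [smul_eq_mul, sub_mul, add_mul, one_mul, mul_assoc, mul_sub, mul_one, h2,
        sub_self, add_zero] at h4
      rw [← mul_assoc H, h.H_pr hζ, ← Algebra.smul_def, smul_mul_assoc, sub_self, add_zero,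
        sub_eq_iff_eq_add] at h4
      rw [add_comm]; exact h4
    have h4 := congrArg (fun a => i * tr (T : Set G) a) h3
    have yT := sup_mono h.le h.yC
    simp only [map_add] at h4
    rw [tr_of_mem_sup hT, h2, tr_mul_left (pow_mem yT _), tr_mul_right _ (mul_mem yT hT), mul_add,
      ← mul_assoc, h.i_pow h.m0, ← h.iy, mul_assoc i y, ← mul_assoc i, ← mul_assoc, ← mul_assoc,
      ← mul_assoc, h.iy] at h4
    obtain ⟨r, h5, h6⟩ := h.exists_mul_y (tr_mem_sup T a)
    obtain ⟨n, hn⟩ := Nat.exists_eq_succ_of_ne_zero h.m0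
    rw [h6, hn, pow_succ', mul_assoc y, mul_assoc y, ← mul_add] at h4
    have h7 := congrArg (tr (C : Set G)) h4
    rw [tr_mul_left h.yC, pr, smul_mul_assoc, Finset.sum_mul, map_smul, map_sum,
      Finset.sum_eq_single 0, pow_zero, pow_zero, one_smul, one_mul, tr_of_mem_sup h.iC,
      inv_smul_eq_iff₀ h.e0, ← mul_smul_comm] at h7
    · generalize hu : (e : k) • tr (R := k) (C : Set G) _ = u at h7
      have h8 : u ∈ sup k C := hu ▸ Subalgebra.smul_mem _ (tr_mem_sup _ _) _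
      obtain ⟨q, hq⟩ := h.uni u h8
      refine h.i_ne (idem_eq_zero_of_nilpotent h.ii ?_)
      rw [← h.ii.eq]
      nth_rewrite 1 [h7]
      rw [← h.yi, mul_assoc y, mul_assoc y, hq]
      exact ((h.commute_aeval q).mul_right h.cyi).isNilpotent_mul_right h.nil
    · intro s hs h8
      rw [smul_mul_assoc, map_smul, h.g3 s (Nat.pos_of_ne_zero h8) (Finset.mem_range.1 hs),
        smul_zero]
    · intro h8
      exact absurd (Finset.mem_range.2 h.e_pos) h8

theorem casimir_mem [Finite G] [Fintype C] [Module.Finite k V] (h1 : i • v = v) (h2 : y • v = 0)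
    (β : V →ₗ[k] V) :
    ∑ c : C, single (c : G) (1 : k) • β (single (c : G)⁻¹ (1 : k) • v) ∈ Im V (y ^ m) := by
  let B := Module.finBasis k V
  let a : (V →ₗ[k] k) → V → k[G] := fun φ v =>
    ∑ c : C, φ (single (c : G)⁻¹ (1 : k) • v) • single (c : G) (1 : k)
  have h3 : ∀ φ, ∀ x ∈ sup k C, x * a φ v = a φ (x • v) := fun φ x hx => by
    refine sup_induction (C := fun x => x * a φ v = a φ (x • v)) (by simp [a])
      (fun x y hx hy => by
        simp only [add_mul, hx, hy, a, add_smul, smul_add, map_add, Finset.sum_add_distrib])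
      (fun r d hd => ?_) hx
    simp only [a, Finset.mul_sum]
    refine Fintype.sum_equiv (Equiv.mulLeft ⟨d, hd⟩) _ _ fun c => ?_
    rw [smul_assoc, smul_comm _ r, LinearMap.map_smul, smul_smul (single _ _), single_mul_single,
      mul_smul_comm, smul_mul_assoc, single_mul_single, smul_smul, smul_eq_mul, mul_comm]
    simp
  have h4 : ∀ φ, a φ v ∈ sup k C := fun φ =>
    sum_mem fun c _ => Subalgebra.smul_mem _ (single_mem_sup c.2 _) _
  have h5 : ∑ c : C, single (c : G) (1 : k) • β (single (c : G)⁻¹ (1 : k) • v) =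
      ∑ j, a (B.coord j) v • β (B j) := by
    simp only [a, Finset.sum_smul]
    rw [Finset.sum_comm]
    refine Finset.sum_congr rfl fun c _ => ?_
    conv_lhs => rw [← B.sum_repr (single (c : G)⁻¹ (1 : k) • v)]
    simp only [map_sum, map_smul, Finset.smul_sum, smul_assoc, Module.Basis.coord_apply]
    exact Finset.sum_congr rfl fun j _ => smul_comm _ _ _
  rw [h5]
  refine Im.sum fun j _ => ?_
  obtain ⟨c, hc⟩ := h.ann' (h4 (B.coord j)) (by rw [h3 _ _ h.iC, h1]) (by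
    rw [h3 _ _ h.yC, h2]; simp [a])
  exact ⟨c • β (B j), by rw [smul_smul, ← hc]⟩

theorem orbit_mem [Finite G] [Module.Finite k V] (h1 : i • v = v) (h2 : y • v = 0) {X : Type*}
    [Fintype X] (ρ : C →* Equiv.Perm X) (Φ : X → V →ₗ[k] V)
    (h3 : ∀ c x w, Φ (ρ c x) w = single (c : G) (1 : k) • Φ x (single (c : G)⁻¹ (1 : k) • w))
    (h4 : ∀ x, (Nat.card {c : C // ρ c x = x} : k) = 0 → Φ x = 0) :
    ∑ x, Φ x v ∈ Im V (y ^ m) := by
  have := Fintype.ofFinite C
  obtain ⟨w, hw⟩ := exists_weight (k := k) ρ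
  convert h.casimir_mem h1 h2 (∑ x, w x • Φ x) using 1
  simp only [LinearMap.sum_apply, LinearMap.smul_apply, Finset.smul_sum, smul_comm _ (w _), ← h3]
  rw [Finset.sum_congr rfl fun c _ => (Equiv.sum_comp (ρ c⁻¹) _).symm, Finset.sum_comm]
  refine Finset.sum_congr rfl fun x _ => ?_
  simp only [← Equiv.Perm.mul_apply, ← map_mul, mul_inv_cancel, map_one, Equiv.Perm.one_apply]
  rw [← Finset.sum_smul]
  by_cases h5 : (Nat.card {c : C // ρ c x = x} : k) = 0
  · simp [h4 x h5]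
  · rw [← Equiv.sum_comp (Equiv.inv C)]
    simp only [Equiv.inv_apply, inv_inv]
    rw [hw x h5, one_smul]

theorem trz_mem [Finite G] [Fact p.Prime] [CharP k p] [Module.Finite k V] (h1 : i • v = v)
    (h2 : y • v = 0) {Y : Type*} [Fintype Y] (ρ : C →* Equiv.Perm Y) (Ψ : Y → V →ₗ[k] V)
    (z : Y → k[G])
    (h3 : ∀ c q w, Ψ (ρ c q) w = single (c : G) (1 : k) • Ψ q (single (c : G)⁻¹ (1 : k) • w))
    (h4 : ∀ c q, z (ρ c q) = cj (c : G) (z q))
    (h5 : ∀ q (c : C), orderOf c = p → ρ c q = q → Br (Subgroup.zpowers (c : G)) (z q) = 0) :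
    ∑ q, Ψ q (z q • v) ∈ Im V (y ^ m) := by
  have := Fintype.ofFinite G
  let ρ' : C →* Equiv.Perm (Y × G) :=
    { toFun := fun c => Equiv.prodCongr (ρ c) (MulAut.conj (c : G)).toEquiv
      map_one' := by ext <;> simp
      map_mul' := fun _ _ => by ext <;> simp [mul_assoc] }
  convert h.orbit_mem h1 h2 ρ' (fun x => (z x.1).coeff x.2 • Ψ x.1 ∘ₗ
    DistribSMul.toLinearMap k V (single x.2 (1 : k))) (fun c x w => ?_) fun x h6 => ?_ using 1
  · rw [Fintype.sum_prod_type]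
    refine Finset.sum_congr rfl fun q _ => ?_
    conv_lhs => rw [eq_sum_single (z q)]
    simp only [Finset.sum_smul, smul_assoc, map_sum, map_smul]
    rfl
  · simp [ρ', h3, h4, smul_smul, smul_comm _ ((z _).coeff _), single_mul_single, mul_assoc]
  · let S : Subgroup C := (MulAction.stabilizer (Equiv.Perm (Y × G)) x).comap ρ'
    obtain ⟨c, hc⟩ := exists_prime_orderOf_dvd_card' (G := S) p
      ((CharP.cast_eq_zero_iff k p _).1 h6)
    have h7 : ρ' c x = x := c.2
    have h8 := h5 x.1 c (by rw [Subgroup.orderOf_coe, hc]) (congrArg Prod.fst h7)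
    have h9 : x.2 ∈ Ce (Subgroup.zpowers (c : G)) := by
      rw [Ce_zpowers, mem_Ce1, eq_comm, ← mul_inv_eq_iff_eq_mul]
      exact congrArg Prod.snd h7
    rw [← coeff_Br _ h9, h8, coeff_zero', zero_smul]

theorem exists_smul_ne [Finite G] [Fact p.Prime] [CharP k p] [Module.Finite k V]
    (h1 : HZ V i y H m ζ) : ∃ w : V, b • w ≠ 0 := by
  obtain ⟨v, h1, h2, -, h3⟩ := h1
  refine ⟨v, fun h4 => h3 ?_⟩
  have h5 : f • v = v := by rw [← h1, smul_smul, h.fi]
  have h6 := h.trz_mem h1 h2 (Y := Unit) 1 (fun _ => LinearMap.id) (fun _ => (1 - b) * f)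
    (fun c _ w => by simp [smul_smul, single_mul_single, ← one_def])
    (fun c _ => (mem_inv.1 (mul_mem (sub_mem (one_mem _) h.b1) (inv_anti h.le h.fT)) _ c.2).symm)
    fun _ c h6 _ => h.p1 _ ((Subgroup.zpowers_le).2 c.2) (isPGroup_zpowers ⟨1, by simpa using h6⟩)
      (Subgroup.zpowers_ne_bot.2 fun h7 => (Fact.out : p.Prime).one_lt.ne' (by
        rw [← h6, ← Subgroup.orderOf_coe, h7, orderOf_one]))
  simpa [mul_smul, h5, sub_smul, h4] using h6

theorem exists_pi0 (h1 : i • v = v) (h2 : y • v = 0) (h3 : v ∉ Im V (y ^ m)) :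
    ∃ π : V →ₗ[k] V, (∀ w, π (i • w) = π w) ∧ (∀ w, i • π w = π w) ∧
      (∀ w, π (y • w) = y • π w) ∧ π v = v ∧ ∀ w, i • w = w → y • w = 0 → ∃ c : k, π w = c • v := by
  classical
  obtain ⟨n, hn⟩ := Nat.exists_eq_succ_of_ne_zero h.m0
  have h4 : ∃ j, v ∉ Im V (y ^ (j + 1)) := ⟨n, by rwa [← Nat.succ_eq_add_one, ← hn]⟩
  obtain ⟨j, h5, u, h6⟩ : ∃ j, v ∉ Im V (y ^ (j + 1)) ∧ v ∈ Im V (y ^ j) := by
    refine ⟨Nat.find h4, Nat.find_spec h4, ?_⟩
    rcases hj : Nat.find h4 with _ | j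
    · exact ⟨v, by simp⟩
    · simpa using Nat.find_min h4 (m := j) (by omega)
  obtain ⟨φ, h7, h8⟩ := Submodule.exists_dual_map_eq_bot_of_notMem
    (p := LinearMap.range (DistribSMul.toLinearMap k V (y ^ (j + 1)))) (x := v) h5 inferInstance
  have h9 : ∀ w, φ (y ^ (j + 1) • w) = 0 := fun w =>
    (Submodule.eq_bot_iff _).1 h8 _ ⟨_, ⟨w, rfl⟩, rfl⟩
  have h10 : ∀ s, y ^ s * i = i * y ^ s := fun s => (h.cyi.pow_left s).eq
  have h11 : y ^ j • i • u = v := by rw [smul_smul, h10, mul_smul, h6, h1]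
  let π : V →ₗ[k] V := ∑ s ∈ Finset.range (j + 1),
    (φ ∘ₗ DistribSMul.toLinearMap k V (y ^ s * i)).smulRight ((φ v)⁻¹ • y ^ (j - s) • i • u)
  have h12 : ∀ w, π w = ∑ s ∈ Finset.range (j + 1),
      φ ((y ^ s * i) • w) • (φ v)⁻¹ • y ^ (j - s) • i • u := fun w => by simp [π]
  have h13 : ∀ w, i • w = w → y • w = 0 → π w = (φ w * (φ v)⁻¹) • v := fun w h14 h15 => by
    rw [h12, Finset.sum_range_succ', Finset.sum_eq_zero, zero_add, pow_zero, one_mul, h14,
      Nat.sub_zero, h11, smul_smul]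
    intro s _
    rw [mul_smul, h14, pow_succ, mul_smul, h15, smul_zero, map_zero, zero_smul]
  refine ⟨π, fun w => ?_, fun w => ?_, fun w => ?_, ?_, fun w h14 h15 => ⟨_, h13 w h14 h15⟩⟩
  · simp only [h12, smul_smul, mul_assoc, h.ii.eq]
  · rw [h12, Finset.smul_sum]
    refine Finset.sum_congr rfl fun s _ => ?_
    rw [smul_comm i, smul_comm i, smul_smul i, ← h10, mul_smul (y ^ (j - s)), smul_smul i, h.ii.eq]
  · rw [h12, h12, Finset.smul_sum, Finset.sum_range_succ, Finset.sum_range_succ',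
      smul_smul (y ^ j * i), mul_assoc, h.iy, ← pow_succ, h9, zero_smul, add_zero,
      smul_comm y, smul_comm y, Nat.sub_zero, h11, h2, smul_zero, smul_zero, add_zero]
    refine Finset.sum_congr rfl fun s hs => ?_
    rw [smul_comm y, smul_comm y, smul_smul y, ← pow_succ', smul_smul (y ^ s * i), mul_assoc, h.iy,
      ← pow_succ, h.pow_i s.succ_ne_zero, show j - (s + 1) + 1 = j - s by
        have := Finset.mem_range.1 hs; omega]
  · rw [h13 v h1 h2, mul_inv_cancel₀ h7, one_smul]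

theorem commute_of_i_y {π : V →ₗ[k] V} (h1 : ∀ w, π (i • w) = i • π w)
    (h2 : ∀ w, π (y • w) = y • π w) (q : k[X]) (w : V) :
    π ((aeval y q * i) • w) = (aeval y q * i) • π w := by
  rw [mul_smul, mul_smul, ← h1]
  generalize i • w = w
  induction q using Polynomial.induction_on' with
  | add a b ha hb => simp only [map_add, add_smul, ha, hb]
  | monomial n a =>
    rw [aeval_monomial, ← Algebra.smul_def, smul_assoc, smul_assoc, map_smul]
    congr 1
    induction n with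
    | zero => simp
    | succ n ih => rw [pow_succ', mul_smul, mul_smul, h2, ih]

theorem exists_pi (hζ : ζ ^ e = 1) (hζ' : ζ' ^ e = 1) (hne : ζ ≠ ζ') (h1 : i • v = v)
    (h2 : y • v = 0) (h3 : v ∉ Im V (y ^ m)) (h4 : H • v = ζ • v) (h1' : i • v' = v')
    (h2' : y • v' = 0) (h4' : H • v' = ζ' • v') :
    ∃ π : V →ₗ[k] V, (∀ w, π (i • w) = i • π w) ∧ (∀ w, π (y • w) = y • π w) ∧
      (∀ w, π (H • w) = H • π w) ∧ π v = v ∧ π v' = 0 := by
  obtain ⟨π, h5, h6, h7, h8, h9⟩ := h.exists_pi0 h1 h2 h3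
  have h10 : ∀ w, π (i • w) = i • π w := fun w => by rw [h5, h6]
  let F : ℕ → V →ₗ[k] V := fun s => DistribSMul.toLinearMap k V (H ^ s) ∘ₗ π ∘ₗ
    DistribSMul.toLinearMap k V ((H ^ (e - 1)) ^ s)
  have hF : ∀ s w, F s w = H ^ s • π ((H ^ (e - 1)) ^ s • w) := fun _ _ => rfl
  have k1 : ∀ {ζ : k} {v : V}, ζ ^ e = 1 → H • v = ζ • v → ∀ s,
      (H ^ (e - 1)) ^ s • v = ζ⁻¹ ^ s • v := fun {ζ v} h11 h12 s => by
    refine pow_smul_eig ?_ s
    rw [pow_smul_eig h12, eq_inv_of_mul_eq_one_left (a := ζ ^ (e - 1)) (b := ζ) (by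
      rw [← pow_succ, Nat.sub_add_cancel h.e_pos, h11])]
  refine ⟨(e : k)⁻¹ • ∑ s ∈ Finset.range e, F s, fun w => ?_, fun w => ?_, fun w => ?_, ?_, ?_⟩
  · simp only [LinearMap.smul_apply, LinearMap.sum_apply, smul_comm i, Finset.smul_sum, hF]
    refine Finset.sum_congr rfl fun s _ => ?_
    rw [smul_smul _ i, ((h.Hi.pow_left _).pow_left _).eq, mul_smul, h10, smul_smul _ i,
      (h.Hi.pow_left _).eq, mul_smul]
  · simp only [LinearMap.smul_apply, LinearMap.sum_apply, smul_comm y, Finset.smul_sum, hF]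
    refine Finset.sum_congr rfl fun s _ => ?_
    have h11 := h.conj_mem ((e - 1) * s) h.yC
    rw [h.iy, h.yi] at h11
    obtain ⟨q, hq⟩ := h.uni _ h11
    have h12 : (H ^ (e - 1)) ^ ((e - 1) * s) = H ^ s :=
      (left_inv_eq_right_inv (h.HK' s) (by rw [← pow_mul H, h.HK'])).symm
    rw [h12, pow_mul, ← mul_assoc, ← mul_assoc, ← ((h.Hi.pow_left _).pow_left _).eq,
      mul_assoc _ i, h.iy, mul_assoc, (h.Hi.pow_left _).eq, ← mul_assoc, mul_assoc _ y, h.yi] at hq
    have h13 : (H ^ (e - 1)) ^ s * y = aeval y q * i * (H ^ (e - 1)) ^ s := by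
      rw [← hq, mul_assoc, h.HK', mul_one]
    have h14 : H ^ s * (aeval y q * i) = y * H ^ s := by
      rw [← hq, ← mul_assoc, ← mul_assoc, h.HK', one_mul]
    rw [smul_smul _ y, h13, mul_smul, h.commute_of_i_y h10 h7, smul_smul (H ^ s), h14, mul_smul]
  · have h11 := Finset.sum_range_succ F e
    rw [Finset.sum_range_succ', show F e = F 0 by
      simp only [F, h.He, pow_zero]; rw [← pow_mul, mul_comm, pow_mul, h.He, one_pow],
      add_left_inj] at h11
    simp only [LinearMap.smul_apply, smul_comm H]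
    congr 1
    conv_lhs => rw [← h11]
    simp only [LinearMap.sum_apply, Finset.smul_sum, hF]
    refine Finset.sum_congr rfl fun s _ => ?_
    rw [smul_smul _ H, pow_succ (H ^ (e - 1)), mul_assoc, h.KH, mul_one, smul_smul H, pow_succ']
  · simp only [LinearMap.smul_apply, LinearMap.sum_apply, hF, k1 hζ h4, map_smul, h8,
      smul_comm (H ^ _), pow_smul_eig h4, smul_smul, ← mul_pow, inv_mul_cancel₀ (h.zeta_ne hζ),
      one_pow, one_smul, Finset.sum_const, Finset.card_range]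
    rw [← Nat.cast_smul_eq_nsmul k, smul_smul, inv_mul_cancel₀ h.e0, one_smul]
  · obtain ⟨c, hc⟩ := h9 v' h1' h2'
    simp only [LinearMap.smul_apply, LinearMap.sum_apply, hF, k1 hζ' h4', map_smul, hc,
      smul_comm (H ^ _), pow_smul_eig h4, smul_smul]
    rw [← Finset.sum_smul, Finset.sum_congr rfl fun s _ => show _ = c * (ζ'⁻¹ * ζ) ^ s by ring,
      ← Finset.mul_sum, geom_sum_eq, mul_pow, inv_pow, hζ, hζ']
    · simp
    · rw [Ne, inv_mul_eq_one₀ (h.zeta_ne hζ')]; exact hne.symm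

theorem exists_alpha [Finite G] (hζ : ζ ^ e = 1) (hζ' : ζ' ^ e = 1) (hne : ζ ≠ ζ')
    (h1 : i • v = v) (h2 : y • v = 0) (h3 : v ∉ Im V (y ^ m)) (h4 : H • v = ζ • v)
    (h1' : i • v' = v') (h2' : y • v' = 0) (h4' : H • v' = ζ' • v') :
    ∃ α : V →ₗ[k] V, (∀ x ∈ T, ∀ w, α (single x (1 : k) • w) = single x (1 : k) • α w) ∧
      (∀ w, α (f • w) = α w) ∧ α v = v ∧ α v' = 0 := by
  obtain ⟨π, h5, h6, h7, h8, h9⟩ := h.exists_pi hζ hζ' hne h1 h2 h3 h4 h1' h2' h4'
  have k1 : ∀ a ∈ sup k T, ∀ w, π ((i * a * i) • w) = (i * a * i) • π w := fun a ha w => by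
    refine sup_induction (C := fun a => π ((i * a * i) • w) = (i * a * i) • π w) (by simp)
      (fun a b ha hb => by simp only [mul_add, add_mul, add_smul, map_add, ha, hb])
      (fun c x hx => ?_) ha
    obtain ⟨s, q, h10⟩ := h.eq_mul_pow hx
    have h11 : ∀ s w, π (H ^ s • w) = H ^ s • π w := fun s w => by
      induction s with
      | zero => simp
      | succ s ih => rw [pow_succ', mul_smul, mul_smul, h7, ih]
    rw [mul_smul_comm, smul_mul_assoc, smul_assoc, smul_assoc, map_smul, h10, mul_smul,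
      h.commute_of_i_y h5 h6, h11, ← mul_smul]
  obtain ⟨n, a, c, ha, hc, hf⟩ := h.dec
  let α : V →ₗ[k] V := ∑ j, DistribSMul.toLinearMap k V (a j * i) ∘ₗ π ∘ₗ
    DistribSMul.toLinearMap k V (i * c j)
  have hα : ∀ w, α w = ∑ j, (a j * i) • π ((i * c j) • w) := fun w => by simp [α]
  have k2 : ∀ j, i * c j * f = i * c j := fun j => by
    rw [mul_assoc, ← (commute_of_mem (inv_anti h.le h.fT) (hc j)).eq, ← mul_assoc, h.if']
  have k3 : ∀ j, f * (a j * i) = a j * i := fun j => by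
    rw [← mul_assoc, (commute_of_mem (inv_anti h.le h.fT) (ha j)).eq, mul_assoc, h.fi]
  have k4 : ∀ w, i • w = w → α w = f • π w := fun w hw => by
    have h10 : i • π w = π w := by rw [← h5, hw]
    rw [hα, hf, Finset.sum_smul]
    refine Finset.sum_congr rfl fun j _ => ?_
    conv_lhs => rw [← hw, smul_smul, k1 _ (sup_mono h.le (hc j)), smul_smul]
    conv_rhs => rw [← h10, smul_smul]
    simp only [← mul_assoc]
    rw [mul_assoc _ i i, h.ii.eq]
  refine ⟨α, fun x hx w => ?_, fun w => ?_, ?_, ?_⟩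
  · have h10 : Commute f (single x (1 : k)) := commute_of_mem h.fT (single_mem_sup hx _)
    have h11 : ∀ j, (i * c j) • single x (1 : k) • w =
        ∑ l, (i * (c j * single x 1 * a l) * i) • (i * c l) • w := fun j => by
      rw [← k2 j, smul_smul, mul_assoc, h10.eq, hf]
      simp only [Finset.mul_sum, Finset.sum_smul, smul_smul, ← mul_assoc]
      exact Finset.sum_congr rfl fun l _ => by rw [mul_assoc _ i i, h.ii.eq]
    rw [hα, hα, Finset.smul_sum]
    simp only [h11, map_sum, Finset.smul_sum]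
    rw [Finset.sum_comm]
    refine Finset.sum_congr rfl fun l _ => ?_
    rw [← k3 l, smul_smul (single _ _), ← mul_assoc, ← h10.eq, hf, Finset.sum_mul, Finset.sum_mul,
      Finset.sum_smul]
    refine Finset.sum_congr rfl fun j _ => ?_
    rw [k1 _ (mul_mem (mul_mem (sup_mono h.le (hc j)) (single_mem_sup hx _))
      (sup_mono h.le (ha l))), smul_smul]
    simp only [← mul_assoc]
    rw [mul_assoc _ i i, h.ii.eq]
  · simp only [hα, smul_smul, k2]
  · rw [k4 v h1, h8, ← h1, smul_smul, h.fi]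
  · rw [k4 v' h1', h9, smul_zero]

theorem eq_of_hz [Finite G] [Fact p.Prime] [CharP k p] [IsAlgClosed k] [Module.Finite k V]
    [IsSimpleModule k[G] V] (hζ : ζ ^ e = 1) (hζ' : ζ' ^ e = 1) (h1 : HZ V i y H m ζ)
    (h1' : HZ V i y H m ζ') : ζ = ζ' := by
  classical
  by_contra hne
  obtain ⟨v, h1, h2, h4, h3⟩ := h1
  obtain ⟨v', h1', h2', h4', h3'⟩ := h1'
  obtain ⟨α, h5, h6, h7, h8⟩ := h.exists_alpha hζ hζ' hne h1 h2 h3 h4 h1' h2' h4'
  have := Fintype.ofFinite (G ⧸ T)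
  have s1 : ∀ (x y : G) (w : V), single x (1 : k) • single y (1 : k) • w =
      single (x * y) (1 : k) • w := fun x y w => by rw [smul_smul, single_mul_single, one_mul]
  let Ψ : G ⧸ T → V →ₗ[k] V := fun q => DistribSMul.toLinearMap k V (single q.out (1 : k)) ∘ₗ α ∘ₗ
    DistribSMul.toLinearMap k V (single q.out⁻¹ (1 : k))
  have k1 : ∀ (x : G) w, Ψ x w = single x (1 : k) • α (single x⁻¹ (1 : k) • w) := fun x w => by
    obtain ⟨t, ht⟩ := QuotientGroup.mk_out_eq_mul T x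
    change single (x : G ⧸ T).out (1 : k) • α (single (x : G ⧸ T).out⁻¹ (1 : k) • w) = _
    rw [ht, mul_inv_rev, ← s1 _ x⁻¹, h5 _ (inv_mem t.2), s1, mul_inv_cancel_right]
  have k2 : ∀ (g : G) q w, Ψ (g • q) w = single g (1 : k) • Ψ q (single g⁻¹ (1 : k) • w) :=
    fun g q w => by
      obtain ⟨x, rfl⟩ := QuotientGroup.mk_surjective q
      rw [MulAction.Quotient.smul_mk, k1, k1, s1, s1, smul_eq_mul, mul_inv_rev]
  have k3 : ∀ (g : G) w, (∑ q, Ψ q) (single g (1 : k) • w) = single g (1 : k) • (∑ q, Ψ q) w :=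
    fun g w => by
      rw [LinearMap.sum_apply, LinearMap.sum_apply, Finset.smul_sum,
        ← Equiv.sum_comp (MulAction.toPerm g)]
      refine Finset.sum_congr rfl fun q _ => ?_
      rw [MulAction.toPerm_apply, k2, s1 g⁻¹, inv_mul_cancel, ← one_def, one_smul]
  let τ : Module.End k[G] V :=
    { toFun := fun w => (∑ q, Ψ q) w
      map_add' := map_add _
      map_smul' := fun a w => sup_induction (K := ⊤)
        (C := fun a => (∑ q, Ψ q) (a • w) = a • (∑ q, Ψ q) w) (by simp)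
        (fun a b ha hb => by rw [add_smul, map_add, ha, hb, add_smul])
        (fun c x _ => by rw [smul_assoc, map_smul, k3, smul_assoc]) (mem_sup_top a) }
  obtain ⟨μ, hμ⟩ := (IsSimpleModule.algebraMap_end_bijective_of_isAlgClosed k).2 τ
  have k4 : ∀ w, ∑ q, Ψ q w = μ • w := fun w => by
    rw [← LinearMap.sum_apply]
    exact (congrArg (fun t : Module.End k[G] V => t w) hμ).symm
  let z : G ⧸ T → k[G] := fun q => if q = (1 : G) then 0 else cj q.out f * f
  have k5 : ∀ x : G, z x = if x ∈ T then 0 else cj x f * f := fun x => by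
    obtain ⟨t, ht⟩ := QuotientGroup.mk_out_eq_mul T x
    simp only [z, ht, cj_mul, mem_inv.1 h.fT _ t.2, QuotientGroup.eq, mul_one, inv_mem_iff]
  have k6 : ∀ w : V, i • w = w → y • w = 0 → μ • w - α w ∈ Im V (y ^ m) := fun w h9 h10 => by
    have h11 : f • w = w := by rw [← h9, smul_smul, h.fi]
    convert h.trz_mem h9 h10 (MulAction.toPermHom C (G ⧸ T)) Ψ z (fun c q w => k2 c q w)
      (fun c q => ?_) fun q c h12 h13 => ?_ using 1
    · rw [← k4, ← Finset.add_sum_erase _ _ (Finset.mem_univ ((1 : G) : G ⧸ T)),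
        ← Finset.add_sum_erase _ _ (Finset.mem_univ ((1 : G) : G ⧸ T)), k5, if_pos (one_mem _),
        zero_smul, map_zero, zero_add, k1, inv_one, ← one_def, one_smul, one_smul,
        add_sub_cancel_left]
      refine Finset.sum_congr rfl fun q hq => ?_
      obtain ⟨x, rfl⟩ := QuotientGroup.mk_surjective q
      rw [k5, if_neg fun h12 => (Finset.mem_erase.1 hq).1 (QuotientGroup.eq.2 (by simpa using h12)),
        mul_smul, h11, k1, k1, cj_eq, mul_smul, mul_smul, s1 x⁻¹, inv_mul_cancel, ← one_def,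
        one_smul, h6]
    · obtain ⟨x, rfl⟩ := QuotientGroup.mk_surjective q
      change z ((c * x : G) : G ⧸ T) = _
      rw [k5, k5]
      have h12 : (c : G) * x ∈ T ↔ x ∈ T := T.mul_mem_cancel_left (h.le c.2)
      simp only [h12]
      split_ifs
      · rw [map_zero]
      · rw [map_mul, cj_mul, mem_inv.1 h.fT _ (h.le c.2)]
    · obtain ⟨x, rfl⟩ := QuotientGroup.mk_surjective q
      rw [k5]
      split_ifs with h14
      · rw [map_zero]
      · refine h.p2 x h14 _ (Subgroup.zpowers_le.2 ⟨c.2, mem_cs.2 ?_⟩)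
          (isPGroup_zpowers ⟨1, by simpa using h12⟩) (Subgroup.zpowers_ne_bot.2 fun h7 =>
            (Fact.out : p.Prime).one_lt.ne' (by rw [← h12, ← Subgroup.orderOf_coe, h7, orderOf_one]))
        have h15 : ((c * x : G) : G ⧸ T) = x := h13
        simpa only [mul_assoc] using QuotientGroup.eq.1 h15.symm
  have h9 := k6 v' h1' h2'
  rw [h8, sub_zero] at h9
  have h10 : μ = 0 := by
    by_contra h10
    exact h3' (by simpa [smul_smul, inv_mul_cancel₀ h10] using Im.smul h9 μ⁻¹)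
  exact h3 (by simpa [h10, h7] using Im.smul (k6 v h1 h2) (-1 : k))

end CD

theorem Prim.smul_eq_zero_iff {A V : Type*} [Ring A] [Algebra k A] [Module.Finite k A]
    [AddCommGroup V] [Module A V] [IsSimpleModule A V] {j : A} (hj : Prim (⊤ : Subalgebra k A) j)
    {s : V} (hs : j • s ≠ 0) (a : A) : a • j • s = 0 ↔ ∀ c, IsNilpotent (j * (c * a) * j) := by
  constructor
  · intro h c
    refine (hj.nil_or trivial (hj.corner_left _) (hj.corner_right _)).resolve_right ?_
    rintro ⟨d, -, -, h1, -⟩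
    refine hs ?_
    rw [← h1]
    simp only [mul_smul, h, smul_zero]
  · intro h
    by_contra h1
    obtain ⟨c, hc⟩ := IsSimpleModule.toSpanSingleton_surjective A h1 (j • s)
    obtain ⟨n, hn⟩ := h c
    have h2 : ∀ n, (j * (c * a) * j) ^ n • j • s = j • s := fun n => by
      induction n with
      | zero => simp
      | succ n ih =>
        rw [pow_succ', mul_smul, ih, mul_smul, mul_smul, mul_smul, smul_smul j j, hj.idem.eq,
          show c • a • j • s = j • s from hc, smul_smul, hj.idem.eq]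
    exact hs (by rw [← h2 n, hn, zero_smul])

theorem HZ.transfer [Finite G] {V V' : Type w} [AddCommGroup V] [Module k[G] V] [Module k V]
    [IsScalarTower k k[G] V] [IsSimpleModule k[G] V] [AddCommGroup V'] [Module k[G] V']
    [Module k V'] [IsScalarTower k k[G] V'] [IsSimpleModule k[G] V'] {j i y H : k[G]} {m : ℕ}
    {ζ : k} (hj : Prim (⊤ : Subalgebra k k[G]) j) {s : V} {s' : V'} (hs : j • s ≠ 0)
    (hs' : j • s' ≠ 0) (h : HZ V' i y H m ζ) : HZ V i y H m ζ := by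
  have key : ∀ a b : k[G], a • j • s = b • j • s ↔ a • j • s' = b • j • s' := fun a b => by
    rw [← sub_eq_zero, ← sub_smul, hj.smul_eq_zero_iff hs, ← hj.smul_eq_zero_iff hs', sub_smul,
      sub_eq_zero]
  obtain ⟨v, h1, h2, h3, h4⟩ := h
  obtain ⟨a, rfl⟩ := IsSimpleModule.toSpanSingleton_surjective k[G] hs' v
  rw [LinearMap.toSpanSingleton_apply] at h1 h2 h3 h4
  refine ⟨a • j • s, ?_, ?_, ?_, ?_⟩
  · rw [smul_smul, key, mul_smul, h1]
  · rw [smul_smul, ← zero_smul k[G] (j • s), key, mul_smul, h2, zero_smul]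
  · rw [smul_smul, ← smul_assoc ζ a, key, mul_smul, h3, smul_assoc]
  · rintro ⟨w, hw⟩
    obtain ⟨c, rfl⟩ := IsSimpleModule.toSpanSingleton_surjective k[G] hs w
    rw [LinearMap.toSpanSingleton_apply, smul_smul, key, mul_smul] at hw
    exact h4 ⟨_, hw⟩

theorem CD.exists_prims [Finite G] {p : ℕ} [Fact p.Prime] [CharP k p] [IsAlgClosed k] {b : k[G]}
    {C T : Subgroup G} {f i y H : k[G]} {e m : ℕ} (h : CD p b C T f i y H e m) :
    ∃ j : Fin e → k[G], (∀ s, Prim (⊤ : Subalgebra k k[G]) (j s) ∧ b * j s = j s) ∧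
      ∀ s t, Eqv (⊤ : Subalgebra k k[G]) (j s) (j t) → s = t := by
  haveI : NeZero (e : k) := ⟨h.e0⟩
  haveI : NeZero e := ⟨h.e_pos.ne'⟩
  obtain ⟨ζ, hζ⟩ := HasEnoughRootsOfUnity.exists_primitiveRoot k e
  have h1 : ∀ s : Fin e, (ζ ^ (s : ℕ)) ^ e = 1 := fun s => by
    rw [← pow_mul, mul_comm, pow_mul, hζ.pow_eq_one, one_pow]
  choose S i1 i2 i3 i4 i5 i6 h2 using fun s : Fin e =>
    h.exists_simple (h1 s) _ _ rfl (h.hz_quot (h1 s))
  obtain ⟨D, hD⟩ := exists_dec (S := (⊤ : Subalgebra k k[G])) trivial h.bi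
  have h3 : ∀ s, ∃ j ∈ D, ∃ w : S s, j • w ≠ 0 := fun s => by
    obtain ⟨w, hw⟩ := h.exists_smul_ne (h2 s)
    rw [← hD.sum, Finset.sum_smul] at hw
    obtain ⟨j, h3, h4⟩ := Finset.exists_ne_zero_of_sum_ne_zero hw
    exact ⟨j, h3, w, h4⟩
  choose j h3 w h4 using h3
  refine ⟨j, fun s => ⟨hD.prim _ (h3 s), hD.mul_left (h3 s)⟩, fun s t ⟨x, _, y, _, h5, h6⟩ => ?_⟩
  refine Fin.ext (hζ.pow_inj s.2 t.2 (h.eq_of_hz (h1 s) (h1 t) (h2 s)
    ((h2 t).transfer (hD.prim _ (h3 s)) (h4 s) (s' := x • w t) fun h7 => h4 t ?_)))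
  rw [← (hD.prim _ (h3 t)).idem.eq, ← h6, mul_assoc, ← mul_assoc x, h5, mul_smul,
    mul_smul, h7, smul_zero]

end Cfsg.Agent.Blk
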