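import Cfsg.Agent.Lib.Block.Uni
import Cfsg.Agent.Lib.Block.Nak

set_option autoImplicit false

namespace Cfsg.Agent.Blk
open MonoidAlgebra Polynomial
open Cfsg.Agent.Char hiding cj cj_mul cj_inv_cj cj_cj_inv sum_cj_eq om
open scoped ComplexConjugate

section Gen
variable {G : Type*} [Group G] [Finite G] {k : Type*} [Field k] {p : ℕ} {C T Z : Subgroup G}
  {a b f i j : k[G]} {d d' g : G}

theorem exists_gen_of_card_prime [hp : Fact p.Prime] (hZ : Nat.card Z = p) (hT : T ≤ No Z) :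
    ∃ g ∈ T, (∀ x ∈ T, ∃ s : ℕ, x * g ^ s ∈ Ce Z) ∧
      ∀ s : ℕ, g ^ s ∈ Ce Z ↔ (Ce Z).relIndex T ∣ s := by
  have := isCyclic_of_prime_card hZ
  have : IsCyclic (MulAut Z) := by
    have h1 : IsCyclic (ZMod (Nat.card Z))ˣ := by rw [hZ]; infer_instance
    exact (IsCyclic.mulAutMulEquiv Z).isCyclic.2 h1
  let φ : T →* MulAut Z := Z.normalizerMonoidHom.comp (Subgroup.inclusion hT)
  have h1 : ∀ x : T, φ x = 1 ↔ (x : G) ∈ Ce Z := fun x => by
    change Subgroup.inclusion hT x ∈ Z.normalizerMonoidHom.ker ↔ _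
    rw [Subgroup.normalizerMonoidHom_ker]; rfl
  obtain ⟨⟨_, g, rfl⟩, hg⟩ := IsCyclic.exists_generator (α := φ.range)
  refine ⟨g, g.2, fun x hx => ?_, fun s => ?_⟩
  · obtain ⟨s, hs⟩ := mem_powers_iff_mem_zpowers.2 (hg ⟨φ ⟨x, hx⟩⁻¹, _, rfl⟩)
    refine ⟨s, (h1 (⟨x, hx⟩ * g ^ s)).1 ?_⟩
    rw [map_mul, map_pow, show φ g ^ s = φ ⟨x, hx⟩⁻¹ from congrArg Subtype.val hs, ← map_mul,
      mul_inv_cancel, map_one]
  · rw [← Subgroup.coe_pow, ← h1, map_pow, ← orderOf_dvd_iff_pow_eq_one,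
      show orderOf (φ g) = Nat.card φ.range from
        (Subgroup.orderOf_mk _ _).symm.trans (orderOf_eq_card_of_forall_mem_zpowers hg),
      ← Subgroup.index_ker, show φ.ker = (Ce Z).subgroupOf T from Subgroup.ext h1]
    rfl

/-- homogeneous elements -/
def Hg (C : Subgroup G) (d : G) (a : k[G]) : Prop := ∃ c ∈ sup k C, a = single d 1 * c

omit [Finite G] in
theorem Hg.mul (ha : Hg C d a) (hb : Hg C d' b) (h : d' ∈ No C) : Hg C (d * d') (a * b) := by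
  obtain ⟨c, hc, rfl⟩ := ha
  obtain ⟨c', hc', rfl⟩ := hb
  refine ⟨cj d'⁻¹ c * c', mul_mem (mem_No.1 ((No C).inv_mem h) ▸ cj_mem_sup d'⁻¹ hc) hc', ?_⟩
  simp only [cj_eq, ← mul_assoc, single_mul_single, inv_inv, mul_inv_cancel_right, mul_one]

omit [Finite G] in
theorem Hg.of_mem (ha : a ∈ sup k C) : Hg C 1 a := ⟨a, ha, by rw [← one_def, one_mul]⟩

omit [Finite G] in
theorem Hg.single (d : G) : Hg C d (single d (1 : k)) := ⟨1, one_mem _, (mul_one _).symm⟩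

omit [Finite G] in
theorem Hg.mem (ha : Hg C d a) (hd : d ∈ T) (h : C ≤ T) : a ∈ sup k T :=
  let ⟨_, hc, h1⟩ := ha; h1 ▸ mul_mem (single_mem_sup hd 1) (sup_mono h hc)

omit [Finite G] in
theorem Hg.congr (ha : Hg C d a) (h : d'⁻¹ * d ∈ C) : Hg C d' a := by
  obtain ⟨c, hc, rfl⟩ := ha
  exact ⟨MonoidAlgebra.single (d'⁻¹ * d) 1 * c, mul_mem (single_mem_sup h 1) hc, by
    rw [← mul_assoc, single_mul_single, mul_inv_cancel_left, mul_one]⟩

omit [Finite G] in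
theorem Hg.smul (ha : Hg C d a) (c : k) : Hg C d (c • a) :=
  let ⟨w, hw, h1⟩ := ha; ⟨c • w, Subalgebra.smul_mem _ hw c, by rw [h1, mul_smul_comm]⟩

omit [Finite G] in
theorem Hg.pow (ha : Hg C d a) (h : d ∈ No C) (n : ℕ) : Hg C (d ^ n) (a ^ n) := by
  induction n with
  | zero => simpa using Hg.of_mem (one_mem _)
  | succ n ih => rw [pow_succ, pow_succ]; exact ih.mul ha h

omit [Finite G] in
theorem Hg.tr_eq (ha : Hg C d a) (h : d ∉ C) : tr (C : Set G) a = 0 := by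
  obtain ⟨c, hc, rfl⟩ := ha
  rw [tr_mul_right _ hc, tr_eq_zero_iff.2 fun g hg => ?_, zero_mul]
  rw [coeff_single', if_neg fun h1 : d = g => h (h1 ▸ hg)]

omit [Finite G] in
theorem Prim.cj (hi : Prim (sup k C) i) (hg : g ∈ No C) : Prim (sup k C) (cj g i) :=
  hi.map (Blk.cj g) fun a => ⟨fun h => by
    simpa [mem_No.1 ((No C).inv_mem hg)] using cj_mem_sup g⁻¹ h,
    fun h => mem_No.1 hg ▸ cj_mem_sup g h⟩

theorem exists_unit_hg [hp : Fact p.Prime] [CharP k p] [IsAlgClosed k] (hi : Prim (sup k C) i)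
    (hg : g ∈ No C) (h : Eqv (sup k C) i (cj g i)) {n : ℕ} (hn : ¬ p ∣ n) (h1 : g ^ n ∈ C) :
    ∃ H : k[G], H ^ n = 1 ∧ Commute H i ∧ (1 - i) * H = 1 - i ∧ Hg C g (H * i) := by
  obtain ⟨x, hx, y, hy, h2, h3, h4, h5, h6, h7⟩ := h.exists_norm hi.idem (hi.cj hg).idem
  have k0 : cj g i * single g 1 = single g 1 * i := by
    rw [cj_eq, mul_assoc, single_mul_single, inv_mul_cancel, mul_one, ← one_def, mul_one]
  have k1 : Hg C g (x * single g 1) := by simpa using (Hg.of_mem hx).mul (Hg.single g) hg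
  have k2 : i * (x * single g 1) = x * single g 1 := by rw [← mul_assoc, h4]
  have k3 : x * single g 1 * i = x * single g 1 := by rw [mul_assoc, ← k0, ← mul_assoc, h5]
  have k4 : x * single g 1 * (single g⁻¹ 1 * y) = i := by
    rw [mul_assoc, ← mul_assoc (single g 1), single_mul_single, mul_inv_cancel, mul_one, ← one_def,
      one_mul, h2]
  generalize x * single g 1 = u at k1 k2 k3 k4
  generalize single g⁻¹ 1 * y = v at k4
  have hn0 : n ≠ 0 := fun h => hn (h ▸ dvd_zero p)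
  have k5 : ∀ {u : k[G]}, i * u = u → ∀ s, s ≠ 0 → i * u ^ s = u ^ s := fun k2 s hs => by
    obtain ⟨s, rfl⟩ := Nat.exists_eq_succ_of_ne_zero hs
    rw [pow_succ', ← mul_assoc, k2]
  have k6 : ∀ {u : k[G]}, u * i = u → ∀ s, s ≠ 0 → u ^ s * i = u ^ s := fun k3 s hs => by
    obtain ⟨s, rfl⟩ := Nat.exists_eq_succ_of_ne_zero hs
    rw [pow_succ, mul_assoc, k3]
  have k7 : ∀ s, u ^ s * i * v ^ s = i := fun s => by
    induction s with
    | zero => simp
    | succ s ih => rw [pow_succ, pow_succ', mul_assoc _ u, k3, mul_assoc, ← mul_assoc u, k4,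
        ← mul_assoc, ih]
  have k8 : u ^ n ∈ sup k C := (k1.pow hg n).mem h1 le_rfl
  have k9 : rho k i (u ^ n) ≠ 0 := fun h0 => by
    obtain ⟨r, hr⟩ := (hi.rho_eq_zero_iff k8).1 h0
    rw [k5 k2 n hn0, k6 k3 n hn0, ← pow_mul] at hr
    exact hi.ne (by rw [← k7 (n * r), hr, zero_mul, zero_mul])
  obtain ⟨c, hc⟩ := IsAlgClosed.exists_pow_nat_eq (rho k i (u ^ n))⁻¹ (Nat.pos_of_ne_zero hn0)
  obtain ⟨r, hr⟩ := (hi.rho_spec k8).smul (c ^ n)
  rw [k5 k2 n hn0, k6 k3 n hn0, smul_sub, smul_smul, hc, inv_mul_cancel₀ k9, one_smul, ← hc,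
    ← _root_.smul_pow] at hr
  have k10 : i * c • u = c • u := by rw [mul_smul_comm, k2]
  have k11 : c • u * i = c • u := by rw [smul_mul_assoc, k3]
  replace k1 := k1.smul c
  generalize c • u = w at hr k1 k10 k11
  have k12 : ((w ^ n) ^ p ^ (n.totient * r)) = i := by
    have := charP_of_injective_algebraMap (algebraMap k k[G]).injective p
    have h8 : Commute (w ^ n - i) i := by
      rw [Commute, SemiconjBy, sub_mul, mul_sub, k5 k10 n hn0, k6 k11 n hn0]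
    rw [← sub_add_cancel (w ^ n) i, add_pow_char_pow_of_commute p _ h8, pow_eq_zero_of_le ?_ hr,
      zero_add, hi.idem.pow_eq (pow_ne_zero _ hp.out.ne_zero)]
    exact (Nat.le_mul_of_pos_left _ (Nat.totient_pos.2 (Nat.pos_of_ne_zero hn0))).trans
      (Nat.lt_pow_self hp.out.one_lt).le
  have k13 : p ^ (n.totient * r) ≠ 0 := pow_ne_zero _ hp.out.ne_zero
  have k14 : Hg C g (w ^ p ^ (n.totient * r)) := by
    refine (k1.pow hg _).congr ?_
    have h8 : 1 ≡ p ^ (n.totient * r) [MOD n] := by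
      simpa [pow_mul] using ((Nat.ModEq.pow_totient
        ((Nat.Prime.coprime_iff_not_dvd hp.out).2 hn)).pow r).symm
    obtain ⟨t, ht⟩ := (Nat.modEq_iff_dvd' (Nat.pos_of_ne_zero k13)).1 h8
    rw [show p ^ (n.totient * r) = n * t + 1 by omega, pow_succ', inv_mul_cancel_left, pow_mul]
    exact C.pow_mem h1 t
  rw [← pow_mul, mul_comm, pow_mul] at k12
  replace k10 := k5 k10 _ k13
  replace k11 := k6 k11 _ k13
  generalize w ^ p ^ (n.totient * r) = w at k10 k11 k12 k14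
  have k15 : (1 - i) * i = 0 := by rw [sub_mul, one_mul, hi.idem.eq, sub_self]
  have k16 : ∀ s, (w + (1 - i)) ^ (s + 1) = w ^ (s + 1) + (1 - i) := fun s => by
    induction s with
    | zero => simp
    | succ s ih =>
      rw [pow_succ, ih, add_mul, mul_add, mul_add, hi.idem.one_sub.eq, mul_sub, sub_mul, mul_one,
        one_mul, k10, k6 k11 _ s.succ_ne_zero, sub_self, sub_self, add_zero, zero_add, ← pow_succ]
  refine ⟨w + (1 - i), ?_, ?_, ?_, by rwa [add_mul, k15, add_zero, k11]⟩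
  · obtain ⟨s, rfl⟩ := Nat.exists_eq_succ_of_ne_zero hn0
    rw [k16, k12, add_sub_cancel]
  · rw [Commute, SemiconjBy, add_mul, mul_add, k10, k11, k15, mul_sub, mul_one, hi.idem.eq,
      sub_self]
  · rw [mul_add, hi.idem.one_sub.eq, sub_mul, one_mul, k10, sub_self, zero_add]

theorem idem_eq_zero_of_fixed [hp : Fact p.Prime] [CharP k p] (hZ : IsPGroup p Z) (h1 : Z ≠ ⊥)
    (hi : i ∈ sup k (Ce Z)) (h2 : IsIdempotentElem i) (h3 : ∀ z ∈ Z, single z 1 * i = i) :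
    i = 0 := by
  classical
  have := Fintype.ofFinite G
  have h4 : ∀ z ∈ Z, ∀ g, i.coeff (z * g) = i.coeff g := fun z hz g => by
    conv_lhs => rw [← h3 z hz]
    simp
  have h5 : ∀ z ∈ Z, ∀ g, i.coeff (g * z) = i.coeff g := fun z hz g => by
    conv_lhs => rw [← h3 z hz, (commute_of_mem (sup_le_inv_Ce Z hi) (single_mem_sup hz 1)).eq.symm]
    simp
  refine ext' fun g => ?_
  rw [← h2.eq, coeff_mul_left, sum_eq_sum_fixed (P := Z) hZ _ (fun z y => ?_) ∅ fun y => ?_]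
  · simp
  · change i.coeff (z * y) * i.coeff ((z * y)⁻¹ * g) = _
    rw [h4 _ z.2]
    by_cases hy : y ∈ Ce Z
    · rw [mul_inv_rev, ← mem_Ce.1 ((Ce Z).inv_mem hy) _ (Z.inv_mem z.2), mul_assoc,
        h4 _ (Z.inv_mem z.2)]
    · rw [mem_sup.1 hi y hy, zero_mul, zero_mul]
  · obtain ⟨⟨z, hz⟩, h6⟩ := Subgroup.ne_bot_iff_exists_ne_one.1 h1
    refine iff_of_false (by simp) fun h => h6 (Subtype.ext ?_)
    simpa [Subgroup.smul_def] using h ⟨z, hz⟩

omit [Finite G] in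
theorem Prim.rs (hi : Prim (sup k C) i) : Prim (⊤ : Subalgebra k k[C]) (rs C i) := by
  refine ⟨trivial, idem_rs hi.mem hi.idem, fun h => hi.ne ?_, fun f _ h1 h2 h3 => ?_⟩
  · rw [← es_rs_of_mem hi.mem, h, map_zero]
  · have h4 := congrArg (es C) h2
    have h5 := congrArg (es C) h3
    rw [map_mul, es_rs_of_mem hi.mem] at h4 h5
    refine (hi.eq_or _ (es_mem_sup C f) (h1.map _) h4 h5).imp (fun h => es_injective C ?_)
      fun h => by rw [← h, rs_es]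
    rw [h, map_zero]

omit [Finite G] in
theorem Eqv.of_rs (hi : i ∈ sup k C) (hj : j ∈ sup k C)
    (h : Eqv (⊤ : Subalgebra k k[C]) (rs C i) (rs C j)) : Eqv (sup k C) i j := by
  obtain ⟨x, -, y, -, h1, h2⟩ := h
  exact ⟨es C x, es_mem_sup C x, es C y, es_mem_sup C y, by rw [← map_mul, h1, es_rs_of_mem hi],
    by rw [← map_mul, h2, es_rs_of_mem hj]⟩

theorem exists_sum_of_eqv {A : Type*} [Ring A] [Algebra k A] [Module.Finite k A]
    {S : Subalgebra k A} {f i : A} (hf : f ∈ S) (h1 : IsIdempotentElem f)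
    (h : ∀ j, Prim S j → f * j = j → Eqv S j i) : ∃ (n : ℕ) (a c : Fin n → A),
      (∀ j, a j ∈ S) ∧ (∀ j, c j ∈ S) ∧ f = ∑ j, a j * i * c j := by
  obtain ⟨D, hD⟩ := exists_dec hf h1
  choose x hx y hy h2 h3 using fun j : D => h j (hD.prim _ j.2) (hD.mul_left j.2)
  refine ⟨D.card, fun j => x (D.equivFin.symm j), fun j => y (D.equivFin.symm j), fun _ => hx _,
    fun _ => hy _, ?_⟩
  rw [Equiv.sum_comp D.equivFin.symm fun j => x j * i * y j, ← hD.sum, ← Finset.sum_coe_sort]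
  refine Finset.sum_congr rfl fun j _ => ?_
  rw [← h3 j, ← mul_assoc, mul_assoc, h2, (hD.prim _ j.2).idem.eq]

theorem exists_nil_index {A : Type*} [Ring A] {y : A} (h : IsNilpotent y) (h0 : y ≠ 0) :
    ∃ m, m ≠ 0 ∧ y ^ (m + 1) = 0 ∧ y ^ m ≠ 0 := by
  classical
  have h1 := Nat.find_spec h
  have h2 : Nat.find h ≠ 0 := fun h2 => h0 (by
    rw [h2, pow_zero] at h1; rw [← mul_one y, h1, mul_zero])
  obtain ⟨m, hm⟩ := Nat.exists_eq_succ_of_ne_zero h2
  rw [hm] at h1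
  exact ⟨m, fun h3 => h0 (by simpa [h3] using h1), h1, Nat.find_min h (by omega)⟩

end Gen

variable {G : Type*} [Group G] [Finite G] {M : Ideal AlgInt} {p : ℕ} [PMod M p]
  {B : Set (IrrCharacter G)} {P Q Z C : Subgroup G} {e f i j : (kk M)[G]}

theorem IsNilp.bar_cb (h : IsNilp p C f) : bar M (cb M C f) = rs C f := by
  conv_rhs => rw [← h.1.isPBlock_cb.2]
  exact (rs_es _ _).symm

theorem IsNilp.eqv (h : IsNilp p C f) (hi : Prim (sup (kk M) C) i) (hj : Prim (sup (kk M) C) j)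
    (h1 : f * i = i) (h2 : f * j = j) : Eqv (sup (kk M) C) i j :=
  .of_rs hi.mem hj.mem (eqv_of_rank h.nilp_cb.blk.isUB h.nilp_cb.rank hi.rs hj.rs
    (by rw [h.bar_cb, ← rs_mul_left h.1.sup, h1]) (by rw [h.bar_cb, ← rs_mul_left h.1.sup, h2]))

theorem MP.relIndex_eq (h : MP p B P e) (hc : IsCyclic P) (hf : PLe p ⊤ Z f P e) (h1 : Z ≠ ⊥)
    (h2 : No P ≤ No Z) : (Ce Z).relIndex (stab (⊤ ⊓ No Z) f) = Nat.card (autE P e) := by
  haveI : Fact p.Prime := ⟨PMod.prime M⟩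
  have h3 := (le_Ce_self_of_isCyclic hc).trans (Ce_anti hf.le)
  rw [card_autE, relIndex_eq_of_forall (C := stab (⊤ ⊓ No P) e)
    (fun x hx => hf.stab_le h.mp.bp ⟨hx, h2 hx.1.2⟩) fun x hx => ?_]
  · refine congrArg Subgroup.index (Subgroup.ext fun x => ⟨fun hx => ?_, fun hx => Ce_anti hf.le hx⟩)
    obtain ⟨⟨z, hz⟩, h6⟩ := Subgroup.ne_bot_iff_exists_ne_one.1 h1
    exact h.mp.mem_Ce_of_fix hc x.2 (hf.le hz) (fun h => h6 (Subtype.ext h))
      (conj_eq_of_mem_Ce hx hz)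
  · obtain ⟨y, hy, c, hc, rfl⟩ := h.mp.exists_mul_of_le_Ce hf h3 hx
    exact ⟨y, hy, by simpa using hc.2⟩

theorem MP.exists_cd (h : MP p B P e) (hc : IsCyclic P) (h1 : P ≠ ⊥) :
    ∃ C T f i y H m, CD p (bar M B) C T f i y H (Nat.card (autE P e)) m := by
  haveI hp : Fact p.Prime := ⟨PMod.prime M⟩
  obtain ⟨Z, hZP, hZ⟩ := exists_card_eq_prime h.mp.bp.pg h1
  have hZ1 : Z ≠ ⊥ := fun h => hp.out.one_lt.ne (by rw [← hZ, h, Subgroup.card_bot])
  have hZp := isPGroup_le h.mp.bp.pg hZP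
  have hf := h.mp.bp.lb_ple hZP
  have hn := (h.fa_of_isCyclic hc).nilp_lb hZ1 hZP
  generalize lb p P e Z = f at hf hn
  have hPC := (le_Ce_self_of_isCyclic hc).trans (Ce_anti hZP)
  have hCT : Ce Z ≤ stab (⊤ ⊓ No Z) f := le_stab.2 ⟨le_inf le_top (Ce_le_No Z), hn.1.inv⟩
  have hTN : stab (⊤ ⊓ No Z) f ≤ No Z := fun _ hx => hx.1.2
  have hTC := hTN.trans (No_le_No_Ce Z)
  have hi0 := h.relIndex_eq hc hf hZ1 (No_le_No_of_cyclic hc h.mp.bp.pg hZP hZ)
  have hpe := h.not_dvd_autE (le_Ce_self_of_isCyclic hc)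
  obtain ⟨g, hg, g1, g2⟩ := exists_gen_of_card_prime hZ hTN
  rw [hi0] at g2
  obtain ⟨i, hi, i1, -⟩ := exists_prim_le hn.1.sup hn.1.idem hn.1.ne
  obtain ⟨H, H1, H2, H3, H4⟩ := exists_unit_hg hi (hTC hg) (hn.eqv hi (hi.cj (hTC hg)) i1 (by
    conv_lhs => rw [← hg.2, ← map_mul, i1])) hpe ((g2 _).2 dvd_rfl)
  have H5 : ∀ s, Hg (Ce Z) (g ^ s) (H ^ s * i) := fun s => by
    rcases Nat.eq_zero_or_pos s with rfl | hs
    · simpa using Hg.of_mem hi.mem
    · simpa only [H2.mul_pow, hi.idem.pow_eq hs.ne'] using H4.pow (hTC hg) s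
  obtain ⟨y, y1, y2, y3, y4⟩ := (h.sub hf hPC).exists_uniserial
    (isNilpotentBlock_iff.1 hn.nilp_cb).2
    ((Subgroup.subgroupOfEquivOfLe hPC).isCyclic.2 hc) hi.rs
    (by rw [hn.bar_cb, ← rs_mul_left hn.1.sup, i1])
  have y5 : ∀ a ∈ sup (kk M) (Ce Z), ∃ q : (kk M)[X], i * a * i = aeval (es _ y) q * i :=
    fun a ha => by
      obtain ⟨q, hq⟩ := y4 (rs _ a)
      refine ⟨q, ?_⟩
      simpa only [map_mul, es_rs_of_mem hi.mem, es_rs_of_mem ha, aeval_algHom_apply]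
        using congrArg (es (Ce Z)) hq
  replace y1 := congrArg (es (Ce Z)) y1
  replace y2 := congrArg (es (Ce Z)) y2
  rw [map_mul, es_rs_of_mem hi.mem] at y1 y2
  obtain ⟨m, m0, m1, m2⟩ := exists_nil_index (y3.map (es (Ce Z))) fun h0 => hi.ne (by
    refine idem_eq_zero_of_fixed hZp hZ1 hi.mem hi.idem fun z hz => ?_
    have := charP_of_injective_algebraMap (algebraMap (kk M) (kk M)[G]).injective p
    have k1 : Commute i (single z 1) :=
      commute_of_mem (sup_le_inv_Ce Z hi.mem) (single_mem_sup hz 1)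
    obtain ⟨q, hq⟩ := y5 _ (single_mem_sup (hPC (hZP hz)) 1)
    rw [h0, ← coeff_zero_eq_aeval_zero', k1.eq, mul_assoc, hi.idem.eq, ← Algebra.smul_def] at hq
    have k2 := congrArg (· ^ p) hq
    simp only [k1.symm.mul_pow, _root_.smul_pow, hi.idem.pow_eq hp.out.ne_zero, single_pow,
      one_pow] at k2
    rw [show z ^ p = 1 from congrArg Subtype.val (hZ ▸ pow_card_eq_one' (x := (⟨z, hz⟩ : Z))),
      ← one_def, one_mul, ← sub_eq_zero] at k2
    nth_rewrite 1 [← one_smul (kk M) i] at k2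
    rw [← sub_smul, smul_eq_zero, or_iff_left hi.ne, ← one_pow p, ← sub_pow_char,
      pow_eq_zero_iff hp.out.ne_zero, sub_eq_zero] at k2
    rw [hq, ← k2, one_smul])
  have hD : IsDef p (Ce Z) f P := by simpa using h.mp.isDef_Ce_of_le hf hPC
  have hQ : ∀ Q ≤ Ce Z, IsPGroup p Q → Br Q f ≠ 0 → ∀ R ≤ Q, R ≠ ⊥ → Z ≤ R := fun Q q1 q2 q3 R r1 r2 => by
    obtain ⟨x, hx, h2⟩ := hD.sub Q q1 q2 q3
    have h3 := le_of_isCyclic_of_card_prime hc h.mp.bp.pg hZP (hZ.symm ▸ hp.out)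
      ((cs_mono x r1).trans h2) fun h => r2 (cs_injective x (h.trans (cs_bot x).symm))
    rwa [le_cs_iff, mem_No.1 (Ce_le_No Z ((Ce Z).inv_mem hx))] at h3
  have hb : bar M B ∈ inv (kk M) (⊤ : Subgroup G) := h.blk.isBlock.inv
  refine ⟨Ce Z, stab (⊤ ⊓ No Z) f, f, i, es _ y, H, m, hCT, hn.1.sup, mem_inv_stab _ _, hn.1.idem,
    hi.mem, hi.idem, i1, exists_sum_of_eqv hn.1.sup hn.1.idem fun j hj j1 => hn.eqv hj hi j1 i1,
    es_mem_sup _ _, y1, y2, m1, m2, m0, y5, ?_, H1, ?_, H2, fun x hx => ?_, fun c hc => ?_,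
    fun s s1 s2 => (H5 s).tr_eq fun h => (Nat.le_of_dvd s1 ((g2 s).1 h)).not_gt s2, h.blk.isBlock.idem,
    fun Q q1 q2 q3 => ?_, inv_anti le_top hb, fun x hx Q q1 q2 q3 => ?_⟩
  · rw [show H = H * i + (1 - i) by rw [← H3, sub_mul, one_mul, H2.eq, add_sub_cancel]]
    exact add_mem (H4.mem hg hCT) (sup_mono hCT (sub_mem (one_mem _) hi.mem))
  · rwa [Ne, CharP.cast_eq_zero_iff (kk M) p]
  · obtain ⟨s, hs⟩ := g1 x hx
    refine ⟨s, ?_⟩
    rw [mul_assoc, mul_assoc]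
    exact mul_mem hi.mem (((Hg.single x).mul (H5 s) ((No _).pow_mem (hTC hg) s)).mem hs le_rfl)
  · have h2 := (H4.mul (.of_mem hc) (one_mem _)).mul (H5 (Nat.card (autE P e) - 1))
      ((No _).pow_mem (hTC hg) _)
    rw [mul_one, ← pow_succ', Nat.sub_add_cancel Nat.card_pos, (H2.pow_left _).eq] at h2
    simpa only [mul_assoc] using h2.mem ((g2 _).2 dvd_rfl) le_rfl
  · by_cases h2 : Br Q f = 0
    · rw [Br_mul q2 (inv_anti le_top (sub_mem (one_mem _) hb)) (inv_anti q1 hn.1.inv), h2,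
        mul_zero]
    · rw [← Br_Br_of_le (hQ Q q1 q2 h2 Q le_rfl q3), tr_mul_right _ hn.1.sup, map_sub, Br_one,
        sub_mul, one_mul, h.mp.eq_of_PLe hf, sub_self, map_zero]
  · have h2 : cs x⁻¹ Q ≤ Ce Z := le_of_not_dvd_relIndex hCT hTC (hi0 ▸ hpe) (isPGroup_cs _ q2)
      (le_cs_iff.1 (q1.trans inf_le_right))
    by_contra h3
    have h4 := h3
    rw [Br_mul q2 (inv_anti (le_cs_iff.2 h2) (cj_mem_inv x hn.1.inv))
      (inv_anti (q1.trans inf_le_left) hn.1.inv)] at h4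
    have h5 := hQ _ h2 (isPGroup_cs _ q2) (by
      simpa using Br_cs_ne_zero (left_ne_zero_of_mul h4) x⁻¹) _ le_rfl
      fun h => q3 (cs_injective x⁻¹ (h.trans (cs_bot _).symm))
    have h6 := hQ Q (q1.trans inf_le_left) q2 (right_ne_zero_of_mul h4) _ (cs_le_iff.2 h5)
      fun h => hZ1 (cs_injective x (h.trans (cs_bot _).symm))
    have h7 : x ∈ No Z := mem_No.2 (Subgroup.eq_of_le_of_card_ge h6 (card_cs x Z).le).symm
    exact h3 (by rw [(hn.1.cj_of_mem_No (No_le_No_Ce Z h7)).mul_eq_zero hn.1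
      fun h => hx ⟨⟨trivial, h7⟩, h⟩, map_zero])

theorem MP.le_rank (h : MP p B P e) (hc : IsCyclic P) (h1 : P ≠ ⊥) :
    Nat.card (autE P e) ≤ blockRank p B := by
  haveI hp : Fact p.Prime := ⟨PMod.prime M⟩
  obtain ⟨C, T, f, i, y, H, m, h2⟩ := h.exists_cd hc h1
  obtain ⟨j, h3, h4⟩ := h2.exists_prims
  obtain ⟨I, hI⟩ := h.blk.isUB.exists_pts
  choose r h5 h6 using fun s => hI.ex _ (h3 s).1 (h3 s).2
  rw [← hI.card_eq, ← Fintype.card_fin (Nat.card _), ← Finset.card_univ]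
  exact Finset.card_le_card_of_injOn r (fun s _ => h5 s) fun s _ t _ h7 => h4 s t
    ((h6 s).trans (h7 ▸ (h6 t).symm) (h3 s).1.idem (h3 t).1.idem)

end Cfsg.Agent.Blk
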