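import Cfsg.Agent.Lib.Block.Free

/-! Principal blocks with freely acting inertial quotient; Klein four groups. -/

set_option autoImplicit false

namespace Cfsg.Agent.Blk

open MonoidAlgebra
open Cfsg.Agent.Char hiding cj cj_mul cj_inv_cj cj_cj_inv sum_cj_eq om
open scoped ComplexConjugate

section Aut
variable {W : Type*} [Group W] [Finite W] {E : Subgroup (MulAut W)} {σ : MulAut W} {p : ℕ}

theorem aut_pow_apply_of_mul {v w : W} (h : σ v = w * v) (hw : σ w = w) (n : ℕ) :
    (σ ^ n) v = w ^ n * v := by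
  induction n with
  | zero => simp
  | succ n ih =>
    have : ∀ k : ℕ, σ (w ^ k) = w ^ k := fun k => by rw [map_pow, hw]
    rw [pow_succ', MulAut.mul_apply, ih, map_mul, this, h, pow_succ, mul_assoc]

theorem aut_eq_one_of_omega [hp : Fact p.Prime] (hc : ∀ a b : W, a * b = b * a)
    (hW : IsPGroup p W) (hσ : ¬ p ∣ orderOf σ) (h : ∀ v : W, v ^ p = 1 → σ v = v) : σ = 1 := by
  have key : ∀ j, ∀ v : W, v ^ p ^ j = 1 → σ v = v := fun j => by
    induction j with
    | zero => intro v hv; rw [pow_zero, pow_one] at hv; rw [hv, map_one]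
    | succ j ih =>
      intro v hv
      have h1 := ih (v ^ p) (by rw [← pow_mul, ← pow_succ', hv])
      have h2 : (σ v * v⁻¹) ^ p = 1 := by
        rw [Commute.mul_pow (hc _ _), ← map_pow, h1, inv_pow, mul_inv_cancel]
      have h3 := aut_pow_apply_of_mul (v := v) (inv_mul_cancel_right _ _).symm (h _ h2) (orderOf σ)
      rw [pow_orderOf_eq_one, MulAut.one_apply, eq_comm, mul_eq_right] at h3
      have h4 := Nat.eq_one_of_dvd_coprimes ((Nat.Prime.coprime_iff_not_dvd hp.out).2 hσ)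
        (orderOf_dvd_of_pow_eq_one h2) (orderOf_dvd_of_pow_eq_one h3)
      rwa [orderOf_eq_one_iff, mul_inv_eq_one] at h4
  ext v
  obtain ⟨j, hj⟩ := hW v
  exact key j v hj

theorem eq_mul_of_omega_four (hc : ∀ a b : W, a * b = b * a)
    (h4 : Nat.card {v : W // v * v = 1} = 4) {a b c : W} (ha : a * a = 1) (hb : b * b = 1)
    (hc' : c * c = 1) (ha1 : a ≠ 1) (hb1 : b ≠ 1) (hab : a ≠ b) (hc1 : c ≠ 1) (hca : c ≠ a)
    (hcb : c ≠ b) : c = a * b := by
  classical
  have := Fintype.ofFinite W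
  rw [Nat.card_eq_fintype_card, Fintype.card_subtype] at h4
  by_contra h
  have h1 : a * b ≠ 1 := fun h => hab (by rw [← mul_one a, ← hb, ← mul_assoc, h, one_mul])
  have h2 : a * b ≠ a := by simpa using hb1
  have h3 : a * b ≠ b := by simpa using ha1
  have h5 : ({1, a, b, a * b, c} : Finset W) ⊆ Finset.univ.filter fun v => v * v = 1 := by
    intro v hv
    simp only [Finset.mem_insert, Finset.mem_singleton] at hv
    simp only [Finset.mem_filter, Finset.mem_univ, true_and]
    rcases hv with rfl | rfl | rfl | rfl | rfl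
    · simp
    · exact ha
    · exact hb
    · rw [mul_assoc, ← mul_assoc b, hc b a, mul_assoc, hb, mul_one, ha]
    · exact hc'
  have h6 := Finset.card_le_card h5
  rw [h4, Finset.card_insert_of_notMem (by simp [ha1.symm, hb1.symm, h1.symm, hc1.symm]),
    Finset.card_insert_of_notMem (by simp [hab, h2.symm, hca.symm]),
    Finset.card_insert_of_notMem (by simp [h3.symm, hcb.symm]),
    Finset.card_insert_of_notMem (by simp [Ne.symm h]), Finset.card_singleton] at h6
  omega

theorem exists_invol_zpowers (hW : IsPGroup 2 W) {u : W} (hu : u ≠ 1) :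
    ∃ n : ℕ, u ^ n ≠ 1 ∧ u ^ n * u ^ n = 1 := by
  haveI : Fact (Nat.Prime 2) := ⟨Nat.prime_two⟩
  obtain ⟨k, hk⟩ := IsPGroup.iff_orderOf.1 hW u
  obtain _ | k := k
  · rw [pow_zero, orderOf_eq_one_iff] at hk; exact absurd hk hu
  refine ⟨2 ^ k, fun h => ?_, by rw [← pow_add, ← two_mul, ← pow_succ', ← hk, pow_orderOf_eq_one]⟩
  have := orderOf_dvd_of_pow_eq_one h
  rw [hk, Nat.pow_dvd_pow_iff_le_right one_lt_two] at this
  omega

theorem free_of_omega_four (hc : ∀ a b : W, a * b = b * a) (hW : IsPGroup 2 W)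
    (h4 : Nat.card {v : W // v * v = 1} = 4) (hE : ¬ 2 ∣ Nat.card E) :
    FreeAut E ∧ (Nat.card E = 1 ∨ Nat.card E = 3) := by
  classical
  haveI : Fact (Nat.Prime 2) := ⟨Nat.prime_two⟩
  have h1 : FreeAut E := fun σ hσ u hu h => by
    have h2 : ¬ 2 ∣ orderOf σ := fun h => hE (h.trans (Subgroup.orderOf_dvd_natCard E hσ))
    obtain ⟨n, h3, h5⟩ := exists_invol_zpowers hW hu
    have h6 : σ (u ^ n) = u ^ n := by rw [map_pow, h]
    refine aut_eq_one_of_omega hc hW h2 fun v hv => ?_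
    rw [sq] at hv
    by_contra h7
    have h8 : v ≠ 1 := fun h => h7 (by rw [h, map_one])
    have h9 : u ^ n ≠ v := fun h => h7 (by rw [← h, h6])
    have h10 := eq_mul_of_omega_four hc h4 h5 hv (c := σ v) (by rw [← map_mul, hv, map_one]) h3 h8
      h9 (by simpa using h8) (fun h => h9 (σ.injective (h6.trans h.symm))) h7
    have h11 := aut_pow_apply_of_mul h10 h6 (orderOf σ)
    rw [pow_orderOf_eq_one, MulAut.one_apply, eq_comm, mul_eq_right] at h11
    have h12 := Nat.eq_one_of_dvd_coprimes ((Nat.Prime.coprime_iff_not_dvd Nat.prime_two).2 h2)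
        (orderOf_dvd_of_pow_eq_one ((sq _).trans h5)) (orderOf_dvd_of_pow_eq_one h11)
    exact h3 (orderOf_eq_one_iff.1 h12)
  refine ⟨h1, ?_⟩
  have := Fintype.ofFinite W
  rw [Nat.card_eq_fintype_card, Fintype.card_subtype] at h4
  obtain ⟨u, hu, hu1⟩ := Finset.exists_mem_ne (h4 ▸ (by norm_num : 1 < 4)) 1
  have h2 := h1.card_elt hu1
  rw [Nat.card_eq_fintype_card, Fintype.card_subtype] at h2
  have h3 : (Finset.univ.filter fun v => ∃ σ ∈ E, σ u = v) ⊆
      (Finset.univ.filter fun v : W => v * v = 1).erase 1 := by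
    intro v hv
    obtain ⟨σ, -, rfl⟩ := (Finset.mem_filter.1 hv).2
    exact Finset.mem_erase.2 ⟨by simpa using hu1, Finset.mem_filter.2 ⟨Finset.mem_univ _, by
      rw [← map_mul, (Finset.mem_filter.1 hu).2, map_one]⟩⟩
  have h5 := Finset.card_le_card h3
  rw [Finset.card_erase_of_mem (by simp), h4, h2] at h5
  omega

theorem FreeAut.trans_of_card (hE : FreeAut E) (h : Nat.card W = Nat.card E + 1) {u v : W}
    (hu : u ≠ 1) (hv : v ≠ 1) : ∃ σ ∈ E, σ u = v := by
  classical
  have := Fintype.ofFinite W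
  have h2 := hE.card_elt hu
  rw [Nat.card_eq_fintype_card, Fintype.card_subtype] at h2
  have h3 : (Finset.univ.filter fun v => ∃ σ ∈ E, σ u = v) = Finset.univ.erase 1 :=
    Finset.eq_of_subset_of_card_le (fun v hv => by
      obtain ⟨σ, -, rfl⟩ := (Finset.mem_filter.1 hv).2
      simpa using hu) (by
      rw [Finset.card_erase_of_mem (Finset.mem_univ _), h2, Finset.card_univ,
        ← Nat.card_eq_fintype_card, h]; simp)
  have h4 := Finset.mem_erase.2 ⟨hv, Finset.mem_univ _⟩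
  rw [← h3] at h4
  exact (Finset.mem_filter.1 h4).2

theorem FreeAut.card_lt (hE : FreeAut E) {u : W} (hu : u ≠ 1) : Nat.card E < Nat.card W := by
  classical
  have := Fintype.ofFinite W
  rw [← hE.card_elt hu, Nat.card_eq_fintype_card, Nat.card_eq_fintype_card]
  exact Fintype.card_subtype_lt (x := 1) fun ⟨σ, _, h⟩ => hu (by simpa using h)

theorem sq_eq_one_of_sum_le {ι : Type*} {s : Finset ι} {d : ι → ℤ} (h0 : ∀ i ∈ s, d i ≠ 0)
    (h : ∑ i ∈ s, d i ^ 2 < s.card + 3) {j : ι} (hj : j ∈ s) : d j = 1 ∨ d j = -1 := by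
  classical
  by_contra h1
  have h2 : 4 ≤ d j ^ 2 := by
    have := h0 j hj
    rcases le_or_gt 2 (d j) with h3 | h3
    · nlinarith
    · have : d j ≤ -2 := by omega
      nlinarith
  rw [← Finset.add_sum_erase _ _ hj, ← Finset.card_erase_add_one hj] at h
  have h3 : ((s.erase j).card : ℤ) ≤ ∑ i ∈ s.erase j, d i ^ 2 := by
    rw [Finset.card_eq_sum_ones, Nat.cast_sum]
    exact Finset.sum_le_sum fun i hi => by
      have := h0 i (Finset.mem_of_mem_erase hi)
      push_cast
      exact (one_le_sq_iff_one_le_abs _).2 (Int.one_le_abs this)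
  push_cast at h
  omega

end Aut

variable {G : Type*} [Group G] [Finite G] {M : Ideal AlgInt} {p : ℕ} [PMod M p]
  {B : Set (IrrCharacter G)} {P : Subgroup G} {e : (kk M)[G]} {u s : G} {χ : IrrCharacter G}

theorem MP.locSet_eq (h : MP p B P e) (hu : u ∈ P)
    (h1 : ∀ x, x * u * x⁻¹ ∈ P → x * u * x⁻¹ = u) : locSet M (Ce1 u) B = sb p P e u := by
  haveI : Fact p.Prime := ⟨PMod.prime M⟩
  refine Set.Subset.antisymm (fun ξ hξ => ?_) (h.sb_ind hu).subset_locSet
  rw [mem_locSet_Ce1_iff (h.pelt hu) h.blk, h.ind_iff (h.pelt hu) (isPBlock_blockOf ξ)] at hξ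
  obtain ⟨x, hx⟩ := hξ
  have h2 := h1 x (hx.le (Subgroup.mem_zpowers _))
  rw [h2, mem_inv.1 (mem_Z.1 (barS_mem _ _)).2 x (mem_Ce1.2 (mul_inv_eq_iff_eq_mul.1 h2))] at hx
  rw [h.bp.sb_eq (isPBlock_blockOf ξ) hx]
  exact mem_blockOf_self ξ

theorem apply_eq_loc_locSet (hB : IsUB M B) (hu : ∃ k : ℕ, orderOf u = p ^ k) (hχ : χ ∈ B)
    {s : Ce1 u} (hs : ¬ p ∣ orderOf s) : χ.1 (u * s) = loc p u (locSet M (Ce1 u) B) χ.1 s := by
  rw [hB.loc_locSet hu hχ, reg_of_preg hs, Ru]

variable (M) in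
/-- the principal block idempotent of `C(P)` -/
noncomputable abbrev e0 (P : Subgroup G) : (kk M)[G] := barS M (Ce P) (principalBlock M (Ce P))

theorem mp_principal (hP : IsSyl p P ⊤) : MP p (principalBlock M G) P (e0 M P) :=
  ⟨isPBlock_principal, isPBlock_principal.isBP hP.pg, isPBlock_principal.isBlock,
    (principal_Br_mul_iff hP.pg isPBlock_principal).2 rfl, isDef_principal_iff.2 hP⟩

theorem sb_principal (hP : IsPGroup p P) (hu : u ∈ P) :
    sb p P (e0 M P) u = principalBlock M (Ce1 u) := by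
  refine (isPBlock_principal.isBP hP).sb_eq isPBlock_principal ?_
  have := principal_PLe (M := M) hP (zpowers_le' hu)
  rwa [congrArg (fun K : Subgroup G => barS M K (principalBlock M K)) (Ce_zpowers u)] at this

theorem stab_principal : stab (⊤ ⊓ No P) (e0 M P) = No P := by
  rw [top_inf_eq]
  exact le_antisymm (stab_le _ _) (le_stab.2 ⟨le_rfl, barS_principal_mem_inv (No_le_No_Ce P)⟩)

theorem mem_autE_principal {σ : MulAut P} :
    σ ∈ autE P (e0 M P) ↔ ∃ t ∈ No P, ∀ u : P, (σ u : G) = t * u * t⁻¹ := by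
  rw [mem_autE, stab_principal]

theorem card_autE_principal : Nat.card (autE P (e0 M P)) = (Ce P).relIndex (No P) := by
  rw [card_autE, stab_principal]

theorem fa_principal (hP : IsSyl p P ⊤) (hc : P ≤ Ce P)
    (h : ∀ t ∈ No P, ∀ u ∈ P, u ≠ 1 → t * u * t⁻¹ = u → t ∈ Ce P) :
    FA p (principalBlock M G) P (e0 M P) :=
  ⟨mp_principal hP, hc, freeAut_autE_iff.2 (by rwa [stab_principal])⟩

theorem fc_principal_iff (hP : IsPGroup p P) {v : G} (hu : u ∈ P) (hv : v ∈ P) :
    FC p P (e0 M P) u v ↔ IsConj u v := by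
  haveI : Fact p.Prime := ⟨PMod.prime M⟩
  refine ⟨FC.isConj, fun h => ?_⟩
  obtain ⟨x, rfl⟩ := isConj_iff.1 h
  refine ⟨x, ((principal_PLe hP (zpowers_le' hu)).fus_iff (isPBlock_principal.isBP hP)).2
    ⟨Subgroup.mem_top _, ?_⟩, rfl⟩
  rw [cj_barS_principal (cs_Ce x _)]
  exact principal_PLe hP (by rw [cs_zpowers]; exact zpowers_le' hv)

theorem principal_apply_of_nilp (hu : ∃ k : ℕ, orderOf u = p ^ k)
    (hn : IsNilpotentBlock p M (principalBlock M (Ce1 u))) (hχ : χ ∈ principalBlock M G)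
    {s : Ce1 u} (hs : ¬ p ∣ orderOf s) :
    χ.1 (u * s) = dn p u (principalBlock M (Ce1 u)) χ.1 := by
  rw [apply_eq_loc_locSet isPBlock_principal.isUB hu hχ hs, locSet_Ce1_principal hu, hn.loc_eq,
    ← hn.reg_eq_phi irrOne_mem_principal (height_irrOne _ _), Pi.smul_apply, reg_of_preg hs]
  exact mul_one _

namespace FA
variable (h : FA p (principalBlock M G) P (e0 M P))
include h

theorem dn_principal (hu : u ∈ P) (h1 : u ≠ 1) (hχ : χ ∈ principalBlock M G) :
    dn p u (sb p P (e0 M P) u) χ.1 = χ.1 u := by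
  haveI : Fact p.Prime := ⟨PMod.prime M⟩
  have := h.nilp_sb hu h1
  rw [sb_principal h.bp.pg hu] at this ⊢
  simpa using (principal_apply_of_nilp (h.pelt hu) this hχ (s := 1) preg_one).symm

theorem apply_principal {g : G} (hg : IsPPart p g u) (hu : u ∈ P) (h1 : u ≠ 1)
    (hχ : χ ∈ principalBlock M G) : χ.1 g = χ.1 u := by
  rw [← h.dn_principal hu h1 hχ]
  have := h.nilp_sb hu h1
  rw [sb_principal h.bp.pg hu] at this ⊢
  have h2 : u⁻¹ * g ∈ Ce1 u := mem_Ce1.2 (((Commute.refl u).inv_left.mul_left hg.commute.symm))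
  simpa using principal_apply_of_nilp (h.pelt hu) this hχ (s := ⟨_, h2⟩)
    (by simpa using hg.preg)

theorem exd_principal [Fintype P] :
    EXd p (principalBlock M G) (autE P (e0 M P)) fun χ u => χ.1 u :=
  h.exd (ε := fun _ => 1) (fun χ hχ u hu => by
    rw [h.dn_principal u.2 (fun h => hu (Subtype.ext h)) hχ, one_mul]) (fun _ _ => by simp)
    (fun χ _ => (χ.2.isCharacter.res P).isGen) fun _ _ _ _ => rfl

end FA

end Cfsg.Agent.Blk
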