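import Cfsg.Agent.Lib.Block.CycL
import Cfsg.Agent.Lib.Block.PrFree
import Cfsg.Agent.Lib.Block.Fong

set_option autoImplicit false

namespace Cfsg.Agent.Blk
open MonoidAlgebra
open Cfsg.Agent.Char hiding cj cj_mul cj_inv_cj cj_cj_inv sum_cj_eq om
open scoped ComplexConjugate Classical

variable {G : Type*} [Group G] [Finite G] {M : Ideal AlgInt} {p : ℕ} [PMod M p]
  {B : Set (IrrCharacter G)} {P : Subgroup G} {e : (kk M)[G]} {θ : G → ℂ}
  {χ ψ : IrrCharacter G} {D : IrrCharacter G → P → ℂ} {ε : P → ℂ} {δ : ℤ}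
  {ζ : (P →* ℂˣ) → IrrCharacter G} {a : IrrCharacter G → ℤ} {u : P} {l : P →* ℂˣ}

omit [Finite G] in
theorem exists_ne_one_of_ne_bot (h : P ≠ ⊥) : ∃ u : P, u ≠ 1 := Subgroup.ne_bot_iff_exists_ne_one.1 h

theorem relIndex_dvd_of_card_prime [hp : Fact p.Prime] {Z T : Subgroup G} (hZ : Nat.card Z = p)
    (hT : T ≤ No Z) : (Ce Z).relIndex T ∣ p - 1 := by
  have := isCyclic_of_prime_card hZ
  let φ : T →* MulAut Z := Z.normalizerMonoidHom.comp (Subgroup.inclusion hT)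
  have h1 : (Ce Z).subgroupOf T = φ.ker := Subgroup.ext fun x => by
    change _ ↔ Subgroup.inclusion hT x ∈ Z.normalizerMonoidHom.ker
    rw [Subgroup.normalizerMonoidHom_ker]; rfl
  rw [Subgroup.relIndex, h1, Subgroup.index_ker, ← Nat.totient_prime hp.out,
    ← congrArg Nat.totient hZ, ← IsCyclic.card_mulAut]
  exact Subgroup.card_subgroup_dvd_card _

theorem MP.card_autE_dvd (h : MP p B P e) (hc : IsCyclic P) (h1 : P ≠ ⊥) :
    Nat.card (autE P e) ∣ p - 1 := by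
  haveI hp : Fact p.Prime := ⟨PMod.prime M⟩
  obtain ⟨Z, hZP, hZ⟩ := exists_card_eq_prime h.mp.bp.pg h1
  rw [← h.relIndex_eq hc (h.mp.bp.lb_ple hZP)
    (fun h => hp.out.one_lt.ne (by rw [← hZ, h, Subgroup.card_bot]))
    (No_le_No_of_cyclic hc h.mp.bp.pg hZP hZ)]
  exact relIndex_dvd_of_card_prime hZ fun _ hx => hx.1.2

theorem mp_of_ind {b : Set (IrrCharacter (Ce P))} (hP : IsDefectGroup p M B P)
    (h : IsInducedBlock M (Ce P) b B) : MP p B P (barS M (Ce P) b) :=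
  ⟨h.2.1, isMP_of_isInducedBlock hP h⟩

theorem _root_.Cfsg.IsPBlock.eq_stab' {b : Set (IrrCharacter (Ce P))} (hb : IsPBlock M b)
    {T : Subgroup G} (hT : ∀ g : G, g ∈ T ↔ (g ∈ No P ∧ ∀ θ ∈ b, ∀ θ' : IrrCharacter (Ce P),
      (∀ h h' : Ce P, (h' : G) = g * h * g⁻¹ → θ'.1 h' = θ.1 h) → θ' ∈ b)) :
    T = stab (⊤ ⊓ No P) (barS M (Ce P) b) := Subgroup.ext fun g => by
  rw [hT, mem_stab, top_inf_eq]
  exact and_congr_right fun hg => hb.forall_conj_mem_iff (No_le_No_Ce P hg)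

omit [Finite G] in
theorem ne_bot_of_card [hp : Fact p.Prime] {n : ℕ} (hn : 1 ≤ n) (h : Nat.card P = p ^ n) : P ≠ ⊥ :=
  fun h1 => (Nat.one_lt_pow (Nat.one_le_iff_ne_zero.1 hn) hp.out.one_lt).ne (by rw [← h, h1, Subgroup.card_bot])

theorem card_coe_fs (s : Finset (IrrCharacter G)) : Nat.card (s : Set (IrrCharacter G)) = s.card := by
  simp

theorem MP.sec_one [Fintype G] (h : MP p B P e) (hθ : blockPart B θ = θ) :
    sec p 1 (sb p P e 1) θ = reg p θ := by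
  haveI : Fact p.Prime := ⟨PMod.prime M⟩
  have hθ' : IsClassFunction G θ := hθ ▸ isClassFunction_blockPart B θ
  rw [sec, h.loc_one hθ, show (fun s : Ce1 (1 : G) => reg p θ s) = reg p (Ru 1 θ) from
    funext fun s => by simp [reg, Ru], Iu_reg]
  funext g
  obtain ⟨x, hx⟩ := exists_isPPart p g
  by_cases h1 : x = 1
  · rw [Iu_Ru_apply pelt_one hθ' hx (h1 ▸ IsConj.refl _), reg_of_preg (hx.eq_one_iff.1 h1)]
  · rw [Iu_eq_zero pelt_one _ hx fun h => h1 (isConj_one_right.1 h),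
      reg_of_dvd (not_not.1 (mt hx.eq_one_iff.2 h1))]

open Classical in
theorem MP.eq_reg_add [Fintype G] [Fintype P] (h : MP p B P e) (hθ : blockPart B θ = θ) :
    θ = reg p θ + ∑ u ∈ Finset.univ.erase (1 : P),
      (nF p P e (u : G) : ℂ)⁻¹ • Iu p (u : G) (loc p (u : G) (sb p P e u) θ) := by
  haveI : Fact p.Prime := ⟨PMod.prime M⟩
  have h1 := h.sum_sec (hθ ▸ isClassFunction_blockPart B θ : IsClassFunction G θ)
  rw [hθ, ← Finset.add_sum_erase _ _ (Finset.mem_univ 1), OneMemClass.coe_one, h.sec_one hθ,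
    h.bp.nF_one, Nat.cast_one, inv_one, one_smul] at h1
  exact h1.symm

theorem MP.reg_eq_of_loc (h : MP p B P e) (hθ : blockPart B θ = θ)
    (h1 : ∀ u : P, u ≠ 1 → loc p (u : G) (sb p P e u) θ = 0) : reg p θ = θ := by
  classical
  have := Fintype.ofFinite G
  have := Fintype.ofFinite P
  conv_rhs => rw [h.eq_reg_add hθ]
  rw [Finset.sum_eq_zero fun u hu => by rw [h1 u (Finset.mem_erase.1 hu).1, Iu_zero, smul_zero],
    add_zero]

theorem MP.exists_deg (h : MP p B P e) (hθ : blockPart B θ = θ)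
    (hg : IsGeneralizedCharacter G θ)
    (h1 : ∀ u : P, u ≠ 1 → loc p (u : G) (sb p P e u) θ = 0) :
    ∃ n : ℤ, θ 1 = (p : ℂ) ^ (Nat.card G).factorization p * n :=
  haveI : Fact p.Prime := ⟨PMod.prime M⟩
  exists_degree_of_sing hg fun x hx => by rw [← h.reg_eq_of_loc hθ h1, reg_of_dvd hx]

variable [Fintype P]

theorem FA.rank_le (h : FA p B P e) (h1 : P ≠ ⊥) (hD : EXd p B (autE P e) D) :
    blockRank p B ≤ Nat.card (autE P e) := by
  haveI : Fact p.Prime := ⟨PMod.prime M⟩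
  obtain ⟨u, hu⟩ := exists_ne_one_of_ne_bot h1
  obtain ⟨δ, d, ζ, a, hx⟩ := hD.exists_exc h.blk.nonempty
  have h2 := hx.card_nexc_le hD hu
  have h3 := hx.card_exc hD
  have h4 := h.card_eq_rank
  rw [← hx.card_add, ← h3, mul_add, add_assoc, add_left_inj,
    Nat.mul_right_inj Nat.card_pos.ne'] at h4
  omega

omit [Fintype P] in
theorem MP.rank_eq (h : MP p B P e) (hc : IsCyclic P) (h1 : P ≠ ⊥) :
    blockRank p B = Nat.card (autE P e) := by
  have := Fintype.ofFinite P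
  obtain ⟨D, ε, -, -, -, -, -, hD⟩ := h.exists_exd hc h1
  exact le_antisymm ((h.fa_of_isCyclic hc).rank_le h1 hD) (h.le_rank hc h1)

variable (p) in
/-- the character theory of a block of Frobenius type -/
structure DD (B : Set (IrrCharacter G)) (P : Subgroup G) [Fintype P] (e : (kk M)[G])
    (D : IrrCharacter G → P → ℂ) (ε : P → ℂ) (δ : ℤ) (ζ : (P →* ℂˣ) → IrrCharacter G)
    (a : IrrCharacter G → ℤ) : Prop extends FA p B P e where
  ne : P ≠ ⊥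
  hD : ∀ χ ∈ B, ∀ u : P, u ≠ 1 → D χ u = ε u * dn p (u : G) (sb p P e u) χ.1
  hε : ∀ u, u ≠ 1 → ε u * conj (ε u) = 1
  exd : EXd p B (autE P e) D
  exc : EXC B (autE P e) D δ 0 ζ a
  card : (fs B \ excSet ζ).card = Nat.card (autE P e)
  sgn : ∀ χ ∈ B, χ ∉ excSet ζ → a χ = 1 ∨ a χ = -1

theorem FA.exists_dd (h : FA p B P e) (h1 : P ≠ ⊥)
    (hD : ∀ χ ∈ B, ∀ u : P, u ≠ 1 → D χ u = ε u * dn p (u : G) (sb p P e u) χ.1)
    (hε : ∀ u, u ≠ 1 → ε u * conj (ε u) = 1) (hx : EXd p B (autE P e) D)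
    (hr : blockRank p B = Nat.card (autE P e)) (hχ : χ ∈ B) :
    ∃ δ ζ a, DD p B P e D ε δ ζ a ∧ ((excSet ζ).card = 1 → excSet ζ = {χ}) := by
  haveI : Fact p.Prime := ⟨PMod.prime M⟩
  obtain ⟨u, hu⟩ := exists_ne_one_of_ne_bot h1
  obtain ⟨δ, ζ, a, h2, h3, h4, h5⟩ := hx.exists_exc_zero hu hχ (by rw [h.card_eq_rank, hr])
  exact ⟨δ, ζ, a, ⟨h, h1, hD, hε, hx, h2, h3, h4⟩, h5⟩

theorem MP.exists_dd (h : MP p B P e) (hc : IsCyclic P) (h1 : P ≠ ⊥) (hχ : χ ∈ B) :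
    ∃ D ε δ ζ a, DD p B P e D ε δ ζ a ∧ ((excSet ζ).card = 1 → excSet ζ = {χ}) ∧
      ∀ u : P, u ^ p = 1 → ε u ^ Nat.card P = 1 := by
  obtain ⟨D, ε, h2, h3, h4, -, -, hD⟩ := h.exists_exd hc h1
  obtain ⟨δ, ζ, a, h5, h6⟩ := (h.fa_of_isCyclic hc).exists_dd h1
    (fun χ _ u hu => h2 _ χ.2.isClassFunction u hu) (fun u _ => h3 u) hD (h.rank_eq hc h1) hχ
  exact ⟨_, ε, δ, ζ, a, h5, h6, h4⟩

namespace DD
variable (h : DD p B P e D ε δ ζ a)
include h

theorem dn_eq (hχ : χ ∈ B) (hu : u ≠ 1) :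
    dn p (u : G) (sb p P e u) χ.1 = conj (ε u) * D χ u := by
  rw [h.hD χ hχ u hu, ← mul_assoc, mul_comm (conj _), h.hε u hu, one_mul]

theorem loc_eq (hχ : χ ∈ B) (hu : u ≠ 1) :
    loc p (u : G) (sb p P e u) χ.1 = (conj (ε u) * D χ u) • phi p (sb p P e u) := by
  rw [(h.toFA.nilp_sb' hu).loc_eq, h.dn_eq hχ hu]

theorem D_nexc (hχ : χ ∈ B) (h1 : χ ∉ excSet ζ) (hu : u ≠ 1) : D χ u = a χ :=
  h.exc.nexc χ hχ (notMem_excSet.1 h1) u hu

theorem D_exc (hl : l ≠ 1) (hu : u ≠ 1) : D (ζ l) u = δ * eta (autE P e) l u := by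
  simpa using h.exc.exc l hl u hu

theorem a_sq (hχ : χ ∈ B) (h1 : χ ∉ excSet ζ) : a χ * a χ = 1 := by
  rcases h.sgn χ hχ h1 with h2 | h2 <;> simp [h2]

theorem δ_sq : δ * δ = 1 := by rcases h.exc.sign with h2 | h2 <;> simp [h2]

theorem exists_nexc : ∃ χ ∈ B, χ ∉ excSet ζ := by
  obtain ⟨χ, hχ⟩ := Finset.card_pos.1 (h.card ▸ Nat.card_pos : 0 < (fs B \ excSet ζ).card)
  exact ⟨χ, by simpa using hχ⟩

theorem card_exc : (excSet ζ).card = (Nat.card P - 1) / Nat.card (autE P e) := by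
  rw [← h.exc.card_exc h.exd, Nat.add_sub_cancel, Nat.mul_div_cancel_left _ Nat.card_pos]

theorem card_eq : (fs B).card = Nat.card (autE P e) + (Nat.card P - 1) / Nat.card (autE P e) := by
  rw [← h.exc.card_add, h.card, h.card_exc]

theorem rank_eq : blockRank p B = Nat.card (autE P e) := by
  have h4 := h.toFA.card_eq_rank
  rwa [← h.exc.card_add, ← h.exc.card_exc h.exd, mul_add, add_assoc, add_left_inj,
    Nat.mul_right_inj Nat.card_pos.ne', h.card, eq_comm] at h4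

theorem isIntegral_conj_ε (hu : u ≠ 1) : IsIntegral ℤ (conj (ε u)) := by
  obtain ⟨χ, hχ, h1⟩ := h.exists_nexc
  have h2 := (h.toFA.nilp_sb' hu).isIntegral_dn χ.2.isGen
  rw [h.dn_eq hχ hu, h.D_nexc hχ h1 hu] at h2
  rcases h.sgn χ hχ h1 with h3 | h3
  · simpa [h3] using h2
  · simpa [h3] using h2.neg

theorem reg_rel (hψ : ψ ∈ excSet ζ) :
    (δ : ℂ) • reg p ψ.1 = ∑ χ ∈ fs B \ excSet ζ, (a χ : ℂ) • reg p χ.1 := by
  obtain ⟨l, hl, rfl⟩ := mem_excSet.1 hψ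
  have := h.exc.reg_rel h.exd hl
  rwa [Int.cast_zero, mul_zero, zero_sub, neg_smul, neg_add_eq_zero] at this

theorem apply_rel (hψ : ψ ∈ excSet ζ) {g : G} (hg : ¬ p ∣ orderOf g) :
    (δ : ℂ) * ψ.1 g = ∑ χ ∈ fs B \ excSet ζ, (a χ : ℂ) * χ.1 g := by
  simpa [reg_of_preg hg] using congrFun (h.reg_rel hψ) g

theorem apply_exc (hχ : χ ∈ excSet ζ) (hψ : ψ ∈ excSet ζ) {g : G} (hg : ¬ p ∣ orderOf g) :
    χ.1 g = ψ.1 g := by
  simpa [reg_of_preg hg] using congrFun (h.exc.reg_eq' h.exd hχ hψ) g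

theorem nexc_cong (hχ : χ ∈ B) (h1 : χ ∉ excSet ζ) (hψ : ψ ∈ B) (h2 : ψ ∉ excSet ζ) :
    (p : ℤ) ^ (Nat.card G).factorization p ∣ a χ * charDegree χ.1 - a ψ * charDegree ψ.1 := by
  obtain ⟨n, hn⟩ := h.toMP.exists_deg (θ := (a χ : ℂ) • χ.1 - (a ψ : ℂ) • ψ.1)
    (by rw [blockPart_sub, blockPart_smul, blockPart_smul, blockPart_irr_of_mem hχ,
      blockPart_irr_of_mem hψ])
    ((χ.2.isGen.intCast_smul _).sub (ψ.2.isGen.intCast_smul _)) fun u hu => by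
      rw [loc_sub, loc_smul, loc_smul, h.loc_eq hχ hu, h.loc_eq hψ hu, h.D_nexc hχ h1 hu,
        h.D_nexc hψ h2 hu, smul_smul, smul_smul, mul_left_comm, mul_left_comm (a ψ : ℂ),
        ← Int.cast_mul, ← Int.cast_mul, h.a_sq hχ h1, h.a_sq hψ h2, sub_self]
  refine ⟨n, Int.cast_injective (α := ℂ) ?_⟩
  push_cast
  rw [cast_deg, cast_deg, ← hn]; rfl

theorem exc_cong (hψ : ψ ∈ excSet ζ) (hχ : χ ∈ B) (h1 : χ ∉ excSet ζ) :
    (p : ℤ) ^ (Nat.card G).factorization p ∣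
      charDegree ψ.1 - Nat.card (autE P e) * δ * a χ * charDegree χ.1 := by
  obtain ⟨l, hl, rfl⟩ := mem_excSet.1 hψ
  have h2 : Stable p P e (eta (autE P e) l) :=
    (h.toMP.stable_iff h.comm).2 fun σ hσ u => eta_aut l hσ u
  obtain ⟨n, hn⟩ := h.toMP.exists_deg
    (θ := (ζ l).1 - ((δ * a χ : ℤ) : ℂ) • st p P e (eta (autE P e) l) χ.1)
    (by rw [blockPart_sub, blockPart_smul, blockPart_irr_of_mem (h.exc.mem l hl),
      h.toMP.blockPart_st h2 χ.2.isClassFunction])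
    ((ζ l).2.isGen.sub ((h.toMP.isGen_st h2 (isCharacter_eta _ l).isGen χ.2.isGen).intCast_smul _))
    fun u hu => by
      rw [loc_sub, loc_smul, h.toMP.loc_st h2 χ.2.isClassFunction, h.loc_eq hχ hu,
        h.loc_eq (h.exc.mem l hl) hu, h.D_nexc hχ h1 hu, h.D_exc hl hu, smul_smul, smul_smul,
        ← sub_smul]
      have : (a χ : ℂ) * a χ = 1 := by exact_mod_cast h.a_sq hχ h1
      push_cast
      rw [show _ - _ = (0 : ℂ) by linear_combination (-δ * eta _ l u * conj (ε u)) * this, zero_smul]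
  refine ⟨n, Int.cast_injective (α := ℂ) ?_⟩
  rw [Pi.sub_apply, Pi.smul_apply, h.toMP.st_apply_one h2 (blockPart_irr_of_mem hχ),
    h.free.eta_one h.exd.comm hl] at hn
  push_cast at hn ⊢
  rw [cast_deg, cast_deg, ← hn, smul_eq_mul]; ring

theorem not_LI_D (hχ : χ ∈ B) (hu : u ≠ 1) : ¬ MemLocalIdeal M (D χ u * conj (D χ u)) := by
  haveI : Fact p.Prime := ⟨PMod.prime M⟩
  by_cases h1 : χ ∈ excSet ζ
  · obtain ⟨l, hl, rfl⟩ := mem_excSet.1 h1
    have h2 : ∀ v, ¬ MemLocalIdeal M (eta (autE P e) l v) := fun v h2 => by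
      have h3 := LI_sub h2 (LI_char_mul_sub (isCharacter_eta (autE P e) l) (x := v) (y := 1)
        (pelt_of_dvd (h.toMP.pelt v.2) (Subgroup.orderOf_coe v).symm.dvd) (Commute.one_right v))
      rw [mul_one, sub_sub_cancel, h.free.eta_one h.exd.comm hl, LI_natCast_iff] at h3
      exact h.toMP.not_dvd_autE h.comm h3
    have h3 : (δ : ℂ) * δ = 1 := by exact_mod_cast h.δ_sq
    rw [h.D_exc hl hu, map_mul, map_intCast, mul_mul_mul_comm, h3, one_mul,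
      ← (isCharacter_eta _ l).apply_inv, LI_mul_iff (char_mem_O M (isCharacter_eta _ l) _)
        (char_mem_O M (isCharacter_eta _ l) _)]
    exact fun h => h.elim (h2 _) (h2 _)
  · rw [h.D_nexc hχ h1 hu, map_intCast, ← Int.cast_mul, h.a_sq hχ h1, Int.cast_one]
    exact not_LI_one

theorem height (hχ : χ ∈ B) : blockHeight p B χ = 0 := by
  obtain ⟨u, hu⟩ := exists_ne_one_of_ne_bot h.ne
  have := Fintype.ofFinite (Ce1 (u : G))
  refine (((h.toMP.sb_ind u.2).not_LI_cm_iff (h.toMP.pelt u.2) χ χ).1 ?_).1.2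
  rw [(h.toFA.nilp_sb' hu).cm_eq, h.dn_eq hχ hu, map_mul, mul_mul_mul_comm, ← map_mul, h.hε u hu,
    map_one, one_mul]
  exact h.not_LI_D hχ hu

theorem union : B = ((fs B \ excSet ζ : Finset _) : Set (IrrCharacter G)) ∪ (excSet ζ : Set _) := by
  rw [← Finset.coe_union, Finset.sdiff_union_of_subset h.exc.subset, coe_fs]

omit h in
theorem disjoint (B : Set (IrrCharacter G)) (ζ : (P →* ℂˣ) → IrrCharacter G) :
    Disjoint ((fs B \ excSet ζ : Finset _) : Set (IrrCharacter G)) (excSet ζ : Set _) :=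
  Finset.disjoint_coe.2 Finset.sdiff_disjoint

omit h in
theorem mem_nexc : χ ∈ ((fs B \ excSet ζ : Finset _) : Set (IrrCharacter G)) ↔
    χ ∈ B ∧ χ ∉ excSet ζ := by simp

theorem pow_dvd {n : ℕ} (hn : Nat.card P = p ^ n) :
    (p : ℤ) ^ n ∣ (p : ℤ) ^ (Nat.card G).factorization p :=
  pow_dvd_pow _ (((PMod.prime M).pow_dvd_iff_le_factorization Nat.card_pos.ne').1
    (hn ▸ Subgroup.card_subgroup_dvd_card P))

end DD

end Cfsg.Agent.Blk
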