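import Cfsg.Agent.Lib.Block.Idem
import Mathlib.GroupTheory.FiniteAbelian.Basic
import Mathlib.RepresentationTheory.Basic

/-!
Defect groups of blocks (as idempotents in `k[G]`), the min-max theorem, the Brauer homomorphism
and Brauer's first main theorem.
-/

namespace Cfsg.Agent.Blk

open MonoidAlgebra

variable {k : Type*} [Field k] {G : Type*} [Group G] {p : ℕ}

/-- A finite `p`-group acting on a nonzero vector space in characteristic `p` has a nonzero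
fixed vector. -/
theorem exists_fixed_vector [hp : Fact p.Prime] [CharP k p] {P V : Type*} [Group P] [Finite P]
    [AddCommGroup V] [Module k V] (hP : IsPGroup p P) (ρ : Representation k P V)
    (W : AddSubgroup V) (hW : ∀ x, ∀ w ∈ W, ρ x w ∈ W) {v : V} (hv : v ∈ W) (hv0 : v ≠ 0) :
    ∃ w ∈ W, w ≠ 0 ∧ ∀ x, ρ x w = w := by
  let S : AddSubgroup V := AddSubgroup.closure (Set.range fun x => ρ x v)
  have hSW : S ≤ W := by
    rw [AddSubgroup.closure_le]; rintro _ ⟨x, rfl⟩; exact hW x v hv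
  have hS : ∀ x, ∀ w ∈ S, ρ x w ∈ S := by
    intro x w hw
    induction hw using AddSubgroup.closure_induction with
    | mem w hw =>
      obtain ⟨y, rfl⟩ := hw
      exact AddSubgroup.subset_closure ⟨x * y, by simp⟩
    | zero => simp
    | add a b _ _ ha hb => rw [map_add]; exact S.add_mem ha hb
    | neg a _ ha => rw [map_neg]; exact S.neg_mem ha
  have hpv : ∀ w : V, p • w = 0 := fun w => by
    rw [← Nat.cast_smul_eq_nsmul k, CharP.cast_eq_zero, zero_smul]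
  have hfg : AddGroup.FG S := (AddGroup.fg_iff_addSubgroup_fg S).2
    ⟨(Set.finite_range fun x => ρ x v).toFinset, by simp [S]⟩
  have hfin : Finite S := AddCommGroup.finite_of_fg_isAddTorsion S fun w =>
    isOfFinAddOrder_iff_nsmul_eq_zero.2 ⟨p, hp.out.pos, Subtype.ext (hpv w)⟩
  letI : MulAction P S :=
    { smul := fun x w => ⟨ρ x w, hS x w w.2⟩
      one_smul := fun w => Subtype.ext (by change ρ 1 w = w; simp)
      mul_smul := fun x y w => Subtype.ext (by change ρ (x * y) w = ρ x (ρ y w); simp) }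
  have hvS : v ∈ S := AddSubgroup.subset_closure ⟨1, by simp⟩
  have hcard : p ∣ Nat.card S := by
    have h1 : addOrderOf (⟨v, hvS⟩ : S) = p :=
      addOrderOf_eq_prime (Subtype.ext (hpv v)) (fun h => hv0 (congrArg Subtype.val h))
    rw [← h1]; exact addOrderOf_dvd_natCard _
  obtain ⟨w, hw, hne⟩ := hP.exists_fixed_point_of_prime_dvd_card_of_fixed_point S hcard
    (a := 0) (fun x => Subtype.ext (by change ρ x 0 = 0; simp))
  exact ⟨w, hSW w.2, fun h => hne (Subtype.ext h.symm), fun x => congrArg Subtype.val (hw x)⟩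

variable [Finite G] [hp : Fact p.Prime] [CharP k p]

theorem exists_fixed_mul {P : Subgroup G} (hP : IsPGroup p P) {e : k[G]} (he : e ∈ inv k P)
    (hei : IsIdempotentElem e) (he0 : e ≠ 0) :
    ∃ v : k[G], v ≠ 0 ∧ e * v = v ∧ ∀ x ∈ P, single x (1 : k) * v = v := by
  let ρ : Representation k P k[G] :=
    { toFun := fun x => LinearMap.mulLeft k (single (x : G) (1 : k))
      map_one' := by apply LinearMap.ext; intro v; simp [← one_def]
      map_mul' := fun x y => by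
        apply LinearMap.ext; intro v; simp [← mul_assoc] }
  let W : AddSubgroup k[G] :=
    { carrier := {v | e * v = v}
      add_mem' := fun {a b} ha hb => by
        simp only [Set.mem_ofPred_eq] at *; rw [mul_add, ha, hb]
      zero_mem' := mul_zero e
      neg_mem' := fun {a} ha => by simp only [Set.mem_ofPred_eq] at *; rw [mul_neg, ha] }
  obtain ⟨w, hw, hw0, h⟩ := exists_fixed_vector hP ρ W (v := e) (by
    intro x w hw
    change e * (single (x : G) 1 * w) = single (x : G) 1 * w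
    rw [← mul_assoc, ← (cj_eq_iff_commute.1 (he x x.2)).eq, mul_assoc, hw]) hei he0
  exact ⟨w, hw0, hw, fun x hx => h ⟨x, hx⟩⟩

theorem mul_eq_Br_mul_of_fixed {P : Subgroup G} (hP : IsPGroup p P) {a v : k[G]}
    (ha : a ∈ sup k (No P)) (ha' : a ∈ inv k P) (hv : ∀ x ∈ P, single x (1 : k) * v = v) :
    a * v = Br P a * v := by
  have := Fintype.ofFinite G
  apply ext'
  intro h
  rw [coeff_mul_left, coeff_mul_left, sum_eq_sum_Ce hP]
  · apply Finset.sum_congr rfl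
    intro g _
    by_cases hg : g ∈ Ce P
    · rw [if_pos hg, coeff_tr_of_mem _ hg]
    · rw [if_neg hg, coeff_tr_of_notMem _ hg, zero_mul]
  · intro x hx g
    rw [mem_inv'.1 ha' x hx]
    by_cases hg : a.coeff g = 0
    · simp [hg]
    have hgN := mem_of_coeff_ne_zero ha hg
    congr 1
    have key : ∀ y ∈ P, ∀ t, v.coeff (y * t) = v.coeff t := fun y hy t => by
      conv_lhs => rw [← hv y hy]
      simp
    have h1 : (x * g * x⁻¹)⁻¹ * h = x * ((g⁻¹ * x⁻¹ * g) * (g⁻¹ * h)) := by group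
    rw [h1, key x hx, key]
    rw [← mem_cs, mem_No.1 hgN]; exact P.inv_mem hx

/-- Elements of the centre killed by the Brauer map at a normal `p`-subgroup are killed by all
central characters. -/
theorem IsBlock.lam_eq_zero_of_Br [IsAlgClosed k] {K P : Subgroup G} {e a : k[G]}
    (he : IsBlock K e) (hP : IsPGroup p P) (hPK : P ≤ K) (hK : K ≤ No P) (ha : a ∈ Z k K)
    (h : Br P a = 0) : lam e a = 0 := by
  by_contra hne
  obtain ⟨b, hb, h1⟩ := (he.lam_ne_zero_iff ha).1 hne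
  obtain ⟨v, hv0, hv1, hv2⟩ := exists_fixed_mul hP (inv_anti hPK he.inv) he.idem he.ne
  have h2 := mul_eq_Br_mul_of_fixed hP (sup_mono hK ha.1) (inv_anti hPK ha.2) hv2
  rw [h, zero_mul] at h2
  apply hv0
  rw [← hv1, ← h1, (Z_comm ha hb).eq, mul_assoc, mul_assoc, hv1, h2, mul_zero]

theorem nilpotent_of_Br_eq_zero [IsAlgClosed k] {K P : Subgroup G} {a : k[G]}
    (hP : IsPGroup p P) (hPK : P ≤ K) (hK : K ≤ No P) (ha : a ∈ Z k K) (h : Br P a = 0) :
    IsNilpotent a :=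
  nilpotent_of_forall_lam ha fun _ he => he.lam_eq_zero_of_Br hP hPK hK ha h

theorem IsBlock.lam_Br_self [IsAlgClosed k] {K P : Subgroup G} {e a : k[G]}
    (he : IsBlock K e) (hP : IsPGroup p P) (hPK : P ≤ K) (hK : K ≤ No P) (ha : a ∈ Z k K) :
    lam e (Br P a) = lam e a := by
  have h1 : Br P a ∈ Z k K := Br_mem_Z inf_le_left le_rfl hK ha
  rw [← sub_eq_zero, ← he.lam_sub h1 ha]
  apply he.lam_eq_zero_of_Br hP hPK hK ((Z k K).sub_mem h1 ha)
  rw [map_sub, Br_Br_of_le le_rfl, sub_self]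

theorem Br_idem {P : Subgroup G} (hP : IsPGroup p P) {e : k[G]} (he : e ∈ inv k P)
    (hei : IsIdempotentElem e) : IsIdempotentElem (Br P e) := by
  unfold IsIdempotentElem
  rw [← Br_mul hP he he, hei.eq]

theorem Br_nilpotent {P : Subgroup G} (hP : IsPGroup p P) {a : k[G]} (ha : a ∈ inv k P)
    (h : IsNilpotent a) : IsNilpotent (Br P a) := by
  obtain ⟨n, hn⟩ := h
  exact ⟨n, by rw [← Br_pow hP ha, hn, map_zero]⟩

/-- Central idempotents are supported on the centralizer of a normal `p`-subgroup. -/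
theorem Br_eq_self_of_idem [IsAlgClosed k] {K P : Subgroup G} {z : k[G]}
    (hP : IsPGroup p P) (hPK : P ≤ K) (hK : K ≤ No P) (hz : z ∈ Z k K)
    (hzi : IsIdempotentElem z) : Br P z = z := by
  have h1 : Br P z ∈ Z k K := Br_mem_Z inf_le_left le_rfl hK hz
  apply idem_eq_of_nilpotent_sub (Br_idem hP (inv_anti hPK hz.2) hzi) hzi (Z_comm h1 hz)
  apply nilpotent_of_Br_eq_zero hP hPK hK ((Z k K).sub_mem h1 hz)
  rw [map_sub, Br_Br_of_le le_rfl, sub_self]

theorem IsBlock.Br_eq_self [IsAlgClosed k] {K P : Subgroup G} {e : k[G]} (he : IsBlock K e)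
    (hP : IsPGroup p P) (hPK : P ≤ K) (hK : K ≤ No P) : Br P e = e :=
  Br_eq_self_of_idem hP hPK hK he.mem he.idem

theorem IsBlock.mem_sup_Ce [IsAlgClosed k] {K P : Subgroup G} {e : k[G]} (he : IsBlock K e)
    (hP : IsPGroup p P) (hPK : P ≤ K) (hK : K ≤ No P) : e ∈ Blk.sup k (Ce P) := by
  rw [← he.Br_eq_self hP hPK hK]; exact Br_mem_sup P e

/-! ### Defect groups -/

variable (p) in
/-- Every `p`-subgroup of `H` whose Brauer map does not kill `z` is `H`-conjugate into `D`. -/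
def BrSub (H D : Subgroup G) (z : k[G]) : Prop :=
  ∀ Q ≤ H, IsPGroup p Q → Br Q z ≠ 0 → ∃ x ∈ H, cs x Q ≤ D

variable (p) in
/-- `D` is a defect group of the element `e` (a block of `H`). -/
structure IsDef (H : Subgroup G) (e : k[G]) (D : Subgroup G) : Prop where
  le : D ≤ H
  pg : IsPGroup p D
  ne : Br D e ≠ 0
  sub : BrSub p H D e

theorem BrSub.mul_right {H D : Subgroup G} {z w : k[G]} (h : BrSub p H D z) (hz : z ∈ inv k H)
    (hw : w ∈ inv k H) : BrSub p H D (z * w) := fun Q hQH hQ h1 => h Q hQH hQ fun h0 => h1 (by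
  rw [Br_mul hQ (inv_anti hQH hz) (inv_anti hQH hw), h0, zero_mul])

theorem BrSub.mul_left {H D : Subgroup G} {z w : k[G]} (h : BrSub p H D w) (hz : z ∈ inv k H)
    (hw : w ∈ inv k H) : BrSub p H D (z * w) := fun Q hQH hQ h1 => h Q hQH hQ fun h0 => h1 (by
  rw [Br_mul hQ (inv_anti hQH hz) (inv_anti hQH hw), h0, mul_zero])

omit [CharP k p] in
theorem brSub_cls {H D : Subgroup G} {g : G} (hD : IsSyl p D (H ⊓ Ce1 g)) :
    BrSub p H D (cls k H g) := by
  intro Q hQH hQ h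
  obtain ⟨c, hc, h1⟩ := Br_ne_zero_iff.1 h
  obtain ⟨x, hx, rfl⟩ := exists_of_coeff_cls_ne_zero h1
  have h2 : cs x⁻¹ Q ≤ H ⊓ Ce1 g := by
    rw [← le_cs_iff, cs_inf, cs_eq_of_mem hx, cs_Ce1]
    exact le_inf hQH (mem_Ce_iff_le.1 hc)
  obtain ⟨y, hy, h3⟩ := hD.exists_cs_le (isPGroup_cs _ hQ) h2
  exact ⟨y * x⁻¹, H.mul_mem hy.1 (H.inv_mem hx), by rwa [cs_mul]⟩

omit hp [CharP k p] [Finite G] in
theorem BrSub.cs {H D : Subgroup G} {z : k[G]} (h : BrSub p H D z) (x : G) :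
    BrSub p (cs x H) (cs x D) (cj x z) := by
  intro Q hQH hQ h1
  obtain ⟨y, hy, h2⟩ := h (Blk.cs x⁻¹ Q) (le_cs_iff.1 hQH) (isPGroup_cs _ hQ) (by
    intro h0; apply h1
    have := congrArg (cj x) h0
    rwa [cj_Br, cs_cs_inv, map_zero] at this)
  refine ⟨x * y * x⁻¹, conj_mem_cs.2 hy, ?_⟩
  rw [cs_mul, cs_mul]
  exact cs_mono x h2

omit hp [CharP k p] [Finite G] in
theorem Br_cs_ne_zero {D : Subgroup G} {z : k[G]} (h : Br D z ≠ 0) (x : G) :
    Br (cs x D) (cj x z) ≠ 0 := by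
  rw [← cj_Br]; simpa using h

omit hp [CharP k p] [Finite G] in
theorem IsDef.cs {H D : Subgroup G} {e : k[G]} (h : IsDef p H e D) (x : G) :
    IsDef p (cs x H) (cj x e) (cs x D) :=
  ⟨cs_mono x h.le, isPGroup_cs x h.pg, Br_cs_ne_zero h.ne x, h.sub.cs x⟩

omit hp [CharP k p] [Finite G] in
theorem IsDef.cs_of_mem {H D : Subgroup G} {e : k[G]} (h : IsDef p H e D) (he : e ∈ inv k H)
    {x : G} (hx : x ∈ H) : IsDef p H e (Blk.cs x D) := by
  have := h.cs x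
  rwa [cs_eq_of_mem hx, he x hx] at this

omit hp [CharP k p] in
theorem IsDef.exists_cs_eq {H D E : Subgroup G} {e : k[G]} (hD : IsDef p H e D)
    (hE : IsDef p H e E) : ∃ x ∈ H, Blk.cs x E = D := by
  obtain ⟨x, hx, h1⟩ := hD.sub E hE.le hE.pg hE.ne
  obtain ⟨y, -, h2⟩ := hE.sub D hD.le hD.pg hD.ne
  exact ⟨x, hx, cs_eq_of_cs_le h1 h2⟩

omit hp [CharP k p] in
theorem IsDef.card_eq {H D E : Subgroup G} {e : k[G]} (hD : IsDef p H e D)
    (hE : IsDef p H e E) : Nat.card D = Nat.card E := by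
  obtain ⟨x, -, rfl⟩ := hD.exists_cs_eq hE
  exact card_cs x E

omit hp [CharP k p] in
theorem IsDef.card_le {H D Q : Subgroup G} {e : k[G]} (hD : IsDef p H e D) (hQH : Q ≤ H)
    (hQ : IsPGroup p Q) (h : Br Q e ≠ 0) : Nat.card Q ≤ Nat.card D := by
  obtain ⟨x, -, h1⟩ := hD.sub Q hQH hQ h
  rw [← card_cs x Q]; exact Subgroup.card_le_of_le h1

omit hp [CharP k p] in
theorem IsDef.eq_of_le {H D Q : Subgroup G} {e : k[G]} (hD : IsDef p H e D) (hQH : Q ≤ H)
    (hQ : IsPGroup p Q) (h : Br Q e ≠ 0) (hle : D ≤ Q) : Q = D :=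
  (Subgroup.eq_of_le_of_card_ge hle (hD.card_le hQH hQ h)).symm

omit hp [CharP k p] in
theorem IsDef.isSyl {H D : Subgroup G} {e : k[G]} (hD : IsDef p H e D) {g : G} (hg : g ∈ Ce D)
    (h : e.coeff g ≠ 0) : IsSyl p D (H ⊓ Ce1 g) :=
  ⟨le_inf hD.le (mem_Ce_iff_le.1 hg), hD.pg, fun Q hQ hQp hle =>
    hD.eq_of_le (hQ.trans inf_le_left) hQp
      (Br_ne_zero_iff.2 ⟨g, mem_Ce_iff_le.2 (hQ.trans inf_le_right), h⟩) hle⟩

omit hp [CharP k p] in
/-- A `p`-subgroup with nonzero Brauer image lies in a defect group. -/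
theorem IsDef.exists_ge {H D Q : Subgroup G} {e : k[G]} (hD : IsDef p H e D) (he : e ∈ inv k H)
    (hQH : Q ≤ H) (hQ : IsPGroup p Q) (h : Br Q e ≠ 0) : ∃ E, IsDef p H e E ∧ Q ≤ E := by
  obtain ⟨x, hx, h1⟩ := hD.sub Q hQH hQ h
  exact ⟨_, hD.cs_of_mem he (H.inv_mem hx), cs_le_iff.1 h1⟩

omit hp [CharP k p] in
theorem IsDef.of_card {H D Q : Subgroup G} {e : k[G]} (hD : IsDef p H e D) (he : e ∈ inv k H)
    (hQH : Q ≤ H) (hQ : IsPGroup p Q) (h : Br Q e ≠ 0) (hc : Nat.card D ≤ Nat.card Q) :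
    IsDef p H e Q := by
  obtain ⟨E, hE, h1⟩ := hD.exists_ge he hQH hQ h
  rwa [Subgroup.eq_of_le_of_card_ge h1 (hE.card_eq hD ▸ hc)]

variable [IsAlgClosed k]

namespace IsBlock

variable {H D P Q : Subgroup G} {e z : k[G]}

/-- Min-max principle. -/
theorem Br_ne_zero_of_lam (he : IsBlock H e) (hz : z ∈ Z k H) (h : lam e z ≠ 0) (hQH : Q ≤ H)
    (hQ : IsPGroup p Q) (h1 : Br Q e ≠ 0) : Br Q z ≠ 0 := by
  obtain ⟨b, hb, h2⟩ := (he.lam_ne_zero_iff hz).1 h
  intro h0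
  apply h1
  rw [← h2, mul_assoc, Br_mul hQ (inv_anti hQH hz.2)
    (inv_anti hQH ((Z k H).mul_mem hb he.mem).2), h0, zero_mul]

theorem brSub_of_lam (he : IsBlock H e) (hz : z ∈ Z k H) (h : lam e z ≠ 0)
    (hs : BrSub p H D z) : BrSub p H D e :=
  fun Q hQH hQ h1 => hs Q hQH hQ (he.Br_ne_zero_of_lam hz h hQH hQ h1)

omit hp [CharP k p] in
theorem exists_defectClass (he : IsBlock H e) :
    ∃ g ∈ H, e.coeff g ≠ 0 ∧ lam e (cls k H g) ≠ 0 :=
  he.exists_cls_lam_ne_zero he.mem (by rw [he.lam_self]; exact one_ne_zero)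

theorem isDef_of_defectClass (he : IsBlock H e) {g : G} (h1 : e.coeff g ≠ 0)
    (h2 : lam e (cls k H g) ≠ 0) (hD : IsSyl p D (H ⊓ Ce1 g)) : IsDef p H e D :=
  ⟨hD.le.trans inf_le_left, hD.pg,
    Br_ne_zero_iff.2 ⟨g, mem_Ce_iff_le.2 (hD.le.trans inf_le_right), h1⟩,
    he.brSub_of_lam (cls_mem_Z (mem_of_coeff_ne_zero he.sup h1)) h2 (brSub_cls hD)⟩

variable (p) in
theorem exists_isDef (he : IsBlock H e) : ∃ D, IsDef p H e D := by
  obtain ⟨g, -, h1, h2⟩ := he.exists_defectClass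
  obtain ⟨D, hD⟩ := exists_isSyl p (H ⊓ Ce1 g)
  exact ⟨D, he.isDef_of_defectClass h1 h2 hD⟩

theorem exists_isDef_ge (he : IsBlock H e) (hQH : Q ≤ H) (hQ : IsPGroup p Q) (h : Br Q e ≠ 0) :
    ∃ D, IsDef p H e D ∧ Q ≤ D := by
  obtain ⟨D, hD⟩ := he.exists_isDef p
  exact hD.exists_ge he.inv hQH hQ h

omit hp [CharP k p] [IsAlgClosed k] in
theorem cls_conj {g x : G} (hx : x ∈ H) : cls k H (x * g * x⁻¹) = cls k H g := by
  apply ext'
  intro h
  rw [coeff_cls, coeff_cls]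
  congr 1
  apply propext
  constructor
  · rintro ⟨y, hy, rfl⟩
    exact ⟨y * x, H.mul_mem hy hx, by simp [mul_assoc]⟩
  · rintro ⟨y, hy, rfl⟩
    exact ⟨y * x⁻¹, H.mul_mem hy (H.inv_mem hx), by simp [mul_assoc]⟩

theorem defectClass_of_isDef (he : IsBlock H e) (hD : IsDef p H e D) :
    ∃ g ∈ H, e.coeff g ≠ 0 ∧ lam e (cls k H g) ≠ 0 ∧ IsSyl p D (H ⊓ Ce1 g) := by
  obtain ⟨g, hg, h1, h2⟩ := he.exists_defectClass
  obtain ⟨E, hE⟩ := exists_isSyl p (H ⊓ Ce1 g)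
  obtain ⟨x, hx, rfl⟩ := hD.exists_cs_eq (he.isDef_of_defectClass h1 h2 hE)
  refine ⟨x * g * x⁻¹, H.mul_mem (H.mul_mem hx hg) (H.inv_mem hx), ?_, ?_, ?_⟩
  · rwa [mem_inv'.1 he.inv x hx]
  · rwa [cls_conj hx]
  · have := hE.cs x
    rwa [cs_inf, cs_eq_of_mem hx, cs_Ce1] at this

theorem isDef_iff (he : IsBlock H e) : IsDef p H e D ↔
    ∃ g ∈ H, e.coeff g ≠ 0 ∧ lam e (cls k H g) ≠ 0 ∧ IsSyl p D (H ⊓ Ce1 g) :=
  ⟨he.defectClass_of_isDef, fun ⟨_, _, h1, h2, h3⟩ => he.isDef_of_defectClass h1 h2 h3⟩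

/-- Normal `p`-subgroups lie in every defect group. -/
theorem le_of_isDef (he : IsBlock H e) (hD : IsDef p H e D) (hP : IsPGroup p P) (hPH : P ≤ H)
    (hH : H ≤ No P) : P ≤ D := by
  obtain ⟨x, hx, h⟩ := hD.sub P hPH hP (by rw [he.Br_eq_self hP hPH hH]; exact he.ne)
  rwa [mem_No.1 (hH hx)] at h

/-- A `p`-subgroup that is maximal (locally) with nonzero Brauer image is a defect group. -/
theorem isDef_of_maximal (he : IsBlock H e) (hDH : D ≤ H) (hD : IsPGroup p D) (h : Br D e ≠ 0)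
    (hmax : ∀ Q, D ≤ Q → Q ≤ H ⊓ No D → IsPGroup p Q → Br Q e ≠ 0 → Q = D) : IsDef p H e D := by
  obtain ⟨E, hE, hDE⟩ := he.exists_isDef_ge hDH hD h
  by_cases h1 : D = E
  · rwa [h1]
  have h2 := lt_inf_No hE.pg (lt_of_le_of_ne hDE h1)
  exact absurd (hmax _ h2.le (inf_le_inf_right _ hE.le) (isPGroup_le hE.pg inf_le_left)
    (Br_ne_zero_of_le inf_le_left hE.ne)) h2.ne'

end IsBlock

/-! ### The Brauer homomorphism on blocks -/

section BrauerHom

variable {H K P : Subgroup G} {B b z : k[G]}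

omit [IsAlgClosed k] in
theorem existsUnique_block_Br (hP : IsPGroup p P) (hPH : P ≤ H) (h1 : H ⊓ Ce P ≤ K) (h2 : K ≤ H)
    (h3 : K ≤ No P) (hb : IsBlock K b) : ∃! B, IsBlock H B ∧ Br P B * b = b := by
  have hex : ∃ B, IsBlock H B ∧ Br P B * b ≠ 0 := by
    by_contra hc
    push Not at hc
    apply hb.ne
    rw [← one_mul b, ← Br_one P, ← sum_blocks H, map_sum, Finset.sum_mul]
    exact Finset.sum_eq_zero fun B hB => hc B (mem_blocks.1 hB)
  obtain ⟨B, hB, h⟩ := hex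
  have h4 := hb.mul_eq_self_of_ne_zero (Br_mem_Z h1 h2 h3 hB.mem)
    (Br_idem hP (inv_anti hPH hB.inv) hB.idem) h
  refine ⟨B, ⟨hB, h4⟩, fun B' ⟨hB', h5⟩ => hB'.eq_of_mul_ne_zero hB fun h0 => hb.ne ?_⟩
  rw [← h5, ← h4, ← mul_assoc, ← Br_mul hP (inv_anti hPH hB'.inv) (inv_anti hPH hB.inv), h0,
    map_zero, zero_mul]

theorem lam_Br (hP : IsPGroup p P) (hPH : P ≤ H) (h1 : H ⊓ Ce P ≤ K) (h2 : K ≤ H)
    (h3 : K ≤ No P) (hB : IsBlock H B) (hb : IsBlock K b) (h : Br P B * b = b)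
    (hz : z ∈ Z k H) : lam b (Br P z) = lam B z := by
  apply hb.lam_eq (Br_mem_Z h1 h2 h3 hz)
  have hm := (Z k H).sub_mem hz ((Z k H).algebraMap_mem (lam B z))
  have h4 := Br_nilpotent hP (inv_anti hPH ((Z k H).mul_mem hm hB.mem).2) (hB.lam_spec hz)
  rw [Br_mul hP (inv_anti hPH hm.2) (inv_anti hPH hB.inv), map_sub, Br_algebraMap] at h4
  rw [← h, ← mul_assoc]
  refine Commute.isNilpotent_mul_right (Z_comm ?_ hb.mem) h4
  exact (Z k K).mul_mem ((Z k K).sub_mem (Br_mem_Z h1 h2 h3 hz) ((Z k K).algebraMap_mem _))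
    (Br_mem_Z h1 h2 h3 hB.mem)

theorem Br_mul_eq_iff_lam (hP : IsPGroup p P) (hPH : P ≤ H) (h1 : H ⊓ Ce P ≤ K) (h2 : K ≤ H)
    (h3 : K ≤ No P) (hB : IsBlock H B) (hb : IsBlock K b) :
    Br P B * b = b ↔ ∀ z ∈ Z k H, lam b (Br P z) = lam B z := by
  refine ⟨fun h z hz => lam_Br hP hPH h1 h2 h3 hB hb h hz, fun h => ?_⟩
  rw [← hb.lam_idem_eq_one_iff (Br_mem_Z h1 h2 h3 hB.mem)
    (Br_idem hP (inv_anti hPH hB.inv) hB.idem), h B hB.mem, hB.lam_self]

omit [IsAlgClosed k] in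
theorem exists_block_Br_mul (hP : IsPGroup p P) (h1 : H ⊓ Ce P ≤ K) (h2 : K ≤ H)
    (h3 : K ≤ No P) (hz : z ∈ Z k H) (hz' : z ∈ inv k P) (hzi : IsIdempotentElem z)
    (h : Br P z ≠ 0) : ∃ b, IsBlock K b ∧ Br P z * b = b :=
  exists_block_mul_eq (Br_mem_Z h1 h2 h3 hz) (Br_idem hP hz' hzi) h

omit hp [CharP k p] [IsAlgClosed k] [Finite G] in
theorem Br_ne_zero_of_mul_eq (hb : b ≠ 0) (h : Br P B * b = b) : Br P B ≠ 0 := by
  intro h0; rw [h0, zero_mul] at h; exact hb h.symm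

end BrauerHom

end Cfsg.Agent.Blk
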