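import Cfsg.Agent.Lib.Block.Ch

/-!
Dictionary between blocks as sets of irreducible characters and blocks as primitive central
idempotents of the group algebra over the residue field.
-/

namespace Cfsg.Agent.Blk

open MonoidAlgebra Cfsg.Agent.Char
open scoped ComplexConjugate

variable {G H : Type*} [Group G] [Group H]

section Local

variable (M : Ideal AlgInt) [M.IsMaximal]

/-- Inclusion `O[G] → ℂ[G]`. -/
noncomputable abbrev toC : (O M)[G] →+* ℂ[G] := cf (O M).subtype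

/-- Reduction `O[G] → k[G]`. -/
noncomputable abbrev toK : (O M)[G] →+* (kk M)[G] := cf (res M)

/-- All coefficients are local integers. -/
def IsInt (a : ℂ[G]) : Prop := ∀ g, a.coeff g ∈ O M

/-- An element of `ℂ[G]` as an element of `O[G]` (junk if not integral). -/
noncomputable def liftO [Finite G] (a : ℂ[G]) : (O M)[G] := ofFun fun g => toO M (a.coeff g)

variable {M}

theorem toC_injective : Function.Injective (toC M : (O M)[G] → ℂ[G]) :=
  cf_injective Subtype.val_injective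

theorem coeff_toC (a : (O M)[G]) (g : G) : (toC M a).coeff g = (a.coeff g : ℂ) := coeff_cf _ _ _

theorem coeff_toK (a : (O M)[G]) (g : G) : (toK M a).coeff g = rd M (a.coeff g) := by
  rw [coeff_cf, rd_coe]

theorem isInt_toC (a : (O M)[G]) : IsInt M (toC M a) := fun g => by
  rw [coeff_toC]; exact (a.coeff g).2

theorem toC_liftO [Finite G] {a : ℂ[G]} (ha : IsInt M a) : toC M (liftO M a) = a :=
  ext' fun g => by rw [coeff_toC, liftO, coeff_ofFun, coe_toO (ha g)]

theorem liftO_toC [Finite G] (a : (O M)[G]) : liftO M (toC M a) = a :=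
  toC_injective (toC_liftO (isInt_toC a))

theorem coeff_toK_liftO [Finite G] (a : ℂ[G]) (g : G) :
    (toK M (liftO M a)).coeff g = rd M (a.coeff g) := by
  rw [coeff_cf]; rfl

theorem isInt_iff [Finite G] {a : ℂ[G]} : IsInt M a ↔ ∃ b, toC M b = a :=
  ⟨fun h => ⟨_, toC_liftO h⟩, by rintro ⟨b, rfl⟩; exact isInt_toC b⟩

theorem toC_mem_Z_iff {K : Subgroup G} {a : (O M)[G]} : toC M a ∈ Z ℂ K ↔ a ∈ Z (O M) K :=
  cf_mem_Z_iff Subtype.val_injective

theorem toK_eq_zero_iff {a : (O M)[G]} :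
    toK M a = 0 ↔ ∀ g, MemLocalIdeal M (a.coeff g) := by
  constructor
  · intro h g
    rw [← res_eq_zero_iff, ← coeff_cf, h]; rfl
  · intro h
    exact ext' fun g => by rw [coeff_cf, (res_eq_zero_iff _).2 (h g)]; rfl

variable [Finite G]

theorem isUnit_of_toK_eq_one {a : (O M)[G]} (h : toK M a = 1) : IsUnit a := by
  have := Fintype.ofFinite G
  have hsurj : Function.Surjective (LinearMap.mulLeft (O M) a) := by
    rw [← LinearMap.range_eq_top, eq_top_iff]
    apply Submodule.le_of_le_smul_of_le_jacobson_bot (I := IsLocalRing.maximalIdeal (O M))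
      Module.Finite.fg_top (IsLocalRing.maximalIdeal_le_jacobson _)
    intro b _
    have h1 : b = a * b + (1 - a) * b := by rw [sub_mul, one_mul]; abel
    rw [h1]
    refine Submodule.add_mem_sup ⟨b, rfl⟩ ?_
    have h2 : toK M ((1 - a) * b) = 0 := by rw [map_mul, map_sub, h, map_one, sub_self, zero_mul]
    rw [eq_sum_single ((1 - a) * b)]
    exact Submodule.sum_mem _ fun g _ => Submodule.smul_mem_smul
      ((mem_maximalIdeal_iff _).2 (toK_eq_zero_iff.1 h2 g)) trivial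
  have hinj := OrzechProperty.injective_of_surjective_endomorphism _ hsurj
  obtain ⟨b, hb⟩ := hsurj 1
  simp only [LinearMap.mulLeft_apply] at hb
  refine ⟨⟨a, b, hb, hinj ?_⟩, rfl⟩
  simp [← mul_assoc, hb]

theorem toK_surjective : Function.Surjective (toK M : (O M)[G] → (kk M)[G]) := fun a => by
  obtain ⟨b, hb, -⟩ := exists_cf_eq res_surjective a
  exact ⟨b, hb⟩

theorem isUnit_of_isUnit_toK {a : (O M)[G]} (h : IsUnit (toK M a)) : IsUnit a := by
  obtain ⟨u, hu⟩ := h
  obtain ⟨c, hc⟩ := toK_surjective (↑u⁻¹ : (kk M)[G])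
  have h1 : IsUnit (a * c) := isUnit_of_toK_eq_one (by rw [map_mul, hc, ← hu, Units.mul_inv])
  have h2 : IsUnit (c * a) := isUnit_of_toK_eq_one (by rw [map_mul, hc, ← hu, Units.inv_mul])
  obtain ⟨b, hb⟩ := h1.exists_right_inv
  obtain ⟨b', hb'⟩ := h2.exists_left_inv
  exact isUnit_iff_exists_and_exists.2 ⟨⟨c * b, by rw [← mul_assoc, hb]⟩,
    ⟨b' * c, by rw [mul_assoc, hb']⟩⟩

theorem isUnit_one_sub_of_nilpotent_toK {a : (O M)[G]} (h : IsNilpotent (toK M a)) :
    IsUnit (1 - a) :=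
  isUnit_of_isUnit_toK (by rw [map_sub, map_one]; exact h.isUnit_one_sub)

theorem idem_eq_zero_of_toK {e : (O M)[G]} (he : IsIdempotentElem e) (h : toK M e = 0) : e = 0 := by
  have h1 := isUnit_one_sub_of_nilpotent_toK (a := e) (by rw [h]; exact IsNilpotent.zero)
  exact h1.mul_left_cancel (by rw [sub_mul, one_mul, he.eq, sub_self, mul_zero])

/-- Commuting idempotents of `O[G]` with the same reduction are equal. -/
theorem idem_eq_of_toK_eq {e f : (O M)[G]} (he : IsIdempotentElem e) (hf : IsIdempotentElem f)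
    (hc : Commute e f) (h : toK M e = toK M f) : e = f := by
  have h1 : e * (1 - f) = 0 :=
    idem_eq_zero_of_toK (he.mul_of_commute ((Commute.one_right e).sub_right hc) hf.one_sub)
      (by rw [mul_sub, mul_one, map_sub, map_mul, ← h, ← map_mul, he.eq, sub_self])
  have h2 : f * (1 - e) = 0 :=
    idem_eq_zero_of_toK (hf.mul_of_commute ((Commute.one_right f).sub_right hc.symm) he.one_sub)
      (by rw [mul_sub, mul_one, map_sub, map_mul, h, ← map_mul, hf.eq, sub_self])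
  rw [mul_sub, mul_one, sub_eq_zero] at h1 h2
  rw [h1, hc.eq, ← h2]

theorem inv_mem_inv {R : Type*} [CommRing R] {K : Subgroup G} {a b : R[G]} (ha : a ∈ inv R K)
    (h1 : a * b = 1) (h2 : b * a = 1) : b ∈ inv R K := by
  rw [mem_inv] at ha ⊢
  intro x hx
  have h3 : a * cj x b = 1 := by rw [← ha x hx, ← map_mul, h1, map_one]
  calc cj x b = b * a * cj x b := by rw [h2, one_mul]
    _ = b := by rw [mul_assoc, h3, mul_one]

theorem inv_mem_sup {R : Type*} [CommRing R] {K : Subgroup G} {a b : R[G]} (ha : a ∈ sup R K)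
    (h1 : a * b = 1) (h2 : b * a = 1) : b ∈ sup R K := by
  have h3 : a * tr (K : Set G) b = 1 := by rw [← tr_mul_left ha, h1, tr_one K.one_mem]
  have h4 : tr (K : Set G) b = b := by
    calc tr (K : Set G) b = b * a * tr (K : Set G) b := by rw [h2, one_mul]
      _ = b := by rw [mul_assoc, h3, mul_one]
  rw [← h4]; exact tr_mem_sup _ _

theorem toC_smul (c : O M) (a : (O M)[G]) : toC M (c • a) = (c : ℂ) • toC M a := cf_smul _ _ _

theorem toK_smul (c : O M) (a : (O M)[G]) : toK M (c • a) = rd M c • toK M a := by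
  rw [cf_smul, rd_coe]

theorem centralChar_mem_O {χ : G → ℂ} (hχ : IsIrrCharacter G χ) (g : G) :
    centralChar χ g ∈ O M := mem_O_of_isIntegral M (isIntegral_centralChar hχ g)

theorem om_toC_mem_O {χ : G → ℂ} (hχ : IsIrrCharacter G χ) {z : (O M)[G]}
    (hz : z ∈ Z (O M) (⊤ : Subgroup G)) : om χ (toC M z) ∈ O M := by
  refine inv_induction (P := fun z => om χ (toC M z) ∈ O M) (mem_Z.1 hz).2 ?_ ?_ ?_
  · rw [map_zero, om_zero]; exact zero_mem _
  · intro a b _ _ ha hb
    rw [map_add, om_add]; exact add_mem ha hb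
  · intro g _
    rw [toC_smul, om_smul, cf_cls, om_cls hχ.isClassFunction]
    exact mul_mem (z.coeff g).2 (centralChar_mem_O hχ g)

theorem LI_om_toC {χ : G → ℂ} (hχ : IsIrrCharacter G χ) {z : (O M)[G]}
    (hz : z ∈ Z (O M) (⊤ : Subgroup G)) (h : toK M z = 0) :
    MemLocalIdeal M (om χ (toC M z)) := by
  refine inv_induction (P := fun z => MemLocalIdeal M (om χ (toC M z))) (mem_Z.1 hz).2 ?_ ?_ ?_
  · rw [map_zero, om_zero]; exact LI_zero
  · intro a b _ _ ha hb
    rw [map_add, om_add]; exact LI_add ha hb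
  · intro g _
    rw [toC_smul, om_smul, cf_cls, om_cls hχ.isClassFunction]
    exact LI_mul_right (toK_eq_zero_iff.1 h g) (centralChar_mem_O hχ g)

theorem toC_mem_Z {K : Subgroup G} {a : (O M)[G]} (ha : a ∈ Z (O M) K) : toC M a ∈ Z ℂ K :=
  cf_mem_Z _ ha

theorem toK_mem_Z {K : Subgroup G} {a : (O M)[G]} (ha : a ∈ Z (O M) K) :
    toK M a ∈ Z (kk M) K := cf_mem_Z _ ha

theorem exists_toK_eq_Z {K : Subgroup G} {a : (kk M)[G]} (ha : a ∈ Z (kk M) K) :
    ∃ b ∈ Z (O M) K, toK M b = a := exists_cf_eq_of_mem_Z res_surjective ha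

theorem rd_om_congr {χ : G → ℂ} (hχ : IsIrrCharacter G χ) {z w : (O M)[G]}
    (hz : z ∈ Z (O M) (⊤ : Subgroup G)) (hw : w ∈ Z (O M) (⊤ : Subgroup G))
    (h : toK M z = toK M w) : rd M (om χ (toC M z)) = rd M (om χ (toC M w)) := by
  rw [rd_eq_iff (om_toC_mem_O hχ hz) (om_toC_mem_O hχ hw), ← om_sub, ← map_sub]
  exact LI_om_toC hχ (sub_mem hz hw) (by rw [map_sub, h, sub_self])

variable (M) in
/-- The central character as a ring homomorphism on the centre of `O[G]`. -/
noncomputable def omO {χ : G → ℂ} (hχ : IsIrrCharacter G χ) :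
    Z (O M) (⊤ : Subgroup G) →+* ℂ where
  toFun z := om χ (toC M z)
  map_one' := by simp only [OneMemClass.coe_one, map_one, om_one hχ]
  map_mul' a b := by
    simp only [MulMemClass.coe_mul, map_mul]; exact om_mul hχ (toC_mem_Z a.2) _
  map_zero' := by simp only [ZeroMemClass.coe_zero, map_zero, om_zero]
  map_add' a b := by simp only [AddMemClass.coe_add, map_add, om_add]

theorem omO_apply {χ : G → ℂ} (hχ : IsIrrCharacter G χ) (z : Z (O M) (⊤ : Subgroup G)) :
    omO M hχ z = om χ (toC M z) := rfl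

theorem omO_algebraMap {χ : G → ℂ} (hχ : IsIrrCharacter G χ) (c : O M) :
    omO M hχ (algebraMap (O M) _ c) = c := by
  rw [omO_apply, Subalgebra.coe_algebraMap, cf_algebraMap, om_algebraMap hχ]; rfl

theorem omO_mem {χ : G → ℂ} (hχ : IsIrrCharacter G χ) (z : Z (O M) (⊤ : Subgroup G)) :
    omO M hχ z ∈ O M := om_toC_mem_O hχ z.2

theorem omO_ext {z w : Z (O M) (⊤ : Subgroup G)}
    (h : ∀ χ : IrrCharacter G, omO M χ.2 z = omO M χ.2 w) : z = w :=
  Subtype.ext (toC_injective (Z_ext_om (toC_mem_Z z.2) (toC_mem_Z w.2) h))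

theorem exists_blk {χ : G → ℂ} (hχ : IsIrrCharacter G χ) :
    ∃ e : (kk M)[G], IsBlock ⊤ e ∧
      ∀ z ∈ Z (O M) (⊤ : Subgroup G), lam e (toK M z) = rd M (om χ (toC M z)) := by
  choose L hL hL' using fun z : Z (kk M) (⊤ : Subgroup G) => exists_toK_eq_Z z.2
  have key : ∀ (z : Z (kk M) (⊤ : Subgroup G)) (w : (O M)[G]), w ∈ Z (O M) (⊤ : Subgroup G) →
      toK M w = z → rd M (om χ (toC M (L z))) = rd M (om χ (toC M w)) :=
    fun z w hw h => rd_om_congr hχ (hL z) hw (by rw [hL', h])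
  let φ : Z (kk M) (⊤ : Subgroup G) →ₐ[kk M] kk M :=
    { toFun := fun z => rd M (om χ (toC M (L z)))
      map_one' := by
        rw [key 1 1 (one_mem _) (map_one _), map_one, om_one hχ, rd_one]
      map_mul' := fun a b => by
        rw [key (a * b) (L a * L b) (mul_mem (hL a) (hL b)) (by rw [map_mul, hL', hL']; rfl),
          map_mul, om_mul hχ (toC_mem_Z (hL a)),
          rd_mul (om_toC_mem_O hχ (hL a)) (om_toC_mem_O hχ (hL b))]
      map_zero' := by
        rw [key 0 0 (zero_mem _) (map_zero _), map_zero, om_zero, rd_zero]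
      map_add' := fun a b => by
        rw [key (a + b) (L a + L b) (add_mem (hL a) (hL b)) (by rw [map_add, hL', hL']; rfl),
          map_add, om_add, rd_add (om_toC_mem_O hχ (hL a)) (om_toC_mem_O hχ (hL b))]
      commutes' := fun c => by
        obtain ⟨c, rfl⟩ := res_surjective c
        rw [key _ (algebraMap (O M) _ c) (Subalgebra.algebraMap_mem _ _)
          (by rw [cf_algebraMap]; rfl), cf_algebraMap, om_algebraMap hχ]
        exact rd_coe c }
  obtain ⟨e, he, h⟩ := exists_block_of_algHom φ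
  refine ⟨e, he, fun z hz => ?_⟩
  rw [← h ⟨toK M z, toK_mem_Z hz⟩]
  exact key _ z hz rfl

variable (M) in
/-- The block idempotent of `k[G]` to which the irreducible character `χ` belongs. -/
noncomputable def blk (χ : IrrCharacter G) : (kk M)[G] := (exists_blk (M := M) χ.2).choose

theorem isBlock_blk (χ : IrrCharacter G) : IsBlock ⊤ (blk M χ) := (exists_blk χ.2).choose_spec.1

theorem lam_blk (χ : IrrCharacter G) {z : (O M)[G]} (hz : z ∈ Z (O M) (⊤ : Subgroup G)) :
    lam (blk M χ) (toK M z) = rd M (om χ (toC M z)) := (exists_blk χ.2).choose_spec.2 z hz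

theorem lam_blk_cls (χ : IrrCharacter G) (g : G) :
    lam (blk M χ) (cls (kk M) ⊤ g) = rd M (centralChar (χ : G → ℂ) g) := by
  rw [← cf_cls (res M), lam_blk χ (cls_mem_Z (Subgroup.mem_top g)), cf_cls,
    om_cls χ.2.isClassFunction]

theorem IsBlock.ext_cls {k : Type*} [Field k] [IsAlgClosed k] {K : Subgroup G} {e f : k[G]}
    (he : IsBlock K e) (hf : IsBlock K f) (h : ∀ g ∈ K, lam e (cls k K g) = lam f (cls k K g)) :
    e = f := by
  refine he.ext_lam hf fun z hz => Z_ext_cls (φ := lam e) (ψ := lam f) ?_ ?_ ?_ hz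
  · rw [he.lam_zero, hf.lam_zero]
  · intro a ha b hb h1 h2
    rw [he.lam_add ha hb, hf.lam_add ha hb, h1, h2]
  · intro c g hg
    rw [he.lam_smul c (cls_mem_Z hg), hf.lam_smul c (cls_mem_Z hg), h g hg]

theorem sameBlock_iff {χ ψ : IrrCharacter G} :
    SameBlock M (χ : G → ℂ) (ψ : G → ℂ) ↔ blk M χ = blk M ψ := by
  constructor
  · intro h
    refine (isBlock_blk χ).ext_cls (isBlock_blk ψ) fun g _ => ?_
    rw [lam_blk_cls, lam_blk_cls, rd_eq_iff (centralChar_mem_O χ.2 g) (centralChar_mem_O ψ.2 g)]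
    exact h g
  · intro h g
    rw [← rd_eq_iff (centralChar_mem_O χ.2 g) (centralChar_mem_O ψ.2 g), ← lam_blk_cls,
      ← lam_blk_cls, h]

theorem mem_blockOf {χ ψ : IrrCharacter G} :
    ψ ∈ blockOf M (χ : G → ℂ) ↔ blk M ψ = blk M χ := by
  rw [blockOf, Set.mem_ofPred_eq, sameBlock_iff, eq_comm]

theorem prod_sub_om_eq_zero (z : Z (O M) (⊤ : Subgroup G)) :
    ∏ χ : IrrCharacter G, (z - algebraMap (O M) _ ⟨omO M χ.2 z, omO_mem χ.2 z⟩) = 0 := by
  refine omO_ext fun χ => ?_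
  rw [map_prod, map_zero]
  exact Finset.prod_eq_zero (Finset.mem_univ χ) (by rw [map_sub, omO_algebraMap, sub_self])

/-- Every block of `k[G]` contains an irreducible character. -/
theorem exists_blk_eq {e : (kk M)[G]} (he : IsBlock ⊤ e) : ∃ χ : IrrCharacter G, blk M χ = e := by
  obtain ⟨z, hz, hze⟩ := exists_toK_eq_Z he.mem
  let φ : Z (O M) (⊤ : Subgroup G) →+* kk M :=
    { toFun := fun w => lam e (toK M w)
      map_one' := by simp only [OneMemClass.coe_one, map_one, he.lam_one]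
      map_mul' := fun a b => by
        simp only [MulMemClass.coe_mul, map_mul]
        exact he.lam_mul (toK_mem_Z a.2) (toK_mem_Z b.2)
      map_zero' := by simp only [ZeroMemClass.coe_zero, map_zero, he.lam_zero]
      map_add' := fun a b => by
        simp only [AddMemClass.coe_add, map_add]
        exact he.lam_add (toK_mem_Z a.2) (toK_mem_Z b.2) }
  have h := congrArg φ (prod_sub_om_eq_zero ⟨z, hz⟩)
  rw [map_prod, map_zero, Finset.prod_eq_zero_iff] at h
  obtain ⟨χ, -, h⟩ := h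
  rw [map_sub, sub_eq_zero] at h
  have h1 : φ ⟨z, hz⟩ = 1 := by change lam e (toK M z) = 1; rw [hze, he.lam_self]
  have h2 : φ (algebraMap (O M) _ ⟨omO M χ.2 ⟨z, hz⟩, omO_mem χ.2 _⟩) = lam (blk M χ) e := by
    change lam e (toK M (algebraMap (O M) _ _)) = _
    rw [cf_algebraMap, he.lam_algebraMap, ← hze, lam_blk χ hz, ← rd_coe]; rfl
  refine ⟨χ, ((isBlock_blk χ).eq_of_lam_ne_zero he ?_).symm⟩
  rw [← h2, ← h, h1]; exact one_ne_zero

theorem isUnit_of_forall_om {u : Z (O M) (⊤ : Subgroup G)}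
    (h : ∀ χ : IrrCharacter G, ¬ MemLocalIdeal M (omO M χ.2 u)) : IsUnit u := by
  have h0 := prod_sub_om_eq_zero u
  have h1 : ∀ (s : Finset (IrrCharacter G)) (c : IrrCharacter G → Z (O M) (⊤ : Subgroup G)),
      u ∣ ∏ χ ∈ s, (u - c χ) - ∏ χ ∈ s, (-c χ) := by
    intro s c
    classical
    induction s using Finset.induction_on with
    | empty => simp
    | insert a s ha ih =>
      rw [Finset.prod_insert ha, Finset.prod_insert ha]
      obtain ⟨d, hd⟩ := ih
      exact ⟨∏ χ ∈ s, (u - c χ) - c a * d, by linear_combination (-c a) * hd⟩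
  have h2 := h1 Finset.univ fun χ => algebraMap (O M) _ ⟨omO M χ.2 u, omO_mem χ.2 u⟩
  rw [h0, zero_sub, dvd_neg] at h2
  refine isUnit_of_dvd_unit h2 (IsUnit.prod_iff.2 fun χ _ => IsUnit.neg ?_)
  exact ((isUnit_iff_not_LI _).2 (h χ)).map _

/-- Osima's theorem, in the form of lifting central idempotents. -/
theorem isInt_fC_of_idem {ε : (kk M)[G]} (hε : ε ∈ Z (kk M) (⊤ : Subgroup G))
    (hεi : IsIdempotentElem ε) : IsInt M (fC {χ : IrrCharacter G | ε * blk M χ = blk M χ}) := by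
  classical
  set A : Set (IrrCharacter G) := {χ : IrrCharacter G | ε * blk M χ = blk M χ} with hA
  obtain ⟨z, hz, hze⟩ := exists_toK_eq_Z hε
  let z' : Z (O M) (⊤ : Subgroup G) := ⟨z, hz⟩
  let a : IrrCharacter G → O M := fun χ => ⟨omO M χ.2 z', omO_mem χ.2 z'⟩
  have ha1 : ∀ χ ∈ A, res M (a χ) = 1 := fun χ hχ => by
    rw [← rd_coe]
    change rd M (om χ (toC M z)) = 1
    rw [← lam_blk χ hz, hze, (isBlock_blk χ).lam_idem_eq_one_iff hε hεi]; exact hχ
  have ha0 : ∀ χ ∉ A, res M (a χ) = 0 := fun χ hχ => by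
    rw [← rd_coe]
    change rd M (om χ (toC M z)) = 0
    rw [← lam_blk χ hz, hze]
    by_contra h
    exact hχ (((isBlock_blk χ).lam_idem_ne_zero_iff hε hεi).1 h)
  let w := ∏ ψ ∈ Finset.univ.filter (· ∉ A), (z' - algebraMap (O M) _ (a ψ))
  let v := ∏ ψ ∈ Finset.univ.filter (· ∈ A), (z' - algebraMap (O M) _ (a ψ))
  have hw : ∀ χ : IrrCharacter G, omO M χ.2 w =
      ((∏ ψ ∈ Finset.univ.filter (· ∉ A), (a χ - a ψ) : O M) : ℂ) := fun χ => by
    simp only [w, map_prod, map_sub, omO_algebraMap]; push_cast; rfl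
  have hv : ∀ χ : IrrCharacter G, omO M χ.2 v =
      ((∏ ψ ∈ Finset.univ.filter (· ∈ A), (a χ - a ψ) : O M) : ℂ) := fun χ => by
    simp only [v, map_prod, map_sub, omO_algebraMap]; push_cast; rfl
  have hw0 : ∀ χ ∉ A, omO M χ.2 w = 0 := fun χ hχ => by
    rw [hw, Finset.prod_eq_zero (i := χ) (by simpa using hχ) (sub_self _)]; rfl
  have hv0 : ∀ χ ∈ A, omO M χ.2 v = 0 := fun χ hχ => by
    rw [hv, Finset.prod_eq_zero (i := χ) (by simpa using hχ) (sub_self _)]; rfl
  have hu : IsUnit (w + v) := by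
    refine isUnit_of_forall_om fun χ => ?_
    rw [map_add]
    by_cases hχ : χ ∈ A
    · rw [hv0 χ hχ, add_zero, hw, ← res_eq_zero_iff, map_prod, Finset.prod_eq_zero_iff]
      rintro ⟨ψ, hψ, h⟩
      rw [map_sub, ha1 χ hχ, ha0 ψ (by simpa using hψ), sub_zero] at h
      exact one_ne_zero h
    · rw [hw0 χ hχ, zero_add, hv, ← res_eq_zero_iff, map_prod, Finset.prod_eq_zero_iff]
      rintro ⟨ψ, hψ, h⟩
      rw [map_sub, ha0 χ hχ, ha1 ψ (by simpa using hψ), zero_sub, neg_eq_zero] at h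
      exact one_ne_zero h
  obtain ⟨t, ht⟩ := hu.exists_right_inv
  refine isInt_iff.2 ⟨(w * t : Z (O M) (⊤ : Subgroup G)), ?_⟩
  refine Z_ext_om (toC_mem_Z (w * t).2) (fC_mem A) fun χ => ?_
  rw [← omO_apply χ.2, map_mul]
  by_cases hχ : χ ∈ A
  · have := congrArg (omO M χ.2) ht
    rw [map_mul, map_add, hv0 χ hχ, add_zero, map_one] at this
    rw [this, om_fC_of_mem hχ]
  · rw [hw0 χ hχ, zero_mul, om_fC_of_notMem hχ]

variable (M) in
/-- The idempotent of a set of characters in `O[G]` (junk if it is not integral). -/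
noncomputable def fO (A : Set (IrrCharacter G)) : (O M)[G] := liftO M (fC A)

variable (M) in
/-- The reduction of the idempotent of a set of characters. -/
noncomputable def bar (A : Set (IrrCharacter G)) : (kk M)[G] := toK M (fO M A)

theorem toK_fO (A : Set (IrrCharacter G)) : toK M (fO M A) = bar M A := rfl

theorem coeff_bar (A : Set (IrrCharacter G)) (g : G) :
    (bar M A).coeff g = rd M (blockCoeff A g) := by
  rw [bar, fO, coeff_toK_liftO, coeff_fC]

theorem fO_mem (A : Set (IrrCharacter G)) : fO M A ∈ Z (O M) (⊤ : Subgroup G) :=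
  ofFun_mem_Z fun x g => by rw [coeff_fC, coeff_fC, blockCoeff_conj]

theorem bar_mem (A : Set (IrrCharacter G)) : bar M A ∈ Z (kk M) (⊤ : Subgroup G) :=
  toK_mem_Z (fO_mem A)

variable (M) in
/-- `A` is a union of blocks. -/
def IsUB (A : Set (IrrCharacter G)) : Prop := ∀ χ ∈ A, ∀ ψ, blk M ψ = blk M χ → ψ ∈ A

theorem isUB_of_isInt {A : Set (IrrCharacter G)} (h : IsInt M (fC A)) : IsUB M A := by
  intro χ hχ ψ hψ
  by_contra hn
  have h1 := lam_blk χ (fO_mem (M := M) A)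
  have h2 := lam_blk ψ (fO_mem (M := M) A)
  rw [hψ, h1, fO, toC_liftO h, om_fC_of_mem hχ, om_fC_of_notMem hn, rd_one, rd_zero] at h2
  exact one_ne_zero h2

theorem IsUB.isInt {A : Set (IrrCharacter G)} (h : IsUB M A) : IsInt M (fC A) := by
  classical
  let s := (blocks (kk M) (⊤ : Subgroup G)).filter (fun e => ∃ χ ∈ A, blk M χ = e)
  have hs : ∀ e ∈ s, IsBlock ⊤ e := fun e he => mem_blocks.1 (Finset.mem_filter.1 he).1
  have := isInt_fC_of_idem (sum_blocks_mem hs) (sum_blocks_idem hs)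
  convert this
  ext χ
  rw [Set.mem_ofPred_eq]
  constructor
  · intro hχ
    exact sum_blocks_mul_of_mem hs (Finset.mem_filter.2 ⟨mem_blocks.2 (isBlock_blk χ), χ, hχ, rfl⟩)
  · intro hχ
    by_contra hn
    rw [sum_blocks_mul_of_notMem hs (isBlock_blk χ)] at hχ
    · exact (isBlock_blk χ).ne hχ.symm
    · intro hm
      obtain ⟨ψ, hψ, h'⟩ := (Finset.mem_filter.1 hm).2
      exact hn (h ψ hψ χ h'.symm)

theorem isInt_fC_iff {A : Set (IrrCharacter G)} : IsInt M (fC A) ↔ IsUB M A :=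
  ⟨isUB_of_isInt, IsUB.isInt⟩

namespace IsUB

variable {A B : Set (IrrCharacter G)}

theorem toC_fO (h : IsUB M A) : toC M (fO M A) = fC A := toC_liftO h.isInt

theorem blockCoeff_mem (h : IsUB M A) (g : G) : blockCoeff A g ∈ O M := by
  have := h.isInt g; rwa [coeff_fC] at this

theorem coeff_fO (h : IsUB M A) (g : G) : ((fO M A).coeff g : ℂ) = blockCoeff A g := by
  rw [← coeff_toC, h.toC_fO, coeff_fC]

theorem fO_idem (h : IsUB M A) : IsIdempotentElem (fO M A) :=
  toC_injective (by rw [map_mul, h.toC_fO, (fC_idem A).eq])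

theorem bar_idem (h : IsUB M A) : IsIdempotentElem (bar M A) := h.fO_idem.map _

theorem lam_bar_of_mem (h : IsUB M A) {χ : IrrCharacter G} (hχ : χ ∈ A) :
    lam (blk M χ) (bar M A) = 1 := by
  rw [bar, lam_blk χ (fO_mem A), h.toC_fO, om_fC_of_mem hχ, rd_one]

theorem lam_bar_of_notMem (h : IsUB M A) {χ : IrrCharacter G} (hχ : χ ∉ A) :
    lam (blk M χ) (bar M A) = 0 := by
  rw [bar, lam_blk χ (fO_mem A), h.toC_fO, om_fC_of_notMem hχ, rd_zero]

theorem mem_iff (h : IsUB M A) {χ : IrrCharacter G} : χ ∈ A ↔ bar M A * blk M χ = blk M χ := by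
  rw [← (isBlock_blk χ).lam_idem_eq_one_iff (bar_mem A) h.bar_idem]
  refine ⟨h.lam_bar_of_mem, fun h1 => by_contra fun hn => ?_⟩
  rw [h.lam_bar_of_notMem hn] at h1
  exact zero_ne_one h1

theorem notMem_iff (h : IsUB M A) {χ : IrrCharacter G} : χ ∉ A ↔ bar M A * blk M χ = 0 := by
  rw [← (isBlock_blk χ).lam_idem_eq_zero_iff (bar_mem A) h.bar_idem]
  refine ⟨h.lam_bar_of_notMem, fun h1 hn => ?_⟩
  rw [h.lam_bar_of_mem hn] at h1
  exact one_ne_zero h1

theorem bar_inj (hA : IsUB M A) (hB : IsUB M B) (h : bar M A = bar M B) : A = B := by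
  ext χ; rw [hA.mem_iff, hB.mem_iff, h]

theorem inter (hA : IsUB M A) (hB : IsUB M B) : IsUB M (A ∩ B) :=
  fun χ hχ ψ h => ⟨hA χ hχ.1 ψ h, hB χ hχ.2 ψ h⟩

theorem union (hA : IsUB M A) (hB : IsUB M B) : IsUB M (A ∪ B) :=
  fun χ hχ ψ h => hχ.imp (fun h' => hA χ h' ψ h) (fun h' => hB χ h' ψ h)

theorem compl (hA : IsUB M A) : IsUB M Aᶜ := fun χ hχ ψ h h' => hχ (hA ψ h' χ h.symm)

theorem fO_mul (hA : IsUB M A) (hB : IsUB M B) : fO M A * fO M B = fO M (A ∩ B) :=
  toC_injective (by rw [map_mul, hA.toC_fO, hB.toC_fO, (hA.inter hB).toC_fO, fC_mul_fC])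

theorem bar_mul (hA : IsUB M A) (hB : IsUB M B) : bar M A * bar M B = bar M (A ∩ B) := by
  rw [bar, bar, ← map_mul, hA.fO_mul hB]; rfl

theorem fO_compl (hA : IsUB M A) : fO M Aᶜ = 1 - fO M A :=
  toC_injective (by rw [map_sub, map_one, hA.toC_fO, hA.compl.toC_fO, fC_compl])

end IsUB

theorem isUB_idem (ε : (kk M)[G]) : IsUB M {χ : IrrCharacter G | ε * blk M χ = blk M χ} :=
  fun χ hχ ψ h => by rw [Set.mem_ofPred_eq, h]; exact hχ

theorem bar_idem_set {ε : (kk M)[G]} (hε : ε ∈ Z (kk M) (⊤ : Subgroup G))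
    (hεi : IsIdempotentElem ε) : bar M {χ : IrrCharacter G | ε * blk M χ = blk M χ} = ε := by
  refine idem_ext (bar_mem _) (isUB_idem ε).bar_idem hε hεi fun e he => ?_
  obtain ⟨χ, rfl⟩ := exists_blk_eq he
  rw [← (isUB_idem ε).mem_iff]; rfl

theorem isUB_univ : IsUB M (Set.univ : Set (IrrCharacter G)) := fun _ _ _ _ => trivial

theorem isUB_empty : IsUB M (∅ : Set (IrrCharacter G)) := fun _ h => h.elim

theorem fO_univ : fO M (Set.univ : Set (IrrCharacter G)) = 1 :=
  toC_injective (by rw [isUB_univ.toC_fO, fC_univ, map_one])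

theorem fO_empty : fO M (∅ : Set (IrrCharacter G)) = 0 :=
  toC_injective (by rw [isUB_empty.toC_fO, fC_empty, map_zero])

theorem bar_univ : bar M (Set.univ : Set (IrrCharacter G)) = 1 := by rw [bar, fO_univ, map_one]

theorem bar_empty : bar M (∅ : Set (IrrCharacter G)) = 0 := by rw [bar, fO_empty, map_zero]

theorem isUB_blockOf (χ : IrrCharacter G) : IsUB M (blockOf M (χ : G → ℂ)) :=
  fun ψ hψ φ h => mem_blockOf.2 (h.trans (mem_blockOf.1 hψ))

theorem bar_blockOf (χ : IrrCharacter G) : bar M (blockOf M (χ : G → ℂ)) = blk M χ := by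
  rw [← bar_idem_set (isBlock_blk χ).mem (isBlock_blk χ).idem]
  congr 1
  ext ψ
  rw [mem_blockOf, Set.mem_ofPred_eq]
  constructor
  · intro h; rw [h]; exact (isBlock_blk χ).mul_self
  · intro h
    exact ((isBlock_blk χ).eq_of_mul_ne_zero (isBlock_blk ψ)
      (by rw [h]; exact (isBlock_blk ψ).ne)).symm

theorem mem_blockOf_self (χ : IrrCharacter G) : χ ∈ blockOf M (χ : G → ℂ) := mem_blockOf.2 rfl

theorem isPBlock_blockOf (χ : IrrCharacter G) : IsPBlock M (blockOf M (χ : G → ℂ)) := ⟨χ, rfl⟩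

theorem principalBlock_eq : principalBlock M G = blockOf M ((irrOne G : IrrCharacter G) : G → ℂ) :=
  rfl

theorem isPBlock_principal : IsPBlock M (principalBlock M G) := ⟨irrOne G, rfl⟩

theorem irrOne_mem_principal : irrOne G ∈ principalBlock M G := by
  rw [principalBlock_eq]; exact mem_blockOf_self (irrOne G)

end Local

end Cfsg.Agent.Blk

namespace Cfsg.IsPBlock

open Cfsg.Agent.Blk MonoidAlgebra

variable {G : Type*} [Group G] [Finite G] {M : Ideal AlgInt} [M.IsMaximal]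
  {B B' : Set (IrrCharacter G)} {χ ψ : IrrCharacter G}

theorem isUB (hB : IsPBlock M B) : IsUB M B := by
  obtain ⟨χ, rfl⟩ := hB; exact isUB_blockOf χ

theorem nonempty (hB : IsPBlock M B) : B.Nonempty := by
  obtain ⟨χ, rfl⟩ := hB; exact ⟨χ, mem_blockOf_self χ⟩

theorem isBlock (hB : IsPBlock M B) : IsBlock ⊤ (bar M B) := by
  obtain ⟨χ, rfl⟩ := hB; rw [bar_blockOf]; exact isBlock_blk χ

theorem mem_iff (hB : IsPBlock M B) : χ ∈ B ↔ blk M χ = bar M B := by
  obtain ⟨ψ, rfl⟩ := hB; rw [bar_blockOf, mem_blockOf]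

theorem blk_eq (hB : IsPBlock M B) (h : χ ∈ B) : blk M χ = bar M B := hB.mem_iff.1 h

theorem eq_blockOf (hB : IsPBlock M B) (h : χ ∈ B) : B = blockOf M (χ : G → ℂ) := by
  ext ψ; rw [mem_blockOf, hB.mem_iff, hB.blk_eq h]

theorem bar_inj (hB : IsPBlock M B) (hB' : IsPBlock M B') (h : bar M B = bar M B') : B = B' :=
  hB.isUB.bar_inj hB'.isUB h

theorem eq_of_mem (hB : IsPBlock M B) (hB' : IsPBlock M B') (h : χ ∈ B) (h' : χ ∈ B') : B = B' :=
  (hB.eq_blockOf h).trans (hB'.eq_blockOf h').symm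

theorem sameBlock (hB : IsPBlock M B) (h : χ ∈ B) (h' : ψ ∈ B) :
    SameBlock M (χ : G → ℂ) (ψ : G → ℂ) :=
  sameBlock_iff.2 ((hB.blk_eq h).trans (hB.blk_eq h').symm)

theorem mem_of_sameBlock (hB : IsPBlock M B) (h : χ ∈ B)
    (h' : SameBlock M (χ : G → ℂ) (ψ : G → ℂ)) : ψ ∈ B :=
  hB.isUB χ h ψ (sameBlock_iff.1 h').symm

theorem lam_toK (hB : IsPBlock M B) (h : χ ∈ B) {z : (O M)[G]}
    (hz : z ∈ Z (O M) (⊤ : Subgroup G)) : lam (bar M B) (toK M z) = rd M (om χ (toC M z)) := by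
  rw [← hB.blk_eq h, lam_blk χ hz]

theorem lam_cls (hB : IsPBlock M B) (h : χ ∈ B) (g : G) :
    lam (bar M B) (cls (kk M) ⊤ g) = rd M (centralChar (χ : G → ℂ) g) := by
  rw [← hB.blk_eq h, lam_blk_cls]

theorem blockCoeff_mem (hB : IsPBlock M B) (g : G) : blockCoeff B g ∈ O M :=
  hB.isUB.blockCoeff_mem g

theorem coeff_bar_ne_zero_iff (hB : IsPBlock M B) {g : G} :
    (bar M B).coeff g ≠ 0 ↔ ¬ MemLocalIdeal M (blockCoeff B g) := by
  rw [coeff_bar, Ne, rd_eq_zero_iff (hB.blockCoeff_mem g)]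

theorem isDefectClass_iff (hB : IsPBlock M B) {g : G} : IsDefectClass M B g ↔
    (bar M B).coeff g ≠ 0 ∧ lam (bar M B) (cls (kk M) ⊤ g) ≠ 0 := by
  rw [hB.coeff_bar_ne_zero_iff]
  constructor
  · rintro ⟨-, h1, h2⟩
    obtain ⟨χ, hχ⟩ := hB.nonempty
    refine ⟨h1, ?_⟩
    rw [hB.lam_cls hχ, Ne, rd_eq_zero_iff (centralChar_mem_O χ.2 g)]
    exact h2 χ hχ
  · rintro ⟨h1, h2⟩
    refine ⟨hB.blockCoeff_mem g, h1, fun χ hχ => ?_⟩
    rwa [hB.lam_cls hχ, Ne, rd_eq_zero_iff (centralChar_mem_O χ.2 g)] at h2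

theorem isDefectGroup_iff {M : Ideal AlgInt} {p : ℕ} [PMod M p] (hB : IsPBlock M B)
    {D : Subgroup G} : IsDefectGroup p M B D ↔ IsDef p ⊤ (bar M B) D := by
  haveI : Fact p.Prime := ⟨PMod.prime M⟩
  rw [hB.isBlock.isDef_iff]
  constructor
  · rintro ⟨g, hg, P, rfl⟩
    rw [hB.isDefectClass_iff] at hg
    exact ⟨g, trivial, hg.1, hg.2, by rw [top_inf_eq]; exact isSyl_map P⟩
  · rintro ⟨g, -, h1, h2, h3⟩
    rw [top_inf_eq] at h3
    obtain ⟨P, hP⟩ := h3.exists_sylow
    exact ⟨g, hB.isDefectClass_iff.2 ⟨h1, h2⟩, P, hP.symm⟩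

end Cfsg.IsPBlock

namespace Cfsg.Agent.Blk

open MonoidAlgebra

variable {G : Type*} [Group G] [Finite G] {M : Ideal AlgInt} [M.IsMaximal]

theorem exists_isPBlock_bar_eq {e : (kk M)[G]} (he : IsBlock ⊤ e) :
    ∃ B : Set (IrrCharacter G), IsPBlock M B ∧ bar M B = e := by
  obtain ⟨χ, rfl⟩ := exists_blk_eq he
  exact ⟨_, isPBlock_blockOf χ, bar_blockOf χ⟩

end Cfsg.Agent.Blk
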