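import Cfsg.Agent.Lib.Block.Green

/-! Dimensions of `i k[G] j`; blocks of minimal dimension are nilpotent. -/

set_option autoImplicit false

namespace Cfsg.Agent.Blk

open MonoidAlgebra Module
open Cfsg.Agent.Char hiding cj cj_mul cj_inv_cj cj_cj_inv sum_cj_eq om
open scoped ComplexConjugate Classical

section
variable {R K L : Type*} [CommRing R] [Field K] [Field L] {m : Type*} [Fintype m] [DecidableEq m]

theorem rank_add_rank_idem {E : Matrix m m K} (hE : IsIdempotentElem E) :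
    E.rank + (1 - E).rank = Fintype.card m := by
  refine le_antisymm (Matrix.rank_add_rank_le_card_of_mul_eq_zero (by
    rw [mul_sub, mul_one, hE.eq, sub_self])) ?_
  have h1 : (⊤ : Submodule K (m → K)) ≤
      LinearMap.range E.mulVecLin ⊔ LinearMap.range (1 - E).mulVecLin := fun v _ =>
    Submodule.mem_sup.2 ⟨_, ⟨v, rfl⟩, _, ⟨v, rfl⟩, by simp [Matrix.sub_mulVec]⟩
  have h2 := Submodule.finrank_mono h1
  rw [finrank_top, finrank_fintype_fun_eq_card] at h2
  exact h2.trans (Submodule.finrank_add_le_finrank_add_finrank _ _)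

theorem rank_idem_eq_trace {E : Matrix m m K} (hE : IsIdempotentElem E) :
    (E.rank : K) = E.trace := by
  have h1 : IsIdempotentElem (Matrix.toLin' E) := hE.map Matrix.toLinAlgEquiv'
  rw [← Matrix.trace_toLin'_eq, (LinearMap.IsIdempotentElem.isProj_range _ h1).trace]
  rfl

theorem rank_map_idem (f : R →+* K) (hf : Function.Surjective f) (g : R →+* L)
    (hg : Function.Injective g) {E : Matrix m m R} (hE : IsIdempotentElem E) :
    (E.map f).rank = (E.map g).rank := by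
  have h1 := rank_map_le f hf g hg E
  have h2 := rank_map_le f hf g hg (1 - E)
  have h3 := rank_add_rank_idem (hE.map f.mapMatrix)
  have h4 := rank_add_rank_idem (hE.map g.mapMatrix)
  rw [← map_one f.mapMatrix, ← map_sub] at h3
  rw [← map_one g.mapMatrix, ← map_sub] at h4
  simp only [RingHom.mapMatrix_apply] at h3 h4
  omega

end

section
variable {G : Type*} [Group G] {R S : Type*} [CommRing R] [CommRing S]

/-- The map `x ↦ a x b`. -/
noncomputable def LR (a b : R[G]) : R[G] →ₗ[R] R[G] :=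
  (LinearMap.mulLeft R a).comp (LinearMap.mulRight R b)

theorem LR_apply (a b x : R[G]) : LR a b x = a * x * b := (mul_assoc a x b).symm

theorem idem_LR {a b : R[G]} (ha : IsIdempotentElem a) (hb : IsIdempotentElem b) :
    IsIdempotentElem (LR a b) := by
  refine LinearMap.ext fun x => ?_
  rw [Module.End.mul_apply, LR_apply, LR_apply, ← mul_assoc, ← mul_assoc, ha.eq, mul_assoc _ b,
    hb.eq]

theorem mem_range_LR {a b x : R[G]} (ha : IsIdempotentElem a) (hb : IsIdempotentElem b) :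
    x ∈ LinearMap.range (LR a b) ↔ a * x = x ∧ x * b = x := by
  constructor
  · rintro ⟨y, rfl⟩
    rw [LR_apply, ← mul_assoc, ← mul_assoc, ha.eq, mul_assoc _ b, hb.eq]
    exact ⟨rfl, rfl⟩
  · rintro ⟨h1, h2⟩
    exact ⟨x, by rw [LR_apply, h1, h2]⟩

/-- The matrix of `x ↦ a x b`. -/
noncomputable def LRm (a b : R[G]) : Matrix G G R :=
  Matrix.of fun x y => (a * single y 1 * b).coeff x

theorem toMatrix_LR [Fintype G] (a b : R[G]) :
    LinearMap.toMatrix (basis G R) (basis G R) (LR a b) = LRm a b := by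
  ext x y
  rw [LinearMap.toMatrix_apply, basis_apply, LR_apply]
  rfl

theorem LRm_map (f : R →+* S) (a b : R[G]) : (LRm a b).map f = LRm (cf f a) (cf f b) := by
  ext x y
  simp only [LRm, Matrix.map_apply, Matrix.of_apply, ← coeff_cf, map_mul, cf_single, map_one]

theorem idem_LRm [Fintype G] {a b : R[G]} (ha : IsIdempotentElem a) (hb : IsIdempotentElem b) :
    IsIdempotentElem (LRm a b) := by
  rw [← toMatrix_LR]
  exact (idem_LR ha hb).map (LinearMap.toMatrixAlgEquiv (basis G R))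

theorem rank_LRm [Fintype G] {k : Type*} [Field k] (a b : k[G]) :
    (LRm a b).rank = finrank k (LinearMap.range (LR a b)) := by
  rw [Matrix.rank_eq_finrank_range_toLin _ (basis G k) (basis G k), ← toMatrix_LR,
    Matrix.toLin_toMatrix]

theorem trace_LRm [Fintype G] (a b : ℂ[G]) :
    (LRm a b).trace = ∑ χ : IrrCharacter G, ch χ a * ch χ b := by
  have h1 : ∀ χ : IrrCharacter G, ch χ a * ch χ b =
      ∑ y, b.coeff y * (ch χ a * conj (χ.1 y⁻¹)) := fun χ => by
    rw [ch_eq_sum _ b, Finset.mul_sum]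
    exact Finset.sum_congr rfl fun y _ => by
      rw [χ.2.isCharacter.apply_inv, Complex.conj_conj]; ring
  simp only [h1]
  rw [Finset.sum_comm]
  simp only [← Finset.mul_sum, sum_ch_mul_conj]
  simp only [Finset.mul_sum]
  rw [Finset.sum_comm]
  refine Finset.sum_congr rfl fun x _ => ?_
  rw [Matrix.diag_apply, LRm, Matrix.of_apply, coeff_mul_right]
  exact Finset.sum_congr rfl fun y _ => by rw [coeff_mul_single_apply, mul_one, mul_comm]

variable [Finite G] {M : Ideal AlgInt} {p : ℕ} [PMod M p] {i j : (kk M)[G]}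
  {B : Set (IrrCharacter G)}

theorem finrank_LR (hi : IsIdempotentElem i) (hj : IsIdempotentElem j) :
    finrank (kk M) (LinearMap.range (LR i j)) = ∑ χ : IrrCharacter G, dm χ i * dm χ j := by
  have := Fintype.ofFinite G
  obtain ⟨h1, h2⟩ := il_top hi
  obtain ⟨h3, h4⟩ := il_top hj
  have h5 := rank_map_idem (res M) res_surjective (O M).subtype Subtype.val_injective
    (idem_LRm h1 h3)
  rw [LRm_map, LRm_map] at h5
  erw [h2, h4] at h5
  rw [← rank_LRm, h5]
  apply Nat.cast_injective (R := ℂ)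
  rw [rank_idem_eq_trace (idem_LRm (h1.map _) (h3.map _)), trace_LRm]
  push_cast
  exact Finset.sum_congr rfl fun χ _ => by rw [dm_cast χ hi, dm_cast χ hj]; rfl

theorem dm_one (χ : IrrCharacter G) : dm χ (1 : (kk M)[G]) = charDegree χ.1 := by
  apply Nat.cast_injective (R := ℂ)
  rw [dm_cast χ .one, dc_one χ.2.isClassFunction, cast_deg]

theorem IsUB.dm_bar_mul (hB : IsUB M B) (hi : IsIdempotentElem i) (χ : IrrCharacter G) :
    dm χ (bar M B * i) = if χ ∈ B then dm χ i else 0 := by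
  apply Nat.cast_injective (R := ℂ)
  rw [dm_cast χ (idem_bar_mul hB hi), hB.dc_bar_mul χ.2.isClassFunction hi]
  split_ifs with h
  · rw [blockPart_irr_of_mem h, dm_cast χ hi]
  · rw [blockPart_irr_of_notMem h, dc_zero_left, Nat.cast_zero]

theorem IsUB.finrank_bar (hB : IsUB M B) :
    finrank (kk M) (LinearMap.range (LR (bar M B) 1)) = ∑ χ ∈ fs B, charDegree χ.1 ^ 2 := by
  rw [finrank_LR hB.bar_idem .one, ← sum_ite_fs]
  refine Finset.sum_congr rfl fun χ _ => ?_
  rw [← mul_one (bar M B), hB.dm_bar_mul .one, dm_one]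
  split_ifs <;> simp [sq]

end

section
variable {G : Type*} [Group G] {k : Type*} [Field k] {p : ℕ} [Fact p.Prime] [CharP k p]
  {H P Q R D S : Subgroup G} {b v c : k[G]} {x y g : G}

omit [Fact p.Prime] in
theorem isPGroup_prod (hP : IsPGroup p P) (hQ : IsPGroup p Q) : IsPGroup p (P × Q) := by
  rintro ⟨a, b⟩
  obtain ⟨i, hi⟩ := hP a
  obtain ⟨j, hj⟩ := hQ b
  refine ⟨i + j, Prod.ext ?_ ?_⟩
  · rw [Prod.pow_fst, pow_add, pow_mul, hi, one_pow, Prod.fst_one]
  · rw [Prod.pow_snd, add_comm, pow_add, pow_mul, hj, one_pow, Prod.snd_one]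

theorem exists_bifixed [Finite G] (hS : IsPGroup p S) (W : Submodule k k[G])
    (hW : ∀ s ∈ S, ∀ t ∈ S, ∀ w ∈ W, single s (1 : k) * w * single t 1 ∈ W) (hv : v ∈ W)
    (hv0 : v ≠ 0) : ∃ w ∈ W, w ≠ 0 ∧ ∀ s ∈ S, ∀ t ∈ S, ∀ y, w.coeff (s * y * t) = w.coeff y := by
  let ρ : Representation k (S × S) k[G] :=
    { toFun := fun x => LR (single (x.1 : G) (1 : k)) (single (x.2 : G)⁻¹ 1)
      map_one' := by apply LinearMap.ext; intro v; simp [LR_apply, ← one_def]
      map_mul' := fun x y => by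
        apply LinearMap.ext; intro v
        simp only [LR_apply, Module.End.mul_apply, Prod.fst_mul, Prod.snd_mul, Subgroup.coe_mul,
          mul_inv_rev]
        rw [← mul_one (1 : k), ← single_mul_single, ← single_mul_single]
        simp only [mul_assoc, mul_one] }
  obtain ⟨w, hw, hw0, h⟩ := exists_fixed_vector (isPGroup_prod hS hS) ρ W.toAddSubgroup
    (fun x w hw => by
      change LR _ _ w ∈ W
      rw [LR_apply]; exact hW _ x.1.2 _ (inv_mem x.2.2) w hw) hv hv0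
  refine ⟨w, hw, hw0, fun s hs t ht y => ?_⟩
  have h1 := h (⟨s, hs⟩, ⟨t⁻¹, inv_mem ht⟩)
  change LR _ _ w = w at h1
  conv_lhs => rw [← h1, LR_apply, coeff_mul_single_apply, coeff_single_mul_apply]
  simp [mul_assoc]

omit [Fact p.Prime] [CharP k p] in
theorem mul_single_mem_inv (h : ∀ u ∈ Q, single u (1 : k) * c * single (g⁻¹ * u⁻¹ * g) 1 = c) :
    c * single g⁻¹ 1 ∈ inv k Q := by
  refine mem_inv.2 fun u hu => ?_
  conv_rhs => rw [← h u hu]
  simp only [cj_eq, mul_assoc, single_mul_single, mul_one, mul_inv_cancel]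

theorem card_dcoset [Finite G] (S : Subgroup G) (y : G) :
    Nat.card S * Nat.card S ≤
      Nat.card {z // ∃ s ∈ S, ∃ t ∈ S, s * y * t = z} * Nat.card ↥(S ⊓ cs y S) := by
  letI : MulAction (S × S) G :=
    { smul := fun a z => a.1 * z * (a.2 : G)⁻¹
      one_smul := fun z => by change ((1 : S) : G) * z * ((1 : S) : G)⁻¹ = z; simp
      mul_smul := fun a b z => by
        change ((a.1 * b.1 : S) : G) * z * ((a.2 * b.2 : S) : G)⁻¹ =
          a.1 * (b.1 * z * (b.2 : G)⁻¹) * (a.2 : G)⁻¹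
        simp [mul_assoc] }
  have h1 := Nat.card_congr (MulAction.orbitProdStabilizerEquivGroup (S × S) y)
  rw [Nat.card_prod, Nat.card_prod] at h1
  rw [← h1]
  refine Nat.mul_le_mul (Nat.card_le_card_of_injective
    (fun z => ⟨z.1, by
      obtain ⟨a, ha⟩ := z.2
      exact ⟨a.1, a.1.2, (a.2 : G)⁻¹, inv_mem a.2.2, ha⟩⟩)
    fun a b h => Subtype.ext (Subtype.mk.inj h)) (Nat.card_le_card_of_injective
    (fun z => ⟨z.1.1, mi z.1.1.2 (mem_cs.2 ?_)⟩) fun a b h => ?_)
  · have h2 : (z.1.1 : G) * y * (z.1.2 : G)⁻¹ = y := z.2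
    rw [mul_assoc, mul_inv_eq_iff_eq_mul.1 h2, inv_mul_cancel_left]
    exact z.1.2.2
  · have h2 : (a.1.1 : G) * y * (a.1.2 : G)⁻¹ = y := a.2
    have h3 : (b.1.1 : G) * y * (b.1.2 : G)⁻¹ = y := b.2
    have h4 : (a.1.1 : G) = b.1.1 := Subtype.mk.inj h
    refine Subtype.ext (Prod.ext (Subtype.ext h4) (Subtype.ext ?_))
    have h5 := h2.trans h3.symm
    rwa [h4, mul_right_inj, inv_inj] at h5

theorem exists_dcoset [Finite G] (hS : IsPGroup p S) (hb : IsBlock ⊤ b) (hD : IsDef p ⊤ b D)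
    (hDS : D ≤ S) (hdim : finrank k (LinearMap.range (LR b 1)) * Nat.card D ≤
      Nat.card S * Nat.card S) : ∃ y ∈ Ce D, S ⊓ cs y S = D ∧ ∀ Q ≤ S, ∀ g,
        (∀ u ∈ Q, g⁻¹ * u * g ∈ S) → Br Q b ≠ 0 → ∃ w ∈ Ce Q, ∃ s ∈ S, ∃ t ∈ S, s * y * t = w * g := by
  have := Fintype.ofFinite G
  have hc : ∀ a, b * a = a * b := fun a => (Z_top_comm hb.mem a).eq
  have hW : ∀ a, a ∈ LinearMap.range (LR b 1) ↔ b * a = a := fun a => by
    rw [mem_range_LR hb.idem .one, mul_one, and_iff_left rfl]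
  obtain ⟨v, hv, hv0, hvf⟩ := exists_bifixed hS (LinearMap.range (LR b 1))
    (fun s _ t _ w hw => by
      rw [hW] at hw ⊢
      rw [← mul_assoc, ← mul_assoc, hc, mul_assoc _ b, hw]) ((hW b).2 hb.idem) hb.ne
  rw [hW] at hv
  have h1 : ∀ y, v.coeff y ≠ 0 → Nat.card ↥(S ⊓ cs y S) ≤ Nat.card D := fun y hy => by
    have hR : IsPGroup p (S ⊓ cs y S : Subgroup G) := isPGroup_le hS inf_le_left
    have h2 : v * single y⁻¹ 1 ∈ inv k (S ⊓ cs y S) := mem_inv'.2 fun u hu g => by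
      rw [coeff_mul_single_apply, coeff_mul_single_apply, inv_inv,
        ← hvf u (mi1 hu) (y⁻¹ * u⁻¹ * y) (mem_cs.1 (inv_mem (mi2 hu))) (g * y)]
      congr 2; group
    refine hD.card_le le_top hR fun h3 => hy ?_
    have h4 := Br_mul hR (inv_anti le_top hb.inv) h2
    rw [h3, zero_mul, ← mul_assoc, hv] at h4
    have h5 := congrArg (fun a => a.coeff 1) h4
    simpa [coeff_Br _ (one_mem _), coeff_mul_single_apply] using h5
  set Oc : G → Set G := fun y => {z | ∃ s ∈ S, ∃ t ∈ S, s * y * t = z} with hOc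
  have hO1 : ∀ y, y ∈ Oc y := fun y => ⟨1, one_mem _, 1, one_mem _, by simp⟩
  have hO2 : ∀ y z, ∀ s ∈ S, ∀ t ∈ S, z ∈ Oc y → s * z * t ∈ Oc y := by
    rintro y _ s hs t ht ⟨a, ha, c, hc, rfl⟩
    exact ⟨s * a, mul_mem hs ha, c * t, mul_mem hc ht, by group⟩
  have hO3 : ∀ y z, z ∈ Oc y → y ∈ Oc z := by
    rintro y _ ⟨a, ha, c, hc, rfl⟩
    exact ⟨a⁻¹, inv_mem ha, c⁻¹, inv_mem hc, by group⟩
  have hO4 : ∀ x y z, y ∈ Oc x → z ∈ Oc y → z ∈ Oc x := by
    rintro x y _ h ⟨a, ha, c, hc, rfl⟩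
    exact hO2 _ _ a ha c hc h
  obtain ⟨y0, hy0, hy1⟩ : ∃ y0, v.coeff y0 ≠ 0 ∧
      b * ofFun (fun z => if z ∈ Oc y0 then (1 : k) else 0) ≠ 0 := by
    by_contra hn
    push Not at hn
    let r : Setoid G := ⟨fun y z => z ∈ Oc y, hO1, fun {y z} => hO3 y z,
      fun {x y z} => hO4 x y z⟩
    have h2 : v = ∑ c : Quotient r, v.coeff c.out • ofFun fun z => if z ∈ Oc c.out then (1 : k) else 0 := by
      refine ext' fun z => ?_
      rw [coeff_sum', Finset.sum_eq_single (Quotient.mk r z)]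
      · have h3 : z ∈ Oc (Quotient.mk r z).out := Quotient.mk_out (s := r) z
        rw [coeff_smul', coeff_ofFun, if_pos h3, mul_one]
        obtain ⟨a, ha, c, hc, h4⟩ := h3
        conv_lhs => rw [← h4, hvf a ha c hc]
      · intro c _ hc
        rw [coeff_smul', coeff_ofFun, if_neg, mul_zero]
        exact fun h => hc ((Quotient.out_eq c).symm.trans (Quotient.sound h))
      · simp
    apply hv0
    rw [← hv, h2, Finset.mul_sum]
    refine Finset.sum_eq_zero fun c _ => ?_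
    by_cases h3 : v.coeff c.out = 0
    · rw [h3, zero_smul, mul_zero]
    · rw [mul_smul_comm, hn _ h3, smul_zero]
  have hV : ∀ s ∈ S, ∀ t ∈ S, ∀ w ∈ supported k k (Oc y0),
      single s (1 : k) * w * single t 1 ∈ supported k k (Oc y0) := fun s hs t ht w hw => by
    rw [mem_supported'] at hw ⊢
    intro z hz
    rw [coeff_mul_single_apply, coeff_single_mul_apply, hw, mul_zero, zero_mul]
    exact fun h => hz (by simpa [mul_assoc] using hO2 _ _ s hs t ht h)
  have hinj : ∀ w ∈ supported k k (Oc y0), b * w = 0 → w = 0 := fun w hw hbw => by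
    by_contra hw0
    obtain ⟨w', ⟨h2, h3⟩, h4, h5⟩ := exists_bifixed hS
      (supported k k (Oc y0) ⊓ LinearMap.ker (LinearMap.mulLeft k b))
      (fun s hs t ht w hw => ⟨hV s hs t ht w hw.1, by
        have h2 : b * w = 0 := hw.2
        change b * _ = 0
        rw [← mul_assoc, ← mul_assoc, hc, mul_assoc _ b, h2, mul_zero, zero_mul]⟩) ⟨hw, hbw⟩ hw0
    have h6 : w' = w'.coeff y0 • ofFun fun z => if z ∈ Oc y0 then (1 : k) else 0 := by
      refine ext' fun z => ?_
      rw [coeff_smul', coeff_ofFun]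
      split_ifs with h
      · obtain ⟨a, ha, c, hc, rfl⟩ := h
        rw [h5 a ha c hc, mul_one]
      · rw [mem_supported'.1 h2 z h, mul_zero]
    have h7 : b * w' = 0 := h3
    rw [h6, mul_smul_comm, smul_eq_zero] at h7
    exact h4 (by rw [h6, h7.resolve_right hy1, zero_smul])
  have hsurj : ∀ a, ∃ w ∈ supported k k (Oc y0), b * w = b * a := fun a => by
    have h2 : LinearMap.range ((LR b 1).domRestrict (supported k k (Oc y0))) =
        LinearMap.range (LR b 1) := by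
      refine Submodule.eq_of_le_of_finrank_le (by rintro _ ⟨w, rfl⟩; exact ⟨w, rfl⟩) ?_
      rw [LinearMap.finrank_range_of_inj (f := (LR b 1).domRestrict _), (supportedEquivFinsupp (Oc y0)).finrank_eq,
        finrank_finsupp_self, ← Nat.card_eq_fintype_card]
      · refine Nat.le_of_mul_le_mul_right (hdim.trans ((card_dcoset S y0).trans
          (Nat.mul_le_mul_left _ (h1 y0 hy0)))) Nat.card_pos
      · rw [injective_iff_map_eq_zero]
        exact fun w hw => Subtype.ext (hinj w w.2 (by simpa [LR_apply] using hw))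
    obtain ⟨w, hw⟩ := h2.ge ⟨a, rfl⟩
    exact ⟨w, w.2, by simpa [LR_apply] using hw⟩
  have hmain : ∀ Q ≤ S, ∀ g, (∀ u ∈ Q, g⁻¹ * u * g ∈ S) → Br Q b ≠ 0 →
      ∃ w ∈ Ce Q, w * g ∈ Oc y0 := fun Q hQ g hg hQb => by
    obtain ⟨c, hc1, hc2⟩ := hsurj (single g 1)
    have h2 : c * single g⁻¹ 1 ∈ inv k Q := mul_single_mem_inv fun u hu => by
      rw [← sub_eq_zero]
      refine hinj _ (sub_mem (hV u (hQ hu) _ (hg _ (inv_mem hu)) c hc1) hc1) ?_
      rw [mul_sub, ← mul_assoc, ← mul_assoc, hc, mul_assoc _ b, hc2, ← mul_assoc, ← hc,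
        mul_assoc, mul_assoc, single_mul_single, single_mul_single, sub_eq_zero]
      congr 2
      · group
      · simp
    have h3 := Br_mul (isPGroup_le hS hQ) (inv_anti le_top hb.inv) h2
    rw [← mul_assoc, hc2, mul_assoc, single_mul_single, mul_inv_cancel, mul_one, ← one_def,
      mul_one] at h3
    obtain ⟨w, hw, h4⟩ := Br_ne_zero_iff.1 (right_ne_zero_of_mul (h3 ▸ hQb))
    rw [coeff_mul_single_apply, mul_one, inv_inv] at h4
    exact ⟨w, hw, by_contra fun h => h4 (mem_supported'.1 hc1 _ h)⟩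
  obtain ⟨y, hy, hy2⟩ := hmain D hDS 1 (by simpa using fun u hu => hDS hu) hD.ne
  rw [mul_one] at hy2
  refine ⟨y, hy, ?_, fun Q hQ g hg hQb => ?_⟩
  · refine (Subgroup.eq_of_le_of_card_ge (le_inf hDS ?_) (h1 y ?_)).symm
    · exact (mem_No.1 (Ce_le_No D hy)).symm.le.trans (cs_mono y hDS)
    · obtain ⟨a, ha, c, hc, rfl⟩ := hy2
      rwa [hvf a ha c hc]
  · obtain ⟨w, hw, h2⟩ := hmain Q hQ g hg hQb
    exact ⟨w, hw, hO4 _ _ _ (hO3 _ _ hy2) h2⟩

theorem nilp_of_finrank [Finite G] (hb : IsBlock ⊤ b) (hD : IsDef p ⊤ b D)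
    (hdim : finrank k (LinearMap.range (LR b 1)) * Nat.card D ≤
      p ^ (2 * (Nat.card G).factorization p)) : IsNilp p ⊤ b := by
  refine ⟨hb, fun Q f hf hBf x hx hxp => ?_⟩
  obtain ⟨S, hS, hQS⟩ := exists_isSyl_ge hf.pg le_top
  obtain ⟨z, -, hz⟩ := hS.exists_cs_le hD.pg le_top
  have hxQ : x ∈ No Q := mi2 (stab_le _ _ hx)
  obtain ⟨y, hy, h1, h2⟩ := exists_dcoset hS.pg hb (hD.cs_of_mem hb.inv trivial) hz (by
    rwa [card_cs, hS.card_eq, Subgroup.card_top, ← pow_add, ← two_mul])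
  obtain ⟨w, hw, s, hs, t, ht, h3⟩ := h2 Q hQS x⁻¹
    (fun u hu => hQS (by rw [inv_inv]; exact conj_mem_of_No hxQ hu))
    (Br_ne_zero_of_mul_eq hf.blk.ne hBf)
  refine mem_Ce_of_preg_of_conj_eq hxp (pelt_of_mem hS.pg (inv_mem (mul_mem hs ht))) hxQ
    fun u hu => ?_
  have h4 : y⁻¹ * (s⁻¹ * u * s) * y = t * (x * u * x⁻¹) * t⁻¹ := by
    have h5 : y = s⁻¹ * (w * x⁻¹) * t⁻¹ := by rw [← h3]; group
    have h6 : u = w * u * w⁻¹ := by rw [← mem_Ce.1 hw u hu]; group
    conv_lhs => rw [h5, h6]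
    group
  have h5 : s⁻¹ * u * s ∈ cs z D := by
    rw [← h1]
    refine mi (mul_mem (mul_mem (inv_mem hs) (hQS hu)) hs) (mem_cs.2 ?_)
    rw [h4]
    exact mul_mem (mul_mem ht (hQS (conj_mem_of_No hxQ hu))) (inv_mem ht)
  rw [mul_assoc, mem_Ce.1 hy _ h5, inv_mul_cancel_left] at h4
  calc x * u * x⁻¹ = t⁻¹ * (t * (x * u * x⁻¹) * t⁻¹) * t := by group
    _ = _ := by rw [← h4]; group

end

section
variable {G : Type*} [Group G] [Finite G] {M : Ideal AlgInt} {p : ℕ} [PMod M p]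
  {B : Set (IrrCharacter G)} {I : Finset (kk M)[G]}

theorem Pts.pow_dvd_pim (h : Pts B I) (i : I) : ∃ n : ℕ, n ≠ 0 ∧
    pim B i.1 1 = (p ^ (Nat.card G).factorization p * n : ℕ) := by
  haveI : Fact p.Prime := ⟨PMod.prime M⟩
  have := Fintype.ofFinite G
  obtain ⟨S, hS⟩ := exists_isSyl p (⊤ : Subgroup G)
  have := Fintype.ofFinite S
  obtain ⟨n, hn⟩ := ((isCharacter_pim (B := B) i.1).res S).classInner_eq_nat
    (isCharacter_one (G := S))
  have h1 : pim B i.1 1 = (p ^ (Nat.card G).factorization p * n : ℕ) := by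
    rw [classInner, Finset.sum_eq_single (1 : S), hS.card_eq,
      Subgroup.card_top, inv_mul_eq_iff_eq_mul₀ (Nat.cast_ne_zero.2 (pow_ne_zero _
        (PMod.prime M).ne_zero))] at hn
    · simpa using hn
    · intro s _ hs
      have h2 := congrFun (h.ub.reg_pim (h.idem i)) s
      rw [reg_of_dvd (dvd_orderOf_of_pelt (pelt_of_mem hS.pg s.2) fun h => hs (Subtype.ext h))] at h2
      simp [← h2]
    · simp
  refine ⟨n, ?_, h1⟩
  rintro rfl
  have h2 := (isCharacter_pim (B := B) i.1).eq_zero_of_apply_one (by simpa using h1)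
  have h3 := h.classInner_ibr_pim i i
  simp [h2, classInner] at h3

theorem _root_.Cfsg.IsPBlock.sum_sq_eq (hB : IsPBlock M B) {g : ℕ}
    (hg1 : ∀ χ ∈ B, g ∣ charDegree χ.1) (hg2 : p ^ mnu p B ∣ g) : g.factorization p = mnu p B ∧
    ∃ v : ℕ, ¬ p ∣ v ∧ blockRank p B ≤ v ∧ ∑ χ ∈ fs B, charDegree χ.1 ^ 2 =
      p ^ ((Nat.card G).factorization p + mnu p B) * (g / p ^ mnu p B) ^ 2 * v := by
  haveI : Fact p.Prime := ⟨PMod.prime M⟩
  have hp := PMod.prime M
  have := Fintype.ofFinite G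
  obtain ⟨ψ, hψ, h0⟩ := exists_nu_eq_mnu p hB.nonempty
  have hg0 : g ≠ 0 := ne_zero_of_dvd_ne_zero (charDegree_ne_zero ψ) (hg1 ψ hψ)
  have hf : g.factorization p = mnu p B := le_antisymm
    (h0 ▸ (Nat.factorization_le_iff_dvd hg0 (charDegree_ne_zero ψ)).2 (hg1 ψ hψ) p)
    ((hp.pow_dvd_iff_le_factorization hg0).1 hg2)
  obtain ⟨g', rfl⟩ := hg2
  have hg' : ¬ p ∣ g' := by
    rw [Nat.factorization_mul (left_ne_zero_of_mul hg0) (right_ne_zero_of_mul hg0),
      Finsupp.add_apply, factorization_pow_self] at hf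
    exact fun h => (hp.factorization_pos_of_dvd (right_ne_zero_of_mul hg0) h).ne' (by omega)
  rw [Nat.mul_div_cancel_left _ (pow_pos hp.pos _)]
  obtain ⟨I, h⟩ := hB.isUB.exists_pts
  choose n hn0 hn using h.exists_ibr_one
  choose m hm0 hm using h.pow_dvd_pim
  have h1 : ∀ i, p ^ mnu p B * g' ∣ n i := fun i => by
    obtain ⟨c, hc⟩ := h.exists_int_comb i
    have h2 := congrFun hc 1
    rw [hn, Finset.sum_apply] at h2
    simp only [Pi.smul_apply, reg_of_preg preg_one, ← cast_deg, smul_eq_mul] at h2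
    have h3 : (n i : ℤ) = ∑ χ ∈ fs B, c χ * charDegree χ.1 := by exact_mod_cast h2
    exact Int.natCast_dvd_natCast.1 (h3 ▸ Finset.dvd_sum fun χ hχ =>
      (Int.natCast_dvd_natCast.2 (hg1 χ (mem_fs.1 hχ))).mul_left _)
  have h3 : ∀ i, p ^ (Nat.card G).factorization p * m i = ∑ χ ∈ fs B, dm χ i.1 * charDegree χ.1 :=
    fun i => by
      have h2 := hm i
      rw [pim, Finset.sum_apply] at h2
      simp only [Pi.smul_apply, ← cast_deg, smul_eq_mul] at h2
      exact_mod_cast h2.symm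
  have h2 : ∀ i, g' ∣ m i := fun i =>
    (Nat.Coprime.pow_right _ ((Nat.coprime_comm.1 (hp.coprime_iff_not_dvd.2 hg')))).dvd_of_dvd_mul_left
      (h3 i ▸ Finset.dvd_sum fun χ hχ =>
        ((Dvd.intro_left _ rfl).trans (hg1 χ (mem_fs.1 hχ))).mul_left _)
  choose r hr using h1
  choose m' hm' using h2
  have h4 : ∑ χ ∈ fs B, charDegree χ.1 ^ 2 =
      p ^ ((Nat.card G).factorization p + mnu p B) * g' ^ 2 * ∑ i, m' i * r i := by
    have h5 : ∀ χ ∈ fs B, charDegree χ.1 ^ 2 = ∑ i : I, dm χ i.1 * charDegree χ.1 * n i :=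
      fun χ hχ => by
        have h6 := congrFun (h.reg_eq (mem_fs.1 hχ)) 1
        rw [reg_of_preg preg_one, Finset.sum_apply] at h6
        simp only [Pi.smul_apply, hn, ← cast_deg, smul_eq_mul] at h6
        have h7 : charDegree χ.1 = ∑ i : I, dm χ i.1 * n i := by exact_mod_cast h6
        rw [sq]
        nth_rw 2 [h7]
        rw [Finset.mul_sum]
        exact Finset.sum_congr rfl fun i _ => by ring
    rw [Finset.sum_congr rfl h5, Finset.sum_comm, Finset.mul_sum]
    refine Finset.sum_congr rfl fun i _ => ?_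
    rw [← Finset.sum_mul, ← h3, hm', hr]
    ring
  refine ⟨hf, _, fun h5 => ?_, ?_, h4⟩
  · have h6 := hB.factorization_sum_sq (p := p)
    have h7 : ∑ χ ∈ fs B, charDegree χ.1 ^ 2 ≠ 0 := fun h => pow_ne_zero 2 (charDegree_ne_zero ψ)
      (Finset.sum_eq_zero_iff.1 h ψ (mem_fs.2 hψ))
    have h8 : p ^ ((Nat.card G).factorization p + mnu p B + 1) ∣
        ∑ χ ∈ fs B, charDegree χ.1 ^ 2 := by
      rw [h4, pow_succ, mul_assoc]
      exact mul_dvd_mul_left _ (h5.mul_left _)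
    rw [hp.pow_dvd_iff_le_factorization h7, h6] at h8
    have h9 := defect_add_mnu (p := p) hB.nonempty
    omega
  · rw [← h.card_eq, ← Fintype.card_coe, ← Finset.card_univ, Finset.card_eq_sum_ones]
    refine Finset.sum_le_sum fun i _ => Nat.one_le_iff_ne_zero.2 (mul_ne_zero ?_ ?_)
    · exact right_ne_zero_of_mul (hm' i ▸ hm0 i)
    · exact right_ne_zero_of_mul (hr i ▸ hn0 i)

end

end Cfsg.Agent.Blk
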