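import Cfsg.Agent.Lib.Block.Defect

/-!
Transport of the block-theoretic notions along an injective group homomorphism, and along a
change of coefficients.
-/

namespace Cfsg.Agent.Blk

open MonoidAlgebra

variable {R S : Type*} [CommRing R] [CommRing S] {k : Type*} [Field k] {G H : Type*} [Group G]
  [Group H] {p : ℕ}

/-- The algebra map induced by a group homomorphism. -/
noncomputable def emb (φ : H →* G) : R[H] →ₐ[R] R[G] := mapDomainAlgHom R R φ

@[simp] theorem emb_single (φ : H →* G) (h : H) (r : R) : emb φ (single h r) = single (φ h) r := by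
  simp [emb]

theorem coeff_emb {φ : H →* G} (hφ : Function.Injective φ) (a : R[H]) (h : H) :
    (emb φ a).coeff (φ h) = a.coeff h := Finsupp.mapDomain_apply hφ _ _

theorem coeff_emb_of_notMem (φ : H →* G) (a : R[H]) {g : G} (hg : g ∉ φ.range) :
    (emb φ a).coeff g = 0 := Finsupp.mapDomain_of_notMem_range _ _ hg

theorem emb_injective {φ : H →* G} (hφ : Function.Injective φ) :
    Function.Injective (emb φ : R[H] → R[G]) := mapDomain_injective hφ

@[simp] theorem emb_id (a : R[G]) : emb (MonoidHom.id G) a = a := by simp [emb]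

theorem emb_emb {L : Type*} [Group L] (φ : H →* G) (ψ : L →* H) (a : R[L]) :
    emb φ (emb ψ a) = emb (φ.comp ψ) a := by
  have := mapDomainAlgHom_comp (R := R) (A := R) ψ φ
  exact (DFunLike.congr_fun this a).symm

theorem emb_cj (φ : H →* G) (x : H) (a : R[H]) : emb φ (cj x a) = cj (φ x) (emb φ a) := by
  simp [cj_eq]

theorem emb_mem_sup (φ : H →* G) {K : Subgroup H} {a : R[H]} (ha : a ∈ sup R K) :
    emb φ a ∈ sup R (K.map φ) := by
  rw [← sum_coeff_single a, Finsupp.sum, map_sum]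
  apply Subalgebra.sum_mem
  intro h hh
  rw [emb_single]
  exact single_mem_sup (Subgroup.mem_map_of_mem φ
    (mem_of_coeff_ne_zero ha (Finsupp.mem_support_iff.1 hh))) _

theorem emb_mem_inv (φ : H →* G) {K : Subgroup H} {a : R[H]} (ha : a ∈ inv R K) :
    emb φ a ∈ inv R (K.map φ) := by
  rintro _ ⟨x, hx, rfl⟩
  rw [← emb_cj, ha x hx]

theorem emb_mem_Z (φ : H →* G) {K : Subgroup H} {a : R[H]} (ha : a ∈ Z R K) :
    emb φ a ∈ Z R (K.map φ) := ⟨emb_mem_sup φ ha.1, emb_mem_inv φ ha.2⟩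

variable {φ : H →* G}

theorem emb_mem_sup_iff (hφ : Function.Injective φ) {K : Subgroup H} {a : R[H]} :
    emb φ a ∈ sup R (K.map φ) ↔ a ∈ sup R K := by
  refine ⟨fun h x hx => ?_, emb_mem_sup φ⟩
  rw [← coeff_emb hφ]
  exact h _ fun h1 => hx ((Subgroup.mem_map_iff_mem hφ).1 h1)

theorem emb_mem_inv_iff (hφ : Function.Injective φ) {K : Subgroup H} {a : R[H]} :
    emb φ a ∈ inv R (K.map φ) ↔ a ∈ inv R K := by
  refine ⟨fun h x hx => emb_injective hφ ?_, emb_mem_inv φ⟩
  rw [emb_cj, h _ ⟨x, hx, rfl⟩]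

theorem emb_mem_Z_iff (hφ : Function.Injective φ) {K : Subgroup H} {a : R[H]} :
    emb φ a ∈ Z R (K.map φ) ↔ a ∈ Z R K := by
  rw [mem_Z, mem_Z, emb_mem_sup_iff hφ, emb_mem_inv_iff hφ]

theorem emb_comapDomain (hφ : Function.Injective φ) (a : R[G]) :
    emb φ (comapDomain φ hφ a) = tr (φ.range : Set G) a := by
  apply ext'
  intro g
  by_cases hg : g ∈ φ.range
  · rw [coeff_tr_of_mem _ hg]
    obtain ⟨h, rfl⟩ := hg
    rw [coeff_emb hφ]; rfl
  · rw [coeff_tr_of_notMem _ hg, coeff_emb_of_notMem _ _ hg]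

theorem exists_emb_eq (hφ : Function.Injective φ) {K : Subgroup H} {a : R[G]}
    (ha : a ∈ sup R (K.map φ)) : ∃ b, emb φ b = a :=
  ⟨_, (emb_comapDomain hφ a).trans (tr_of_mem_sup (sup_mono (K.map_le_range φ) ha))⟩

theorem emb_tr (hφ : Function.Injective φ) (T : Set G) (a : R[H]) :
    tr T (emb φ a) = emb φ (tr (φ ⁻¹' T) a) := by
  apply ext'
  intro g
  by_cases hg : g ∈ φ.range
  · obtain ⟨h, rfl⟩ := hg
    rw [coeff_emb hφ, coeff_tr, coeff_tr, coeff_emb hφ]; rfl
  · rw [coeff_emb_of_notMem _ _ hg, coeff_tr, coeff_emb_of_notMem _ _ hg, ite_self]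

theorem comap_Ce_map (hφ : Function.Injective φ) (Q : Subgroup H) :
    (Ce (Q.map φ)).comap φ = Ce Q := by
  ext h
  simp only [Subgroup.mem_comap, mem_Ce, Subgroup.mem_map, forall_exists_index, and_imp,
    forall_apply_eq_imp_iff₂, ← map_mul, hφ.eq_iff]

theorem comap_Ce1_map (hφ : Function.Injective φ) (g : H) :
    (Ce1 (φ g)).comap φ = Ce1 g := by
  ext h
  simp only [Subgroup.mem_comap, mem_Ce1, ← map_mul, hφ.eq_iff]

theorem map_inf_comap' (φ : H →* G) (K : Subgroup H) (L : Subgroup G) :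
    (K ⊓ L.comap φ).map φ = K.map φ ⊓ L := by
  ext g
  constructor
  · rintro ⟨x, ⟨h1, h2⟩, rfl⟩; exact ⟨⟨x, h1, rfl⟩, h2⟩
  · rintro ⟨⟨x, h1, rfl⟩, h2⟩; exact ⟨x, ⟨h1, h2⟩, rfl⟩

theorem map_inf_Ce1 (hφ : Function.Injective φ) (K : Subgroup H) (g : H) :
    (K ⊓ Ce1 g).map φ = K.map φ ⊓ Ce1 (φ g) := by
  rw [← comap_Ce1_map hφ, map_inf_comap']

theorem map_inf_Ce (hφ : Function.Injective φ) (K Q : Subgroup H) :
    (K ⊓ Ce Q).map φ = K.map φ ⊓ Ce (Q.map φ) := by
  rw [← comap_Ce_map hφ, map_inf_comap']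

theorem map_cs (φ : H →* G) (x : H) (Q : Subgroup H) : (cs x Q).map φ = cs (φ x) (Q.map φ) := by
  rw [cs, cs, Subgroup.map_map, Subgroup.map_map]
  congr 1
  ext; simp

theorem comap_No_map (hφ : Function.Injective φ) (Q : Subgroup H) :
    (No (Q.map φ)).comap φ = No Q := by
  ext h
  rw [Subgroup.mem_comap, mem_No, mem_No, ← map_cs, (Subgroup.map_injective hφ).eq_iff]

theorem map_inf_No (hφ : Function.Injective φ) (K Q : Subgroup H) :
    (K ⊓ No Q).map φ = K.map φ ⊓ No (Q.map φ) := by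
  rw [← comap_No_map hφ, map_inf_comap']

theorem emb_tr_map (hφ : Function.Injective φ) (K : Subgroup H) (a : R[H]) :
    tr (K.map φ : Set G) (emb φ a) = emb φ (tr (K : Set H) a) := by
  rw [emb_tr hφ, Subgroup.coe_map, Set.preimage_image_eq _ hφ]

theorem emb_Br (hφ : Function.Injective φ) (Q : Subgroup H) (a : R[H]) :
    Br (Q.map φ) (emb φ a) = emb φ (Br Q a) := by
  rw [emb_tr hφ, Br, ← comap_Ce_map hφ]; rfl

theorem emb_cls [Finite G] [Finite H] (hφ : Function.Injective φ) (K : Subgroup H) (h : H) :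
    emb φ (cls R K h) = cls R (K.map φ) (φ h) := by
  apply ext'
  intro g
  by_cases hg : g ∈ φ.range
  · obtain ⟨t, rfl⟩ := hg
    rw [coeff_emb hφ, coeff_cls, coeff_cls]
    congr 1
    apply propext
    constructor
    · rintro ⟨x, hx, rfl⟩
      exact ⟨φ x, ⟨x, hx, rfl⟩, by simp⟩
    · rintro ⟨_, ⟨x, hx, rfl⟩, h1⟩
      exact ⟨x, hx, hφ (by simpa using h1)⟩
  · rw [coeff_emb_of_notMem _ _ hg, coeff_cls, if_neg]
    rintro ⟨_, ⟨x, hx, rfl⟩, rfl⟩
    exact hg ⟨x * h * x⁻¹, by simp⟩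

theorem isBlock_emb_iff (hφ : Function.Injective φ) {K : Subgroup H} {e : R[H]} :
    IsBlock (K.map φ) (emb φ e) ↔ IsBlock K e := by
  have hinj := emb_injective (R := R) hφ
  constructor
  · intro h
    refine ⟨(emb_mem_Z_iff hφ).1 h.mem, hinj (by rw [map_mul, h.mul_self]),
      fun h0 => h.ne (by rw [h0, map_zero]), fun z hz hzi => ?_⟩
    rcases h.prim _ (emb_mem_Z φ hz) (hzi.map (emb φ)) with h1 | h1
    · left; exact hinj (by rw [map_mul, h1, map_zero])
    · right; exact hinj (by rw [map_mul, h1])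
  · intro h
    refine ⟨emb_mem_Z φ h.mem, h.idem.map _, fun h0 => h.ne (hinj (by rw [h0, map_zero])),
      fun z hz hzi => ?_⟩
    obtain ⟨w, rfl⟩ := exists_emb_eq hφ hz.1
    rcases h.prim w ((emb_mem_Z_iff hφ).1 hz) (hinj (by rw [map_mul, hzi.eq])) with h1 | h1
    · left; rw [← map_mul, h1, map_zero]
    · right; rw [← map_mul, h1]

theorem lam_emb (hφ : Function.Injective φ) (e z : k[H]) : lam (emb φ e) (emb φ z) = lam e z := by
  have : ∀ c : k, IsNilpotent ((emb φ z - algebraMap k _ c) * emb φ e) ↔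
      IsNilpotent ((z - algebraMap k _ c) * e) := by
    intro c
    rw [← (emb φ).commutes c, ← map_sub, ← map_mul]
    exact IsNilpotent.map_iff (emb_injective hφ)
  have h2 : (fun c : k => IsNilpotent ((emb φ z - algebraMap k _ c) * emb φ e)) =
      fun c : k => IsNilpotent ((z - algebraMap k _ c) * e) := funext fun c => propext (this c)
  have key : ∀ (P Q : k → Prop), P = Q →
      (open Classical in if h : ∃ c, P c then h.choose else 0) =
        (open Classical in if h : ∃ c, Q c then h.choose else 0) := by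
    rintro P Q rfl; rfl
  unfold lam
  exact key _ _ h2

theorem isPGroup_map_iff (hφ : Function.Injective φ) {Q : Subgroup H} :
    IsPGroup p (Q.map φ) ↔ IsPGroup p Q :=
  ⟨fun h => h.of_equiv (Q.equivMapOfInjective φ hφ).symm, fun h => h.map φ⟩

theorem exists_map_eq_of_le {K : Subgroup H} {Q : Subgroup G} (h : Q ≤ K.map φ) :
    ∃ Q' ≤ K, Q'.map φ = Q := by
  refine ⟨K ⊓ Q.comap φ, inf_le_left, ?_⟩
  rw [map_inf_comap', inf_eq_right.2 h]

theorem isSyl_map_iff (hφ : Function.Injective φ) {D K : Subgroup H} :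
    IsSyl p (D.map φ) (K.map φ) ↔ IsSyl p D K := by
  constructor
  · intro h
    refine ⟨(Subgroup.map_le_map_iff_of_injective hφ).1 h.le, (isPGroup_map_iff hφ).1 h.pg,
      fun Q h1 h2 h3 => Subgroup.map_injective hφ ?_⟩
    exact h.max _ (Subgroup.map_mono h1) (h2.map φ) (Subgroup.map_mono h3)
  · intro h
    refine ⟨Subgroup.map_mono h.le, h.pg.map φ, fun Q h1 h2 h3 => ?_⟩
    obtain ⟨Q', hQ', rfl⟩ := exists_map_eq_of_le h1
    rw [h.max Q' hQ' ((isPGroup_map_iff hφ).1 h2) ((Subgroup.map_le_map_iff_of_injective hφ).1 h3)]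

theorem brSub_emb_iff (hφ : Function.Injective φ) {K D : Subgroup H} {z : k[H]} :
    BrSub p (K.map φ) (D.map φ) (emb φ z) ↔ BrSub p K D z := by
  have hinj := emb_injective (R := k) hφ
  constructor
  · intro h Q h1 h2 h3
    obtain ⟨_, ⟨x, hx, rfl⟩, h4⟩ := h _ (Subgroup.map_mono h1) (h2.map φ) (by
      rw [emb_Br hφ]; exact fun h0 => h3 (hinj (by rw [h0, map_zero])))
    rw [← map_cs] at h4
    exact ⟨x, hx, (Subgroup.map_le_map_iff_of_injective hφ).1 h4⟩
  · intro h Q h1 h2 h3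
    obtain ⟨Q', hQ', rfl⟩ := exists_map_eq_of_le h1
    obtain ⟨x, hx, h4⟩ := h Q' hQ' ((isPGroup_map_iff hφ).1 h2) (fun h0 => h3 (by
      rw [emb_Br hφ, h0, map_zero]))
    exact ⟨φ x, ⟨x, hx, rfl⟩, by rw [← map_cs]; exact Subgroup.map_mono h4⟩

theorem isDef_emb_iff (hφ : Function.Injective φ) {K D : Subgroup H} {e : k[H]} :
    IsDef p (K.map φ) (emb φ e) (D.map φ) ↔ IsDef p K e D := by
  have hinj := emb_injective (R := k) hφ
  constructor
  · intro h
    exact ⟨(Subgroup.map_le_map_iff_of_injective hφ).1 h.le, (isPGroup_map_iff hφ).1 h.pg,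
      fun h0 => h.ne (by rw [emb_Br hφ, h0, map_zero]), (brSub_emb_iff hφ).1 h.sub⟩
  · intro h
    exact ⟨Subgroup.map_mono h.le, h.pg.map φ, by
      rw [emb_Br hφ]; exact fun h0 => h.ne (hinj (by rw [h0, map_zero])),
      (brSub_emb_iff hφ).2 h.sub⟩

/-! ### Change of coefficients -/

/-- Change of coefficients along a ring homomorphism. -/
noncomputable def cf (f : R →+* S) : R[G] →+* S[G] := mapRingHom G f

@[simp] theorem coeff_cf (f : R →+* S) (a : R[G]) (g : G) : (cf f a).coeff g = f (a.coeff g) :=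
  coeff_mapRingHom f a g

@[simp] theorem cf_single (f : R →+* S) (g : G) (r : R) : cf f (single g r) = single g (f r) :=
  mapRingHom_single f g r

theorem cf_smul (f : R →+* S) (c : R) (a : R[G]) : cf f (c • a) = f c • cf f a :=
  ext' fun g => by simp [coeff_smul']

theorem cf_algebraMap (f : R →+* S) (c : R) :
    cf f (algebraMap R R[G] c) = algebraMap S S[G] (f c) := by
  simp

theorem cf_cj (f : R →+* S) (x : G) (a : R[G]) : cf f (cj x a) = cj x (cf f a) :=
  ext' fun g => by simp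

theorem cf_tr (f : R →+* S) (T : Set G) (a : R[G]) : cf f (tr T a) = tr T (cf f a) :=
  ext' fun g => by
    rw [coeff_cf, coeff_tr, coeff_tr, coeff_cf]; split_ifs <;> simp

theorem cf_emb (f : R →+* S) (φ : H →* G) (a : R[H]) : cf f (emb φ a) = emb φ (cf f a) :=
  DFunLike.congr_fun (mapRingHom_comp_mapDomainRingHom f φ) a

theorem cf_cls [Finite G] (f : R →+* S) (K : Subgroup G) (g : G) : cf f (cls R K g) = cls S K g :=
  ext' fun h => by
    rw [coeff_cf, coeff_cls, coeff_cls]; split_ifs <;> simp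

theorem cf_mem_sup (f : R →+* S) {K : Subgroup G} {a : R[G]} (ha : a ∈ sup R K) :
    cf f a ∈ sup S K := fun g hg => by rw [coeff_cf, ha g hg, map_zero]

theorem cf_mem_inv (f : R →+* S) {K : Subgroup G} {a : R[G]} (ha : a ∈ inv R K) :
    cf f a ∈ inv S K := fun x hx => by rw [← cf_cj, ha x hx]

theorem cf_mem_Z (f : R →+* S) {K : Subgroup G} {a : R[G]} (ha : a ∈ Z R K) :
    cf f a ∈ Z S K := ⟨cf_mem_sup f ha.1, cf_mem_inv f ha.2⟩

theorem cf_injective {f : R →+* S} (hf : Function.Injective f) :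
    Function.Injective (cf f : R[G] → S[G]) := fun a b h =>
  ext' fun g => hf (by rw [← coeff_cf, h, coeff_cf])

theorem cf_mem_sup_iff {f : R →+* S} (hf : Function.Injective f) {K : Subgroup G} {a : R[G]} :
    cf f a ∈ sup S K ↔ a ∈ sup R K :=
  ⟨fun h g hg => hf (by rw [← coeff_cf, h g hg, map_zero]), cf_mem_sup f⟩

theorem cf_mem_inv_iff {f : R →+* S} (hf : Function.Injective f) {K : Subgroup G} {a : R[G]} :
    cf f a ∈ inv S K ↔ a ∈ inv R K :=
  ⟨fun h x hx => cf_injective hf (by rw [cf_cj, h x hx]), cf_mem_inv f⟩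

theorem cf_mem_Z_iff {f : R →+* S} (hf : Function.Injective f) {K : Subgroup G} {a : R[G]} :
    cf f a ∈ Z S K ↔ a ∈ Z R K := by
  rw [mem_Z, mem_Z, cf_mem_sup_iff hf, cf_mem_inv_iff hf]

/-- Lifting along a surjective change of coefficients, preserving support and invariance. -/
theorem exists_cf_eq [Finite G] {f : R →+* S} (hf : Function.Surjective f) (a : S[G]) :
    ∃ b : R[G], cf f b = a ∧ (∀ g, a.coeff g = 0 → b.coeff g = 0) ∧
      ∀ g h, a.coeff g = a.coeff h → b.coeff g = b.coeff h := by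
  classical
  let s : S → R := fun c => if c = 0 then 0 else (hf c).choose
  have hs : ∀ c, f (s c) = c := fun c => by
    by_cases hc : c = 0
    · simp [s, hc]
    · simp only [s, if_neg hc]; exact (hf c).choose_spec
  refine ⟨ofFun fun g => s (a.coeff g), ext' fun g => by simp [hs], fun g hg => ?_,
    fun g h hg => ?_⟩
  · simp [hg, s]
  · simp [hg]

theorem exists_cf_eq_of_mem [Finite G] {f : R →+* S} (hf : Function.Surjective f)
    {K L : Subgroup G} {a : S[G]} (h1 : a ∈ sup S K) (h2 : a ∈ inv S L) :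
    ∃ b : R[G], b ∈ sup R K ∧ b ∈ inv R L ∧ cf f b = a := by
  obtain ⟨b, hb, h3, h4⟩ := exists_cf_eq hf a
  exact ⟨b, fun g hg => h3 g (h1 g hg),
    mem_inv'.2 fun x hx g => h4 _ _ (mem_inv'.1 h2 x hx g), hb⟩

theorem exists_cf_eq_of_mem_Z [Finite G] {f : R →+* S} (hf : Function.Surjective f)
    {K : Subgroup G} {a : S[G]} (h : a ∈ Z S K) : ∃ b ∈ Z R K, cf f b = a := by
  obtain ⟨b, h1, h2, h3⟩ := exists_cf_eq_of_mem hf h.1 h.2
  exact ⟨b, ⟨h1, h2⟩, h3⟩

end Cfsg.Agent.Blk
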