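import Cfsg.Agent.Lib.Block.Syl1
import Cfsg.Agent.Lib.Transfer.PG

/-! Counting in extraspecial `2`-groups. -/

set_option autoImplicit false

namespace Cfsg.Agent.Blk

open Subgroup Transfer
attribute [local instance] _root_.Classical.propDecidable

variable {E : Type*} [Group E] [Finite E] {z x : E} {B : Subgroup E}

namespace Es

variable (h : ES 2 z ⊤)
include h

omit [Finite E] in
theorem z2 : z * z = 1 := by rw [← sq, ← h.ord, pow_orderOf_eq_one]

omit [Finite E] in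
theorem cen (g : E) : g * z = z * g := h.mem.2 g (mem_top g)

theorem cas {w : E} (hw : w ∈ zpowers z) : w = 1 ∨ w = z := (mem_zpowers_iff_of_sq (z2 h)).1 hw

theorem cnj (b x : E) : b * x * b⁻¹ = x ∨ b * x * b⁻¹ = z * x :=
  (cas h (h.der (commutator_mem_commutator (mem_top b) (mem_top x)))).imp
    (fun e => mul_inv_eq_one.1 e) fun e => mul_inv_eq_iff_eq_mul.1 e

theorem half (hx : ¬ B ≤ Ce1 x) : 2 * Nat.card {b // b ∈ B ∧ b ∈ Ce1 x} = Nat.card B ∧
    2 * Nat.card {b // b ∈ B ∧ b ∉ Ce1 x} = Nat.card B := by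
  have h1 := card_class_mul B x
  obtain ⟨b, hb, k⟩ := SetLike.not_le_iff_exists.1 hx
  rw [cnt_eq_two (a := x) (b := z * x) (fun e => h.ne (by simpa using e)) fun y => ⟨by
    rintro ⟨c, -, rfl⟩; exact cnj h c x, by
    rintro (rfl | rfl)
    · exact ⟨1, one_mem _, by simp⟩
    · exact ⟨b, hb, (cnj h b x).resolve_left fun e => k (mem_Ce1.2 (mul_inv_eq_iff_eq_mul.1 e))⟩⟩] at h1
  have h2 := cnt_split (fun b => b ∈ B) (fun b => b ∈ Ce1 x)
  change Nat.card B = _ at h2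
  change 2 * Nat.card {b // b ∈ B ∧ b ∈ Ce1 x} = _ at h1
  omega

theorem dual (hz : z ∈ B) : Nat.card (Ce B) * Nat.card B = 2 * Nat.card E := by
  obtain ⟨β, hβ⟩ : 2 ∣ Nat.card B := h.ord ▸ Subgroup.orderOf_dvd_natCard _ hz
  obtain ⟨ε, hε⟩ : 2 ∣ Nat.card E := h.ord ▸ orderOf_dvd_natCard z
  have h1 := cnt_mul_eq (p := fun x => x ∉ Ce B) (q := fun b => b ∈ B ∧ b ∉ zpowers z)
    (fun x b => b ∉ Ce1 x) (m := β) (n := ε) (fun x hx => by
      have := (half h (mt mem_Ce_iff_le.2 hx)).2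
      rw [← cnt_congr (p := fun b => (b ∈ B ∧ b ∉ zpowers z) ∧ b ∉ Ce1 x) fun b => ⟨fun k => ⟨k.1.1, k.2⟩,
        fun k => ⟨⟨k.1, fun e => k.2 (zpowers_le.2 (mem_Ce1.2 (cen h x).symm) e)⟩, k.2⟩⟩] at this
      omega) fun b hb => by
      have := (half h (B := ⊤) (x := b) fun e => hb.2 (h.cen.le ⟨mem_top _, mem_Ce_iff_le.2 e⟩)).2
      rw [← cnt_congr (p := fun x => x ∉ Ce B ∧ b ∉ Ce1 x) fun x => ⟨fun k => ⟨mem_top _, fun e =>
        k.2 (mem_Ce1.2 (mem_Ce1.1 e).symm)⟩, fun k => ⟨fun e => k.2 (mem_Ce1.2 (mem_Ce.1 e b hb.1).symm),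
          fun e => k.2 (mem_Ce1.2 (mem_Ce1.1 e).symm)⟩⟩, card_top] at this
      omega
  have h2 := cnt_split (fun _ : E => True) (fun x => x ∈ Ce B)
  have h3 := cnt_split (fun b => b ∈ B) (fun b => b ∈ zpowers z)
  rw [cnt_true, cnt_congr (q := fun x => x ∈ Ce B) fun _ => by simp,
    cnt_congr (p := fun x => True ∧ x ∉ Ce B) (q := fun x => x ∉ Ce B) fun _ => by simp] at h2
  rw [cnt_congr (p := fun b => b ∈ B ∧ b ∈ zpowers z) (q := fun b => b ∈ zpowers z) fun b =>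
    ⟨fun k => k.2, fun k => ⟨zpowers_le.2 hz k, k⟩⟩, show Nat.card {b // b ∈ zpowers z} = 2 from h.card_z] at h3
  change Nat.card B = _ at h3
  change _ = Nat.card (Ce B) + _ at h2
  generalize Nat.card {x // x ∉ Ce B} = u at *
  generalize Nat.card {b // b ∈ B ∧ b ∉ zpowers z} = v at *
  generalize Nat.card (Ce B) = c at *
  rw [hβ, hε] at *
  nlinarith

theorem four (hz : z ∈ B) (hB : Ce B = B) (h2 : ∀ b ∈ B, b * b = 1) :
    2 * Nat.card {x : E // orderOf x = 4} + Nat.card B = Nat.card E := by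
  obtain ⟨β, hβ⟩ : 2 ∣ Nat.card B := h.ord ▸ Subgroup.orderOf_dvd_natCard _ hz
  have k0 : ∀ y : E, orderOf y = 4 ↔ y * y ≠ 1 := fun y => ⟨fun e k => by
    rw [← sq, ← orderOf_dvd_iff_pow_eq_one, e] at k; omega, fun k =>
      orderOf_eq_prime_pow (p := 2) (n := 1) (by rwa [pow_one, sq]) (by
        rw [pow_succ, pow_mul, pow_one, (cas h (h.pw y (mem_top y))).resolve_left (sq y ▸ k), sq, z2 h])⟩
  have k1 : ∀ (x : E) (A : E → Prop), Nat.card {y // A y ∧ x⁻¹ * y ∈ B} = Nat.card {b // b ∈ B ∧ A (x * b)} :=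
    fun x A => cnt_eq_of_bij (fun y => x⁻¹ * y) (fun y k => ⟨k.2, by simpa using k.1⟩)
      (fun _ _ _ _ e => mul_left_cancel e) fun b k => ⟨x * b, ⟨k.2, by simpa using k.1⟩, by simp⟩
  have h1 := cnt_mul_eq (p := fun y : E => orderOf y = 4) (q := fun x => x ∉ B)
    (fun y x => y⁻¹ * x ∈ B) (m := 2 * β) (n := β) (fun y hy => by
      rw [k1, ← hβ]
      exact cnt_congr fun b => ⟨fun k => k.1, fun k => ⟨k, fun e =>
        (k0 y).1 hy (h2 y ((mul_mem_cancel_right k).1 e))⟩⟩) fun x hx => by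
      rw [cnt_congr (q := fun y => orderOf y = 4 ∧ x⁻¹ * y ∈ B) fun y => by
        rw [← inv_mem_iff (x := y⁻¹ * x), mul_inv_rev, inv_inv], k1]
      have a1 := half h (B := B) (x := x) fun e => hx (hB.le (mem_Ce_iff_le.2 e))
      have a2 : ∀ b ∈ B, x * b * (x * b) = x * (b * x * b⁻¹) := fun b hb => by
        rw [inv_eq_of_mul_eq_one_right (h2 b hb)]; group
      have a3 : ∀ b ∈ B, b ∈ Ce1 x → x * b * (x * b) = x * x := fun b hb k => by
        rw [a2 b hb, mem_Ce1.1 k, mul_inv_cancel_right]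
      have a4 : ∀ b ∈ B, b ∉ Ce1 x → x * b * (x * b) = z * (x * x) := fun b hb k => by
        rw [a2 b hb, (cnj h b x).resolve_left fun e => k (mem_Ce1.2 (mul_inv_eq_iff_eq_mul.1 e)),
          ← mul_assoc, cen h, mul_assoc]
      rcases cas h (h.pw x (mem_top x)) with e | e <;> rw [sq] at e
      · rw [cnt_congr (q := fun b => b ∈ B ∧ b ∉ Ce1 x) fun b => and_congr_right fun hb => by
          rw [k0]
          exact ⟨fun k n => k ((a3 b hb n).trans e), fun k => by rw [a4 b hb k, e, mul_one]; exact h.ne⟩]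
        omega
      · rw [cnt_congr (q := fun b => b ∈ B ∧ b ∈ Ce1 x) fun b => and_congr_right fun hb => by
          rw [k0]
          exact ⟨fun k => by_contra fun n => k (by rw [a4 b hb n, e, z2 h]),
            fun k => by rw [a3 b hb k, e]; exact h.ne⟩]
        omega
  have h3 := cnt_split (fun _ : E => True) (fun x => x ∈ B)
  rw [cnt_true, cnt_congr (q := fun x => x ∈ B) fun _ => by simp,
    cnt_congr (p := fun x => True ∧ x ∉ B) (q := fun x => x ∉ B) fun _ => by simp] at h3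
  change _ = Nat.card B + _ at h3
  have h4 : 0 < β := by have := Nat.card_pos (α := B); omega
  rw [← mul_assoc] at h1
  have := Nat.eq_of_mul_eq_mul_right h4 h1
  omega

theorem plus {m : ℕ} (hE : Nat.card E = 2 ^ (2 * m + 1)) {A : Subgroup E}
    (hA : IsElementaryAbelian 2 A) (h1 : Nat.card A = 2 ^ (m + 1)) :
    Nat.card {x : E // orderOf x = 4} = 2 ^ (2 * m) - 2 ^ m := by
  have a0 : A ≤ Ce A := le_centralizer_iff_isMulCommutative.2 hA.1
  have a1 : zpowers z ≤ Ce (A ⊔ zpowers z) := zpowers_le.2 (mem_Ce.2 fun q _ => cen h q)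
  have a2 : A ⊔ zpowers z ≤ Ce (A ⊔ zpowers z) := sup_le (by
    rw [Ce_sup, Ce_zpowers]; exact le_inf a0 fun q _ => mem_Ce1.2 (cen h q)) a1
  have a3 := dual h (B := A ⊔ zpowers z) (mem_sup_right (mem_zpowers z))
  have a4 := card_le_of_le a2
  have a5 := card_le_of_le (le_sup_left : A ≤ A ⊔ zpowers z)
  have a6 : 2 * Nat.card E = 2 ^ (m + 1) * 2 ^ (m + 1) := by rw [hE]; ring
  have a7 : Nat.card ↥(A ⊔ zpowers z) ≤ Nat.card A := by
    rw [h1]; exact Nat.mul_self_le_mul_self_iff.1 (by rw [← a6, ← a3]; exact Nat.mul_le_mul_right _ a4)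
  have a8 := eq_of_le_of_card_ge le_sup_left a7
  rw [← a8, a6, h1] at a3
  have a9 := four h (a8.ge (mem_sup_right (mem_zpowers z))) (eq_of_le_of_card_ge a0
    (by rw [h1, Nat.eq_of_mul_eq_mul_right (by positivity) a3])).symm fun b hb => by
      rw [← sq]; exact hA.2 b hb
  rw [h1, hE, pow_succ, pow_succ] at a9
  omega

end Es

end Cfsg.Agent.Blk
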