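import Cfsg.Agent.Lib.Block.Orb

/-! Exceptional characters from generalized decomposition numbers. -/

set_option autoImplicit false

namespace Cfsg.Agent.Blk

open MonoidAlgebra
open Cfsg.Agent.Char hiding cj cj_mul cj_inv_cj cj_cj_inv sum_cj_eq om
open scoped ComplexConjugate

variable {G W : Type*} [Group G] [Finite G] [Group W] [Fintype W] {p : ℕ}
  {B : Set (IrrCharacter G)} {E : Subgroup (MulAut W)} {D : IrrCharacter G → W → ℂ}
  {χ ψ : IrrCharacter G} {l m n : W →* ℂˣ} {u v : W} {δ d : ℤ}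
  {ζ : (W →* ℂˣ) → IrrCharacter G} {a : IrrCharacter G → ℤ}

open Classical in
/-- generalized decomposition numbers given by generalized characters -/
structure EXd (p : ℕ) (B : Set (IrrCharacter G)) (E : Subgroup (MulAut W))
    (D : IrrCharacter G → W → ℂ) : Prop where
  comm : ∀ a b : W, a * b = b * a
  free : FreeAut E
  gen : ∀ χ ∈ B, IsGeneralizedCharacter W (D χ)
  stab : ∀ χ ∈ B, ∀ σ ∈ E, ∀ u, D χ (σ u) = D χ u
  orth : ∀ u v, u ≠ 1 → v ≠ 1 → ∑ χ ∈ fs B, D χ u * conj (D χ v) =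
    if ∃ σ ∈ E, σ u = v then (Nat.card W : ℂ) else 0
  reg0 : ∀ u, u ≠ 1 → ∑ χ ∈ fs B, conj (D χ u) • reg p χ.1 = 0
  ne : ∀ χ ∈ B, ∀ u, u ≠ 1 → D χ u ≠ 0

/-- exceptional characters -/
structure EXC (B : Set (IrrCharacter G)) (E : Subgroup (MulAut W)) (D : IrrCharacter G → W → ℂ)
    (δ d : ℤ) (ζ : (W →* ℂˣ) → IrrCharacter G) (a : IrrCharacter G → ℤ) : Prop where
  sign : δ = 1 ∨ δ = -1
  mem : ∀ l, l ≠ 1 → ζ l ∈ B
  inj : ∀ l m, l ≠ 1 → m ≠ 1 → (ζ l = ζ m ↔ Orb E l m)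
  exc : ∀ l, l ≠ 1 → ∀ u, u ≠ 1 → D (ζ l) u = d + δ * eta E l u
  nexc : ∀ χ ∈ B, (∀ l, l ≠ 1 → ζ l ≠ χ) → ∀ u, u ≠ 1 → D χ u = a χ

/-- the integer `⟨f, λ - 1⟩` -/
noncomputable def ti (f : W → ℂ) (l : W →* ℂˣ) : ℤ := ⌊(classInner f (lc l - lc 1)).re⌋

theorem ti_eq {f : W → ℂ} {k : ℤ} (h : classInner f (lc l - lc 1) = k) : ti f l = k := by
  rw [ti, h]; simp

theorem ti_cast {f : W → ℂ} (hf : IsGeneralizedCharacter W f) (l : W →* ℂˣ) :
    (ti f l : ℂ) = classInner f (lc l - lc 1) := by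
  obtain ⟨k, hk⟩ := hf.classInner_eq_int ((isIrr_lc l).isGen.sub (isIrr_lc 1).isGen)
  rw [ti_eq hk, hk]

theorem ti_one (f : W → ℂ) : ti f 1 = 0 := ti_eq (by simp)

theorem apply_eq_sum_ti (hc : ∀ a b : W, a * b = b * a) {f : W → ℂ}
    (hf : IsGeneralizedCharacter W f) (hu : u ≠ 1) :
    f u = ∑ l ∈ Finset.univ.erase (1 : W →* ℂˣ), ti f l * (l u : ℂ) := by
  rw [apply_eq_sum_sub_one hc f hu, Finset.sum_erase _ (by simp [ti_one])]
  simp only [ti_cast hf]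

/-- the generalized character attached to `λ - 1` -/
noncomputable def tau (B : Set (IrrCharacter G)) (D : IrrCharacter G → W → ℂ) (l : W →* ℂˣ) :
    G → ℂ := ∑ χ ∈ fs B, (ti (D χ) l : ℂ) • χ.1

theorem isGen_tau (l : W →* ℂˣ) : IsGeneralizedCharacter G (tau B D l) :=
  isGen_sum_int _ _ fun χ _ => χ.2.isGen

open Classical in
theorem classInner_tau [Fintype G] (l : W →* ℂˣ) (χ : IrrCharacter G) :
    classInner (tau B D l) χ = if χ ∈ B then (ti (D χ) l : ℂ) else 0 :=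
  classInner_sum_fs _ _ _

theorem classInner_tau_tau [Fintype G] (l m : W →* ℂˣ) :
    classInner (tau B D l) (tau B D m) = (∑ χ ∈ fs B, ti (D χ) l * ti (D χ) m : ℤ) := by
  rw [show tau B D m = ∑ χ ∈ fs B, (ti (D χ) m : ℂ) • χ.1 from rfl, classInner_sum_right]
  push_cast
  exact Finset.sum_congr rfl fun χ hχ => by
    rw [classInner_smul_right, classInner_tau, if_pos (mem_fs.1 hχ), map_intCast, mul_comm]

open Classical in
/-- the set of exceptional characters -/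
noncomputable def excSet (ζ : (W →* ℂˣ) → IrrCharacter G) : Finset (IrrCharacter G) :=
  (Finset.univ.erase 1).image ζ

theorem mem_excSet : χ ∈ excSet ζ ↔ ∃ l, l ≠ 1 ∧ ζ l = χ := by simp [excSet]

theorem notMem_excSet : χ ∉ excSet ζ ↔ ∀ l, l ≠ 1 → ζ l ≠ χ := by simp [mem_excSet]

namespace EXd

theorem sum_inner [Fintype E] (h : EXd p B E D) {α β : W → ℂ} (hα : α 1 = 0) (hβ : β 1 = 0) :
    ∑ χ ∈ fs B, classInner (D χ) α * conj (classInner (D χ) β) =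
      classInner (fun u => ∑ σ : E, β (σ.1 u)) α := by
  classical
  have h1 : ∀ u, ∑ χ ∈ fs B, D χ u * conj (α u) * ∑ v, conj (D χ v) * β v =
      Nat.card W * ((∑ σ : E, β (σ.1 u)) * conj (α u)) := fun u => by
    by_cases hu : u = 1
    · simp [hu, hα]
    rw [h.free.sum_elt hu β, Finset.sum_filter, Finset.sum_mul, Finset.mul_sum]
    simp only [Finset.mul_sum]
    rw [Finset.sum_comm]
    refine Finset.sum_congr rfl fun v _ => ?_
    by_cases hv : v = 1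
    · simp [hv, hβ]
    have := h.orth u v hu hv
    rw [Finset.sum_congr rfl fun χ _ => show D χ u * conj (α u) * (conj (D χ v) * β v) =
      (D χ u * conj (D χ v)) * (β v * conj (α u)) by ring, ← Finset.sum_mul, this]
    split_ifs <;> simp
  simp only [classInner, map_mul, map_sum, map_inv₀, Complex.conj_natCast, Complex.conj_conj]
  rw [Finset.sum_congr rfl fun χ _ => mul_mul_mul_comm _ _ _ _, ← Finset.mul_sum]
  simp only [Finset.sum_mul]
  rw [Finset.sum_comm, Finset.sum_congr rfl fun u _ => h1 u, ← Finset.mul_sum, mul_assoc,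
    inv_mul_cancel_left₀ (card_ne_zero' W)]
  simp only [Finset.sum_mul]

open Classical in
theorem gram (h : EXd p B E D) (hl : l ≠ 1) (hm : m ≠ 1) :
    ∑ χ ∈ fs B, ti (D χ) l * ti (D χ) m = (if Orb E l m then 1 else 0) + Nat.card E := by
  have := Fintype.ofFinite E
  apply Int.cast_injective (α := ℂ)
  have h1 := h.sum_inner (α := lc l - lc 1) (β := lc m - lc 1) (by simp) (by simp)
  have h2 : (fun u => ∑ σ : E, (lc m - lc 1 : W → ℂ) (σ.1 u)) = eta E m - (Nat.card E : ℂ) • lc 1 :=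
    funext fun u => by simp [h.free.eta_apply h.comm hm, Finset.sum_sub_distrib]
  rw [h2, Finset.sum_congr rfl fun χ hχ => by
    rw [← ti_cast (h.gen χ (mem_fs.1 hχ)), ← ti_cast (h.gen χ (mem_fs.1 hχ)), map_intCast]] at h1
  push_cast
  rw [h1]
  simp only [classInner_sub_left, classInner_sub_right, classInner_smul_left, classInner_eta,
    classInner_lc, if_neg hl.symm, if_neg fun h2 : Orb E m 1 => h2.ne_one hm rfl,
    orb_comm (l := m) (m := l)]
  simp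

theorem reg_tau (h : EXd p B E D) (l : W →* ℂˣ) : reg p (tau B D l) = 0 := by
  rw [tau, reg_sum, Finset.sum_congr rfl fun χ hχ => by
    rw [reg_smul, ← map_intCast (starRingEnd ℂ), ti_cast (h.gen χ (mem_fs.1 hχ)), classInner,
      map_mul, map_sum, mul_smul, Finset.sum_smul], ← Finset.smul_sum, Finset.sum_comm,
    Finset.sum_eq_zero fun u _ => ?_, smul_zero]
  by_cases hu : u = 1
  · simp [hu]
  simp only [map_mul, mul_comm (conj (D _ u)), mul_smul, ← Finset.smul_sum, h.reg0 u hu, smul_zero]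

theorem tau_one [Fact p.Prime] (h : EXd p B E D) (l : W →* ℂˣ) : tau B D l 1 = 0 := by
  rw [← reg_of_preg (p := p) (θ := tau B D l) preg_one, h.reg_tau, Pi.zero_apply]

theorem ti_orb (h : EXd p B E D) (hχ : χ ∈ B) (hlm : Orb E l m) : ti (D χ) l = ti (D χ) m := by
  obtain ⟨σ, hσ, rfl⟩ := hlm
  simp only [ti, classInner_sub_right, classInner_lcomp (h.stab χ hχ σ hσ)]

theorem tau_orb (h : EXd p B E D) (hlm : Orb E l m) : tau B D l = tau B D m :=
  Finset.sum_congr rfl fun χ hχ => by rw [h.ti_orb (mem_fs.1 hχ) hlm]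

theorem exists_exc_one (h : EXd p B E D) (h1 : ∀ l m, l ≠ 1 → m ≠ 1 → Orb E l m) (hχ : χ ∈ B)
    (hδ : δ = 1 ∨ δ = -1) : ∃ d a, EXC B E D δ d (fun _ => χ) a := by
  classical
  by_cases h2 : ∃ l : W →* ℂˣ, l ≠ 1
  swap
  · push_neg at h2
    refine ⟨0, 0, hδ, fun l hl => (hl (h2 l)).elim, fun l _ hl => (hl (h2 l)).elim,
      fun l hl => (hl (h2 l)).elim, fun ψ hψ _ u hu => ?_⟩
    rw [apply_eq_sum_ti h.comm (h.gen ψ hψ) hu, Finset.sum_eq_zero fun l hl =>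
      ((Finset.mem_erase.1 hl).1 (h2 l)).elim]
    simp
  obtain ⟨l₀, hl₀⟩ := h2
  have h3 : ∀ ψ ∈ B, ∀ u, u ≠ 1 → D ψ u = (-ti (D ψ) l₀ : ℤ) := fun ψ hψ u hu => by
    rw [apply_eq_sum_ti h.comm (h.gen ψ hψ) hu, Finset.sum_congr rfl fun l hl => by
      rw [h.ti_orb hψ (h1 l l₀ (Finset.mem_erase.1 hl).1 hl₀)], ← Finset.mul_sum,
      sum_erase_lc h.comm hu]
    simp
  refine ⟨δ - ti (D χ) l₀, fun ψ => -ti (D ψ) l₀, hδ, fun _ _ => hχ,
    fun l m hl hm => by simpa using h1 l m hl hm, fun l hl u hu => ?_, fun ψ hψ _ => h3 ψ hψ⟩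
  rw [h3 χ hχ u hu, eta, Finset.sum_apply, show Finset.univ.filter (Orb E l) = Finset.univ.erase 1
    from Finset.ext fun m => by simpa using ⟨fun h => h.ne_one hl, h1 l m hl⟩]
  simp only [lc_apply, sum_erase_lc h.comm hu]
  push_cast; ring

theorem exists_exc [Fact p.Prime] (h : EXd p B E D) (hB : B.Nonempty) :
    ∃ δ d ζ a, EXC B E D δ d ζ a := by
  classical
  have := Fintype.ofFinite G
  by_cases h1 : ∀ l m, l ≠ 1 → m ≠ 1 → Orb E l m
  · obtain ⟨χ, hχ⟩ := hB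
    obtain ⟨d, a, h2⟩ := h.exists_exc_one h1 hχ (Or.inl rfl)
    exact ⟨1, d, _, a, h2⟩
  push_neg at h1
  obtain ⟨l₀, l₁, hl₀, hl₁, h01⟩ := h1
  let s : Setoid {l : W →* ℂˣ // l ≠ 1} :=
    ⟨fun l m => Orb E l.1 m.1, fun l => Orb.refl _, Orb.symm, Orb.trans⟩
  have ho : ∀ l : {l : W →* ℂˣ // l ≠ 1}, Orb E (Quotient.mk s l).out.1 l.1 :=
    fun l => Quotient.mk_out (s := s) l
  obtain ⟨ε, hε, μ, hμ, hi, hτ⟩ := isometry_lemma (Quotient.mk s ⟨l₀, hl₀⟩)
    (τ := fun i => tau B D i.out.1 - tau B D l₀) (by simp [h.tau_orb (ho _)])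
    (fun i => (isGen_tau _).sub (isGen_tau _)) (fun i => by simp [h.tau_one])
    (fun i j hi hj => by
      have e1 : ∀ i : Quotient s, i ≠ Quotient.mk s ⟨l₀, hl₀⟩ → ¬ Orb E i.out.1 l₀ :=
        fun i hi h2 => hi (by rw [← i.out_eq]; exact Quotient.sound h2)
      have e2 : Orb E i.out.1 j.out.1 ↔ i = j := Quotient.out_equiv_out (s := s)
      simp only [classInner_sub_left, classInner_sub_right, classInner_tau_tau,
        h.gram i.out.2 j.out.2, h.gram i.out.2 hl₀, h.gram hl₀ j.out.2, h.gram hl₀ hl₀,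
        if_neg (e1 i hi), if_neg fun h2 => e1 j hj (Orb.symm h2), if_pos (Orb.refl l₀), e2]
      split_ifs <;> push_cast <;> ring)
  obtain ⟨δ, hδ, rfl⟩ : ∃ δ : ℤ, (δ = 1 ∨ δ = -1) ∧ ε = δ := by
    rcases hε with rfl | rfl
    exacts [⟨1, Or.inl rfl, by simp⟩, ⟨-1, Or.inr rfl, by simp⟩]
  have hδ0 : δ ≠ 0 := by omega
  let ζ : (W →* ℂˣ) → IrrCharacter G := fun l =>
    if hl : l ≠ 1 then ⟨μ (Quotient.mk s ⟨l, hl⟩), hμ _⟩ else irrOne G
  have hζ : ∀ l (hl : l ≠ 1), (ζ l).1 = μ (Quotient.mk s ⟨l, hl⟩) := fun l hl => by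
    simp only [ζ, dif_pos hl]
  have hinj : ∀ l m, l ≠ 1 → m ≠ 1 → (ζ l = ζ m ↔ Orb E l m) := fun l m hl hm => by
    rw [Subtype.ext_iff, hζ l hl, hζ m hm, hi.eq_iff, Quotient.eq]; rfl
  have h2 : ∀ l, l ≠ 1 → ∀ χ : IrrCharacter G, (if χ ∈ B then ti (D χ) l - ti (D χ) l₀ else 0) =
      δ * ((if ζ l = χ then 1 else 0) - if ζ l₀ = χ then 1 else 0) := fun l hl χ => by
    apply Int.cast_injective (α := ℂ)
    have h3 := congrArg (classInner · χ.1) (hτ (Quotient.mk s ⟨l, hl⟩))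
    simp only [h.tau_orb (ho _), ← hζ, classInner_sub_left, classInner_smul_left,
      classInner_tau, classInner_irr] at h3
    push_cast
    rw [← h3]; split_ifs <;> simp
  have hmem : ∀ l, l ≠ 1 → ζ l ∈ B := fun l hl => by
    by_contra h3
    by_cases h4 : ζ l₀ = ζ l
    · have := h2 l₁ hl₁ (ζ l)
      rw [if_neg h3, if_pos h4, if_neg fun h5 => h01 ((hinj _ _ hl₀ hl₁).1 (h4.trans h5.symm))]
        at this
      omega
    · have := h2 l hl (ζ l)
      rw [if_neg h3, if_pos rfl, if_neg h4] at this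
      omega
  obtain ⟨c, hc⟩ : ∃ c : IrrCharacter G → ℤ, ∀ χ ∈ B, ∀ l, l ≠ 1 →
      ti (D χ) l = c χ + δ * if ζ l = χ then 1 else 0 :=
    ⟨fun χ => ti (D χ) l₀ - δ * if ζ l₀ = χ then 1 else 0, fun χ hχ l hl => by
      have := h2 l hl χ
      rw [if_pos hχ] at this
      linarith⟩
  have h4 : ∀ χ ∈ B, ∀ u, u ≠ 1 → D χ u = -c χ +
      δ * ∑ l ∈ Finset.univ.erase (1 : W →* ℂˣ), if ζ l = χ then (l u : ℂ) else 0 :=
    fun χ hχ u hu => by
    rw [apply_eq_sum_ti h.comm (h.gen χ hχ) hu, Finset.sum_congr rfl fun l hl => by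
      rw [hc χ hχ l (Finset.mem_erase.1 hl).1]]
    push_cast
    simp only [add_mul, Finset.sum_add_distrib, ← Finset.mul_sum, sum_erase_lc h.comm hu,
      mul_assoc, ite_mul, one_mul, zero_mul, mul_neg_one]
  have h5 : ∀ n, n ≠ 1 → c (ζ n) = c (ζ l₀) := fun n hn => by
    have h6 : ∑ χ ∈ fs B, ti (D χ) l₀ * (ti (D χ) n - ti (D χ) l₀) =
        δ * (ti (D (ζ n)) l₀ - ti (D (ζ l₀)) l₀) := by
      rw [Finset.sum_congr rfl fun χ hχ => by
        rw [show ti (D χ) n - ti (D χ) l₀ = _ from (if_pos (mem_fs.1 hχ)).symm.trans (h2 n hn χ)]]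
      simp only [mul_left_comm _ δ, ← Finset.mul_sum, mul_sub, mul_ite, mul_one, mul_zero,
        Finset.sum_sub_distrib, Finset.sum_ite_eq, mem_fs, hmem n hn, hmem l₀ hl₀, if_true]
      ring
    simp only [mul_sub, Finset.sum_sub_distrib, h.gram hl₀ hn, h.gram hl₀ hl₀,
      hc _ (hmem n hn) l₀ hl₀, hc _ (hmem l₀ hl₀) l₀ hl₀, hinj _ _ hl₀ hn, Orb.refl, if_true] at h6
    rcases hδ with rfl | rfl <;> split_ifs at h6 <;> omega
  refine ⟨δ, -c (ζ l₀), ζ, fun χ => -c χ, hδ, hmem, hinj, fun l hl u hu => ?_,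
    fun χ hχ h6 u hu => ?_⟩
  · rw [h4 _ (hmem l hl) u hu, h5 l hl, eta, Finset.sum_apply, ← Finset.sum_filter]
    push_cast
    congr 3
    ext m
    simp only [Finset.mem_filter, Finset.mem_erase, Finset.mem_univ, and_true, true_and]
    exact ⟨fun ⟨h6, h7⟩ => ((hinj _ _ h6 hl).1 h7).symm,
      fun h6 => ⟨h6.ne_one hl, (hinj _ _ (h6.ne_one hl) hl).2 h6.symm⟩⟩
  · rw [h4 χ hχ u hu, Finset.sum_eq_zero fun l hl => if_neg (h6 l (Finset.mem_erase.1 hl).1)]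
    simp

end EXd

namespace EXC

open Classical in
theorem ti_exc (hx : EXC B E D δ d ζ a) (hn : n ≠ 1) (hl : l ≠ 1) :
    ti (D (ζ n)) l = δ * (if Orb E n l then 1 else 0) - d := by
  refine ti_eq ?_
  rw [classInner_congr_off (g := (d : ℂ) • lc 1 + (δ : ℂ) • eta E n)
    fun u hu => by simp [hx.exc n hn u hu]]
  simp only [classInner_add_left, classInner_sub_right, classInner_smul_left, classInner_eta,
    classInner_lc, if_neg hl.symm, if_neg fun h2 : Orb E n 1 => h2.ne_one hn rfl]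
  push_cast
  ring

theorem ti_nexc (hx : EXC B E D δ d ζ a) (hχ : χ ∈ B) (h1 : χ ∉ excSet ζ) (hl : l ≠ 1) :
    ti (D χ) l = -a χ := by
  refine ti_eq ?_
  rw [classInner_congr_off (g := (a χ : ℂ) • lc 1)
    fun u hu => by simp [hx.nexc χ hχ (notMem_excSet.1 h1) u hu]]
  simp [classInner_sub_right, classInner_smul_left, classInner_lc, if_neg hl.symm, -lc_one]

theorem subset (hx : EXC B E D δ d ζ a) : excSet ζ ⊆ fs B := fun χ hχ => by
  obtain ⟨l, hl, rfl⟩ := mem_excSet.1 hχ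
  exact mem_fs.2 (hx.mem l hl)

theorem mem_exc (ζ : (W →* ℂˣ) → IrrCharacter G) (hl : l ≠ 1) : ζ l ∈ excSet ζ :=
  mem_excSet.2 ⟨l, hl, rfl⟩

open Classical in
theorem ti_exc' (hx : EXC B E D δ d ζ a) (hχ : χ ∈ excSet ζ) (hl : l ≠ 1) :
    ti (D χ) l = δ * (if ζ l = χ then 1 else 0) - d := by
  obtain ⟨n, hn, rfl⟩ := mem_excSet.1 hχ
  simp only [hx.ti_exc hn hl, hx.inj l n hl hn, orb_comm (l := n)]

theorem card_exc (h : EXd p B E D) (hx : EXC B E D δ d ζ a) :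
    Nat.card E * (excSet ζ).card + 1 = Nat.card W := by
  classical
  rw [← card_lc h.comm, Nat.card_eq_fintype_card (α := W →* ℂˣ), ← Finset.card_univ,
    ← Finset.card_erase_add_one (Finset.mem_univ 1), Finset.card_eq_sum_card_image ζ, mul_comm,
    ← smul_eq_mul, ← Finset.sum_const, excSet]
  congr 1
  refine Finset.sum_congr (by congr) fun χ hχ => ?_
  obtain ⟨l, hl, rfl⟩ := Finset.mem_image.1 hχ
  have hl := (Finset.mem_erase.1 hl).1
  rw [← h.free.card_orb h.comm hl]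
  congr 1
  ext m
  simp only [Finset.mem_filter, Finset.mem_erase, Finset.mem_univ, and_true, true_and]
  exact ⟨fun h6 => ⟨h6.ne_one hl, (hx.inj _ _ (h6.ne_one hl) hl).2 h6.symm⟩,
    fun ⟨h6, h7⟩ => ((hx.inj _ _ h6 hl).1 h7).symm⟩

theorem a_ne (h : EXd p B E D) (hx : EXC B E D δ d ζ a) (hu : u ≠ 1) (hχ : χ ∈ B)
    (h1 : χ ∉ excSet ζ) : a χ ≠ 0 := fun h2 =>
  h.ne χ hχ u hu (by rw [hx.nexc χ hχ (notMem_excSet.1 h1) u hu, h2, Int.cast_zero])

open Classical in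
theorem norm_eq (h : EXd p B E D) (hx : EXC B E D δ d ζ a) (hl : l ≠ 1) :
    (d - δ) ^ 2 + ((excSet ζ).card - 1) * d ^ 2 + ∑ χ ∈ fs B \ excSet ζ, a χ ^ 2 =
      Nat.card E + 1 := by
  have h1 := h.gram hl hl
  rw [if_pos (Orb.refl l), ← Finset.sum_sdiff hx.subset, Finset.sum_congr rfl fun χ hχ => by
    rw [hx.ti_nexc (mem_fs.1 (Finset.mem_sdiff.1 hχ).1) (Finset.mem_sdiff.1 hχ).2 hl,
      neg_mul_neg, ← sq],
    ← Finset.add_sum_erase _ _ (mem_exc ζ hl), hx.ti_exc hl hl, if_pos (Orb.refl l),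
    Finset.sum_congr (s₁ := Finset.erase _ _) rfl fun χ hχ => by
      rw [hx.ti_exc' (Finset.mem_erase.1 hχ).2 hl, if_neg (Finset.mem_erase.1 hχ).1.symm],
    Finset.sum_const, Finset.card_erase_of_mem (mem_exc ζ hl), nsmul_eq_mul,
    Nat.cast_sub (Finset.card_pos.2 ⟨_, mem_exc ζ hl⟩)] at h1
  push_cast at h1
  linarith

open Classical in
theorem tau_eq (hx : EXC B E D δ d ζ a) (hl : l ≠ 1) : tau B D l =
    (δ : ℂ) • (ζ l).1 - (d : ℂ) • ∑ χ ∈ excSet ζ, χ.1 - ∑ χ ∈ fs B \ excSet ζ, (a χ : ℂ) • χ.1 := by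
  rw [tau, ← Finset.sum_sdiff hx.subset, Finset.sum_congr rfl fun χ hχ => by
    rw [hx.ti_nexc (mem_fs.1 (Finset.mem_sdiff.1 hχ).1) (Finset.mem_sdiff.1 hχ).2 hl],
    Finset.sum_congr (s₁ := excSet ζ) rfl fun χ hχ => by rw [hx.ti_exc' hχ hl]]
  push_cast
  simp only [sub_smul, Finset.sum_sub_distrib, neg_smul, Finset.sum_neg_distrib, mul_ite, mul_one,
    mul_zero, ite_smul, zero_smul, Finset.sum_ite_eq, mem_exc ζ hl, if_true, Finset.smul_sum]
  abel

theorem reg_eq (h : EXd p B E D) (hx : EXC B E D δ d ζ a) (hl : l ≠ 1) (hm : m ≠ 1) :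
    reg p (ζ l).1 = reg p (ζ m).1 := by
  have h1 : reg p (tau B D l - tau B D m) = 0 := by rw [reg_sub, h.reg_tau, h.reg_tau, sub_self]
  rw [hx.tau_eq hl, hx.tau_eq hm, sub_sub_sub_cancel_right, sub_sub_sub_cancel_right, ← smul_sub,
    reg_smul, reg_sub, smul_eq_zero, sub_eq_zero] at h1
  exact h1.resolve_left (by rcases hx.sign with rfl | rfl <;> simp)

theorem reg_eq' (h : EXd p B E D) (hx : EXC B E D δ d ζ a) (hχ : χ ∈ excSet ζ)
    (hψ : ψ ∈ excSet ζ) : reg p χ.1 = reg p ψ.1 := by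
  obtain ⟨l, hl, rfl⟩ := mem_excSet.1 hχ
  obtain ⟨m, hm, rfl⟩ := mem_excSet.1 hψ
  exact hx.reg_eq h hl hm

open Classical in
theorem reg_rel (h : EXd p B E D) (hx : EXC B E D δ d ζ a) (hl : l ≠ 1) :
    (((excSet ζ).card : ℂ) * d - δ) • reg p (ζ l).1 +
      ∑ χ ∈ fs B \ excSet ζ, (a χ : ℂ) • reg p χ.1 = 0 := by
  have h1 := h.reg_tau l
  rw [hx.tau_eq hl, reg_sub, reg_sub, reg_smul, reg_smul, reg_sum, reg_sum,
    Finset.sum_congr rfl fun χ hχ => hx.reg_eq' h hχ (mem_exc ζ hl), Finset.sum_const,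
    ← Nat.cast_smul_eq_nsmul ℂ] at h1
  simp only [reg_smul] at h1
  rw [← neg_eq_zero, ← h1, sub_smul, mul_comm, mul_smul]
  abel

theorem orb_of_card (hx : EXC B E D δ d ζ a) (h1 : (excSet ζ).card ≤ 1) (l m : W →* ℂˣ)
    (hl : l ≠ 1) (hm : m ≠ 1) : Orb E l m :=
  (hx.inj l m hl hm).1 (Finset.card_le_one.1 h1 _ (mem_exc ζ hl) _ (mem_exc ζ hm))

theorem card_pos (ζ : (W →* ℂˣ) → IrrCharacter G) (hl : l ≠ 1) : 0 < (excSet ζ).card :=
  Finset.card_pos.2 ⟨_, mem_exc ζ hl⟩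

end EXC

omit [Finite G] in
theorem eta_of_orb (hc : ∀ a b : W, a * b = b * a) (h1 : ∀ l m, l ≠ 1 → m ≠ 1 → Orb E l m)
    (hl : l ≠ 1) (hu : u ≠ 1) : eta E l u = -1 := by
  classical
  rw [eta, Finset.sum_apply, show Finset.univ.filter (Orb E l) = Finset.univ.erase 1
    from Finset.ext fun m => by simpa using ⟨fun h => h.ne_one hl, h1 l m hl⟩]
  simp only [lc_apply, sum_erase_lc hc hu]

omit [Finite G] in
theorem exists_lc_ne_one (hc : ∀ a b : W, a * b = b * a) (hu : u ≠ 1) : ∃ l : W →* ℂˣ, l ≠ 1 := by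
  have : Nontrivial W := ⟨u, 1, hu⟩
  have : Nontrivial (W →* ℂˣ) := Finite.one_lt_card_iff_nontrivial.1 (by
    rw [card_lc hc]; exact Finite.one_lt_card)
  exact exists_ne 1

namespace EXC

theorem one_le_head (h : EXd p B E D) (hx : EXC B E D δ d ζ a) (hu : u ≠ 1) :
    1 ≤ (d - δ) ^ 2 + ((excSet ζ).card - 1) * d ^ 2 := by
  obtain ⟨l, hl⟩ := exists_lc_ne_one h.comm hu
  have h1 := card_pos ζ hl
  by_cases h2 : (excSet ζ).card ≤ 1
  · have h3 := h.ne _ (hx.mem l hl) u hu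
    rw [hx.exc l hl u hu, eta_of_orb h.comm (hx.orb_of_card h2) hl hu, mul_neg_one,
      ← sub_eq_add_neg, ← Int.cast_sub, Int.cast_ne_zero] at h3
    rw [le_antisymm h2 h1]
    have := sq_pos_of_ne_zero h3
    simp only [Nat.cast_one, sub_self, zero_mul, add_zero]
    omega
  · by_cases h3 : d = 0
    · rcases hx.sign with rfl | rfl <;> simp [h3]
    · have := sq_pos_of_ne_zero h3
      have h4 : (1 : ℤ) ≤ (excSet ζ).card - 1 := by omega
      nlinarith [sq_nonneg (d - δ)]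

open Classical in
theorem card_le_sum (h : EXd p B E D) (hx : EXC B E D δ d ζ a) (hu : u ≠ 1) :
    ((fs B \ excSet ζ).card : ℤ) ≤ ∑ χ ∈ fs B \ excSet ζ, a χ ^ 2 := by
  rw [Finset.card_eq_sum_ones, Nat.cast_sum]
  exact Finset.sum_le_sum fun χ hχ => sq_pos_of_ne_zero
    (hx.a_ne h hu (mem_fs.1 (Finset.mem_sdiff.1 hχ).1) (Finset.mem_sdiff.1 hχ).2)

open Classical in
theorem card_nexc_le (h : EXd p B E D) (hx : EXC B E D δ d ζ a) (hu : u ≠ 1) :
    (fs B \ excSet ζ).card ≤ Nat.card E := by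
  obtain ⟨l, hl⟩ := exists_lc_ne_one h.comm hu
  have := hx.norm_eq h hl
  have := hx.one_le_head h hu
  have := hx.card_le_sum h hu
  omega

open Classical in
theorem card_add (hx : EXC B E D δ d ζ a) :
    (fs B \ excSet ζ).card + (excSet ζ).card = (fs B).card :=
  Finset.card_sdiff_add_card_eq_card hx.subset

open Classical in
theorem sign_of_card (h : EXd p B E D) (hx : EXC B E D δ d ζ a) (hu : u ≠ 1)
    (h1 : (fs B \ excSet ζ).card = Nat.card E) :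
    (d - δ) ^ 2 + ((excSet ζ).card - 1) * d ^ 2 = 1 ∧
      ∀ χ ∈ B, χ ∉ excSet ζ → a χ = 1 ∨ a χ = -1 := by
  obtain ⟨l, hl⟩ := exists_lc_ne_one h.comm hu
  have h2 := hx.norm_eq h hl
  have h3 := hx.one_le_head h hu
  have h4 := hx.card_le_sum h hu
  refine ⟨by omega, fun χ hχ hχ' => ?_⟩
  rw [← sq_eq_one_iff]
  by_contra h5
  have h6 : ((fs B \ excSet ζ).card : ℤ) < ∑ χ ∈ fs B \ excSet ζ, a χ ^ 2 := by
    rw [Finset.card_eq_sum_ones, Nat.cast_sum]
    have h7 : ∀ ψ ∈ fs B \ excSet ζ, ((1 : ℕ) : ℤ) ≤ a ψ ^ 2 := fun ψ hψ => sq_pos_of_ne_zero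
      (hx.a_ne h hu (mem_fs.1 (Finset.mem_sdiff.1 hψ).1) (Finset.mem_sdiff.1 hψ).2)
    have h8 : χ ∈ fs B \ excSet ζ := Finset.mem_sdiff.2 ⟨mem_fs.2 hχ, hχ'⟩
    exact Finset.sum_lt_sum h7 ⟨χ, h8, lt_of_le_of_ne (h7 χ h8) (Ne.symm h5)⟩
  omega

theorem notMem_of_const (hx : EXC B E D δ d ζ a) (h1 : 1 < (excSet ζ).card) {c : ℂ}
    (hc : ∀ u, u ≠ 1 → D χ u = c) : χ ∉ excSet ζ := fun h2 => by
  classical
  obtain ⟨ψ, hψ, h3⟩ := Finset.exists_mem_ne h1 χ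
  obtain ⟨l, hl, rfl⟩ := mem_excSet.1 h2
  obtain ⟨m, hm, rfl⟩ := mem_excSet.1 hψ
  have h4 : ∀ n : W →* ℂˣ, n ≠ 1 → classInner (D (ζ l)) (lc n - lc 1) = -c := fun n hn => by
    rw [classInner_congr_off (g := c • lc 1) fun u hu => by simp [hc u hu]]
    simp [classInner_sub_right, classInner_smul_left, classInner_lc, if_neg hn.symm, -lc_one]
  have h5 : ti (D (ζ l)) l = ti (D (ζ l)) m := by rw [ti, ti, h4 l hl, h4 m hm]
  rw [hx.ti_exc' h2 hl, hx.ti_exc' h2 hm, if_pos rfl, if_neg h3] at h5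
  rcases hx.sign with rfl | rfl <;> omega

theorem swap (h : EXd p B E D) (hx : EXC B E D δ d ζ a) (h2 : (excSet ζ).card = 2) :
    ∃ ζ', EXC B E D (-δ) (d - δ) ζ' a ∧ excSet ζ' = excSet ζ := by
  classical
  obtain ⟨x, y, hxy, h3⟩ := Finset.card_eq_two.1 h2
  have h4 : ∀ l, l ≠ 1 → ζ l = x ∨ ζ l = y := fun l hl => by simpa [h3] using mem_exc ζ hl
  obtain ⟨l₀, hl₀, rfl⟩ := mem_excSet.1 (show x ∈ excSet ζ by simp [h3])
  obtain ⟨l₁, hl₁, rfl⟩ := mem_excSet.1 (show y ∈ excSet ζ by simp [h3])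
  have h5 : ∀ u, u ≠ 1 → eta E l₀ u + eta E l₁ u = -1 := fun u hu => by
    rw [← sum_erase_lc h.comm hu, eta, eta, Finset.sum_apply, Finset.sum_apply,
      ← Finset.sum_union (Finset.disjoint_filter.2 fun m _ h5 h6 =>
        hxy ((hx.inj _ _ hl₀ hl₁).2 (h5.trans h6.symm)))]
    refine Finset.sum_congr (Finset.ext fun m => ?_) fun _ _ => rfl
    simp only [Finset.mem_union, Finset.mem_filter, Finset.mem_univ, true_and, Finset.mem_erase,
      and_true]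
    exact ⟨fun h => h.elim (·.ne_one hl₀) (·.ne_one hl₁), fun hm => (h4 m hm).imp
      (fun h => ((hx.inj _ _ hm hl₀).1 h).symm) fun h => ((hx.inj _ _ hm hl₁).1 h).symm⟩
  have h6 : excSet (fun l => if ζ l = ζ l₀ then ζ l₁ else ζ l₀) = excSet ζ := by
    ext χ
    rw [h3, mem_excSet, Finset.mem_insert, Finset.mem_singleton]
    refine ⟨fun ⟨l, _, h6⟩ => ?_, fun h6 => ?_⟩
    · split_ifs at h6 <;> simp [← h6]
    · rcases h6 with rfl | rfl
      exacts [⟨l₁, hl₁, if_neg hxy.symm⟩, ⟨l₀, hl₀, if_pos rfl⟩]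
  refine ⟨fun l => if ζ l = ζ l₀ then ζ l₁ else ζ l₀, ⟨by have := hx.sign; omega, fun l _ => ?_,
    fun l m hl hm => ?_, fun l hl u hu => ?_, fun χ hχ h7 => hx.nexc χ hχ ?_⟩, h6⟩
  · split_ifs
    exacts [hx.mem _ hl₁, hx.mem _ hl₀]
  · rw [← hx.inj l m hl hm]
    rcases h4 l hl with h7 | h7 <;> rcases h4 m hm with h8 | h8 <;> simp [h7, h8, hxy, hxy.symm]
  · have h8 := h5 u hu
    rcases h4 l hl with h7 | h7
    · rw [if_pos h7, hx.exc _ hl₁ u hu, ((hx.inj _ _ hl hl₀).1 h7).eta_eq]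
      push_cast; linear_combination δ * h8
    · rw [if_neg (h7 ▸ hxy.symm), hx.exc _ hl₀ u hu, ((hx.inj _ _ hl hl₁).1 h7).eta_eq]
      push_cast; linear_combination δ * h8
  · rwa [← notMem_excSet, ← h6, notMem_excSet]

end EXC

open Classical in
theorem EXd.exists_exc_zero [Fact p.Prime] (h : EXd p B E D) (hu : u ≠ 1) (hχ : χ ∈ B)
    (hk : Nat.card E * (fs B).card + 1 = Nat.card E * Nat.card E + Nat.card W) :
    ∃ δ ζ a, EXC B E D δ 0 ζ a ∧ (fs B \ excSet ζ).card = Nat.card E ∧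
      (∀ χ ∈ B, χ ∉ excSet ζ → a χ = 1 ∨ a χ = -1) ∧ ((excSet ζ).card = 1 → excSet ζ = {χ}) := by
  have key : ∀ {δ d ζ a}, EXC B E D δ d ζ a → (fs B \ excSet ζ).card = Nat.card E :=
    fun hx => Nat.eq_of_mul_eq_mul_left (Nat.card_pos (α := E)) (by
      rw [← hx.card_add, ← hx.card_exc h, mul_add] at hk; omega)
  obtain ⟨δ, d, ζ, a, hx⟩ := h.exists_exc ⟨χ, hχ⟩
  obtain ⟨l, hl⟩ := exists_lc_ne_one h.comm hu
  have h0 := EXC.card_pos ζ hl
  by_cases h1 : (excSet ζ).card ≤ 1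
  · have h2 := hx.orb_of_card h1
    have h3 : excSet (fun _ : W →* ℂˣ => χ) = {χ} := Finset.ext fun ψ => by
      rw [mem_excSet, Finset.mem_singleton]
      exact ⟨fun ⟨_, _, h⟩ => h.symm, fun h => ⟨l, hl, h.symm⟩⟩
    obtain ⟨d, a, hx⟩ := h.exists_exc_one h2 hχ (Or.inl rfl)
    have h4 := (hx.sign_of_card h hu (key hx)).1
    rw [h3, Finset.card_singleton, Nat.cast_one, sub_self, zero_mul, add_zero,
      sq_eq_one_iff] at h4
    obtain ⟨d', a', hx'⟩ := h.exists_exc_one h2 hχ (δ := 1 - d) (by omega)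
    have h5 := (hx.exc l hl u hu).symm.trans (hx'.exc l hl u hu)
    rw [eta_of_orb h.comm h2 hl hu] at h5
    obtain rfl : d' = 0 := Int.cast_injective (α := ℂ) (by
      push_cast at h5 ⊢; linear_combination -h5)
    exact ⟨_, _, _, hx', key hx', (hx'.sign_of_card h hu (key hx')).2, fun _ => h3⟩
  · have h4 := (hx.sign_of_card h hu (key hx)).1
    by_cases h5 : d = 0
    · subst h5
      exact ⟨_, _, _, hx, key hx, (hx.sign_of_card h hu (key hx)).2, fun h => by omega⟩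
    · have h6 := sq_pos_of_ne_zero h5
      have h7 : (1 : ℤ) ≤ (excSet ζ).card - 1 := by omega
      have h8 : d - δ = 0 := pow_eq_zero_iff two_ne_zero |>.1 (by nlinarith [sq_nonneg (d - δ)])
      obtain ⟨ζ', hx', h9⟩ := hx.swap h (by
        rw [h8] at h4
        have : ((excSet ζ).card - 1 : ℤ) ≤ 1 := by nlinarith
        omega)
      rw [h8] at hx'
      exact ⟨_, _, _, hx', key hx', (hx'.sign_of_card h hu (key hx')).2, fun h => by
        rw [h9] at h; omega⟩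

end Cfsg.Agent.Blk
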