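import Cfsg.Agent.Lib.Block.Max

/-! Characters fixed by a Galois automorphism, over a normal subgroup of odd index. -/

set_option autoImplicit false

namespace Cfsg.Agent.Blk

open MonoidAlgebra
open Cfsg.Agent.Char hiding cj cj_mul cj_inv_cj cj_cj_inv sum_cj_eq
open scoped ComplexConjugate

universe u

variable {G : Type*} [Group G] [Finite G] {σ : ℂ ≃+* ℂ} {m k : ℕ}

theorem gal_pow_apply (hσ : ∀ z : ℂ, z ^ m = 1 → σ z = z ^ k) (hm : Nat.card G ∣ m) (j : ℕ)
    (χ : IrrCharacter G) (g : G) :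
    ((((irrGalois σ : Equiv.Perm (IrrCharacter G)) ^ j) χ : IrrCharacter G) : G → ℂ) g =
      χ.1 (g ^ k ^ j) := by
  induction j generalizing g with
  | zero => simp
  | succ j ih =>
    rw [pow_succ', Equiv.Perm.mul_apply, gal_apply_pow_card hσ hm, ih, ← pow_mul, ← pow_succ']

theorem gal_pow_eq_one (hσ : ∀ z : ℂ, z ^ m = 1 → σ z = z ^ k) (hm : Nat.card G ∣ m) {j : ℕ}
    (h : ∀ g : G, g ^ k ^ j = g) : (irrGalois σ : Equiv.Perm (IrrCharacter G)) ^ j = 1 := by
  ext χ g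
  rw [gal_pow_apply hσ hm, h]; rfl

omit [Finite G] in
theorem pow_eq_of_modEq {a : ℕ} (hm : Nat.card G ∣ m) (h : a ≡ 1 [MOD m]) (g : G) : g ^ a = g := by
  conv_rhs => rw [← pow_one g]
  exact pow_eq_pow_iff_modEq.2 (h.of_dvd ((orderOf_dvd_natCard g).trans hm))

variable {N : Subgroup G} [hN : N.Normal]

theorem blockCoeff_over_eq_zero (θ : IrrCharacter N) {g : G} (hg : g ∉ N) :
    blockCoeff {χ : IrrCharacter G | em N χ θ ≠ 0} g = 0 := by
  have := Fintype.ofFinite G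
  have h1 := indFun_eq_sum_em θ g
  rw [indFun_normal_of_not_mem _ hg] at h1
  have h2 := congrArg (fun z => (((inertia N θ.1).index * charDegree θ.1 : ℕ) : ℂ) * conj z) h1
  simp only [map_zero, mul_zero, map_sum, map_mul, Finset.mul_sum, Complex.conj_natCast] at h2
  rw [blockCoeff_fs, mul_eq_zero]
  right
  rw [← sum_fs_eq_univ {χ : IrrCharacter G | em N χ θ ≠ 0}] at h2
  · rw [h2]
    refine Finset.sum_congr rfl fun χ hχ => ?_
    rw [← cast_deg, deg_eq_em_mul (mem_fs.1 hχ)]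
    push_cast; ring
  · intro χ hχ
    rw [show em N χ θ = 0 from not_not.1 hχ]; simp

theorem sum_fs_mul_conj_eq [Fintype G] (A : Set (IrrCharacter G)) (a : ℂ[G]) (y : G) :
    ∑ χ ∈ fs A, ch χ a * conj (χ.1 y) = ∑ x, (fC A * a).coeff (x * y * x⁻¹) := by
  classical
  rw [← sum_mul_conj_eq, sum_ite_fs]

theorem sum_over_eq_zero (θ : IrrCharacter N) {a b : G} (h : ∀ x, x * b * x⁻¹ * a⁻¹ ∉ N) :
    ∑ χ ∈ fs {χ : IrrCharacter G | em N χ θ ≠ 0}, χ.1 a * conj (χ.1 b) = 0 := by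
  classical
  have := Fintype.ofFinite G
  have h1 := sum_fs_mul_conj_eq {χ : IrrCharacter G | em N χ θ ≠ 0} (single a 1) b
  simp only [ch_single, one_mul] at h1
  rw [h1]
  refine Finset.sum_eq_zero fun x _ => ?_
  rw [coeff_mul_right, Finset.sum_eq_single a]
  · rw [coeff_fC, blockCoeff_over_eq_zero θ (h x), zero_mul]
  · intro c _ hc
    rw [coeff_single', if_neg (Ne.symm hc), mul_zero]
  · simp

theorem classInner_res_self [Fintype N] {χ : IrrCharacter G} {θ : IrrCharacter N}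
    (h : em N χ θ ≠ 0) : classInner (fun n : N => χ.1 n) (fun n : N => χ.1 n) =
      ((em N χ θ ^ 2 * (inertia N θ.1).index : ℕ) : ℂ) := by
  classical
  rw [(χ.2.isCharacter.res N).classInner_self_eq_sum (c := em N χ) (em_spec χ), ← card_under h,
    ← Finset.sum_filter_of_ne (p := fun φ => em N χ φ ≠ 0) (fun φ _ h => ne_zero_pow two_ne_zero h),
    Finset.sum_congr rfl (g := fun _ => em N χ θ ^ 2), Finset.sum_const, smul_eq_mul,
    Nat.card_eq_fintype_card, Fintype.card_subtype, mul_comm]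
  intro φ hφ
  obtain ⟨g, rfl⟩ := exists_icj_of_em h (Finset.mem_filter.1 hφ).2
  rw [em_icj]

theorem gal_eq_of_em {χ : IrrCharacter G} {θ φ : IrrCharacter N} (hθ : irrGalois σ θ = θ)
    (h : em N χ θ ≠ 0) (h' : em N χ φ ≠ 0) : irrGalois σ φ = φ := by
  obtain ⟨g, rfl⟩ := exists_icj_of_em h h'
  rw [gal_icj, hθ]

theorem gal_res_eq {χ : IrrCharacter G} {θ : IrrCharacter N} (hθ : irrGalois σ θ = θ)
    (h : em N χ θ ≠ 0) (n : N) : (irrGalois σ χ).1 n = χ.1 n := by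
  rw [gal_apply, res_eq_sum_em χ n, map_sum]
  refine Finset.sum_congr rfl fun φ _ => ?_
  by_cases h1 : em N χ φ = 0
  · simp [h1]
  · rw [map_mul, map_natCast, ← gal_apply, gal_eq_of_em hθ h h1]

theorem mem_of_conj_mul_mem (hodd : Odd N.index) (hk : ∀ g : G, g ^ k * g ∈ N) {g x : G}
    (h : x * g * x⁻¹ * (g ^ k)⁻¹ ∈ N) : g ∈ N := by
  rw [← QuotientGroup.eq_one_iff]
  apply eq_one_of_isConj_inv_of_odd (G := G ⧸ N) hodd
  have h1 := (QuotientGroup.eq_one_iff _).2 (hk g)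
  have h2 := (QuotientGroup.eq_one_iff _).2 h
  rw [QuotientGroup.mk_mul, mul_eq_one_iff_eq_inv] at h1
  rw [QuotientGroup.mk_mul, QuotientGroup.mk_inv, mul_inv_eq_one, h1] at h2
  exact isConj_iff.2 ⟨(x : G ⧸ N), h2⟩

theorem existsUnique_fixed_over (hσ : ∀ z : ℂ, z ^ m = 1 → σ z = z ^ k) (hm : Nat.card G ∣ m)
    (hodd : Odd N.index) (hk : ∀ g : G, g ^ k * g ∈ N) {θ : IrrCharacter N}
    (hθ : irrGalois σ θ = θ) : ∃! χ : IrrCharacter G, em N χ θ ≠ 0 ∧ irrGalois σ χ = χ := by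
  classical
  have := Fintype.ofFinite G
  have := Fintype.ofFinite N
  set A := fs {χ : IrrCharacter G | em N χ θ ≠ 0} with hA
  have h1 : ∑ χ ∈ A, classInner (irrGalois σ χ).1 χ.1 = 1 := by
    simp only [classInner]
    rw [← Finset.mul_sum, Finset.sum_comm, ← sum_subgroup_add_sum_not_mem N,
      Finset.sum_eq_zero (s := Finset.filter _ _), add_zero, Finset.sum_comm,
      Finset.sum_congr rfl (g := fun χ => (Nat.card N : ℂ) *
        ((em N χ θ ^ 2 * (inertia N θ.1).index : ℕ) : ℂ)), ← Finset.mul_sum, ← Nat.cast_sum,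
      ← Finset.sum_mul, sum_fs_eq_univ, sum_em_sq, ← Nat.cast_mul, Subgroup.card_mul_index,
      inv_mul_cancel₀ (card_ne_zero' G)]
    · intro χ hχ
      rw [show em N χ θ = 0 from not_not.1 hχ]; simp
    · intro χ hχ
      rw [← classInner_res_self (mem_fs.1 hχ), classInner, mul_inv_cancel_left₀ (card_ne_zero' N)]
      exact Finset.sum_congr rfl fun n _ => by rw [gal_res_eq hθ (mem_fs.1 hχ)]
    · intro g hg
      simp only [gal_apply_pow_card hσ hm]
      exact sum_over_eq_zero θ fun x hx =>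
        (Finset.mem_filter.1 hg).2 (mem_of_conj_mul_mem hodd hk hx)
  simp only [classInner_irr] at h1
  rw [Finset.sum_boole, Nat.cast_eq_one, Finset.card_eq_one] at h1
  obtain ⟨χ, h1⟩ := h1
  have h2 : ∀ ψ, (em N ψ θ ≠ 0 ∧ irrGalois σ ψ = ψ) ↔ ψ = χ := fun ψ => by
    rw [← Finset.mem_singleton (b := ψ) (a := χ), ← h1, Finset.mem_filter, hA, mem_fs]; rfl
  exact ⟨χ, (h2 χ).2 rfl, fun ψ hψ => (h2 ψ).1 hψ⟩

theorem exists_fixed_ext_of_ext {G : Type u} [Group G] [Finite G] {N : Subgroup G} [N.Normal]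
    (hσ : ∀ z : ℂ, z ^ m = 1 → σ z = z ^ k) (hm : Nat.card G ∣ m)
    (hodd : Odd N.index) (hk : ∀ g : G, g ^ k * g ∈ N) {θ : IrrCharacter N}
    (hθ : irrGalois σ θ = θ) {χ : IrrCharacter G} (h : ∀ n : N, χ.1 n = θ.1 n) :
    ∃ ψ : IrrCharacter G, irrGalois σ ψ = ψ ∧ ∀ n : N, ψ.1 n = θ.1 n := by
  obtain ⟨μ, h1, h2⟩ := exists_units_mul_of_res (N := N) (irrGalois σ χ).2.isCharacter
    χ.2.isCharacter (by rw [funext h]; exact θ.2) (ν := 1) (fun g => rfl) (fun n => by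
      rw [gal_apply, h, ← gal_apply, hθ]; simp)
  obtain ⟨j, hj⟩ := hodd
  have h3 : ∀ g, μ g ^ (2 * j + 1) = 1 := fun g => hj ▸ pow_index_eq_one_of_trivial μ h1 g
  refine ⟨⟨_, χ.2.mul_units (μ ^ (j + 1))⟩, ?_, fun n => ?_⟩
  · apply Subtype.ext; funext g
    rw [gal_apply_pow_card hσ hm]
    simp only
    rw [← gal_apply_pow_card hσ hm, h2, ← mul_assoc, ← Units.val_mul]
    congr 2
    have h4 : μ (g ^ k) = (μ g)⁻¹ := by
      rw [← mul_eq_one_iff_eq_inv, ← map_mul]; exact h1 ⟨_, hk g⟩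
    rw [MonoidHom.pow_apply, MonoidHom.pow_apply, h4, inv_pow, inv_mul_eq_iff_eq_mul, ← pow_add,
      show j + 1 + (j + 1) = 2 * j + 1 + 1 by ring, pow_succ, h3, one_mul]
  · simp [h1 n, h n]

/-- The transport of a character of `N` to `N.subgroupOf H`. -/
def sgo {G : Type*} [Group G] {N H : Subgroup G} (h : N ≤ H) (θ : IrrCharacter N) :
    IrrCharacter (N.subgroupOf H) :=
  irrMap (Subgroup.subgroupOfEquivOfLe h).symm θ

theorem sgo_apply {G : Type*} [Group G] {N H : Subgroup G} (h : N ≤ H) (θ : IrrCharacter N)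
    (x : N.subgroupOf H) : (sgo h θ).1 x = θ.1 ⟨(x : H), x.2⟩ := rfl

theorem exists_ext_of_fixed_aux (hσ : ∀ z : ℂ, z ^ m = 1 → σ z = z ^ k) (n : ℕ) :
    ∀ (G : Type u) [Group G] [Finite G] (N : Subgroup G) [N.Normal], N.index = n →
      Nat.card G ∣ m → Odd N.index → (∀ g : G, g ^ k * g ∈ N) → ∀ θ : IrrCharacter N,
      irrGalois σ θ = θ → (∀ g, icj N g θ = θ) →
      ∃ χ : IrrCharacter G, ∀ x : N, χ.1 x = θ.1 x := by
  induction n using Nat.strong_induction_on with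
  | _ n ih =>
  intro G _ _ N hN hn hm hodd hk θ hθ hinv
  have hinv' : ∀ g, Char.cj N g θ.1 = θ.1 := fun g => congrArg Subtype.val (hinv g)
  have h0 : N.index ≠ 0 := Subgroup.index_ne_zero_of_finite
  have hgal : ∀ (H : Subgroup G) (h : N ≤ H), irrGalois σ (sgo h θ) = sgo h θ := fun H h => by
    apply Subtype.ext; funext x
    rw [gal_apply, sgo_apply, ← gal_apply, hθ]
  have hodd' : ∀ (H : Subgroup G), N ≤ H → Odd (N.subgroupOf H).index := fun H h =>
    hodd.of_dvd_nat (Subgroup.relIndex_dvd_index_of_le h)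
  have sub : ∀ (H : Subgroup G) (h : N ≤ H), H ≠ ⊤ →
      ∃ η : IrrCharacter H, irrGalois σ η = η ∧
        ∀ x : N.subgroupOf H, η.1 x = (sgo h θ).1 x := by
    intro H h hH
    have h1 : (N.subgroupOf H).index < n := by
      have h2 := Subgroup.relIndex_mul_index h
      have h3 : 1 < H.index := Subgroup.one_lt_index_of_ne_top hH
      rw [← h2] at h0
      rw [← hn, ← h2]
      exact lt_mul_of_one_lt_right (Nat.pos_of_ne_zero (left_ne_zero_of_mul h0)) h3
    have h2 := (Subgroup.card_subgroup_dvd_card H).trans hm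
    obtain ⟨η, h3⟩ := ih _ h1 H (N.subgroupOf H) rfl h2 (hodd' H h) (fun g => hk g) (sgo h θ)
      (hgal H h) (fun g => Subtype.ext (funext fun x => congrFun (hinv' g) ⟨(x : H), x.2⟩))
    exact exists_fixed_ext_of_ext hσ h2 (hodd' H h) (fun g => hk g) (hgal H h) h3
  by_cases hc : IsCyclic (G ⧸ N)
  · obtain ⟨χ, h1, h2⟩ := θ.2.exists_ext_of_cyclic hinv' hc
    exact ⟨⟨χ, h1⟩, h2⟩
  by_cases hq : ∃ q : ℕ, q.Prime ∧ IsPGroup q (G ⧸ N)
  · obtain ⟨q, hq, hG⟩ := hq
    have := Fact.mk hq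
    have : Nontrivial (G ⧸ N) := by
      by_contra h
      rw [not_nontrivial_iff_subsingleton] at h
      exact hc isCyclic_of_subsingleton
    have := hG.center_nontrivial
    obtain ⟨z, hz⟩ := exists_ne (1 : Subgroup.center (G ⧸ N))
    have hZ : (Subgroup.zpowers (z : G ⧸ N)).Normal :=
      normal_of_le_center (Subgroup.zpowers_le.2 z.2)
    set H := (Subgroup.zpowers (z : G ⧸ N)).comap (QuotientGroup.mk' N) with hH
    have h1 : N ≤ H := fun x hx => by
      rw [hH, Subgroup.mem_comap, QuotientGroup.mk'_apply, (QuotientGroup.eq_one_iff x).2 hx]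
      exact Subgroup.one_mem _
    have h2 : H ≠ ⊤ := fun h => hc ⟨⟨z, fun y => by
      obtain ⟨y, rfl⟩ := QuotientGroup.mk_surjective y
      exact (h ▸ Subgroup.mem_top y : y ∈ H)⟩⟩
    have h3 : H.index < n := by
      have h4 := Subgroup.relIndex_mul_index h1
      have h5 : N.relIndex H ≠ 1 := fun h => by
        obtain ⟨y, hy⟩ := QuotientGroup.mk_surjective (z : G ⧸ N)
        have h6 : y ∈ H := by
          rw [hH, Subgroup.mem_comap, QuotientGroup.mk'_apply, hy]; exact Subgroup.mem_zpowers _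
        exact hz (Subtype.ext (hy ▸ (QuotientGroup.eq_one_iff y).2
          (Subgroup.relIndex_eq_one.1 h h6)))
      rw [← h4] at h0
      rw [← hn, ← h4]
      have h6 := left_ne_zero_of_mul h0
      exact lt_mul_of_one_lt_left (Nat.pos_of_ne_zero (right_ne_zero_of_mul h0)) (by omega)
    obtain ⟨η, h4, h5⟩ := sub H h1 h2
    obtain ⟨η', -, h6⟩ := existsUnique_fixed_over hσ ((Subgroup.card_subgroup_dvd_card H).trans hm)
      (hodd' H h1) (fun g => hk g) (hgal H h1)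
    have h7 : ∀ g, icj H g η = η := fun g => by
      refine (h6 _ ?_).trans (h6 η ⟨by rw [em_of_res_self h5]; exact one_ne_zero, h4⟩).symm
      refine ⟨?_, by rw [gal_icj, h4]⟩
      rw [em_of_res_self]
      · exact one_ne_zero
      · intro x
        rw [icj_apply]
        exact (h5 ⟨⟨_, _⟩, hN.conj_mem _ x.2 g⟩).trans (congrFun (hinv' g) ⟨(x : H), x.2⟩)
    obtain ⟨χ, h8⟩ := ih _ h3 G H rfl hm (hodd.of_dvd_nat (Subgroup.index_dvd_of_le h1))
      (fun g => h1 (hk g)) η h4 h7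
    exact ⟨χ, fun x => (h8 ⟨x, h1 x.2⟩).trans (h5 ⟨⟨x, h1 x.2⟩, x.2⟩)⟩
  · obtain ⟨χ, h1, h2⟩ := θ.2.exists_ext_of_forall_prime hinv' fun q hq' _ => by
      have := Fact.mk hq'
      obtain ⟨Q⟩ : Nonempty (Sylow q (G ⧸ N)) := inferInstance
      set H := (Q : Subgroup (G ⧸ N)).comap (QuotientGroup.mk' N) with hH
      have h1 : N ≤ H := fun x hx => by
        rw [hH, Subgroup.mem_comap, QuotientGroup.mk'_apply, (QuotientGroup.eq_one_iff x).2 hx]
        exact Subgroup.one_mem _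
      have h2 : H.index = (Q : Subgroup (G ⧸ N)).index :=
        Subgroup.index_comap_of_surjective _ (QuotientGroup.mk'_surjective N)
      have h3 : H ≠ ⊤ := fun h => hq ⟨q, hq', by
        rw [h, Subgroup.index_top, eq_comm, Subgroup.index_eq_one] at h2
        have h4 := Q.isPGroup'
        rw [h2] at h4
        exact h4.of_equiv Subgroup.topEquiv⟩
      obtain ⟨η, -, h4⟩ := sub H h1 h3
      exact ⟨H, h1, η.1, h2 ▸ Q.not_dvd_index, η.2.isCharacter,
        fun x => h4 ⟨⟨x, h1 x.2⟩, x.2⟩⟩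
    exact ⟨⟨χ, h1⟩, h2⟩

theorem exists_fixed_ext {G : Type u} [Group G] [Finite G] {N : Subgroup G} [N.Normal]
    (hσ : ∀ z : ℂ, z ^ m = 1 → σ z = z ^ k) (hm : Nat.card G ∣ m)
    (hodd : Odd N.index) (hk : ∀ g : G, g ^ k * g ∈ N) {θ : IrrCharacter N}
    (hθ : irrGalois σ θ = θ) (hinv : ∀ g, icj N g θ = θ) :
    ∃ ψ : IrrCharacter G, irrGalois σ ψ = ψ ∧ ∀ n : N, ψ.1 n = θ.1 n := by
  obtain ⟨χ, h⟩ := exists_ext_of_fixed_aux hσ _ G N rfl hm hodd hk θ hθ hinv
  exact exists_fixed_ext_of_ext hσ hm hodd hk hθ h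

theorem pow_mul_mem_of_odd (hodd : Odd N.index) (hk : ∀ g : G, Odd (orderOf g) → g ^ k = g⁻¹)
    (g : G) : g ^ k * g ∈ N := by
  have := Fact.mk Nat.prime_two
  obtain ⟨x, hx⟩ := exists_isPPart 2 g
  have h1 : x ∈ N := by
    obtain ⟨j, hj⟩ := hx.pelt
    rw [← QuotientGroup.eq_one_iff, ← orderOf_eq_one_iff]
    refine Nat.eq_one_of_dvd_coprimes (Nat.Coprime.pow_left j (Nat.coprime_two_left.2 hodd))
      (hj ▸ orderOf_map_dvd (QuotientGroup.mk' N) x) (orderOf_dvd_natCard _)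
  have h2 := hk (x⁻¹ * g) (Nat.odd_iff.2 (by have := hx.preg; omega))
  have h3 : Commute x (x⁻¹ * g) := (Commute.refl x).inv_right.mul_right hx.commute
  have h4 : g = x * (x⁻¹ * g) := by group
  have h5 : g ^ k * g = x ^ k * x := by
    conv_lhs => rw [h4, h3.mul_pow, h2, h3.eq]
    group
  rw [h5]
  exact N.mul_mem (N.pow_mem h1 k) h1

end Cfsg.Agent.Blk
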