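import Cfsg.Agent.Lib.Block.PSyl
import Cfsg.Agent.Lib.Block.Fix

/-! Fully ramified characters. -/

set_option autoImplicit false

namespace Cfsg.Agent.Blk

open Cfsg.Agent.Char hiding cj cj_mul cj_inv_cj cj_cj_inv sum_cj_eq om
open scoped ComplexConjugate
attribute [local instance] _root_.Classical.propDecidable
open Subgroup (zpowers mem_zpowers)

universe u

variable {G : Type u} [Group G] [Finite G] {Z K L S U N : Subgroup G} {p e : ℕ}

omit [Finite G] in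
theorem isCyclic_quot_sub [N.Normal] (h : IsCyclic (U.map (QuotientGroup.mk' N))) :
    IsCyclic (U ⧸ N.subgroupOf U) :=
  isCyclic_of_injective (QuotientGroup.lift (N.subgroupOf U) ((QuotientGroup.mk' N).subgroupMap U)
    fun _ hx => Subtype.ext ((QuotientGroup.eq_one_iff _).2 hx)) (by
      rw [injective_iff_map_eq_one]
      intro x hx
      obtain ⟨x, rfl⟩ := QuotientGroup.mk_surjective x
      exact (QuotientGroup.eq_one_iff _).2 ((QuotientGroup.eq_one_iff (N := N) _).1 (congrArg Subtype.val hx)))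

theorem em_sgo [Fintype K] (h : K ≤ U) (ξ : IrrCharacter U) (θ : IrrCharacter K) :
    (em (K.subgroupOf U) ξ (sgo h θ) : ℂ) = classInner (fun x : K => ξ.1 ⟨x, h x.2⟩) θ.1 := by
  have := Fintype.ofFinite (K.subgroupOf U)
  rw [← em_spec, ← classInner_subgroupOf h]
  rfl

theorem em_trans (h : K ≤ U) (χ : IrrCharacter G) (θ : IrrCharacter K) :
    em K χ θ = ∑ ξ : IrrCharacter U, em U χ ξ * em (K.subgroupOf U) ξ (sgo h θ) := by
  have := Fintype.ofFinite K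
  have h1 : (fun x : K => χ.1 x) = ∑ ξ : IrrCharacter U, (em U χ ξ : ℂ) • fun x : K => ξ.1 ⟨x, h x.2⟩ :=
    funext fun x => by simpa using res_eq_sum_em χ (⟨x, h x.2⟩ : U)
  have h2 := em_spec χ θ
  rw [h1, classInner_sum_left] at h2
  simp only [classInner_smul_left, ← em_sgo h] at h2
  exact_mod_cast h2.symm

theorem em_ne_zero_trans (h : K ≤ U) {χ : IrrCharacter G} {ξ : IrrCharacter U} {θ : IrrCharacter K}
    (h1 : em U χ ξ ≠ 0) (h2 : em (K.subgroupOf U) ξ (sgo h θ) ≠ 0) : em K χ θ ≠ 0 := by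
  rw [em_trans h, Ne, Finset.sum_eq_zero_iff]
  exact fun h3 => mul_ne_zero h1 h2 (h3 ξ (Finset.mem_univ _))

theorem exists_em_between (h : K ≤ U) {χ : IrrCharacter G} {θ : IrrCharacter K} (h1 : em K χ θ ≠ 0) :
    ∃ ξ : IrrCharacter U, em U χ ξ ≠ 0 ∧ em (K.subgroupOf U) ξ (sgo h θ) ≠ 0 := by
  rw [em_trans h] at h1
  obtain ⟨ξ, -, h2⟩ := Finset.exists_ne_zero_of_sum_ne_zero h1
  exact ⟨ξ, mul_ne_zero_iff.1 h2⟩

theorem icj_sgo [N.Normal] (h : N ≤ U) (θ : IrrCharacter N) (g : U) :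
    icj (N.subgroupOf U) g (sgo h θ) = sgo h (icj N g θ) := rfl

theorem em_eq_one_of_cyclic [N.Normal] (hc : IsCyclic (G ⧸ N)) {χ : IrrCharacter G} {θ : IrrCharacter N}
    (h : em N χ θ ≠ 0) : em N χ θ = 1 := by
  have := Fintype.ofFinite G
  have := Fintype.ofFinite N
  have h0 := le_inertia θ.2.isClassFunction
  have := Fintype.ofFinite (N.subgroupOf (inertia N θ.1))
  obtain ⟨ψ, h1, -, h2⟩ := θ.2.clifford_surj rfl h0 χ.2 (em_ne_zero_iff.1 h)
  rw [em_spec, ← em_sgo h0 ⟨ψ, h1⟩, Nat.cast_inj] at h2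
  rw [← h2]
  exact em_of_res_self (congrFun ((sgo h0 θ).2.res_eq_of_cyclic
    (cj_eq_of_icj fun g => by rw [icj_sgo, icj_eq_iff.2 g.2]) (isCyclic_quot_sub inferInstance) h1
    (em_ne_zero_iff (χ := ⟨ψ, h1⟩).1 (h2 ▸ h))))

/-- `χ` is fully ramified over `θ`. -/
structure FR (Z : Subgroup G) (χ : IrrCharacter G) (θ : IrrCharacter Z) (e : ℕ) : Prop where
  sq : e ^ 2 = Z.index
  res : ∀ z : Z, χ.1 z = e * θ.1 z

theorem fr_of_em [Z.Normal] {χ : IrrCharacter G} {θ : IrrCharacter Z} (h : ∀ g, icj Z g θ = θ)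
    (h1 : Z.index ≤ em Z χ θ ^ 2) : FR Z χ θ (em Z χ θ) := by
  have h2 : em Z χ θ ≠ 0 := fun h2 => by simp [h2, Subgroup.index_ne_zero_of_finite] at h1
  exact ⟨(sq_le_index χ.2 θ.2 (funext (res_eq_em_mul h h2))).antisymm h1, res_eq_em_mul h h2⟩

namespace FR
variable [Z.Normal] {χ : IrrCharacter G} {θ : IrrCharacter Z} (h : FR Z χ θ e)
include h

theorem ne : e ≠ 0 := fun h1 => Subgroup.index_ne_zero_of_finite (H := Z) (by simp [← h.sq, h1])

theorem zero {g : G} (hg : g ∉ Z) : χ.1 g = 0 := (sq_eq_index_iff χ.2 θ.2 (funext h.res)).1 h.sq g hg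

theorem inv (g : G) : icj Z g θ = θ :=
  Subtype.ext (invariant_of_res_eq_smul χ.2.isClassFunction (Nat.cast_ne_zero.2 h.ne) (funext h.res) g)

theorem deg : charDegree χ.1 = e * charDegree θ.1 := by
  have := h.res 1
  rw [OneMemClass.coe_one, ← χ.2.isCharacter.cast_charDegree, ← θ.2.isCharacter.cast_charDegree] at this
  exact_mod_cast this

theorem eq_of_em {ψ : IrrCharacter G} (h1 : em Z ψ θ ≠ 0) : ψ = χ := by
  have := Fintype.ofFinite G
  rw [← Nat.cast_ne_zero (R := ℂ), ← classInner_indFun_eq_em,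
    indFun_eq_smul_of_sq_eq_index χ.2 θ.2 (funext h.res) h.sq, classInner_smul_left] at h1
  exact Subtype.ext (χ.2.eq_of_classInner_ne_zero ψ.2 (right_ne_zero_of_mul h1)).symm

theorem inv_sgo (hU : Z ≤ U) (g : U) : icj (Z.subgroupOf U) g (sgo hU θ) = sgo hU θ := by
  rw [icj_sgo, h.inv]

theorem em_mul (hU : Z ≤ U) (ξ : IrrCharacter U) :
    Z.relIndex U * em U χ ξ = e * em (Z.subgroupOf U) ξ (sgo hU θ) := by
  have := Fintype.ofFinite U
  have h1 : (Z.relIndex U : ℂ) • (fun x : U => χ.1 x) = (e : ℂ) • indFun (Z.subgroupOf U) (sgo hU θ).1 := by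
    funext x
    by_cases hx : (x : G) ∈ Z
    · have := res_indFun_of_invariant (cj_eq_of_icj (h.inv_sgo hU)) ⟨x, hx⟩
      simp only [Pi.smul_apply, smul_eq_mul]
      rw [this, h.res ⟨x, hx⟩, mul_left_comm]
      rfl
    · simp [h.zero hx, indFun_normal_of_not_mem (N := Z.subgroupOf U) _ hx]
  have h2 := congrArg (classInner · ξ.1) h1
  simp only [classInner_smul_left, em_spec, classInner_indFun_eq_em] at h2
  exact_mod_cast h2

theorem em_iff (hU : Z ≤ U) {ξ : IrrCharacter U} :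
    em U χ ξ ≠ 0 ↔ em (Z.subgroupOf U) ξ (sgo hU θ) ≠ 0 := by
  have := h.em_mul hU ξ
  have h1 : Z.relIndex U ≠ 0 := Subgroup.index_ne_zero_of_finite
  have h2 := h.ne
  constructor <;> intro h3 h4 <;> simp_all

theorem deg_sub (hU : Z ≤ U) {ξ : IrrCharacter U} (h1 : em U χ ξ ≠ 0) :
    charDegree ξ.1 = em (Z.subgroupOf U) ξ (sgo hU θ) * charDegree θ.1 := by
  rw [deg_eq_em_mul ((h.em_iff hU).1 h1), inertia_eq_top_iff.2 (cj_eq_of_icj (h.inv_sgo hU)),
    Subgroup.index_top, mul_one, sgo, charDegree_irrMap]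

theorem sub (hU : Z ≤ U) (h1 : (Z.relIndex U).Coprime U.index) :
    ∃ ξ a, FR (Z.subgroupOf U) ξ (sgo hU θ) a := by
  obtain ⟨ξ, h2⟩ := exists_em_over (sgo hU θ)
  refine ⟨ξ, _, fr_of_em (h.inv_sgo hU) (Nat.le_of_dvd (Nat.pos_of_ne_zero (pow_ne_zero 2 h2)) ?_)⟩
  have h3 := congrArg (· ^ 2) (h.em_mul hU ξ)
  simp only [mul_pow, h.sq, ← Subgroup.relIndex_mul_index hU, pow_two (Z.relIndex U), mul_assoc] at h3
  exact h1.dvd_of_dvd_mul_left ⟨_, (Nat.eq_of_mul_eq_mul_left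
    (Nat.pos_of_ne_zero Subgroup.index_ne_zero_of_finite) h3).symm⟩

theorem clifford [L.Normal] (hL : Z ≤ L) {ξ : IrrCharacter L} (h1 : em L χ ξ ≠ 0) :
    (inertia L ξ.1).index * charDegree ξ.1 ^ 2 = Z.relIndex L * charDegree θ.1 ^ 2 := by
  have h2 := deg_eq_em_mul h1
  have h3 := h.em_mul hL ξ
  have h4 := h.deg_sub hL h1
  rw [h.deg] at h2
  refine Nat.eq_of_mul_eq_mul_left (Nat.pos_of_ne_zero h1) ?_
  zify at *
  linear_combination (-(charDegree ξ.1 : ℤ)) * h2 - (charDegree θ.1 : ℤ) ^ 2 * h3 + e * (charDegree θ.1 : ℤ) * h4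

theorem index_le_of_cyclic [L.Normal] (hL : Z ≤ L) (hc : IsCyclic (G ⧸ L)) {ξ : IrrCharacter L}
    (h1 : em L χ ξ ≠ 0) : L.index ≤ (inertia L ξ.1).index := by
  have h2 := deg_eq_em_mul h1
  have h3 := h.clifford hL h1
  have h4 := h.sq
  rw [h.deg, em_eq_one_of_cyclic hc h1] at h2
  rw [← Subgroup.relIndex_mul_index hL] at h4
  refine (Nat.eq_of_mul_eq_mul_left (Nat.mul_pos (Nat.pos_of_ne_zero
    (Subgroup.index_ne_zero_of_finite (H := Z.subgroupOf L))) (pow_pos θ.2.charDegree_pos 2)) ?_).le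
  change Z.relIndex L * _ * _ = Z.relIndex L * _ * _
  zify at *
  linear_combination (e * (charDegree θ.1 : ℤ) + (inertia L ξ.1).index * charDegree ξ.1) * h2 -
    (charDegree θ.1 : ℤ) ^ 2 * h4 + (inertia L ξ.1).index * h3

end FR

/-- The stabilizer of a character of `L` in the normalizer of `L`. -/
def cstab (L : Subgroup G) (ξ : L → ℂ) : Subgroup G where
  carrier := {g | g ∈ No L ∧ ∀ x y : L, (y : G) = g * x * g⁻¹ → ξ y = ξ x}
  one_mem' := ⟨one_mem _, fun x y h => congrArg ξ (Subtype.ext (by simpa using h))⟩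
  mul_mem' := fun {a b} ha hb => ⟨mul_mem ha.1 hb.1, fun x y h =>
    (ha.2 ⟨_, (Subgroup.mem_normalizer_iff.1 hb.1 x).1 x.2⟩ y (by simp [h, mul_assoc])).trans
      (hb.2 x _ rfl)⟩
  inv_mem' := fun {a} ha => ⟨inv_mem ha.1, fun x y h => (ha.2 y x (by simp [h, mul_assoc])).symm⟩

omit [Finite G] in
theorem relIndex_eq_of_mul {T : Subgroup G} (h : S ≤ N) (h1 : ∀ n ∈ N, ∃ s ∈ S, s⁻¹ * n ∈ T) :
    T.relIndex N = T.relIndex S :=
  (Nat.card_congr (Equiv.ofBijective _ ⟨(Subgroup.quotientSubgroupOfEmbeddingOfLE T h).injective,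
    fun x => by
      obtain ⟨⟨n, hn⟩, rfl⟩ := QuotientGroup.mk_surjective x
      obtain ⟨s, hs, h2⟩ := h1 n hn
      exact ⟨QuotientGroup.mk ⟨s, hs⟩, QuotientGroup.eq.2 h2⟩⟩)).symm

theorem exists_syl_over (p : ℕ) [hp : Fact p.Prime] (Z : Subgroup G) [Z.Normal] :
    ∃ S : Subgroup G, Z ≤ S ∧ (∃ k, Z.relIndex S = p ^ k) ∧ ¬ p ∣ S.index ∧
      ∀ (K : Subgroup G) [K.Normal], Z ≤ K → K ⊔ No (S ⊓ K) = ⊤ ∧ ¬ p ∣ S.relIndex K ∧
        IsPGroup p (S.map (QuotientGroup.mk' K)) := by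
  obtain ⟨P⟩ : Nonempty (Sylow p G) := inferInstance
  refine ⟨P ⊔ Z, le_sup_right, by rw [Subgroup.relIndex_sup_right]; exact P.isPGroup'.index _,
    not_dvd_index_of_le le_sup_left P.not_dvd_index, fun K _ hK => ?_⟩
  have h1 := (Solv.isSylowIn_top P).inf_normal (N := K) le_top Subgroup.le_normalizer_of_normal
  refine ⟨eq_top_iff.2 (h1.frattini_top.ge.trans (sup_le_sup_left ?_ _)), fun h => h1.not_dvd
    (h.trans (Subgroup.relIndex_dvd_of_le_left _ (inf_le_left.trans le_sup_left))), ?_⟩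
  · rw [sup_comm, Solv.dedekind hK Subgroup.le_normalizer_of_normal, sup_comm]
    exact (le_inf le_rfl Subgroup.le_normalizer_of_normal).trans (No_sup_le _ _)
  · rw [Subgroup.map_sup, (Subgroup.map_eq_bot_iff Z).2 (by rwa [QuotientGroup.ker_mk']), sup_bot_eq]
    exact P.isPGroup'.map _

theorem FR.exists_compl [Z.Normal] {χ : IrrCharacter G} {θ : IrrCharacter Z} (h : FR Z χ θ e)
    [K.Normal] (hK : Z ≤ K) (p : ℕ) [hp : Fact p.Prime]
    (H : ∀ (S : Subgroup G) (hS : Z ≤ S) (ψ : IrrCharacter S) (a : ℕ) (ξ : IrrCharacter (S ⊓ K : Subgroup G))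
      [((S ⊓ K).subgroupOf S).Normal], (∃ k, Z.relIndex S = p ^ k) → ¬ p ∣ S.index →
      IsPGroup p (S.map (QuotientGroup.mk' K)) → FR (Z.subgroupOf S) ψ (sgo hS θ) a →
      (∀ ξ', em (S ⊓ K) χ ξ' ≠ 0 → charDegree ξ'.1 = charDegree ξ.1) → em (S ⊓ K) χ ξ ≠ 0 →
      em _ ψ (sgo inf_le_left ξ) ≠ 0 → K.relIndex S ≤ (inertia _ (sgo inf_le_left ξ).1).index) :
    ∃ M : Subgroup G, K ≤ M ∧ M.index = p ^ K.index.factorization p := by
  obtain ⟨S, hS, ⟨k, h1⟩, h2, h3⟩ := exists_syl_over p Z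
  obtain ⟨h3, h4, h5⟩ := h3 K hK
  obtain ⟨ψ, a, h6⟩ := h.sub hS (h1 ▸ (hp.out.coprime_iff_not_dvd.2 h2).pow_left k)
  have hSN : S ≤ No (S ⊓ K) := (le_inf (le_No S) Subgroup.le_normalizer_of_normal).trans (No_inf_le _ _)
  haveI := (Subgroup.normal_subgroupOf_iff_le_normalizer inf_le_left).2 hSN
  have h7 : ∀ ξ, em (S ⊓ K) χ ξ ≠ 0 → em _ ψ (sgo inf_le_left ξ) ≠ 0 := fun ξ hξ => by
    obtain ⟨η, h7, h8⟩ := exists_em_between inf_le_left hξ
    rwa [← h6.eq_of_em ((h.em_iff hS).1 h7)]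
  obtain ⟨ξ, h8⟩ := exists_em_under χ (S ⊓ K)
  have h9 := H S hS ψ a ξ ⟨k, h1⟩ h2 h5 h6 (fun ξ' h9 => by
    obtain ⟨g, hg⟩ := exists_icj_of_em (h7 ξ h8) (h7 ξ' h9)
    have := congrArg (fun φ => charDegree φ.1) hg
    simpa only [charDegree_icj, sgo, charDegree_irrMap] using this) h8 (h7 ξ h8)
  have h10 : (cstab _ ξ.1).subgroupOf S = inertia _ (sgo inf_le_left ξ).1 := Subgroup.ext fun s =>
    ⟨fun hs => mem_inertia'.2 fun x => hs.2 _ _ rfl, fun hs => ⟨hSN s.2, fun x y h10 =>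
      (congrArg ξ.1 (Subtype.ext h10)).trans (mem_inertia'.1 hs ⟨⟨x, x.2.1⟩, x.2⟩)⟩⟩
  have h11 : (cstab _ ξ.1).relIndex (No (S ⊓ K)) = (cstab _ ξ.1).relIndex S :=
    relIndex_eq_of_mul hSN fun n hn => by
      have := Fintype.ofFinite (S ⊓ K : Subgroup G)
      obtain ⟨s, hs⟩ := exists_icj_of_em (h7 ξ h8) (h7 (irrMap (conjIso (mem_No.1 hn)) ξ) (by
        rwa [em_ne_zero_iff, classInner_res_irrMap χ.2.isClassFunction, ← em_ne_zero_iff]))
      refine ⟨(s⁻¹ : S), s⁻¹.2, mul_mem (by simpa using hSN s.2) hn, fun x y h11 => ?_⟩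
      have h12 := (Subgroup.mem_normalizer_iff.1 hn x).1 x.2
      have := congrFun (congrArg Subtype.val hs) ⟨⟨_, h12.1⟩, h12⟩
      rw [icj_apply, sgo_apply, sgo_apply, irrMap_apply] at this
      convert this.symm using 2
      · exact Subtype.ext (by simp [h11, mul_assoc])
      · exact Subtype.ext (by simp [coe_conjIso_symm, mul_assoc])
  have h12 : S ⊓ K ≤ cstab _ ξ.1 := fun g hg => ⟨hSN hg.1, fun x y h12 =>
    (congrArg ξ.1 (Subtype.ext h12 : y = ⟨g, hg⟩ * x * ⟨g, hg⟩⁻¹)).trans (ξ.2.isClassFunction _ _)⟩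
  have h13 : (cstab _ ξ.1).relIndex S = K.relIndex S := by
    refine le_antisymm (Nat.le_of_dvd (Nat.pos_of_ne_zero Subgroup.index_ne_zero_of_finite) ?_)
      (h9.trans_eq (congrArg Subgroup.index h10.symm))
    rw [← Subgroup.inf_relIndex_left S K]
    exact Subgroup.relIndex_dvd_of_le_left _ h12
  obtain ⟨m, hm⟩ : ∃ m, K.relIndex S = p ^ m := by
    rw [Subgroup.relIndex, ← QuotientGroup.ker_mk' K, ← Subgroup.relIndex, Subgroup.relIndex_ker]
    exact IsPGroup.iff_card.1 h5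
  refine ⟨cstab _ ξ.1 ⊔ K, le_sup_right, ?_⟩
  have h14 : (cstab _ ξ.1 ⊔ K).index ∣ p ^ m := by
    rw [← Subgroup.relIndex_top_right, ← h3, sup_comm K, relIndex_sup_eq Subgroup.le_normalizer_of_normal
      le_sup_right, ← hm, ← h13, ← h11]
    exact Subgroup.relIndex_dvd_of_le_left _ le_sup_left
  have h15 : ¬ p ∣ K.relIndex (cstab _ ξ.1 ⊔ K) := fun h15 => by
    rw [Subgroup.relIndex_sup_right] at h15
    have h16 : cstab _ ξ.1 ≤ No (S ⊓ K) := fun _ h => h.1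
    have h17 := Subgroup.relIndex_mul_relIndex _ _ _ h12 h16
    rw [h11, h13, ← Subgroup.relIndex_mul_relIndex _ _ _ inf_le_left hSN, Subgroup.inf_relIndex_left,
      mul_comm, Nat.mul_right_inj (hm ▸ pow_ne_zero _ hp.out.ne_zero)] at h17
    exact h2 ((h15.trans (Subgroup.relIndex_dvd_of_le_left _ inf_le_right)).trans
      (h17 ▸ Subgroup.relIndex_dvd_index_of_le hSN))
  obtain ⟨j, -, hj⟩ := (Nat.dvd_prime_pow hp.out).1 h14
  rw [← Subgroup.relIndex_mul_index (le_sup_right : K ≤ cstab _ ξ.1 ⊔ K), hj, Nat.factorization_mul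
    (a := K.relIndex _) Subgroup.index_ne_zero_of_finite (pow_ne_zero _ hp.out.ne_zero), Finsupp.add_apply,
    Nat.factorization_eq_zero_of_not_dvd h15, zero_add, hp.out.factorization_pow, Finsupp.single_eq_same]

end Cfsg.Agent.Blk
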