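import Cfsg.Agent.Lib.Solv.FrobSD
import Cfsg.Agent.Lib.Transfer.FC4
import Cfsg.Agent.Lib.Transfer.Tet

/-! `p'`-subgroups of `SL₂(p)` are Frobenius complements. -/

set_option autoImplicit false

namespace Cfsg.Agent.Blk

open Subgroup Transfer

theorem pow_of_fix {p : ℕ} [hp : Fact p.Prime] (g : SL2 (ZMod p)) {v : Fin 2 → ZMod p} (hv : v ≠ 0)
    (h : g.1.mulVec v = v) : g ^ p = 1 := by
  have h1 : (g.1 - 1).det = 0 := Matrix.exists_mulVec_eq_zero_iff.1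
    ⟨v, hv, by rw [Matrix.sub_mulVec, h, Matrix.one_mulVec, sub_self]⟩
  have h2 : (g.1 - 1) ^ 2 = 0 := by
    have h3 := g.2
    rw [Matrix.det_fin_two] at h3 h1
    simp only [Matrix.sub_apply, Matrix.one_apply_eq, ne_eq, zero_ne_one, not_false_eq_true,
      Matrix.one_apply_ne, sub_zero, one_ne_zero] at h1
    ext i j
    fin_cases i <;> fin_cases j <;> simp [sq, Matrix.mul_apply, Fin.sum_univ_two]
    · linear_combination (g.1 0 0 - 1) * (h3 - h1) - h1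
    · linear_combination (g.1 0 1) * (h3 - h1)
    · linear_combination (g.1 1 0) * (h3 - h1)
    · linear_combination (g.1 1 1 - 1) * (h3 - h1) - h1
  refine Subtype.ext ?_
  rw [Matrix.SpecialLinearGroup.coe_pow, ← sub_add_cancel g.1 1,
    add_pow_char_of_commute _ (Commute.one_right _), pow_eq_zero_of_le hp.out.two_le h2, one_pow, zero_add]
  rfl

theorem frob_of_inj {H : Type*} [Group H] [Finite H] [Nontrivial H] {p : ℕ} [hp : Fact p.Prime]
    (φ : H →* SL2 (ZMod p)) (h1 : Function.Injective φ) (h2 : ¬ p ∣ Nat.card H) :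
    ∃ (L : Type) (_ : Group L) (_ : Finite L) (C : Subgroup L), IsFrobeniusComplement C ∧
      Nonempty (C ≃* H) := by
  let ψ : SL2 (ZMod p) →* MulAut (Multiplicative (Fin 2 → ZMod p)) :=
    { toFun := fun g => AddEquiv.toMultiplicative (Matrix.SpecialLinearGroup.toLin' g).toAddEquiv
      map_one' := by ext; simp
      map_mul' := fun a b => by ext; simp }
  obtain ⟨L, i1, i2, C, a1, ⟨e⟩, -⟩ := Solv.exists_frob_of_fpf_action (ψ.comp φ) fun h hh v hv => by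
    by_contra n
    have a1 := pow_of_fix (φ h) (v := v.toAdd) n hv
    rw [← map_pow, map_eq_one_iff _ h1, ← orderOf_dvd_iff_pow_eq_one, Nat.dvd_prime hp.out] at a1
    rcases a1 with e | e
    · exact hh (orderOf_eq_one_iff.1 e)
    · exact h2 (e ▸ orderOf_dvd_natCard h)
  exact ⟨L, i1, i2, C, a1, ⟨e.symm⟩⟩

theorem exists_sl23 : ∃ φ : SL2 (ZMod 3) →* SL2 (ZMod 5), Function.Injective φ := by
  obtain ⟨i, j, g, a1, a2, a3, a4, a5, a6, a7, a8, a9⟩ : ∃ i j g : SL2 (ZMod 5), g ^ 3 = 1 ∧ g ^ 1 ≠ 1 ∧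
      i ^ 2 ^ 1 ≠ 1 ∧ i ^ 2 ^ 2 = 1 ∧ j * j = i * i ∧ j * i * j⁻¹ = i⁻¹ ∧ j * i ≠ i * j ∧ g * i = j * g ∧
      g * j * g⁻¹ = i * j :=
    ⟨⟨!![0, 4; 1, 0], by decide⟩, ⟨!![2, 0; 0, 3], by decide⟩, ⟨!![1, 2; 1, 3], by decide⟩, by decide,
      by decide, by decide, by decide, by decide, by decide, by decide, by decide, by decide⟩
  have h1 : orderOf g = 3 := orderOf_eq_prime a1 (by rwa [pow_one] at a2)
  have h2 : Tet i j g := ⟨orderOf_eq_prime_pow a3 a4, a5, a6,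
    fun e => a7 (Solv.commute_of_mem_zpowers e).eq, mul_inv_eq_of_eq_mul a8, a9, by rw [h1]; decide⟩
  obtain ⟨f, hf⟩ := h2.exists_hom
  let e := MulEquiv.ofBijective f ((Nat.bijective_iff_surjective_and_card _).2 ⟨hf, by
    rw [h2.card, h1, Nat.card_eq_fintype_card]; decide⟩)
  exact ⟨(Subgroup.subtype _).comp e.symm.toMonoidHom, (subtype_injective _).comp e.symm.injective⟩

theorem sl25_inv : ∀ g : SL2 (ZMod 5), g * g = 1 → g = 1 ∨ g = -1 := by decide +kernel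

theorem exists_sl25 : ∃ φ : SL2 (ZMod 5) →* SL2 (ZMod 11), Function.Injective φ := by
  obtain ⟨x, y, h1, h2, h3, h4, h5, h6, h7⟩ : ∃ x y : SL2 (ZMod 11), x * x * (x * x) = 1 ∧
      x * x * y = y * (x * x) ∧ y ^ 3 = 1 ∧ (x * y) ^ 5 = 1 ∧ x * x ≠ 1 ∧ y ^ 1 ≠ 1 ∧ x * y ≠ 1 :=
    ⟨⟨!![0, 10; 1, 0], by decide⟩, ⟨!![0, 3; 7, 10], by decide⟩, by decide, by decide,
      by decide, by decide +kernel, by decide, by decide, by decide⟩
  obtain ⟨a, b, hab, c, r1, r2, r3, r4⟩ := FC.sl25_gens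
  obtain ⟨φ, e1, e2⟩ := Perm.Tri.exists_hom_pair hab (x := x) (y := y)
    (c ▸ FC.card_le_120 (H := SL2 (ZMod 5) × SL2 (ZMod 11)) (Prod.ext r1 h1) (Prod.ext r2 h2)
      (Prod.ext r3 h3) (Prod.ext r4 h4))
  haveI := Fact.mk Nat.prime_five
  have b0 : ∀ g n, orderOf (φ g) = n → n ∣ Nat.card φ.range := fun g n e =>
    e.symm.dvd.trans (Subgroup.orderOf_dvd_natCard _ ⟨g, rfl⟩)
  have b1 := b0 a 4 (e1 ▸ orderOf_eq_prime_pow (p := 2) (n := 1) (x := x)
    (by rwa [pow_one, sq]) (by rw [← h1]; simp [pow_succ, mul_assoc]))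
  have b2 := b0 b 3 (by rw [e2]; exact orderOf_eq_prime h3 (by rwa [pow_one] at h6))
  have b3 := b0 (a * b) 5 (by rw [map_mul, e1, e2]; exact orderOf_eq_prime h4 h7)
  have b4 := φ.ker.card_mul_index
  rw [index_ker, c] at b4
  have b5 : Nat.card φ.ker ∣ 2 := by
    obtain ⟨k, hk⟩ : 60 ∣ Nat.card φ.range := by omega
    exact Dvd.intro k (by rw [hk] at b4; nlinarith)
  refine ⟨φ, (injective_iff_map_eq_one φ).2 fun g hg => (sl25_inv g ?_).resolve_right ?_⟩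
  · rw [← sq, ← orderOf_dvd_iff_pow_eq_one]
    exact (Subgroup.orderOf_dvd_natCard φ.ker hg).trans b5
  · rintro rfl
    rcases sl25_inv _ r1 with e | e
    · exact h5 (by rw [← e1, ← map_mul, e, map_one])
    · exact h5 (by rw [← e1, ← map_mul, e, hg])

end Cfsg.Agent.Blk
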