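import Cfsg.Agent.Lib.Block.Rat
import Cfsg.Agent.Lib.Block.AD2
import Cfsg.Agent.Lib.Char.Glaub4
import Cfsg.Agent.Lib.Transfer.Thom
import Cfsg.Agent.S0081

set_option autoImplicit false

namespace Cfsg.Agent.Blk

open MonoidAlgebra
open Cfsg.Agent.Char hiding cj cj_mul cj_inv_cj cj_cj_inv sum_cj_eq om
open scoped ComplexConjugate
attribute [local instance] _root_.Classical.propDecidable
open Subgroup (zpowers mem_zpowers)

variable {G : Type*} [Group G] [Finite G] {p : ℕ} {K N L U P : Subgroup G}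
  {χ : IrrCharacter G} {θ : IrrCharacter K}

theorem exists_under_not_dvd (h : ¬ p ∣ charDegree χ.1) (K : Subgroup G) :
    ∃ θ : IrrCharacter K, em K χ θ ≠ 0 ∧ ¬ p ∣ charDegree θ.1 := by
  by_contra! h1
  refine h ?_
  rw [deg_eq_sum_em K]
  refine Finset.dvd_sum fun θ _ => ?_
  by_cases h2 : em K χ θ = 0
  · simp [h2]
  · exact (h1 θ h2).mul_left _

theorem exists_over_not_dvd (h : ¬ p ∣ K.index * charDegree θ.1) :
    ∃ χ : IrrCharacter G, em K χ θ ≠ 0 ∧ ¬ p ∣ charDegree χ.1 := by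
  by_contra! h1
  refine h ?_
  rw [← sum_em_mul_deg]
  refine Finset.dvd_sum fun χ _ => ?_
  by_cases h2 : em K χ θ = 0
  · simp [h2]
  · exact (h1 χ h2).mul_left _

theorem apply_eq_of_em (h : em K χ θ ≠ 0) {x : K} (hx : χ.1 x = χ.1 1) : θ.1 x = θ.1 1 := by
  have := Fintype.ofFinite K
  have h1 := χ.2.isCharacter.res K
  exact θ.2.isCharacter.mem_charKer.1
    (h1.charKer_le_of_constituent θ.2 (em_ne_zero_iff.1 h) (h1.mem_charKer.2 hx))

theorem le_charKer_of_em [N.Normal] (hNK : N ≤ K) (h : em K χ θ ≠ 0)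
    (h1 : ∀ x : K, (x : G) ∈ N → θ.1 x = θ.1 1) : N ≤ charKer χ.1 := by
  have := Fintype.ofFinite G
  refine (le_charKer_indFun hNK θ.2.isCharacter h1).trans
    ((θ.2.isCharacter.ind).charKer_le_of_constituent χ.2 ?_)
  rw [classInner_indFun_eq_em]
  exact Nat.cast_ne_zero.2 h

theorem le_commutator_of_forall_lc (h : ∀ l : G →* ℂˣ, ∀ x ∈ K, l x = 1) : K ≤ commutator G := by
  have h1 : annih (commutator G ⊔ K) = annih (commutator G) :=
    (annih_anti le_sup_left).antisymm fun l hl => mem_annih.2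
      (show commutator G ⊔ K ≤ l.ker from sup_le (mem_annih.1 hl) (h l))
  have h2 := relIndex_annih le_rfl (le_sup_left : commutator G ≤ commutator G ⊔ K)
  rw [h1, Subgroup.relIndex_self] at h2
  exact le_sup_right.trans (Subgroup.relIndex_eq_one.1 h2.symm)

variable [hp : Fact p.Prime]

theorem index_sub_sup [U.Normal] (hP : IsPGroup p P) :
    ∃ n, (U.subgroupOf (U ⊔ P)).index = p ^ n := by
  obtain ⟨n, hn⟩ := hP.index (U.subgroupOf P)
  exact ⟨n, by rw [← hn]; exact Subgroup.relIndex_sup_left P U⟩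

theorem card_invS [U.Normal] (hP : IsPGroup p P) (hU : ¬ p ∣ Nat.card U) :
    Nat.card {θ : IrrCharacter U // ∀ x ∈ P, icj U x θ = θ} =
      Nat.card (IrrCharacter (U ⊓ Ce P : Subgroup G)) := by
  obtain ⟨n, hn⟩ := hP.exists_card_eq
  have := (glCorr_pgroup hp.out P hP (G := U) Subgroup.le_normalizer_of_normal
    (hn ▸ ((hp.out.coprime_iff_not_dvd.2 hU).symm.pow_right n)) rfl inf_le_left).card_eq hp.out
  rw [Nat.card_congr (Equiv.subtypeUnivEquiv fun _ => trivial)] at this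
  rw [← this]
  refine Nat.card_congr (Equiv.subtypeEquivRight fun θ => forall₂_congr fun x _ =>
    ⟨fun h g g' hg => ?_, fun h => Subtype.ext (funext fun g => h g _ rfl)⟩)
  rw [← congrFun (congrArg Subtype.val h) g, icj_apply]
  exact congrArg _ (Subtype.ext hg)

theorem exists_ext_sup [U.Normal] (hP : IsPGroup p P) (hU : ¬ p ∣ Nat.card U) {θ : IrrCharacter U}
    (h : ∀ x ∈ P, icj U x θ = θ) : ∃ ψ : IrrCharacter (U ⊔ P : Subgroup G),
      ∀ x : U, ψ.1 ⟨x, Subgroup.mem_sup_left x.2⟩ = θ.1 x := by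
  obtain ⟨n, hn⟩ := index_sub_sup (U := U) hP
  obtain ⟨ξ, ⟨h1, h2⟩, -⟩ := exists_isCan (N := U.subgroupOf (U ⊔ P)) (by
      rw [hn, Nat.card_congr (Subgroup.subgroupOfEquivOfLe le_sup_left).toEquiv]
      exact (hp.out.coprime_iff_not_dvd.2 hU).pow_left n) (sgo le_sup_left θ).2 fun g => by
    have h1 : U ⊔ P ≤ inertia U θ.1 := sup_le (fun x hx => icj_eq_iff.1 (icj_of_mem hx θ))
      fun x hx => icj_eq_iff.1 (h x hx)
    funext x
    exact congrFun (congrArg Subtype.val (icj_eq_iff.2 (h1 g.2))) ⟨x, x.2⟩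
  exact ⟨⟨ξ, h1.irr⟩, fun x => h2 ⟨⟨x, Subgroup.mem_sup_left x.2⟩, x.2⟩⟩

theorem le_charKer_of_inf_Ce [N.Normal] [L.Normal] (hP : IsPGroup p P) (hN : ¬ p ∣ Nat.card N)
    (h : N ⊓ Ce P = ⊥) (hL : L ≤ N ⊔ ⁅P, P⁆) (hχ : ¬ p ∣ charDegree χ.1) : L ≤ charKer χ.1 := by
  obtain ⟨ψ, h1, h2⟩ := exists_under_not_dvd hχ (N ⊔ P)
  obtain ⟨n, hn⟩ := index_sub_sup (U := N) hP
  obtain ⟨θ, h3⟩ := exists_res_of_not_dvd hn h2
  let φ : IrrCharacter N := ⟨fun x => ψ.1 ⟨x, Subgroup.mem_sup_left x.2⟩,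
    (isIrr_subgroupOf_iff le_sup_left).1 (isIrr_res_of_ext h3)⟩
  have h4 := card_invS hP hN
  rw [h, card_irr_of_comm fun a b => Subsingleton.elim _ _, Subgroup.card_bot,
    Nat.card_eq_one_iff_unique] at h4
  have h5 : φ = irrOne N := congrArg Subtype.val (h4.1.elim ⟨φ, fun x hx => Subtype.ext (funext
    fun y => ψ.2.isClassFunction ⟨y, Subgroup.mem_sup_left y.2⟩ ⟨x, Subgroup.mem_sup_right hx⟩)⟩
    ⟨irrOne N, fun x _ => icj_irrOne x⟩)
  have h6 : ∀ x : N, ψ.1 ⟨x, Subgroup.mem_sup_left x.2⟩ = 1 := fun x =>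
    congrFun (congrArg Subtype.val h5) x
  have h7 : N ⊔ ⁅P, P⁆ ≤ (charKer ψ.1).map (N ⊔ P).subtype := sup_le
    (fun x hx => ⟨⟨x, Subgroup.mem_sup_left hx⟩, ψ.2.isCharacter.mem_charKer.2
      ((h6 ⟨x, hx⟩).trans (h6 1).symm), rfl⟩)
    ((Subgroup.commutator_mono le_sup_right le_sup_right).trans
      ((Subgroup.map_subtype_commutator _).ge.trans
        (Subgroup.map_mono (ψ.2.apply_one_eq_one_iff.1 (h6 1)))))
  refine le_charKer_of_em (hL.trans (sup_le_sup_left ((Subgroup.map_subtype_commutator P).ge.trans (Subgroup.map_subtype_le _)) _)) h1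
    fun x hx => ?_
  obtain ⟨y, h8, h9⟩ := h7 (hL hx)
  exact ψ.2.isCharacter.mem_charKer.1 (Subtype.ext h9 ▸ h8)

theorem not_dvd_of_inf_Ce [N.Normal] (P : Sylow p G) (h : N ⊓ Ce (P : Subgroup G) = ⊥) :
    ¬ p ∣ Nat.card N := by
  rw [← (Transfer.isSyl_inf_normal P N).eq_bot_iff]
  by_contra h1
  exact Transfer.inf_centralizer_ne_bot P.isPGroup' inf_le_left
    ((le_inf (le_No _) (le_No_of_normal _ N)).trans (No_inf_le _ _)) h1
    (le_bot_iff.1 ((inf_le_inf_right _ inf_le_right).trans h.le))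

theorem inf_le_commutator_of_ker (P : Sylow p G)
    (h : ∀ χ : IrrCharacter G, ¬ p ∣ charDegree χ.1 → K ≤ charKer χ.1) :
    K ⊓ P ≤ (commutator P).map (P : Subgroup G).subtype := by
  rw [← Subgroup.subgroupOf_map_subtype]
  refine Subgroup.map_mono (le_commutator_of_forall_lc fun l x hx => ?_)
  obtain ⟨χ, h1, h2⟩ := exists_over_not_dvd (θ := ilc l) (p := p)
    (by rw [charDegree_ilc, mul_one]; exact P.not_dvd_index)
  simpa using apply_eq_of_em h1 (χ.2.isCharacter.mem_charKer.1 (h χ h2 hx))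

theorem inf_Ce_eq_bot_of_ker [U.Normal] (P : Sylow p G) (hU : ¬ p ∣ Nat.card U)
    (h : ∀ χ : IrrCharacter G, ¬ p ∣ charDegree χ.1 → U ≤ charKer χ.1) :
    U ⊓ Ce (P : Subgroup G) = ⊥ := by
  have h1 : ∀ θ : IrrCharacter U, (∀ x ∈ (P : Subgroup G), icj U x θ = θ) → θ = irrOne U := by
    intro θ hθ
    obtain ⟨ψ, h1⟩ := exists_ext_sup P.isPGroup' hU hθ
    have h2 : charDegree ψ.1 = charDegree θ.1 := by
      have := h1 1
      simp only [charDegree]
      exact congrArg _ (congrArg _ this)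
    obtain ⟨χ, h3, h4⟩ := exists_over_not_dvd (θ := ψ) (p := p) (hp.out.not_dvd_mul
      (fun h => P.not_dvd_index (h.trans (Subgroup.index_dvd_of_le le_sup_right)))
      fun h => hU ((h2 ▸ h).trans (deg_dvd_card θ)))
    exact Subtype.ext (θ.2.eq_one_of_forall fun x => by
      rw [← h1, ← h1]
      exact apply_eq_of_em h3 (χ.2.isCharacter.mem_charKer.1 (h χ h4 x.2)))
  have h2 := card_invS P.isPGroup' hU
  rw [Nat.card_eq_one_iff_unique.2 ⟨⟨fun a b => Subtype.ext ((h1 _ a.2).trans (h1 _ b.2).symm)⟩,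
    ⟨⟨irrOne U, fun x _ => icj_irrOne x⟩⟩⟩, eq_comm, Nat.card_eq_one_iff_unique] at h2
  rw [eq_bot_iff]
  intro x hx
  by_contra h3
  obtain ⟨χ, h4, h5⟩ := exists_irr_apply_ne (g := (⟨x, hx⟩ : (U ⊓ Ce (P : Subgroup G) : Subgroup G)))
    fun h => h3 (congrArg Subtype.val h)
  have := congrArg Subtype.val (h2.1.elim ⟨χ, h4⟩ (irrOne _))
  exact h5 ((congrFun this _).trans (congrFun this 1).symm)

end Cfsg.Agent.Blk
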