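import Cfsg.Agent.Lib.Block.PSyl
import Cfsg.Agent.Lib.Block.Cd3
import Cfsg.Agent.Lib.Block.FR
import Cfsg.Agent.Lib.Block.KerP

/-! Fong reduction for `p`-soluble groups: heights, and sets of characters whose idempotent is
supported on `p`-regular elements. -/

set_option autoImplicit false

namespace Cfsg.Agent.Blk

open Cfsg.Agent.Char hiding cj cj_mul cj_inv_cj cj_cj_inv sum_cj_eq om
open scoped ComplexConjugate commutatorElement MonoidAlgebra
attribute [local instance] _root_.Classical.propDecidable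
open Subgroup (zpowers mem_zpowers)

universe u

section
variable {G : Type u} [Group G] [Finite G] {p n : ℕ} [hp : Fact p.Prime] {N L : Subgroup G}
  {χ : IrrCharacter G}

instance normal_pPrimePCore : (pPrimePCore p G).Normal := by rw [pPrimePCore]; infer_instance

theorem psol_over {M : Ideal AlgInt} [PMod M p] (hs : Comp.PSol p (⊤ : Subgroup G))
    {θ : IrrCharacter (pPrimeCore p G)} (hinv : ∀ g, icj _ g θ = θ) :
    IsPBlock M {χ | em _ χ θ ≠ 0} ∧
      ∀ D, IsDefectGroup p M {χ | em _ χ θ ≠ 0} D ↔ IsSyl p D ⊤ := by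
  letI := Fintype.ofFinite (pPrimeCore p G)
  obtain ⟨n, hn⟩ := exists_relIndex_pPrimePCore (G := G) (p := p)
  obtain ⟨Q⟩ : Nonempty (Sylow p (pPrimePCore p G)) := inferInstance
  have hQ := isSyl_map Q
  have h1 := hQ.sup_eq_of_relIndex pPrimeCore_le_pPrimePCore hn
  haveI : ((Q : Subgroup _).map (pPrimePCore p G).subtype ⊔ pPrimeCore p G).Normal := by
    rw [h1]; infer_instance
  have hc := isPConstrained_of_pSol hs Q
  obtain ⟨h2, h3, -⟩ := principal_type (M := M) (θ := θ) (B := {χ | em _ χ θ ≠ 0})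
    Solv.not_dvd_card_pPrimeCore hQ.pg
    (h1.symm ▸ hc) (fun g k k' h => by
      rw [← congrFun (congrArg Subtype.val (hinv g)) k, icj_apply]
      exact congrArg _ (Subtype.ext h)) (fun χ => em_ne_zero_iff)
  exact ⟨h2, h3⟩

theorem not_dvd_deg_of_card (h : ¬ p ∣ Nat.card G) (χ : IrrCharacter G) : ¬ p ∣ charDegree χ.1 :=
  fun h1 => h (h1.trans (χ.2.degree_dvd_card (cast_deg χ).symm))

theorem deg_eq_of_ext [N.Normal] (hc : commutator G ≤ N) {θ : IrrCharacter N}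
    {ψ : IrrCharacter G} (h1 : ∀ x : N, ψ.1 x = θ.1 x) (h : em N χ θ ≠ 0) :
    charDegree χ.1 = charDegree θ.1 := by
  letI := Fintype.ofFinite N
  have h2 : (fun x : N => ψ.1 x) = θ.1 := funext h1
  obtain ⟨β, h3, h4, h5⟩ := χ.2.exists_eq_mul_of_over ψ.2.isCharacter (h2 ▸ θ.2)
    (h2 ▸ em_ne_zero_iff.1 h)
  rw [deg_mul (χ := ⟨β, h3⟩) χ.2 h5, deg_eq_one_iff.2 (hc.trans h4), one_mul, deg_eq_of_res h1]

/-- The canonical extension to a normal overgroup of `p`-power index. -/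
theorem exists_inv_ext [N.Normal] [L.Normal] (hNL : N ≤ L) (hn : N.relIndex L = p ^ n)
    (hN : ¬ p ∣ Nat.card N) {θ : IrrCharacter N} (hinv : ∀ g, icj N g θ = θ) :
    ∃ ψ : IrrCharacter L, (∀ x : N, ψ.1 ⟨x, hNL x.2⟩ = θ.1 x) ∧ ∀ g, icj L g ψ = ψ := by
  have h1 : ¬ p ∣ Nat.card (N.subgroupOf L) := by rwa [Solv.card_subgroupOf_of_le hNL]
  obtain ⟨ψ, ⟨h2, h3⟩, h4⟩ := existsUnique_canon (N := N.subgroupOf L) hn (θ := sgo hNL θ)
    (fun g => by rw [icj_sgo, hinv]) (not_dvd_deg_of_card h1 _)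
    fun h => h1 (h.trans (sgo hNL θ).2.isCharacter.detOrder_dvd_card)
  have h5 : ∀ x : N, ψ.1 ⟨x, hNL x.2⟩ = θ.1 x := fun x => h3 ⟨⟨x, hNL x.2⟩, x.2⟩
  refine ⟨ψ, h5, fun g => h4 _ ⟨fun h => h2 (h.trans ?_), fun x => ?_⟩⟩
  · have := ψ.2.isCharacter.detOrder_comp_dvd (MulAut.conjNormal (H := L) g).toMonoidHom
    exact this
  · rw [sgo_apply, ← hinv g, icj_apply, icj_apply]
    exact h5 ⟨_, _⟩

theorem fact_deg_le (hs : Comp.PSol p (⊤ : Subgroup G)) {θ : IrrCharacter (pPrimeCore p G)}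
    (hinv : ∀ g, icj _ g θ = θ) (h : em _ χ θ ≠ 0) {P : Subgroup G} (hP : IsSyl p P ⊤) :
    (charDegree χ.1).factorization p ≤ (Subgroup.center P).index.factorization p := by
  let N := pPrimeCore p G
  let Q := pCore p (G ⧸ N)
  let A := (Q ⊓ Ce Q).comap (QuotientGroup.mk' N)
  have hNA : N ≤ A := Solv.le_comap_mk N _
  obtain ⟨n, hn⟩ : ∃ n, N.relIndex A = p ^ n := by
    rw [← Solv.card_map_mk_eq_relIndex, Solv.map_comap_mk]
    exact (isPGroup_le (Solv.isPGroup_pCore p _) inf_le_left).exists_card_eq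
  obtain ⟨ψ, h1, -⟩ := exists_inv_ext hNA hn Solv.not_dvd_card_pPrimeCore hinv
  obtain ⟨φ, h2, h3⟩ := exists_em_between hNA h
  have h4 := deg_eq_of_ext (N := N.subgroupOf A) (ψ := ψ) (θ := sgo hNA θ) (by
    rw [commutator_def, Subgroup.commutator_le]
    intro a _ b _
    exact (comm_mem_iff (K := N) (a := a) (b := b)).2 (mem_Ce.1 b.2.2 _ a.2.1)) (fun x => h1 ⟨(x : A), x.2⟩) h3
  have h5 : ¬ p ∣ charDegree φ.1 := h4 ▸ not_dvd_deg_of_card (by
    rw [Solv.card_subgroupOf_of_le hNA]; exact Solv.not_dvd_card_pPrimeCore) _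
  obtain ⟨k, h6, h7⟩ := exists_deg_eq_mul h2
  have h8 : (Subgroup.center P).map P.subtype ≤ A := by
    rintro _ ⟨z, hz, rfl⟩
    have h8 : ((z : G) : G ⧸ N) ∈ Ce Q := mem_Ce.2 fun y hy => by
      obtain ⟨S, rfl⟩ := isSyl_top_iff.1 hP
      obtain ⟨x, hx, rfl⟩ := Solv.pCore_le_sylow (S.mapSurjective (QuotientGroup.mk'_surjective N)) hy
      exact congrArg (fun y : S => ((y : G) : G ⧸ N)) (Subgroup.mem_center_iff.1 hz ⟨x, hx⟩)
    exact ⟨Transfer.psol_charP (Transfer.psol_surj (QuotientGroup.mk'_surjective N) hs)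
      Solv.pPrimeCore_quotient_pPrimeCore h8, h8⟩
  have h9 := h6.trans (Subgroup.index_dvd_of_le h8)
  rw [Subgroup.index_map_subtype] at h9
  have h10 : (Subgroup.center P).index ≠ 0 := Subgroup.index_ne_zero_of_finite
  have h11 : P.index ≠ 0 := Subgroup.index_ne_zero_of_finite
  have h12 : k ≠ 0 := by rintro rfl; exact mul_ne_zero h10 h11 (zero_dvd_iff.1 h9)
  have h13 := (Nat.factorization_le_iff_dvd h12 (mul_ne_zero h10 h11)).2 h9 p
  rw [Nat.factorization_mul h10 h11, Finsupp.add_apply, Nat.factorization_eq_zero_of_not_dvd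
    (by simpa using hP.not_dvd_relIndex : ¬ p ∣ P.index)] at h13
  rwa [h7, Nat.factorization_mul h12 (charDegree_ne_zero φ), Finsupp.add_apply,
    Nat.factorization_eq_zero_of_not_dvd h5]

omit hp in
theorem supp_of_linear [Fintype G] (hNL : N ≤ L) {μ : L →* ℂˣ} {F : G → ℂ}
    (hF : ∀ l, ∑ g, conj (F g) * F (l * g) = Nat.card G * F l) {R : G → Prop}
    (h0 : ∀ g, ¬ R g → F g = 0) (h1 : ∀ g, R g → ∀ l : L, R (l * g) → F (l * g) = μ l * F g)
    (h2 : ∀ g, R g → ∀ x ∈ N, R (x * g)) (h3 : ∀ g, R g → g ∉ N → ∃ l ∈ L, l ∉ N ∧ R (l * g))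
    (h4 : ∀ l ∈ L, R l → l ∈ N) (h5 : R 1) {g : G} (hg : g ∉ N) : F g = 0 := by
  let s : G → Finset L := fun g => Finset.univ.filter fun l => R (l * g)
  let t : Finset L := Finset.univ.filter fun l => (l : G) ∈ N
  have k0 : ∀ g, R g → ∑ l : L, conj (μ l : ℂ) * F (l * g) = (s g).card * F g := fun g h => by
    rw [← nsmul_eq_mul, ← Finset.sum_const, Finset.sum_filter]
    refine Finset.sum_congr rfl fun l _ => ?_
    split_ifs with h6
    · rw [h1 g h l h6, ← mul_assoc, mul_comm (conj _), lc_mul_conj, one_mul]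
    · rw [h0 _ h6, mul_zero]
  have k1 : ∀ g, R g → t ⊆ s g := fun g h l hl => by
    simpa [s] using h2 g h l (by simpa [t] using hl)
  have k2 : s 1 = t := by
    refine (Finset.Subset.antisymm (fun l hl => ?_) (k1 1 h5))
    simpa [t] using h4 l l.2 (by simpa [s] using hl)
  have k3 : ∑ g, (((s g).card : ℝ) - t.card) * ‖F g‖ ^ 2 = 0 := by
    have e1 : ∑ g, ((s g).card : ℂ) * (conj (F g) * F g) =
        ∑ g, ∑ l : L, conj (μ l : ℂ) * (conj (F g) * F (l * g)) := by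
      refine Finset.sum_congr rfl fun g _ => ?_
      by_cases h : R g
      · rw [mul_left_comm, ← k0 g h, Finset.mul_sum]
        exact Finset.sum_congr rfl fun l _ => by ring
      · simp [h0 g h]
    rw [Finset.sum_comm] at e1
    simp only [← Finset.mul_sum, hF] at e1
    have e2 := k0 1 h5
    have e3 := hF 1
    simp only [mul_one, one_mul, k2] at e2 e3
    simp only [mul_left_comm _ (Nat.card G : ℂ), ← Finset.mul_sum, e2] at e1
    rw [mul_left_comm, ← e3, Finset.mul_sum, ← sub_eq_zero, ← Finset.sum_sub_distrib] at e1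
    rw [← Complex.ofReal_eq_zero, ← e1]
    push_cast
    refine Finset.sum_congr rfl fun g _ => ?_
    rw [Complex.conj_mul']; ring
  by_cases h : R g
  swap
  · exact h0 g h
  have k4 := (Finset.sum_eq_zero_iff_of_nonneg fun g _ => ?_).1 k3 g (Finset.mem_univ _)
  · obtain ⟨l, h6, h7, h8⟩ := h3 g h hg
    have k5 := Finset.card_lt_card ((Finset.ssubset_iff_of_subset (k1 g h)).2
      ⟨⟨l, h6⟩, by simpa [s] using h8, by simpa [t] using h7⟩)
    rcases mul_eq_zero.1 k4 with k6 | k6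
    · exact absurd (by exact_mod_cast sub_eq_zero.1 k6) k5.ne'
    · simpa using k6
  · by_cases h : R g
    · exact mul_nonneg (sub_nonneg.2 (by exact_mod_cast Finset.card_le_card (k1 g h))) (by positivity)
    · simp [h0 g h]

theorem exists_conj_of_preg [L.Normal] (hL : IsPGroup p L) {x l : G} (hl : l ∈ L)
    (h1 : ¬ p ∣ orderOf x) (h2 : ¬ p ∣ orderOf (l * x)) : ∃ k ∈ L, k * x * k⁻¹ = l * x := by
  have h3 : ∀ y : G, ¬ p ∣ orderOf y → L ⊓ zpowers y = ⊥ := fun y h =>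
    Solv.inf_eq_bot_of_coprime' (Solv.coprime_card_of_isPGroup hL (by rwa [Nat.card_zpowers]))
  obtain ⟨k, hk, h4⟩ := Solv.sz_le_conj (A := zpowers x) (B := zpowers (l * x)) (K := L)
    (le_No_of_normal _ _) (Solv.coprime_card_of_isPGroup hL (by rwa [Nat.card_zpowers])).symm
    (Or.inl (Solv.isSolvable_zpowers x)) (h3 _ h2) (Subgroup.zpowers_le.2
      (mul_mem (Subgroup.mem_sup_left hl) (Subgroup.mem_sup_right (mem_zpowers x))))
  have h5 := mem_cs.1 (h4 (mem_zpowers _))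
  have h6 : k⁻¹ * (l * x) * k * x⁻¹ ∈ L ⊓ zpowers x := by
    refine ⟨?_, (zpowers x).mul_mem h5 (inv_mem (mem_zpowers x))⟩
    have := mul_mem (mul_mem (inv_mem hk) hl) (‹L.Normal›.conj_mem k hk x)
    simpa [mul_assoc] using this
  rw [h3 x h1, Subgroup.mem_bot, mul_inv_eq_one] at h6
  exact ⟨k, hk, by rw [mul_inv_eq_iff_eq_mul, ← inv_mul_eq_iff_eq_mul.1 ((mul_assoc ..).symm.trans
    ((congrArg (· * k) rfl).trans h6))]⟩

omit hp in
theorem sum_idem [Fintype G] {ι : Type*} (V : Finset ι) {β : ι → G → ℂ}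
    (h : ∀ i ∈ V, IsIrrCharacter G (β i)) (hi : ∀ i ∈ V, ∀ j ∈ V, β i = β j → i = j) (l : G) :
    ∑ g, conj (∑ i ∈ V, β i 1 * β i g) * ∑ i ∈ V, β i 1 * β i (l * g) =
      Nat.card G * ∑ i ∈ V, β i 1 * β i l := by
  simp only [map_sum, Finset.sum_mul_sum]
  rw [Finset.sum_comm, Finset.mul_sum]
  refine Finset.sum_congr rfl fun i hi' => ?_
  rw [Finset.sum_comm, Finset.sum_eq_single_of_mem i hi' fun j hj hne => ?_]
  · have := (h i hi').sum_conj_mul_apply_mul (h i hi') l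
    rw [if_pos rfl, eq_div_iff (h i hi').apply_one_ne_zero, Finset.sum_mul] at this
    rw [mul_left_comm, ← this, Finset.mul_sum]
    refine Finset.sum_congr rfl fun g _ => ?_
    rw [map_mul, (h i hi').isCharacter.conj_apply_one, (h i hi').isClassFunction.apply_mul_comm l]
    ring
  · have := (h j hj).sum_conj_mul_apply_mul (h i hi') l
    rw [if_neg fun e => hne (hi j hj i hi' e)] at this
    rw [← mul_zero (conj (β i 1) * β j 1), ← this, Finset.mul_sum]
    refine Finset.sum_congr rfl fun g _ => ?_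
    rw [map_mul, (h j hj).isClassFunction.apply_mul_comm l]
    ring

theorem vanish_of_inv (hs : Comp.PSol p (⊤ : Subgroup G)) {θ : IrrCharacter (pPrimeCore p G)}
    (hinv : ∀ g, icj _ g θ = θ) (V : Finset (IrrCharacter G)) (hV : ∀ χ ∈ V, em _ χ θ ≠ 0)
    (h : ∀ g, p ∣ orderOf g → ∑ χ ∈ V, χ.1 1 * χ.1 g = 0) {g : G} (hg : g ∉ pPrimeCore p G) :
    ∑ χ ∈ V, χ.1 1 * χ.1 g = 0 := by
  let N := pPrimeCore p G
  let L := pPrimePCore p G
  let q := QuotientGroup.mk' N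
  have hNL : N ≤ L := pPrimeCore_le_pPrimePCore
  obtain ⟨n, hn⟩ := exists_relIndex_pPrimePCore (G := G) (p := p)
  obtain ⟨ψ, h1, h2⟩ := exists_inv_ext hNL hn Solv.not_dvd_card_pPrimeCore hinv
  obtain ⟨Γ, _, _, π, θ', ν, hπ, -, h3, h4, h5⟩ := exists_triple ψ.2 (cj_eq_of_icj h2)
  letI := Fintype.ofFinite Γ
  letI := Fintype.ofFinite N
  letI := Fintype.ofFinite (N.comap π)
  have hle : N.comap π ≤ L.comap π := Subgroup.comap_mono hNL
  let ν₀ : N.comap π →* ℂˣ := ν.comp (Subgroup.inclusion hle)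
  have h6 : ∀ m : N.comap π, θ' m = ν₀ m * θ.1 ⟨π m, m.2⟩ := fun m =>
    (h4 ⟨m, hle m.2⟩).trans (congrArg _ (h1 ⟨π m, m.2⟩))
  have h7 : ∀ g, Char.cj (N.comap π) g (fun n => (ν₀ n : ℂ)) = fun n => (ν₀ n : ℂ) := fun g =>
    funext fun m => congrArg Units.val (h5 g ⟨m, hle m.2⟩)
  choose! β h8 h9 h10 using fun χ (hχ : χ ∈ V) =>
    triple_factor θ.2 hπ h3 h6 h7 χ.2 (em_ne_zero_iff.1 (hV χ hχ))
  let F : Γ → ℂ := fun x => ∑ χ ∈ V, β χ 1 * β χ x
  have h11 : ∀ x, ∑ χ ∈ V, χ.1 1 * χ.1 (π x) = θ' 1 * θ' x * F x := fun x => by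
    rw [Finset.mul_sum]
    exact Finset.sum_congr rfl fun χ hχ => by rw [← map_one π, h10 χ hχ, h10 χ hχ]; ring
  have h12 : ∀ (m : N.comap π) x, F (m * x) = ν₀⁻¹ m * F x := fun m x => by
    rw [Finset.mul_sum]
    refine Finset.sum_congr rfl fun χ hχ => ?_
    obtain ⟨k1, k2⟩ := (h8 χ hχ).le_charCenter_of_over_units (cj_units_inv h7) (h9 χ hχ)
    rw [mul_comm, IsCharacter.apply_mul_of_mem_charCenter (k1 m.2), k2]; ring
  have h13 : IsIrrCharacter (N.comap π) fun m => θ' m := by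
    rw [funext h6]; exact (isIrr_comap π hπ θ.2).mul_units ν₀
  have h14 : ∀ m, m ∈ N.comap π ↔ q (π m) = 1 := fun m =>
    (QuotientGroup.eq_one_iff (N := N) (π m)).symm
  have h15 : ∀ y, q (π y) ∈ pCore p (G ⧸ N) → ¬ p ∣ orderOf (q (π y)) → y ∈ N.comap π :=
    fun y k1 k2 => (h14 y).2 (Subgroup.zpowers_eq_bot.1 (Solv.eq_bot_of_isPGroup_of_not_dvd
      (isPGroup_le (Solv.isPGroup_pCore p _) (Subgroup.zpowers_le.2 k1)) (by rwa [Nat.card_zpowers])))
  obtain ⟨x, rfl⟩ := hπ g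
  rw [h11, supp_of_linear hle (μ := ν⁻¹) (F := F) (R := fun y => ¬ p ∣ orderOf (q (π y)))
    (sum_idem V h8 fun χ hχ φ hφ e => Subtype.ext (funext fun y => by
      obtain ⟨y, rfl⟩ := hπ y
      rw [h10 χ hχ, h10 φ hφ, e])) (fun y hy => ?_) (fun y hy l hl => ?_) (fun y hy m hm => ?_)
    (fun y hy hy' => ?_) (fun l hl hl' => ?_) (by simpa using hp.out.ne_one) hg, mul_zero]
  · obtain ⟨m, hm⟩ : ∃ m : N.comap π, θ' (m * y) ≠ 0 := by
      by_contra! k
      simpa [k] using coset_average_norm h3 h13 y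
    have k := h11 (m * y)
    rw [h _ ((not_not.1 hy).trans (by
      have := orderOf_map_dvd q (π (m * y))
      rwa [map_mul, map_mul, (h14 _).1 m.2, one_mul, ← map_mul] at this)), h12] at k
    have k1 : θ' 1 ≠ 0 := h13.apply_one_ne_zero
    simpa [k1, hm] using k
  · rw [map_mul, map_mul] at hl
    obtain ⟨k, hk, k1⟩ := exists_conj_of_preg (Solv.isPGroup_pCore p (G ⧸ N)) l.2 hy hl
    obtain ⟨k, rfl⟩ := ((QuotientGroup.mk'_surjective N).comp hπ) k
    have k2 : l * y * (k * y * k⁻¹)⁻¹ ∈ N.comap π := (h14 _).2 (by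
      simp only [map_mul, map_inv]
      exact mul_inv_eq_one.2 k1.symm)
    have k3 := h12 ⟨_, k2⟩ (k * y * k⁻¹)
    have k4 : F (k * y * k⁻¹) = F y :=
      Finset.sum_congr rfl fun χ hχ => by rw [(h8 χ hχ).isCharacter.apply_conj]
    rw [inv_mul_cancel_right, k4] at k3
    rw [k3]
    congr 2
    have k5 : k ∈ L.comap π := hk
    have k6 : Subgroup.inclusion hle ⟨_, k2⟩ =
        l * ⟨y * k * y⁻¹, (inferInstance : (L.comap π).Normal).conj_mem k k5 y⟩ * (⟨k, k5⟩)⁻¹ :=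
      Subtype.ext (by simp [mul_assoc])
    change (ν (Subgroup.inclusion hle _))⁻¹ = (ν l)⁻¹
    rw [k6, map_mul, map_mul, h5 y ⟨k, k5⟩, map_inv, mul_inv_cancel_right]
  · rwa [map_mul, map_mul, (h14 m).1 hm, one_mul]
  · by_contra! k
    have k1 : q (π y) ∈ pCore p (G ⧸ N) := Transfer.psol_charP
      (Transfer.psol_surj (QuotientGroup.mk'_surjective N) hs) Solv.pPrimeCore_quotient_pPrimeCore
      fun z hz => by
        obtain ⟨z, rfl⟩ := ((QuotientGroup.mk'_surjective N).comp hπ) z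
        have k1 : ⁅z, y⁆ ∈ N.comap π := by
          by_contra k1
          refine hy ?_
          have k2 := k _ (Subgroup.commutator_le_left (L.comap π) ⊤
            (Subgroup.commutator_mem_commutator hz (Subgroup.mem_top y))) k1
          rwa [show ⁅z, y⁆ * y = z * y * z⁻¹ by group, map_mul, map_mul, map_mul, map_mul, map_inv,
            map_inv, orderOf_conj'] at k2
        have := (h14 _).1 k1
        rw [map_commutatorElement, map_commutatorElement] at this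
        exact commutatorElement_eq_one_iff_mul_comm.1 this
    exact hy' (h15 y k1 hy)
  · exact h15 l hl hl'

theorem blockCoeff_eq_zero_iff {A : Set (IrrCharacter G)} {g : G} :
    blockCoeff A g = 0 ↔ ∑ χ ∈ fs A, χ.1 1 * χ.1 g = 0 := by
  rw [blockCoeff_eq, mul_eq_zero, or_iff_right (inv_ne_zero (card_ne_zero' G)), ← map_eq_zero_iff
    (starRingEnd ℂ) (RingHom.injective _), map_sum, fs, Finset.sum_filter]
  refine Eq.congr_left (Finset.sum_congr rfl fun χ _ => ?_)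
  split_ifs
  · rw [map_mul, χ.2.isCharacter.conj_apply_one, Complex.conj_conj]
  · simp

theorem dvd_orderOf_mul [N.Normal] (hN : ¬ p ∣ Nat.card N) {g x : G} (hx : x ∈ N)
    (h : p ∣ orderOf g) : p ∣ orderOf (g * x) := by
  by_contra h1
  have h2 : g ^ orderOf (g * x) ∈ N := by
    rw [← QuotientGroup.eq_one_iff, QuotientGroup.mk_pow, ← QuotientGroup.mk_mul_of_mem g hx,
      ← QuotientGroup.mk_pow, pow_orderOf_eq_one, QuotientGroup.mk_one]
  have h3 := Solv.pow_card_eq_one_of_mem h2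
  rw [← pow_mul] at h3
  exact ((Nat.Prime.dvd_mul hp.out).1 (h.trans (orderOf_dvd_of_pow_eq_one h3))).elim h1 hN

theorem isInt_es {M : Ideal AlgInt} [M.IsMaximal] {a : ℂ[N]} (h : IsInt M a) : IsInt M (es N a) :=
  fun g => by
  by_cases hg : g ∈ N
  · rw [coeff_es_of_mem _ hg]; exact h _
  · rw [coeff_es_of_notMem _ hg]; exact zero_mem _

theorem isInt_of_preg (M : Ideal AlgInt) [PMod M p] (G : Type u) [Group G] [Finite G] :
    Comp.PSol p (⊤ : Subgroup G) → ∀ z ∈ Z ℂ (⊤ : Subgroup G), IsIdempotentElem z →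
      (∀ g, p ∣ orderOf g → z.coeff g = 0) → IsInt M z := by
  refine Solv.card_induction (P := fun G _ _ => Comp.PSol p (⊤ : Subgroup G) →
    ∀ z ∈ Z ℂ (⊤ : Subgroup G), IsIdempotentElem z → (∀ g, p ∣ orderOf g → z.coeff g = 0) →
      IsInt M z) (fun G _ _ ih hs z hz hi h => ?_) G
  letI := Fintype.ofFinite G
  let N := pPrimeCore p G
  letI := Fintype.ofFinite N
  have hN : ¬ p ∣ Nat.card N := Solv.not_dvd_card_pPrimeCore
  intro g
  rw [eq_sum_mul_blocks N z, coeff_sum']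
  refine sum_mem fun b hb => ?_
  revert g
  rw [mem_blocks] at hb
  have h1 := hb.mul_mem_Z_stab le_top (top_le_No N) hz
  have h2 : IsIdempotentElem (z * b) := hi.mul_of_commute (Z_top_comm hz b) hb.idem
  have h3 : ∀ g, p ∣ orderOf g → (z * b).coeff g = 0 := fun g hg => by
    rw [coeff_mul_right]
    refine Finset.sum_eq_zero fun x _ => ?_
    by_cases hx : x ∈ N
    · rw [h _ (dvd_orderOf_mul hN (inv_mem hx) hg), zero_mul]
    · rw [mem_sup.1 hb.sup x hx, mul_zero]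
  have h4 : ∀ K : Subgroup G, z * b ∈ sup ℂ K → IsIdempotentElem (rs K (z * b)) := fun K hK => by
    rw [IsIdempotentElem, ← rs_mul_left hK, h2.eq]
  change IsInt M (z * b)
  by_cases hT : stab ⊤ b = ⊤
  swap
  · rw [← es_rs_of_mem h1.1]
    exact isInt_es (ih _ (Solv.card_lt_of_ne_top hT) (Transfer.psol_subtype (hs.of_le le_top)) _
      (rs_mem_Z h1.2) (h4 _ h1.1) fun g hg => h3 g (by rwa [Subgroup.orderOf_coe]))
  rw [hT] at h1
  have h5 : IsBlock ⊤ (rs N b) := isBlock_es_iff.1 (by rwa [es_rs_of_mem hb.sup])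
  obtain ⟨A, hA⟩ : ∃ A, rs N b = fC A := ⟨_, eq_fC_of_idem h5.mem h5.idem⟩
  obtain ⟨θ, hθ⟩ : A.Nonempty := Set.nonempty_iff_ne_empty.2 fun e => h5.ne (by rw [hA, e, fC_empty])
  obtain rfl : A = {θ} := by
    have k := h5.prim _ (fC_mem {θ}) (fC_idem _)
    rw [hA, fC_mul_fC, Set.singleton_inter_of_mem hθ, ← fC_empty] at k
    exact (fC_injective (k.resolve_left fun e => Set.singleton_ne_empty _ (fC_injective e))).symm
  have h6 : b = es N (fC {θ}) := by rw [← hA, es_rs_of_mem hb.sup]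
  have h7 : ∀ g, icj N g θ = θ := fun g => by
    have k : cj g⁻¹ b = b := (show g⁻¹ ∈ stab ⊤ b from hT.symm ▸ trivial).2
    rw [h6, ← es_emb_conjIso (cs_normal g⁻¹ N), ← fC_image, Set.image_singleton] at k
    rw [icj_eq_irrMap]
    exact Set.singleton_injective (fC_injective (es_injective N k))
  obtain ⟨V, hV⟩ : ∃ V, z * b = fC V := ⟨_, eq_fC_of_idem h1 h2⟩
  have h8 : z * b ∈ sup ℂ N := mem_sup.2 fun g hg => by
    rw [hV, coeff_fC, blockCoeff_eq_zero_iff]
    refine vanish_of_inv hs h7 _ (fun χ hχ => ?_) (fun x hx => ?_) hg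
    · have k : fC {χ} * (z * b) = fC {χ} := by
        rw [hV, fC_mul_fC, Set.singleton_inter_of_mem (mem_fs.1 hχ)]
      have k1 : fC {χ} * b = fC {χ} := by
        rw [← k, mul_assoc, mul_assoc, hb.mul_self]
      obtain ⟨_, rfl, _, rfl, k2⟩ := (fC_mul_es_ne_zero_iff N {χ} {θ}).1 (by
        rw [← h6, k1, ← fC_empty]
        exact fun e => Set.singleton_ne_empty _ (fC_injective e))
      exact em_ne_zero_iff.2 k2
    · rw [← blockCoeff_eq_zero_iff, ← coeff_fC, ← hV, h3 x hx]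
  rw [← es_rs_of_mem h8, eq_fC_of_idem (rs_mem_Z (inv_anti le_top h1.2)) (h4 N h8)]
  exact isInt_es (isUB_of_not_dvd hN _).isInt

end

end Cfsg.Agent.Blk
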