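import Cfsg.Agent.Lib.Block.Exc

/-! Blocks with abelian defect groups and freely acting inertial quotient. -/

set_option autoImplicit false

namespace Cfsg.Agent.Blk

open MonoidAlgebra
open Cfsg.Agent.Char hiding cj cj_mul cj_inv_cj cj_cj_inv sum_cj_eq om
open scoped ComplexConjugate

section Phi
variable {G : Type*} [Group G] [Finite G] {M : Ideal AlgInt} {p : ℕ}
  {B : Set (IrrCharacter G)} {χ ψ : IrrCharacter G} {u : G} {θ φ : G → ℂ}

/-- a character of height zero -/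
noncomputable def hz (p : ℕ) (B : Set (IrrCharacter G)) : IrrCharacter G :=
  Classical.epsilon fun χ => χ ∈ B ∧ blockHeight p B χ = 0

theorem hz_spec (p : ℕ) (h : B.Nonempty) : hz p B ∈ B ∧ blockHeight p B (hz p B) = 0 :=
  Classical.epsilon_spec (exists_height_zero p h)

/-- the Brauer character of a nilpotent block -/
noncomputable def phi (p : ℕ) (B : Set (IrrCharacter G)) : G → ℂ := reg p (hz p B).1

theorem isClassFunction_phi (p : ℕ) (B : Set (IrrCharacter G)) : IsClassFunction G (phi p B) :=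
  isClassFunction_reg p (hz p B).2.isClassFunction

theorem reg_phi (B : Set (IrrCharacter G)) : reg p (phi p B) = phi p B := reg_reg _

theorem phi_one [Fact p.Prime] (B : Set (IrrCharacter G)) :
    phi p B 1 = charDegree (hz p B).1 := by rw [phi, reg_of_preg preg_one, cast_deg]

theorem phi_ne_zero [Fact p.Prime] (B : Set (IrrCharacter G)) : phi p B ≠ 0 := fun h =>
  charDegree_ne_zero (hz p B) (Nat.cast_eq_zero.1 ((phi_one B).symm.trans (congrFun h 1)))

/-- generalized decomposition numbers at a nilpotent subsection -/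
noncomputable def dn (p : ℕ) (u : G) (b : Set (IrrCharacter (Ce1 u))) (θ : G → ℂ) : ℂ :=
  loc p u b θ 1 / phi p b 1

variable [PMod M p]

theorem _root_.Cfsg.IsNilpotentBlock.blk (hn : IsNilpotentBlock p M B) : IsPBlock M B := (isNilpotentBlock_iff.1 hn).1

theorem _root_.Cfsg.IsNilpotentBlock.hz_mem (hn : IsNilpotentBlock p M B) : hz p B ∈ B := (hz_spec p hn.blk.nonempty).1

theorem _root_.Cfsg.IsNilpotentBlock.hz_height (hn : IsNilpotentBlock p M B) : blockHeight p B (hz p B) = 0 :=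
  (hz_spec p hn.blk.nonempty).2

theorem _root_.Cfsg.IsNilpotentBlock.classInner_reg [Fintype G] (hn : IsNilpotentBlock p M B) (hχ : χ ∈ B)
    (h0 : blockHeight p B χ = 0) :
    classInner (reg p χ.1) (reg p χ.1) = ((p : ℂ) ^ blockDefect p B)⁻¹ := by
  haveI : Fact p.Prime := ⟨PMod.prime M⟩
  have := am_cast (p := p) hχ χ
  rw [hn.am_eq_one hχ h0, Int.cast_one] at this
  rw [classInner_reg_reg]
  exact eq_inv_of_mul_eq_one_right this.symm

theorem _root_.Cfsg.IsNilpotentBlock.classInner_phi [Fintype G] (hn : IsNilpotentBlock p M B) :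
    classInner (phi p B) (phi p B) = ((p : ℂ) ^ blockDefect p B)⁻¹ :=
  hn.classInner_reg hn.hz_mem hn.hz_height

theorem _root_.Cfsg.IsNilpotentBlock.reg_eq_phi (hn : IsNilpotentBlock p M B) (hχ : χ ∈ B) (h0 : blockHeight p B χ = 0) :
    reg p χ.1 = phi p B := by
  have := Fintype.ofFinite G
  obtain ⟨d, hd⟩ := hn.exists_reg_eq hn.hz_mem hn.hz_height hχ
  have h1 := hn.classInner_reg hχ h0
  rw [hd, classInner_smul_left, classInner_smul_right, hn.classInner_reg hn.hz_mem hn.hz_height,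
    Complex.conj_natCast, ← mul_assoc,
    mul_eq_right₀ (inv_ne_zero (pow_ne_zero _ (p_ne_zero M)))] at h1
  obtain rfl : d = 1 := Nat.eq_one_of_mul_eq_one_left (by exact_mod_cast h1)
  simpa [phi] using hd

variable {b : Set (IrrCharacter (Ce1 u))}

theorem _root_.Cfsg.IsNilpotentBlock.loc_eq (hn : IsNilpotentBlock p M b) (θ : G → ℂ) : loc p u b θ = dn p u b θ • phi p b := by
  haveI : Fact p.Prime := ⟨PMod.prime M⟩
  obtain ⟨c, hc⟩ := hn.exists_eq_smul hn.hz_mem hn.hz_height (loc_mem u b θ)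
  rw [dn, hc, ← phi, Pi.smul_apply, smul_eq_mul, mul_div_cancel_right₀]
  rw [phi_one]; exact_mod_cast charDegree_ne_zero _

theorem _root_.Cfsg.IsNilpotentBlock.dn_eq (hn : IsNilpotentBlock p M b) {c : ℂ} (h : loc p u b θ = c • phi p b) :
    dn p u b θ = c :=
  haveI : Fact p.Prime := ⟨PMod.prime M⟩
  smul_left_injective ℂ (phi_ne_zero b) ((hn.loc_eq θ).symm.trans h)

theorem _root_.Cfsg.IsNilpotentBlock.cm_eq [Fintype (Ce1 u)] (hn : IsNilpotentBlock p M b) (θ φ : G → ℂ) :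
    cm p u b θ φ = dn p u b θ * conj (dn p u b φ) := by
  rw [cm, hn.loc_eq θ, hn.loc_eq φ, classInner_smul_left, classInner_smul_right, hn.classInner_phi]
  field_simp [p_ne_zero M]

theorem _root_.Cfsg.IsNilpotentBlock.dn_eq_sum [Fintype (Ce1 u)] (hn : IsNilpotentBlock p M b) (θ : G → ℂ) :
    dn p u b θ = ∑ ξ ∈ fs b, classInner (Ru u θ) ξ * am p b ξ (hz p b) := by
  haveI : Fact p.Prime := ⟨PMod.prime M⟩
  have h1 := congrArg (classInner · (phi p b)) (hn.loc_eq θ)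
  simp only [classInner_smul_left, hn.classInner_phi] at h1
  rw [loc, blockPart_fs, reg_sum, classInner_sum_left, eq_mul_inv_iff_mul_eq₀
    (pow_ne_zero _ (p_ne_zero M)), Finset.sum_mul] at h1
  rw [← h1]
  exact Finset.sum_congr rfl fun ξ hξ => by
    rw [reg_smul, classInner_smul_left, phi, classInner_reg_reg, am_cast (mem_fs.1 hξ)]; ring

theorem _root_.Cfsg.IsNilpotentBlock.dn_mem (hn : IsNilpotentBlock p M b) (R : Subring ℂ)
    (hR : ∀ z : ℂ, z ^ orderOf u = 1 → z ∈ R) (hθ : IsGeneralizedCharacter G θ) :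
    dn p u b θ ∈ R := by
  have := Fintype.ofFinite (Ce1 u)
  rw [hn.dn_eq_sum]
  refine R.sum_mem fun ξ _ => R.mul_mem ?_ (intCast_mem R _)
  obtain ⟨ω, h1, -, h2⟩ := exists_coeff_Ru ξ
  obtain ⟨n, hn⟩ := (hθ.res (Ce1 u)).classInner_eq_int ξ.2.isGen
  rw [h2, hn]
  exact R.mul_mem (hR ω h1) (intCast_mem R _)

theorem _root_.Cfsg.IsNilpotentBlock.isIntegral_dn (hn : IsNilpotentBlock p M b) (hθ : IsGeneralizedCharacter G θ) :
    IsIntegral ℤ (dn p u b θ) :=
  hn.dn_mem (integralClosure ℤ ℂ).toSubring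
    (fun _ => isIntegral_of_pow_eq_one (orderOf_pos u).ne') hθ

theorem _root_.Cfsg.IsNilpotentBlock.dn_mem_CM (hn : IsNilpotentBlock p M b) (hθ : IsGeneralizedCharacter G θ) :
    dn p u b θ ∈ CM :=
  hn.dn_mem CM (fun _ => mem_CM_of_pow (orderOf_pos u).ne') hθ

theorem _root_.Cfsg.IsNilpotentBlock.exists_int_dn (hn : IsNilpotentBlock p M b) (hu : u * u = 1)
    (hθ : IsGeneralizedCharacter G θ) : ∃ n : ℤ, dn p u b θ = n := by
  obtain ⟨n, h⟩ := hn.dn_mem (Int.castRingHom ℂ).range (fun z hz => by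
    obtain ⟨k, hk⟩ := orderOf_dvd_of_pow_eq_one (show u ^ 2 = 1 by rw [sq, hu])
    rcases sq_eq_one_iff.1 (show z ^ 2 = 1 by rw [hk, pow_mul, hz, one_pow]) with rfl | rfl
    exacts [one_mem _, neg_mem (one_mem _)]) hθ
  exact ⟨n, h.symm⟩

end Phi

section AutE
variable {G : Type*} [Group G] {R : Type*} [CommRing R] {P : Subgroup G} {e : R[G]}

/-- the inertial quotient as a group of automorphisms -/
def autE (P : Subgroup G) (e : R[G]) : Subgroup (MulAut P) := autInducedBy (stab (⊤ ⊓ No P) e) P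

theorem mem_autE {σ : MulAut P} :
    σ ∈ autE P e ↔ ∃ t ∈ stab (⊤ ⊓ No P) e, ∀ u : P, (σ u : G) = t * u * t⁻¹ := by
  rw [autE, Fusion.mem_autInducedBy]
  exact exists_congr fun t => and_congr_right fun _ =>
    ⟨fun h u => by rw [← h u u.2, Fusion.afun_of_mem _ u.2],
      fun h u hu => by rw [Fusion.afun_of_mem _ hu, h]⟩

theorem exists_autE {t : G} (ht : t ∈ stab (⊤ ⊓ No P) e) :
    ∃ σ ∈ autE P e, ∀ u : P, (σ u : G) = t * u * t⁻¹ :=
  ⟨conjIso (mem_No.1 ht.1.2), mem_autE.2 ⟨t, ht, fun _ => rfl⟩, fun _ => rfl⟩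

theorem card_autE [Finite G] : Nat.card (autE P e) = (Ce P).relIndex (stab (⊤ ⊓ No P) e) := by
  have h1 := Fusion.card_autInducedBy (stab (⊤ ⊓ No P) e) P
  rw [show FusionSystem.normalizerIn (stab (⊤ ⊓ No P) e) P = stab (⊤ ⊓ No P) e from
    inf_eq_left.2 fun _ h => h.1.2, ← card_inf_mul_relIndex' (Ce P) (stab _ _), mul_comm] at h1
  exact Nat.eq_of_mul_eq_mul_left Nat.card_pos h1

theorem freeAut_autE_iff : FreeAut (autE P e) ↔
    ∀ t ∈ stab (⊤ ⊓ No P) e, ∀ u ∈ P, u ≠ 1 → t * u * t⁻¹ = u → t ∈ Ce P := by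
  constructor
  · intro h t ht u hu h1 h2
    obtain ⟨σ, hσ, h3⟩ := exists_autE ht
    obtain rfl := h σ hσ ⟨u, hu⟩ (fun h => h1 (congrArg Subtype.val h))
      (Subtype.ext ((h3 _).trans h2))
    exact mem_Ce_of_conj_eq fun v hv => h3 ⟨v, hv⟩
  · intro h σ hσ u h1 h2
    obtain ⟨t, ht, h3⟩ := mem_autE.1 hσ
    have := h t ht u u.2 (fun h => h1 (Subtype.ext h)) (by rw [← h3, h2])
    ext v
    rw [h3, conj_eq_of_mem_Ce this v.2]; rfl

end AutE

variable {G : Type*} [Group G] [Finite G] {M : Ideal AlgInt} {p : ℕ} [PMod M p]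
  {B : Set (IrrCharacter G)} {P Q : Subgroup G} {e f : (kk M)[G]} {u v x : G} {θ φ : G → ℂ}
  {η η' : P → ℂ} {χ ψ : IrrCharacter G}

theorem comm_of_le_Ce (hc : P ≤ Ce P) (a b : P) : a * b = b * a :=
  Subtype.ext (mem_Ce.1 (hc b.2) a a.2)

namespace MP

theorem fc_iff_comm (h : MP p B P e) (hc : P ≤ Ce P) (u v : P) :
    FC p P e u v ↔ ∃ σ ∈ autE P e, σ u = v := by
  haveI : Fact p.Prime := ⟨PMod.prime M⟩
  constructor
  · rintro ⟨x, ⟨-, f, h1, h2⟩, h3⟩
    have h4 := h.mp.local_Ce h2 (hc.trans (Ce_anti h2.le))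
    have h5 := (h.mp.cs (Subgroup.mem_top x)).local_Ce (h1.cs (Subgroup.mem_top x))
      (by rw [← cs_Ce]; exact cs_mono _ (hc.trans (Ce_anti h1.le)))
    obtain ⟨c, hc', h6, h7⟩ := h4.conj h5
    rw [← cs_mul] at h6
    rw [← cj_mul] at h7
    obtain ⟨σ, hσ, h8⟩ := exists_autE (e := e) ⟨⟨Subgroup.mem_top _, mem_No.2 h6⟩, h7⟩
    refine ⟨σ, hσ, Subtype.ext ?_⟩
    rw [h8, ← conj_eq_of_mem_Ce hc'.2 (u := v) (by
      rw [cs_zpowers, h3]; exact Subgroup.mem_zpowers _), ← h3]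
    group
  · rintro ⟨σ, hσ, rfl⟩
    obtain ⟨t, ht, h1⟩ := mem_autE.1 hσ
    refine ⟨t, ((h.sb_ple u.2).fus_iff h.bp).2 ⟨Subgroup.mem_top _, ?_⟩, (h1 u).symm⟩
    have := (h.sb_ple u.2).cs (Subgroup.mem_top t)
    rwa [mem_No.1 ht.1.2, ht.2] at this

theorem stable_iff (h : MP p B P e) (hc : P ≤ Ce P) :
    Stable p P e η ↔ ∀ σ ∈ autE P e, ∀ u, η (σ u) = η u :=
  ⟨fun h1 σ hσ u => h1 _ _ ((h.fc_iff_comm hc _ _).2 ⟨σ, hσ, rfl⟩), fun h1 u v huv => by
    obtain ⟨σ, hσ, rfl⟩ := (h.fc_iff_comm hc _ _).1 huv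
    exact h1 σ hσ u⟩

theorem not_dvd_autE (h : MP p B P e) (hc : P ≤ Ce P) : ¬ p ∣ Nat.card (autE P e) := by
  haveI : Fact p.Prime := ⟨PMod.prime M⟩
  have := h.mp.not_dvd_index
  rwa [top_inf_eq (Ce P), sup_eq_right.2 hc, ← card_autE] at this

theorem nilp_iff (h : MP p B P e) (hc : P ≤ Ce P) :
    IsNilpotentBlock p M B ↔ Nat.card (autE P e) = 1 := by
  haveI : Fact p.Prime := ⟨PMod.prime M⟩
  rw [isNilpotentBlock_iff, and_iff_right h.blk, h.mp.nilp_iff_of_comm hc, card_autE,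
    Subgroup.relIndex_eq_one]

theorem pow_defect_sb_comm (h : MP p B P e) (hc : P ≤ Ce P) (hu : u ∈ P) :
    (p : ℂ) ^ blockDefect p (sb p P e u) = Nat.card P := by
  rw [h.defect_sb ⟨hu, hc hu⟩, h.card_eq, Nat.cast_pow]

theorem loc_apply_one_of_fc (h : MP p B P e) (huv : FC p P e u v) (hθ : IsClassFunction G θ) :
    loc p v (sb p P e v) θ 1 = loc p u (sb p P e u) θ 1 := by
  haveI : Fact p.Prime := ⟨PMod.prime M⟩
  have := Fintype.ofFinite G
  have h1 : ∀ w ∈ P, loc p w (sb p P e w) θ 1 = sec p w (sb p P e w) θ w := fun w hw => by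
    simpa [sec] using (Iu_apply (h.pelt hw) (isClassFunction_loc w _ θ) (s := 1) preg_one).symm
  rw [h1 v huv.right, h1 u huv.left, h.sec_eq_of_fc huv hθ,
    (isClassFunction_sec _ _).eq_of_isConj huv.isConj]

theorem dn_of_fc (h : MP p B P e) (hc : P ≤ Ce P) (huv : FC p P e u v)
    (hu : IsNilpotentBlock p M (sb p P e u)) (hv : IsNilpotentBlock p M (sb p P e v))
    (hθ : IsClassFunction G θ) : dn p v (sb p P e v) θ = dn p u (sb p P e u) θ := by
  haveI : Fact p.Prime := ⟨PMod.prime M⟩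
  have := Fintype.ofFinite (Ce1 u)
  have := Fintype.ofFinite (Ce1 v)
  by_cases h0 : loc p u (sb p P e u) θ 1 = 0
  · rw [dn, dn, h.loc_apply_one_of_fc huv hθ, h0, zero_div, zero_div]
  have h1 : cm p v (sb p P e v) θ θ = cm p u (sb p P e u) θ θ := by
    rw [cm, cm, h.classInner_loc_of_fc huv hθ hθ, h.pow_defect_sb_comm hc huv.left,
      h.pow_defect_sb_comm hc huv.right]
  rw [hu.cm_eq, hv.cm_eq, dn, dn, h.loc_apply_one_of_fc huv hθ, phi_one, phi_one, map_div₀,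
    map_div₀, Complex.conj_natCast, Complex.conj_natCast, div_mul_div_comm, div_mul_div_comm,
    div_eq_mul_inv, div_eq_mul_inv, mul_right_inj' (mul_ne_zero h0 ((map_ne_zero _).2 h0)),
    inv_inj] at h1
  rw [dn, dn, h.loc_apply_one_of_fc huv hθ, phi_one, phi_one,
    (Nat.mul_self_inj.1 (by exact_mod_cast h1) : charDegree (hz p (sb p P e v)).1 = _)]

end MP

variable (p) in
/-- blocks with abelian defect group and freely acting inertial quotient -/
structure FA (B : Set (IrrCharacter G)) (P : Subgroup G) (e : (kk M)[G]) : Prop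
    extends MP p B P e where
  comm : P ≤ Ce P
  free : FreeAut (autE P e)

theorem MP.fa_of_isCyclic (h : MP p B P e) (hc : IsCyclic P) : FA p B P e :=
  haveI : Fact p.Prime := ⟨PMod.prime M⟩
  ⟨h, le_Ce_self_of_isCyclic hc,
    freeAut_autE_iff.2 fun _ ht _ hu h1 h2 => h.mp.mem_Ce_of_fix hc ht hu h1 h2⟩

namespace FA

theorem comm' (h : FA p B P e) (a b : P) : a * b = b * a := comm_of_le_Ce h.comm a b

theorem fc (h : FA p B P e) (u v : P) : FC p P e u v ↔ ∃ σ ∈ autE P e, σ u = v :=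
  h.fc_iff_comm h.comm u v

theorem nilp (h : FA p B P e) (hQ : Q ≠ ⊥) (hf : PLe p ⊤ Q f P e) : IsNilp p (Ce Q) f := by
  haveI : Fact p.Prime := ⟨PMod.prime M⟩
  have h1 := h.mp.local_Ce hf (h.comm.trans (Ce_anti hf.le))
  rw [top_inf_eq] at h1
  obtain ⟨u, hu, h2⟩ := (Subgroup.bot_or_exists_ne_one Q).resolve_left hQ
  exact (h1.nilp_iff_of_comm h.comm).2 fun t ht => freeAut_autE_iff.1 h.free t
    ⟨⟨Subgroup.mem_top _, ht.1.2⟩, ht.2⟩ u (hf.le hu) h2 (conj_eq_of_mem_Ce ht.1.1 hu)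

theorem nilp_sb (h : FA p B P e) (hu : u ∈ P) (h1 : u ≠ 1) : IsNilpotentBlock p M (sb p P e u) :=
  isNilpotentBlock_iffS.2 ⟨h.sb_blk hu, by
    simpa only [Ce_zpowers] using h.nilp (Subgroup.zpowers_ne_bot.2 h1) (h.sb_ple hu)⟩

theorem nilp_sb' (h : FA p B P e) {u : P} (h1 : u ≠ 1) :
    IsNilpotentBlock p M (sb p P e (u : G)) := h.nilp_sb u.2 fun h2 => h1 (Subtype.ext h2)

theorem nF_eq (h : FA p B P e) {u : P} (hu : u ≠ 1) : nF p P e (u : G) = Nat.card (autE P e) := by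
  rw [← h.free.card_elt hu, nF]
  exact Nat.card_congr ⟨fun v => ⟨⟨v.1, v.2.right⟩, (h.fc _ _).1 v.2⟩,
    fun v => ⟨v.1, (h.fc _ _).2 v.2⟩, fun _ => rfl, fun _ => rfl⟩

theorem card_eq_rank (h : FA p B P e) : Nat.card (autE P e) * (fs B).card + 1 =
    Nat.card (autE P e) * blockRank p B + Nat.card P := by
  classical
  haveI : Fact p.Prime := ⟨PMod.prime M⟩
  have := Fintype.ofFinite P
  have h1 := h.card_eq_sum
  rw [← Finset.add_sum_erase _ _ (Finset.mem_univ 1), Finset.sum_congr rfl fun u hu => by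
    rw [h.nF_eq (Finset.mem_erase.1 hu).1, (h.nilp_sb' (Finset.mem_erase.1 hu).1).rank],
    Finset.sum_const, Finset.card_erase_of_mem (Finset.mem_univ _), Finset.card_univ,
    ← Nat.card_eq_fintype_card, nsmul_eq_mul, Nat.cast_sub Nat.card_pos, OneMemClass.coe_one,
    h.bp.nF_one, h.rank_sb_one] at h1
  apply Nat.cast_injective (R := ℂ)
  have := card_ne_zero' (autE P e)
  push_cast at h1 ⊢
  rw [h1]; field_simp; ring

theorem dn_fc (h : FA p B P e) {u : P} (hu : u ≠ 1) {σ : MulAut P} (hσ : σ ∈ autE P e)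
    (hθ : IsClassFunction G θ) :
    dn p (σ u : G) (sb p P e (σ u)) θ = dn p (u : G) (sb p P e u) θ :=
  h.dn_of_fc h.comm ((h.fc _ _).2 ⟨σ, hσ, rfl⟩) (h.nilp_sb' hu) (h.nilp_sb' (by simpa using hu)) hθ

theorem loc_ne_zero (h : FA p B P e) (hu : u ∈ P) (hχ : χ ∈ B) : loc p u (sb p P e u) χ.1 ≠ 0 :=
  h.loc_ne_zero_of_central ⟨hu, h.comm hu⟩ hχ

theorem dn_ne_zero (h : FA p B P e) (hu : u ∈ P) (h1 : u ≠ 1) (hχ : χ ∈ B) :
    dn p u (sb p P e u) χ.1 ≠ 0 := fun h2 =>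
  h.loc_ne_zero hu hχ (by rw [(h.nilp_sb hu h1).loc_eq, h2, zero_smul])

theorem sum_dn (h : FA p B P e) (hu : u ∈ P) (h1 : u ≠ 1) :
    ∑ χ ∈ fs B, dn p u (sb p P e u) χ.1 * conj (dn p u (sb p P e u) χ.1) = Nat.card P := by
  have := Fintype.ofFinite (Ce1 u)
  have h2 := (h.sb_ind hu).sum_cm_self (h.pelt hu)
  simpa only [(h.nilp_sb hu h1).cm_eq, (h.nilp_sb hu h1).rank, h.pow_defect_sb_comm h.comm hu,
    Nat.cast_one, mul_one] using h2

theorem exd [Fintype P] (h : FA p B P e) {D : IrrCharacter G → P → ℂ} {ε : P → ℂ}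
    (hD : ∀ χ ∈ B, ∀ u : P, u ≠ 1 → D χ u = ε u * dn p (u : G) (sb p P e u) χ.1)
    (hε : ∀ u, u ≠ 1 → ε u * conj (ε u) = 1) (hgen : ∀ χ ∈ B, IsGeneralizedCharacter P (D χ))
    (hst : ∀ σ ∈ autE P e, ∀ u, u ≠ 1 → ε (σ u) = ε u) : EXd p B (autE P e) D := by
  classical
  haveI : Fact p.Prime := ⟨PMod.prime M⟩
  have := Fintype.ofFinite G
  have inst : ∀ u : G, Fintype (Ce1 u) := fun _ => Fintype.ofFinite _
  obtain ⟨χ₀, h0⟩ := h.blk.nonempty
  have c0 := χ₀.2.isClassFunction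
  have hP := card_ne_zero' P
  have h1 : ∀ u : P, u ≠ 1 → ∀ θ, IsClassFunction G θ →
      classInner (sec p (u : G) (sb p P e u) χ₀.1) θ = (Nat.card P : ℂ)⁻¹ *
        (dn p (u : G) (sb p P e u) χ₀.1 * conj (dn p (u : G) (sb p P e u) θ)) :=
    fun u hu θ hθ => by
      rw [(h.sb_blk u.2).isUB.classInner_sec c0 hθ, ← (h.nilp_sb' hu).cm_eq, cm,
        h.pow_defect_sb_comm h.comm u.2, inv_mul_cancel_left₀ hP]
  have h2 : ∀ u : P, u ≠ 1 → dn p (u : G) (sb p P e u) χ₀.1 ≠ 0 := fun u hu =>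
    h.dn_ne_zero u.2 (fun h => hu (Subtype.ext h)) h0
  refine ⟨h.comm', h.free, hgen, fun χ hχ σ hσ u => ?_, fun u v hu hv => ?_, fun u hu => ?_,
    fun χ hχ u hu => ?_⟩
  · by_cases hu : u = 1
    · rw [hu, map_one]
    rw [hD χ hχ u hu, hD χ hχ _ (by simpa using hu), hst σ hσ u hu,
      h.dn_fc hu hσ χ.2.isClassFunction]
  · have h3 := classInner_blockPart_left B (sec p (v : G) (sb p P e v) χ₀.1)
      (sec p (u : G) (sb p P e u) χ₀.1)
    rw [h.blockPart_sec v.2, h1 v hv _ (isClassFunction_sec _ _), Finset.sum_congr rfl fun χ _ => by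
      rw [h1 v hv _ χ.2.isClassFunction, h1 u hu _ χ.2.isClassFunction]] at h3
    simp only [map_mul, map_inv₀, Complex.conj_natCast, Complex.conj_conj] at h3
    have h4 : ∑ χ ∈ fs B, D χ u * conj (D χ v) = ε u * conj (ε v) * Nat.card P *
        conj (dn p (v : G) (sb p P e v) (sec p (u : G) (sb p P e u) χ₀.1)) /
          conj (dn p (u : G) (sb p P e u) χ₀.1) := by
      have h5 := h2 v hv
      have h6 := (map_ne_zero (starRingEnd ℂ)).2 (h2 u hu)
      rw [eq_div_iff h6, ← mul_right_inj' (mul_ne_zero (inv_ne_zero (mul_ne_zero hP hP)) h5),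
        Finset.sum_mul, Finset.mul_sum]
      refine Eq.trans ?_ (show ε u * conj (ε v) * ((Nat.card P : ℂ)⁻¹ *
          (dn p (v : G) (sb p P e v) χ₀.1 *
            conj (dn p (v : G) (sb p P e v) (sec p (u : G) (sb p P e u) χ₀.1)))) = _ by field_simp)
      rw [h3, Finset.mul_sum]
      exact Finset.sum_congr rfl fun χ hχ => by
        rw [hD χ (mem_fs.1 hχ) u hu, hD χ (mem_fs.1 hχ) v hv, map_mul, mul_inv]; ring
    rw [h4]
    split_ifs with h5
    · obtain ⟨σ, hσ, rfl⟩ := h5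
      rw [hst σ hσ u hu, hε u hu, one_mul, (h.nilp_sb' hv).dn_eq (by
        rw [h.loc_sec_of_fc ((h.fc _ _).2 ⟨σ, hσ, rfl⟩).symm c0, (h.nilp_sb' hv).loc_eq]),
        h.dn_fc hu hσ c0, mul_div_cancel_right₀ _ ((map_ne_zero _).2 (h2 u hu))]
    · rw [(h.nilp_sb' hv).dn_eq (c := 0) (by
        rw [h.loc_sec_of_not_fc v.2 u.2 (fun h6 => h5 ((h.fc _ _).1 h6.symm)) c0, zero_smul])]
      simp
  · have h3 : reg p (sec p (u : G) (sb p P e u) χ₀.1) = 0 := by
      rw [← reg_zero (p := p)]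
      exact reg_congr fun g hg => sec_eq_zero (h.pelt u.2) _ _ (isPPart_one_iff.2 hg)
        fun h4 => hu (Subtype.ext (isConj_one_left.1 h4))
    rw [← h.blockPart_sec u.2, blockPart_fs, reg_sum, Finset.sum_congr rfl fun χ _ => by
      rw [reg_smul, h1 u hu _ χ.2.isClassFunction, mul_smul, mul_smul], ← Finset.smul_sum,
      ← Finset.smul_sum, smul_eq_zero, smul_eq_zero, or_iff_right (inv_ne_zero hP),
      or_iff_right (h2 u hu)] at h3
    rw [Finset.sum_congr rfl fun χ hχ => by rw [hD χ (mem_fs.1 hχ) u hu, map_mul, mul_smul],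
      ← Finset.smul_sum, h3, smul_zero]
  · rw [hD χ hχ u hu]
    exact mul_ne_zero (left_ne_zero_of_mul_eq_one (hε u hu))
      (h.dn_ne_zero u.2 (fun h => hu (Subtype.ext h)) hχ)

end FA

end Cfsg.Agent.Blk
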