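import Cfsg.Agent.Lib.Block.Ord2
import Cfsg.Agent.Lib.Transfer.Count
import Cfsg.Agent.Lib.Char.PermCh

/-! Class counting, fusion and fixed vectors. -/

set_option autoImplicit false

namespace Cfsg.Agent.Blk

open MonoidAlgebra Subgroup
open Cfsg.Agent.Char hiding cj cj_mul cj_inv_cj cj_cj_inv sum_cj_eq
open scoped ComplexConjugate
attribute [local instance] _root_.Classical.propDecidable

variable {G : Type*} [Group G] [Finite G] {p : ℕ} {x y g t : G} {χ ψ : IrrCharacter G}

omit [Finite G] in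
theorem card_Ce1_conj (h : IsConj x y) : Nat.card (Ce1 x) = Nat.card (Ce1 y) := by
  obtain ⟨c, rfl⟩ := isConj_iff.1 h
  rw [← cs_Ce1, card_cs]

/-- centralizer order of a class -/
noncomputable def cc : ConjClasses G → ℕ :=
  Quotient.lift (fun g => Nat.card (Ce1 g)) fun _ _ h => card_Ce1_conj h

variable (G) in
/-- number of classes with a given centralizer order -/
noncomputable def mcl (c : ℕ) : ℕ := Nat.card {K : ConjClasses G // cc K = c}

theorem mcl_sum {D : Finset ℕ} (h : ∀ g : G, Nat.card (Ce1 g) ∈ D) :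
    ∑ c ∈ D, mcl G c = Nat.card (IrrCharacter G) ∧
      ∑ c ∈ D, mcl G c * (Nat.card G / c) = Nat.card G := by
  have := Fintype.ofFinite G
  have := Fintype.ofFinite (ConjClasses G)
  have m : ∀ K ∈ (Finset.univ : Finset (ConjClasses G)), cc K ∈ D := fun K _ => by
    obtain ⟨g, rfl⟩ := K.exists_rep
    exact h g
  have e : ∀ c, mcl G c = (Finset.univ.filter fun K : ConjClasses G => cc K = c).card := fun c => by
    rw [mcl, Nat.card_eq_fintype_card, Fintype.card_subtype]
  simp only [e]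
  refine ⟨by rw [card_irr_eq_card_conjClasses, Nat.card_eq_fintype_card, ← Finset.card_univ,
    Finset.card_eq_sum_card_fiberwise m], ?_⟩
  have h1 := Transfer.cnt_eq_sum_fiber (fun _ : G => True) ConjClasses.mk
  rw [Transfer.cnt_true, ← Finset.sum_fiberwise_of_maps_to m] at h1
  refine Eq.trans (Finset.sum_congr rfl fun c _ => ?_) h1.symm
  rw [← smul_eq_mul, ← Finset.sum_const]
  refine Finset.sum_congr rfl fun K hK => ?_
  obtain ⟨g, rfl⟩ := K.exists_rep
  rw [← (Finset.mem_filter.1 hK).2, ← card_isConj_mul_card_centralizer g]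
  exact (Nat.mul_div_cancel _ Nat.card_pos).trans (Transfer.cnt_congr fun x => by
    rw [true_and, ConjClasses.mk_eq_mk_iff_isConj, isConj_comm])

theorem mcl_pos (g : G) : 0 < mcl G (Nat.card (Ce1 g)) :=
  Transfer.cnt_pos (p := fun K : ConjClasses G => cc K = Nat.card (Ce1 g)) (x := .mk g) rfl

theorem exists_of_mcl {c : ℕ} (h : 0 < mcl G c) : ∃ g : G, Nat.card (Ce1 g) = c := by
  obtain ⟨⟨K, hK⟩⟩ := (Nat.card_pos_iff.1 h).1
  obtain ⟨g, rfl⟩ := K.exists_rep
  exact ⟨g, hK⟩

theorem conj_of_mcl {c : ℕ} (h : mcl G c ≤ 1) (h1 : Nat.card (Ce1 x) = c)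
    (h2 : Nat.card (Ce1 y) = c) : IsConj x y :=
  ConjClasses.mk_eq_mk_iff_isConj.1 (congrArg Subtype.val
    ((Finite.card_le_one_iff_subsingleton.1 h).elim ⟨.mk x, h1⟩ ⟨.mk y, h2⟩))

theorem mcl_le_one {c : ℕ} (h : ∀ x y : G, Nat.card (Ce1 x) = c → Nat.card (Ce1 y) = c → IsConj x y) :
    mcl G c ≤ 1 := Finite.card_le_one_iff_subsingleton.2 ⟨fun ⟨K, hK⟩ ⟨L, hL⟩ => by
  obtain ⟨x, rfl⟩ := K.exists_rep
  obtain ⟨y, rfl⟩ := L.exists_rep
  exact Subtype.ext (ConjClasses.mk_eq_mk_iff_isConj.2 (h x y hK hL))⟩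

theorem exists_two_of_mcl {c : ℕ} (h : 1 < mcl G c) : ∃ x y : G, Nat.card (Ce1 x) = c ∧
    Nat.card (Ce1 y) = c ∧ ¬ IsConj x y := by
  by_contra k
  push Not at k
  exact (mcl_le_one k).not_gt h

theorem card_le_of_mem {H : Subgroup G} (s : Finset G) (h : ∀ x ∈ s, x ∈ H) :
    s.card ≤ Nat.card H := by
  rw [← Set.ncard_coe_finset]
  exact Set.ncard_le_ncard h

theorem exists_conj_commute [hp : Fact p.Prime] {k : ℕ} (hx : IsPGroup p (zpowers x))
    (h1 : p ^ k ∣ Nat.card (Ce1 y)) (h2 : ¬ p ^ (k + 1) ∣ Nat.card G) :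
    ∃ z, IsConj y z ∧ Commute x z := by
  obtain ⟨T, hT⟩ := exists_isSyl p (Ce1 y)
  have : IsSyl p T ⊤ := isSyl_of_card le_top (by
    rw [hT.card_eq, card_top]
    congr 1
    refine le_antisymm ((Nat.factorization_le_iff_dvd Nat.card_pos.ne' Nat.card_pos.ne').2
      (card_subgroup_dvd_card _) p) (le_trans ?_
        ((hp.out.pow_dvd_iff_le_factorization Nat.card_pos.ne').1 h1))
    rw [hp.out.pow_dvd_iff_le_factorization Nat.card_pos.ne'] at h2
    omega)
  obtain ⟨c, -, hc⟩ := this.exists_cs_le hx le_top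
  have := mem_Ce1.1 (hT.le (hc (conj_mem_cs.2 (mem_zpowers x))))
  refine ⟨c⁻¹ * y * c, isConj_iff.2 ⟨c⁻¹, by simp⟩, ?_⟩
  show _ = _
  calc _ = c⁻¹ * (c * x * c⁻¹ * y) * c := by group
    _ = _ := by rw [this]; group

theorem card_No_fusion [hp : Fact p.Prime] {P : Subgroup G} (hP : IsSyl p P ⊤) (hc : P ≤ Ce P)
    (hx : x ∈ P) (h1 : x ≠ 1) (h2 : Ce1 x ≤ No P) (h3 : ∀ y ∈ P, y ≠ 1 → IsConj x y) :
    Nat.card (No P) + Nat.card (Ce1 x) = Nat.card P * Nat.card (Ce1 x) := by
  obtain ⟨S, rfl⟩ := isSyl_top_iff.1 hP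
  have h4 := Transfer.cnt_erase (p := fun y => y ∈ (S : Subgroup G)) (one_mem _)
  rw [← Transfer.card_class_mul (No S) x, inf_eq_right.2 h2, ← Nat.succ_mul, Transfer.cnt_congr
    (q := fun y => y ∈ (S : Subgroup G) ∧ y ≠ 1) fun y => ⟨?_, fun k => ?_⟩]
  · exact congrArg (· * _) h4
  · rintro ⟨n, hn, rfl⟩
    exact ⟨mem_No.1 hn ▸ conj_mem_cs.2 hx, fun k => h1 (by simpa using k)⟩
  · obtain ⟨c, rfl⟩ := isConj_iff.1 (h3 y k.1 k.2)
    obtain ⟨n, hn, e⟩ := S.conj_eq_normalizer_conj_of_mem_centralizer x c⁻¹ (hc hx)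
      (by rw [inv_inv]; exact hc k.1)
    exact ⟨n⁻¹, inv_mem hn, by simpa using e.symm⟩

theorem No_of_index_two {P K : Subgroup G} (h1 : P ≤ K) (h2 : Nat.card K = 2 * Nat.card P) :
    K ≤ No P := by
  have h3 : (P.subgroupOf K).index = 2 := by
    have := (P.subgroupOf K).card_mul_index
    rw [h2, Nat.card_congr (subgroupOfEquivOfLe h1).toEquiv, mul_comm] at this
    exact Nat.eq_of_mul_eq_mul_right Nat.card_pos this
  exact (normal_subgroupOf_iff_le_normalizer h1).1 (normal_of_index_eq_two h3)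

/-- two subgroups with large fixed spaces generate a subgroup with a fixed vector -/
theorem sum_sup_ne_zero {θ : G → ℂ} (hθ : IsCharacter G θ) {A B D : Subgroup G} [Fintype A]
    [Fintype B] [Fintype D] [Fintype (A ⊔ B : Subgroup G)] (hA : D ≤ A) (hB : D ≤ B) {a b d : ℕ}
    (h1 : ∑ g : A, θ g = Nat.card A * a) (h2 : ∑ g : B, θ g = Nat.card B * b)
    (h3 : ∑ g : D, θ g = Nat.card D * d) (h : d < a + b) :
    classInner (fun g : (A ⊔ B : Subgroup G) => θ g) (fun _ => 1) ≠ 0 := by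
  obtain ⟨n, ρ, rfl⟩ := hθ
  have key : ∀ (H : Subgroup G) [Fintype H], classInner (fun g : H => ρ.character g) (fun _ => 1) =
      Module.finrank ℂ (Representation.invariants (ρ.comp H.subtype)) := fun H _ =>
    classInner_rep_one (ρ.comp H.subtype)
  have key' : ∀ (H : Subgroup G) [Fintype H] (m : ℕ), ∑ g : H, ρ.character g = Nat.card H * m →
      Module.finrank ℂ (Representation.invariants (ρ.comp H.subtype)) = m := fun H _ m hm => by
    have := key H
    rw [classInner_one_right, hm, inv_mul_cancel_left₀ (card_ne_zero' _)] at this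
    exact_mod_cast this.symm
  rw [key, Nat.cast_ne_zero]
  intro k
  have k1 := Submodule.finrank_sup_add_finrank_inf_eq (Representation.invariants (ρ.comp A.subtype))
    (Representation.invariants (ρ.comp B.subtype))
  have k2 : Representation.invariants (ρ.comp A.subtype) ⊔
      Representation.invariants (ρ.comp B.subtype) ≤ Representation.invariants (ρ.comp D.subtype) :=
    sup_le (fun v hv g => hv ⟨g, hA g.2⟩) fun v hv g => hv ⟨g, hB g.2⟩
  have k3 : Representation.invariants (ρ.comp A.subtype) ⊓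
      Representation.invariants (ρ.comp B.subtype) ≤
      Representation.invariants (ρ.comp (A ⊔ B).subtype) := fun v hv g => by
    have : A ⊔ B ≤ (MulAction.stabilizer _ v).comap ρ.asGroupHom := sup_le
      (fun g hg => hv.1 ⟨g, hg⟩) fun g hg => hv.2 ⟨g, hg⟩
    exact this g.2
  have k4 := Submodule.finrank_mono k2
  have k5 := Submodule.finrank_mono k3
  rw [key' A a h1, key' B b h2] at k1
  rw [key' D d h3] at k4
  omega

theorem ne_top_of_inner {H : Subgroup G} [Fintype H] (h1 : χ ≠ irrOne G)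
    (h : classInner (fun g : H => χ.1 g) (fun _ => 1) ≠ 0) : H ≠ ⊤ := by
  rintro rfl
  have := Fintype.ofFinite G
  refine h ((classInner_comp_equiv topEquiv χ.1 fun _ => 1).trans ?_)
  exact (classInner_irr χ (irrOne G)).trans (if_neg h1)

/-- a subgroup of index `χ(1) + 1` fixing a vector gives the permutation character `1 + χ` -/
theorem fix_eq {H : Subgroup G} [Fintype H] (h1 : χ ≠ irrOne G) (h2 : H.index = dg χ + 1)
    (h : classInner (fun g : H => χ.1 g) (fun _ => 1) ≠ 0) (g : G) :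
    (Nat.card (MulAction.fixedBy (G ⧸ H) g) : ℂ) = 1 + χ.1 g := by
  have := Fintype.ofFinite G
  have := Fintype.ofFinite (MulAction.stabilizer G ((1 : G) : G ⧸ H))
  have e : ∀ (K : Subgroup G) [Fintype K], K = H →
      classInner (fun g : K => χ.1 g) (fun _ => 1) ≠ 0 := by
    rintro K _ rfl
    rwa [classInner_congr_fintype]
  have k1 := classInner_pc_left ((1 : G) : G ⧸ H) χ.2.isClassFunction
  have k2 := classInner_pc_one' (G := G) ((1 : G) : G ⧸ H)
  have k3 := (isCharacter_perm (G := G) (G ⧸ H)).sub_irr isIrrCharacter_one (by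
    rw [k2]; exact one_ne_zero)
  have k4 := k3.eq_of_constituent_of_apply_one χ.2 (by
    rw [classInner_sub_left, k1, show classInner (fun _ => 1) χ.1 = 0 from
      (classInner_irr (irrOne G) χ).trans (if_neg h1.symm), sub_zero, Ne, classInner_eq_zero_comm]
    exact e _ (MulAction.stabilizer_quotient H)) (by
    simp only [Pi.sub_apply, MulAction.fixedBy_one_eq_univ, Nat.card_univ]
    rw [← index, h2, ← cast_deg]
    simp)
  rw [← k4]
  simp

end Cfsg.Agent.Blk
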