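import Cfsg.Agent.Lib.Block.M11b
import Cfsg.Agent.Lib.Block.Ord3

/-! Simple groups of order 7920: centralizers and character values. -/

set_option autoImplicit false

namespace Cfsg.Agent.Blk

open MonoidAlgebra Subgroup
open Cfsg.Agent.Char hiding cj cj_mul cj_inv_cj cj_cj_inv sum_cj_eq
open scoped ComplexConjugate
attribute [local instance] _root_.Classical.propDecidable

theorem cs3 {a b c : ℂ} {s : ℤ} (h : a + b + c = s) :
    (s : ℝ) ^ 2 ≤ 3 * (‖a‖ ^ 2 + ‖b‖ ^ 2 + ‖c‖ ^ 2) := by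
  have := congrArg Complex.re h
  simp only [Complex.add_re, Complex.intCast_re] at this
  simp only [Complex.sq_norm, Complex.normSq_apply, ← this]
  nlinarith [sq_nonneg (a.re - b.re), sq_nonneg (a.re - c.re), sq_nonneg (b.re - c.re),
    sq_nonneg a.im, sq_nonneg b.im, sq_nonneg c.im]

theorem cs3_eq {a b c : ℂ} (h : a + b + c = 3) (h1 : ‖a‖ ^ 2 + ‖b‖ ^ 2 + ‖c‖ ^ 2 = 3) :
    a = 1 ∧ b = 1 ∧ c = 1 := by
  have := congrArg Complex.re h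
  simp only [Complex.add_re, Complex.re_ofNat] at this
  simp only [Complex.sq_norm, Complex.normSq_apply] at h1
  have k : ∀ z : ℂ, (z.re - 1) ^ 2 + z.im ^ 2 ≤ 0 → z = 1 := fun z hz =>
    Complex.ext (by simp; nlinarith [sq_nonneg (z.re - 1), sq_nonneg z.im])
      (by simp; nlinarith [sq_nonneg (z.re - 1), sq_nonneg z.im])
  refine ⟨k _ ?_, k _ ?_, k _ ?_⟩ <;>
    nlinarith [sq_nonneg (a.re - 1), sq_nonneg (b.re - 1), sq_nonneg (c.re - 1),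
      sq_nonneg a.im, sq_nonneg b.im, sq_nonneg c.im]

theorem mem_Icc_of_sq {a n : ℤ} (hn : 0 ≤ n) (h : a ^ 2 < (n + 1) ^ 2) : a ∈ Finset.Icc (-n) n := by
  have := abs_lt_of_sq_lt_sq' h (by omega)
  simp only [Finset.mem_Icc]
  omega

theorem fact_eq {p n k m : ℕ} [hp : Fact p.Prime] (h : n = p ^ k * m) (hm : ¬ p ∣ m) :
    n.factorization p = k := by
  rw [h, Nat.factorization_mul (pow_ne_zero _ hp.out.ne_zero) (by rintro rfl; exact hm (dvd_zero _)),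
    Finsupp.add_apply, Nat.factorization_eq_zero_of_not_dvd hm, hp.out.factorization_pow]
  simp

namespace M11

variable {G : Type*} [Group G] [Finite G] [IsSimpleGroup G] {x y g t k : G} {χ ψ : IrrCharacter G}
  {α₁ α₂ α₃ β θ θ' γ ρ σ : IrrCharacter G}

theorem ar3 : ∀ c ∈ [9, 18, 36, 72, 144], ∀ t ∈ Finset.Icc (-8 : ℤ) 8, 3 ∣ t - 16 →
    16 ∣ (7920 / c : ℕ) * t → ∀ b ∈ Finset.Icc (-12 : ℤ) 12, 3 ∣ b - 11 → (1 - t) ^ 2 ≤
      3 * (c - (1 + b ^ 2 + 2 * t ^ 2 + 2 * (1 + 2 * t + b) ^ 2)) → c = 18 ∧ t = -2 ∧ b = 2 := by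
  decide +kernel

theorem ar2 : ∀ a ∈ Finset.Icc (-12 : ℤ) 12, 4 ∣ a - 10 → ∀ a' ∈ Finset.Icc (-12 : ℤ) 12, 4 ∣ a' - 10 →
    ∀ a'' ∈ Finset.Icc (-12 : ℤ) 12, 4 ∣ a'' - 10 → ∀ b ∈ Finset.Icc (-12 : ℤ) 12, 4 ∣ b - 11 →
    ∀ c ∈ Nat.divisors 144, (c : ℤ) = 1 + a ^ 2 + a' ^ 2 + a'' ^ 2 + b ^ 2 + (1 + b) ^ 2 +
      (a + a' + a'' - 1) ^ 2 + (b + a + a' + a'') ^ 2 → 45 ∣ (7920 / c : ℕ) * (a + a' + a'' - 1) →
    c = 16 ∨ c = 48 ∧ (a = 2 ∧ a' = -2 ∧ a'' = -2 ∨ a = -2 ∧ a' = 2 ∧ a'' = -2 ∨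
      a = -2 ∧ a' = -2 ∧ a'' = 2) := by
  decide +kernel

theorem arc (m11 m5 m18 m6 m48 m16 m8 m4 : ℕ) (h2 : 0 < m6) (h3 : 0 < m48)
    (h4 : 1 + (m11 + (m5 + (m18 + (m6 + (m48 + (m16 + (m8 + m4))))))) = 10)
    (h5 : 1 + (m11 * 720 + (m5 * 1584 + (m18 * 440 + (m6 * 1320 + (m48 * 165 + (m16 * 495 +
      (m8 * 990 + m4 * 1980))))))) = 7920) :
    m48 = 1 ∧ (m16 = 0 ∧ m4 = 0 ∨ 1 < m16 ∧ 0 < m4) := by
  have : (1 + m11 * 720) % 11 = 0 := by omega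
  obtain rfl : m11 = 2 := by omega
  have : (1 + m5 * 4) % 5 = 0 := by omega
  obtain rfl : m5 = 1 := by omega
  replace h5 : m18 * 8 + m6 * 24 + m48 * 3 + m16 * 9 + m8 * 18 + m4 * 36 = 89 := by omega
  have : m18 ≤ 4 := by omega
  have : m6 ≤ 4 := by omega
  have : m4 ≤ 2 := by omega
  have : m8 ≤ 4 := by omega
  interval_cases m18 <;> interval_cases m6 <;> interval_cases m4 <;> interval_cases m8 <;> omega

namespace T11
variable (h : T11 α₁ α₂ α₃ β θ θ' γ ρ σ)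
include h

omit [IsSimpleGroup G] in
theorem swap12 : T11 α₂ α₁ α₃ β θ θ' γ ρ σ :=
  { h with
    d1 := h.d2, d2 := h.d1, n12 := h.n12.symm, n13 := h.n23, n23 := h.n13
    mem := fun χ k => by have := h.mem χ k; tauto
    v11 := fun g k => by have := h.v11 g k; tauto
    r11 := fun g k => ⟨(h.r11 g k).1, by rw [(h.r11 g k).2]; ring⟩
    all := fun χ => by have := h.all χ; tauto
    sum := fun f => by rw [h.sum]; abel }

omit [IsSimpleGroup G] in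
theorem swap13 : T11 α₃ α₂ α₁ β θ θ' γ ρ σ :=
  { h with
    d1 := h.d3, d3 := h.d1, n12 := h.n23.symm, n13 := h.n13.symm, n23 := h.n12.symm
    mem := fun χ k => by have := h.mem χ k; tauto
    v11 := fun g k => by have := h.v11 g k; tauto
    r11 := fun g k => ⟨(h.r11 g k).1, by rw [(h.r11 g k).2]; ring⟩
    all := fun χ => by have := h.all χ; tauto
    sum := fun f => by rw [h.sum]; abel }

omit [IsSimpleGroup G] in
theorem by_dg (χ : IrrCharacter G) : (dg χ = 10 → χ = α₁ ∨ χ = α₂ ∨ χ = α₃) ∧ (dg χ = 11 → χ = β) ∧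
    (dg χ = 16 → χ = θ ∨ χ = θ') ∧ (dg χ = 45 → χ = ρ) := by
  have := h.d1; have := h.d2; have := h.d3; have := h.dβ; have := h.dθ; have := h.dθ'
  have := h.dγ; have := h.dρ; have := h.dσ; have := dg_one (G := G)
  rcases h.all χ with rfl | rfl | rfl | rfl | rfl | rfl | rfl | rfl | rfl | rfl <;>
    refine ⟨fun _ => ?_, fun _ => ?_, fun _ => ?_, fun _ => ?_⟩ <;> first | omega | simp

theorem dvd144 (h1 : g ≠ 1) (h5 : ¬ 5 ∣ orderOf g) (h11 : ¬ 11 ∣ orderOf g) :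
    Nat.card (Ce1 g) ∣ 144 := by
  obtain ⟨x, hx⟩ := sc11' h.card
  obtain ⟨y, hy⟩ := exists_prime_orderOf_dvd_card' (G := G) 5 (by rw [h.card]; norm_num)
  have h2 := card_subgroup_dvd_card (Ce1 g)
  rw [h.card] at h2
  exact Nat.Coprime.dvd_of_dvd_mul_right (n := 11)
    ((Nat.Prime.coprime_iff_not_dvd (by norm_num)).2 (hx.not_dvd h1 h11)).symm
    (Nat.Coprime.dvd_of_dvd_mul_right (n := 5) ((Nat.Prime.coprime_iff_not_dvd (by norm_num)).2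
      ((h.sc5 y hy).not_dvd h1 h5)).symm h2)

omit [IsSimpleGroup G] in
theorem index_eq (g : G) : (Ce1 g).index = 7920 / Nat.card (Ce1 g) := by
  rw [← h.card, ← (Ce1 g).card_mul_index, Nat.mul_div_cancel_left _ Nat.card_pos]

omit [IsSimpleGroup G] in
theorem vals (h1 : g ≠ 1) (h5 : ¬ 5 ∣ orderOf g) (h11 : ¬ 11 ∣ orderOf g) : ∃ b t r : ℤ,
    β.1 g = b ∧ θ.1 g = t ∧ θ'.1 g = t ∧ ρ.1 g = r ∧ γ.1 g = (1 + 2 * t + b : ℤ) ∧
    σ.1 g = (-(1 + 2 * t + b + r) : ℤ) ∧ α₁.1 g + α₂.1 g + α₃.1 g = (1 + r - t : ℤ) ∧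
    ‖α₁.1 g‖ ^ 2 + ‖α₂.1 g‖ ^ 2 + ‖α₃.1 g‖ ^ 2 = (Nat.card (Ce1 g) - (1 + b ^ 2 + 2 * t ^ 2 +
      (1 + 2 * t + b) ^ 2 + r ^ 2 + (1 + 2 * t + b + r) ^ 2) : ℤ) := by
  obtain ⟨k1, k2⟩ := h.r11 g h11
  obtain ⟨b, hb⟩ := int_of_gal (χ := β) (g := g) fun s => by
    rw [(h.by_dg _).2.1 ((charDegree_gal s β).trans h.dβ)]
  obtain ⟨t, ht⟩ := int_of_gal (χ := θ) (g := g) fun s => by
    rcases (h.by_dg _).2.2.1 ((charDegree_gal s θ).trans h.dθ) with k | k <;> rw [k]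
    exact k1
  obtain ⟨r, hr⟩ := int_of_gal (χ := ρ) (g := g) fun s => by
    rw [(h.by_dg _).2.2.2 ((charDegree_gal s ρ).trans h.dρ)]
  have k3 : γ.1 g = (1 + 2 * t + b : ℤ) := by rw [h.r5 g h5, k1, ht, hb]; push_cast; ring
  have k4 : α₁.1 g + α₂.1 g + α₃.1 g = (1 + r - t : ℤ) := by
    rw [ht, hr] at k2; push_cast; linear_combination k2
  have k5 : σ.1 g = (-(1 + 2 * t + b + r) : ℤ) := by
    have := sum_degree_mul (G := G) g
    rw [h.sum, regChar_of_ne h1, val_one h.d1, val_one h.d2, val_one h.d3, val_one h.dβ, val_one h.dθ,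
      val_one h.dθ', val_one h.dγ, val_one h.dρ, val_one h.dσ, k1, ht, hb, hr, k3] at this
    simp only [irrOne_apply] at this
    push_cast at this k4 ⊢
    linear_combination (1 / 55) * this - (10 / 55) * k4
  refine ⟨b, t, r, hb, ht, k1.trans ht, hr, k3, k5, k4, ?_⟩
  have := sum_norm_sq_column g
  rw [h.sum, norm_sq_int hb, norm_sq_int ht, norm_sq_int (k1.trans ht), norm_sq_int hr,
    norm_sq_int k3, norm_sq_int k5] at this
  simp only [irrOne_apply, norm_one] at this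
  push_cast at this ⊢
  linear_combination this

omit [IsSimpleGroup G] in
theorem syl3 {P : Subgroup G} (hP : IsSyl 3 P ⊤) : Nat.card P = 9 ∧ P ≤ Ce P := by
  have h1 : Nat.card P = 3 ^ 2 := by
    rw [hP.card_eq, card_top, h.card, fact_eq (k := 2) (m := 880) (by norm_num) (by norm_num)]
  have := IsPGroup.isMulCommutative_of_card_eq_prime_sq h1
  exact ⟨h1, le_centralizer P⟩

theorem three (h1 : g ≠ 1) {n : ℕ} (hg : orderOf g = 3 ^ n) : Nat.card (Ce1 g) = 18 ∧ α₁.1 g = 1 ∧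
    ∀ χ : IrrCharacter G, χ.1 g = if dg χ = 11 then 2 else if dg χ = 16 then -2 else
      if dg χ = 44 then -1 else if dg χ = 45 then 0 else 1 := by
  have o : ∀ q : ℕ, q.Prime → q ∣ orderOf g → q = 3 := fun q hq k =>
    (Nat.prime_dvd_prime_iff_eq hq (by norm_num)).1 (hq.dvd_of_dvd_pow (hg ▸ k))
  have h5 : ¬ 5 ∣ orderOf g := fun k => by simpa using o 5 (by norm_num) k
  have h11 : ¬ 11 ∣ orderOf g := fun k => by simpa using o 11 (by norm_num) k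
  have h3 : 3 ∣ orderOf g := hg ▸ dvd_pow_self 3 fun k => h1 (by simpa [k] using hg)
  obtain ⟨b, t, r, k1, k2, k3, k4, k5, k6, k7, k8⟩ := h.vals h1 h5 h11
  obtain rfl : r = 0 := by exact_mod_cast k4.symm.trans (dz' h.card 3 h.dρ h3)
  obtain ⟨P, hP, k9⟩ := exists_isSyl_ge (isPGroup_zpowers ⟨n, hg⟩) le_top
  have c1 : 9 ∣ Nat.card (Ce1 g) := (h.syl3 hP).1 ▸
    card_dvd_of_le (mem_Ce_iff_le.1 ((h.syl3 hP).2 (k9 (mem_zpowers g))))
  have c2 := h.dvd144 h1 h5 h11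
  have c3 := cong_dg hg k1
  have c4 := cong_dg hg k2
  have c5 := cen_int k2
  have c6 := cs3 k7
  rw [k8] at c6
  rw [h.index_eq, h.dθ] at c5
  rw [h.dβ] at c3
  rw [h.dθ] at c4
  have c7 := Nat.le_of_dvd (by norm_num) c2
  have c8 : (1 - t) ^ 2 ≤ 3 * (Nat.card (Ce1 g) - (1 + b ^ 2 + 2 * t ^ 2 + 2 * (1 + 2 * t + b) ^ 2)) := by
    have : (1 + 0 - t) ^ 2 ≤ 3 * (Nat.card (Ce1 g) - (1 + b ^ 2 + 2 * t ^ 2 + (1 + 2 * t + b) ^ 2 +
      0 ^ 2 + (1 + 2 * t + b + 0) ^ 2)) := by exact_mod_cast c6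
    linarith
  obtain ⟨e, rfl, rfl⟩ := ar3 (Nat.card (Ce1 g)) (by
      obtain ⟨m, hm⟩ := c1
      rw [hm] at c2 c7 ⊢
      have : m ≤ 16 := by omega
      interval_cases m <;> first | decide | omega) t
    (mem_Icc_of_sq (by norm_num) (by nlinarith [sq_nonneg (1 - t), sq_nonneg b, sq_nonneg (1 + 2 * t + b)])) c4 c5 b
    (mem_Icc_of_sq (by norm_num) (by nlinarith [sq_nonneg (1 - t), sq_nonneg t, sq_nonneg (1 + 2 * t + b)])) c3 c8
  rw [e] at k8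
  obtain ⟨a1, a2, a3⟩ := cs3_eq (k7.trans (by norm_num)) (k8.trans (by norm_num))
  refine ⟨e, a1, fun χ => ?_⟩
  rcases h.all χ with rfl | rfl | rfl | rfl | rfl | rfl | rfl | rfl | rfl | rfl <;>
    simp [*, h.d1, h.d2, h.d3, h.dβ, h.dθ, h.dθ', h.dγ, h.dρ, h.dσ, dg_one]

theorem two (ht : orderOf t = 2) : Nat.card (Ce1 t) = 16 ∨ Nat.card (Ce1 t) = 48 ∧
    (α₁.1 t = 2 ∧ α₂.1 t = -2 ∧ α₃.1 t = -2 ∨ α₁.1 t = -2 ∧ α₂.1 t = 2 ∧ α₃.1 t = -2 ∨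
      α₁.1 t = -2 ∧ α₂.1 t = -2 ∧ α₃.1 t = 2) := by
  have h1 : t ≠ 1 := fun e => by simp [e] at ht
  have h5 : ¬ 5 ∣ orderOf t := by rw [ht]; norm_num
  have h11 : ¬ 11 ∣ orderOf t := by rw [ht]; norm_num
  obtain ⟨b, s, r, k1, k2, k3, k4, k5, k6, k7, k8⟩ := h.vals h1 h5 h11
  obtain rfl : s = 0 := by exact_mod_cast k2.symm.trans (dz' h.card 2 h.dθ (ht ▸ dvd_rfl))
  obtain ⟨a, a1, a2⟩ := inv_val (perf h.card) ht α₁
  obtain ⟨a', a3, a4⟩ := inv_val (perf h.card) ht α₂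
  obtain ⟨a'', a5, a6⟩ := inv_val (perf h.card) ht α₃
  obtain ⟨b', b1, b2⟩ := inv_val (perf h.card) ht β
  obtain rfl : b = b' := by exact_mod_cast k1.symm.trans b1
  rw [norm_sq_int a1, norm_sq_int a3, norm_sq_int a5] at k8
  rw [a1, a3, a5] at k7 ⊢
  obtain rfl : r = a + a' + a'' - 1 := by
    have : a + a' + a'' = 1 + r - 0 := by exact_mod_cast k7
    omega
  have c1 : a ^ 2 + a' ^ 2 + a'' ^ 2 = Nat.card (Ce1 t) - (1 + b ^ 2 + 2 * 0 ^ 2 + (1 + 2 * 0 + b) ^ 2 +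
    (a + a' + a'' - 1) ^ 2 + (1 + 2 * 0 + b + (a + a' + a'' - 1)) ^ 2) := by exact_mod_cast k8
  have c2 := h.dvd144 h1 h5 h11
  have c3 := cen_int k4
  have c4 := Nat.le_of_dvd (by norm_num) c2
  rw [h.index_eq, h.dρ] at c3
  rw [h.d1] at a2
  rw [h.d2] at a4
  rw [h.d3] at a6
  rw [h.dβ] at b2
  have := sq_nonneg a; have := sq_nonneg a'; have := sq_nonneg a''; have := sq_nonneg b
  have := sq_nonneg (1 + 2 * 0 + b); have := sq_nonneg (a + a' + a'' - 1)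
  have := sq_nonneg (1 + 2 * 0 + b + (a + a' + a'' - 1))
  rcases ar2 a (mem_Icc_of_sq (by norm_num) (by omega)) a2 a' (mem_Icc_of_sq (by norm_num) (by omega))
    a4 a'' (mem_Icc_of_sq (by norm_num) (by omega)) a6 b (mem_Icc_of_sq (by norm_num) (by omega)) b2
    _ (Nat.mem_divisors.2 ⟨c2, by norm_num⟩) (by linear_combination -c1) c3 with k | ⟨k, k'⟩
  · exact .inl k
  · exact .inr ⟨k, by exact_mod_cast k'⟩

end T11

end M11

end Cfsg.Agent.Blk
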