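import Cfsg.Agent.Lib.Block.Klein

/-! Homocyclic `2`-groups of rank two, sums over exceptional characters. -/

set_option autoImplicit false

namespace Cfsg.Agent.Blk

open MonoidAlgebra
open Cfsg.Agent.Char hiding cj cj_mul cj_inv_cj cj_cj_inv sum_cj_eq om
open scoped ComplexConjugate

section Homo
variable {W : Type*} [Group W] {m : ℕ}

theorem homo_comm (e : W ≃* Multiplicative (ZMod (2 ^ m) × ZMod (2 ^ m))) (a b : W) :
    a * b = b * a := e.injective (by rw [map_mul, map_mul, mul_comm])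

theorem homo_card (e : W ≃* Multiplicative (ZMod (2 ^ m) × ZMod (2 ^ m))) :
    Nat.card W = 4 ^ m := by
  rw [Nat.card_congr e.toEquiv, Nat.card_congr Multiplicative.toAdd, Nat.card_prod, Nat.card_zmod,
    ← mul_pow]; rfl

theorem homo_omega (hm : 1 ≤ m) (e : W ≃* Multiplicative (ZMod (2 ^ m) × ZMod (2 ^ m))) :
    Nat.card {v : W // v * v = 1} = 4 := by
  have h1 : Nat.card {a : Multiplicative (ZMod (2 ^ m)) // a * a = 1} = 2 := by
    have := IsCyclic.card_powMonoidHom_ker (Multiplicative (ZMod (2 ^ m))) 2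
    rw [Nat.card_congr Multiplicative.toAdd, Nat.card_zmod,
      Nat.gcd_eq_right (dvd_pow_self 2 (by omega))] at this
    refine Eq.trans (Nat.card_congr (Equiv.subtypeEquivRight fun a => ?_)) this
    rw [MonoidHom.mem_ker, powMonoidHom_apply, sq]
  rw [Nat.card_congr (((e.trans (MulEquiv.prodMultiplicative _ _)).toEquiv.subtypeEquiv
    (q := fun v => v.1 * v.1 = 1 ∧ v.2 * v.2 = 1) fun a => ?_).trans
    (Equiv.subtypeProdEquivProd (p := fun a => a * a = 1) (q := fun a => a * a = 1))),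
    Nat.card_prod, h1]
  rw [← (e.trans (MulEquiv.prodMultiplicative _ _)).map_eq_one_iff, map_mul, Prod.ext_iff]
  rfl

theorem homo_exists (hm : 2 ≤ m) (e : W ≃* Multiplicative (ZMod (2 ^ m) × ZMod (2 ^ m))) :
    ∃ u : W, u * u ≠ 1 := by
  by_contra! h
  have h1 := homo_omega (by omega) e
  rw [Nat.card_congr (Equiv.subtypeUnivEquiv h), homo_card e] at h1
  have : 4 ^ 2 ≤ 4 ^ m := Nat.pow_le_pow_right (by norm_num) hm
  omega

theorem homo_cubic {A B : ℤ} (hA : 16 ∣ A - 1) (hB : 16 ∣ B - 1)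
    (h : (A * B + A + B) * (1 + A + B) = 9 * (A * B)) : A = 1 ∧ B = 1 := by
  obtain ⟨α, hα⟩ := hA
  obtain ⟨β, hβ⟩ := hB
  obtain rfl : A = 16 * α + 1 := by omega
  obtain rfl : B = 16 * β + 1 := by omega
  have h1 : (8 * α + 1) * (8 * β + 1) * (8 * (α + β) + 1) = (16 * α + 1) * (16 * β + 1) := by
    linarith
  by_cases ha : α = 0
  · subst ha
    have : β ^ 2 = 0 := by linarith
    simpa using this
  by_cases hb : β = 0
  · subst hb
    have : α ^ 2 = 0 := by linarith
    exact absurd (by simpa using this) ha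
  exfalso
  have key : ∀ γ : ℤ, γ ≠ 0 → 0 < |8 * γ + 1| ∧ 7 * |16 * γ + 1| ≤ 15 * |8 * γ + 1| := fun γ h => by
    rcases lt_or_gt_of_ne h with h | h
    · rw [abs_of_neg (by omega), abs_of_neg (by omega)]; omega
    · rw [abs_of_pos (by omega), abs_of_pos (by omega)]; omega
  obtain ⟨a1, a2⟩ := key α ha
  obtain ⟨b1, b2⟩ := key β hb
  have h2 := congrArg abs h1
  rw [abs_mul, abs_mul, abs_mul] at h2
  by_cases hab : α + β = 0
  · obtain rfl : β = -α := by omega
    have : α ^ 2 = 0 := by linarith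
    exact ha (by simpa using this)
  have h3 : 7 ≤ |8 * (α + β) + 1| := by
    rcases lt_or_gt_of_ne hab with h | h
    · rw [abs_of_neg (by omega)]; omega
    · rw [abs_of_pos (by omega)]; omega
  have h4 := mul_le_mul a2 b2 (by positivity) (by positivity)
  have h5 := mul_le_mul_of_nonneg_left h3 (mul_pos a1 b1).le
  have h6 := mul_pos a1 b1
  nlinarith

end Homo

variable {G W : Type*} [Group G] [Finite G] [Group W] [Fintype W] {p : ℕ}
  {B : Set (IrrCharacter G)} {E : Subgroup (MulAut W)} {D : IrrCharacter G → W → ℂ}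
  {δ d : ℤ} {ζ : (W →* ℂˣ) → IrrCharacter G} {a : IrrCharacter G → ℤ}

open Classical in
theorem EXC.sum_exc (h : EXd p B E D) (hx : EXC B E D δ d ζ a) {β : Type*} [AddCommMonoid β]
    (F : IrrCharacter G → β) : Nat.card E • ∑ χ ∈ excSet ζ, F χ =
      ∑ l ∈ Finset.univ.erase (1 : W →* ℂˣ), F (ζ l) := by
  rw [Finset.sum_comp F ζ, Finset.smul_sum, excSet]
  refine Finset.sum_congr (by congr) fun χ hχ => ?_
  obtain ⟨l, hl, rfl⟩ := Finset.mem_image.1 hχ
  have hl := (Finset.mem_erase.1 hl).1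
  rw [← h.free.card_orb h.comm hl]
  congr 2
  ext m
  simp only [Finset.mem_filter, Finset.mem_erase, Finset.mem_univ, and_true, true_and]
  exact ⟨fun h6 => ⟨h6.ne_one hl, (hx.inj _ _ (h6.ne_one hl) hl).2 h6.symm⟩,
    fun ⟨h6, h7⟩ => ((hx.inj _ _ h6 hl).1 h7).symm⟩

open Classical in
theorem FreeAut.sum_eta_sq_mul (hE : FreeAut E) (hc : ∀ a b : W, a * b = b * a) {t u : W}
    (ht : t * t = 1) (hu : u * u ≠ 1) :
    ∑ l ∈ Finset.univ.erase (1 : W →* ℂˣ), eta E l t ^ 2 * conj (eta E l u) =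
      -(Nat.card E : ℂ) ^ 3 := by
  have := Fintype.ofFinite E
  have h1 : ∑ l : W →* ℂˣ, (∑ σ : E, (l (σ.1 t) : ℂ)) ^ 2 * conj (∑ σ : E, (l (σ.1 u) : ℂ)) = 0 := by
    simp only [sq, map_sum, Finset.sum_mul, Finset.mul_sum]
    refine Finset.sum_comm.trans (Finset.sum_eq_zero fun σ _ => Finset.sum_comm.trans
      (Finset.sum_eq_zero fun τ _ => Finset.sum_comm.trans (Finset.sum_eq_zero fun ρ _ => ?_)))
    have h2 := sum_lc hc (ρ.1 t * τ.1 t * (σ.1 u)⁻¹)
    rw [if_neg fun h => hu ?_] at h2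
    · rw [← h2]
      refine Finset.sum_congr rfl fun l _ => ?_
      rw [map_mul, map_mul, map_inv, Units.val_mul, Units.val_mul, Units.val_inv_eq_inv_val,
        eq_inv_of_mul_eq_one_right (lc_mul_conj l _)]
    · rw [mul_inv_eq_one] at h
      rw [← σ.1.map_eq_one_iff, map_mul, ← h, mul_assoc, ← mul_assoc (τ.1 t), hc (τ.1 t), mul_assoc,
        ← map_mul, ht, map_one, mul_one, ← map_mul, ht, map_one]
  rw [← Finset.add_sum_erase _ _ (Finset.mem_univ 1)] at h1
  rw [Finset.sum_congr rfl fun l hl => by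
    rw [hE.eta_apply hc (Finset.mem_erase.1 hl).1, hE.eta_apply hc (Finset.mem_erase.1 hl).1],
    eq_neg_of_add_eq_zero_right h1]
  simp [pow_succ]

end Cfsg.Agent.Blk
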