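import Cfsg.Agent.Lib.Block.Perf
import Cfsg.Agent.Lib.Block.Homo

/-! Gluing of local characters for blocks with freely acting inertial quotient. -/

set_option autoImplicit false

namespace Cfsg.Agent.Blk

open MonoidAlgebra
open Cfsg.Agent.Char hiding cj cj_mul cj_inv_cj cj_cj_inv sum_cj_eq om
open scoped ComplexConjugate Classical

section
variable {W : Type*} [Group W] [Fintype W] {f g h : W → ℂ}

omit [Fintype W] in
theorem isGen_prod {ι : Type*} {s : Finset ι} {f : ι → W → ℂ}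
    (h : ∀ i ∈ s, IsGeneralizedCharacter W (f i)) : IsGeneralizedCharacter W (∏ i ∈ s, f i) :=
  Finset.prod_induction _ _ (fun _ _ => .mul) isCharacter_one.isGen h

omit [Fintype W] in
theorem exists_gen_prod (hg : IsGeneralizedCharacter W g) (S : Finset ℕ) :
    ∃ r, IsGeneralizedCharacter W r ∧
      ∀ u, g u * r u + ∏ s ∈ S, (s - g u) = (∏ s ∈ S, s : ℕ) := by
  induction S using Finset.induction_on with
  | empty => exact ⟨0, IsCharacter.zero.isGen, by simp⟩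
  | insert a S ha ih =>
    obtain ⟨r, h1, h2⟩ := ih
    refine ⟨((∏ s ∈ S, s : ℕ) : ℂ) • (fun _ => 1) + ((a : ℂ) • (fun _ => 1) - g) * r,
      (isCharacter_one.isGen.natCast_smul _).add
        (((isCharacter_one.isGen.natCast_smul _).sub hg).mul h1), fun u => ?_⟩
    rw [Finset.prod_insert ha, Finset.prod_insert ha, Nat.cast_mul]
    simp only [Pi.add_apply, Pi.mul_apply, Pi.sub_apply, Pi.smul_apply, smul_eq_mul]
    linear_combination (a - g u) * h2 u

theorem exists_gen_of_mul {p : ℕ} [hp : Fact p.Prime] (hW : IsPGroup p W)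
    (hc : ∀ a b : W, a * b = b * a) (hg : IsGeneralizedCharacter W g)
    (hh : IsGeneralizedCharacter W h) (h1 : ∀ u, ∃ n : ℕ, ¬ p ∣ n ∧ g u = n)
    (h2 : ∀ u, u ≠ 1 → IsIntegral ℤ (f u)) (h3 : ∀ u, u ≠ 1 → f u * g u = h u) :
    ∃ f', IsGeneralizedCharacter W f' ∧ ∀ u, u ≠ 1 → f' u = f u := by
  choose n h4 h5 using h1
  obtain ⟨r, h6, h7⟩ := exists_gen_prod hg (Finset.univ.image n)
  set c := ∏ s ∈ Finset.univ.image n, s
  have h0 : ¬ p ∣ c := hp.out.prime.not_dvd_finset_prod fun s hs => by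
    obtain ⟨u, -, rfl⟩ := Finset.mem_image.1 hs; exact h4 u
  obtain ⟨m, hm⟩ := hW.exists_card_eq
  have h8 : c.Coprime (Nat.card W) := hm ▸ (hp.out.coprime_iff_not_dvd.2 h0).symm.pow_right m
  have h9 : ∀ u, u ≠ 1 → (h * r) u = ((c : ℂ) • f) u := fun u hu => by
    rw [Pi.mul_apply, ← h3 u hu, mul_assoc, Pi.smul_apply, ← h7 u, Finset.prod_eq_zero
      (Finset.mem_image_of_mem n (Finset.mem_univ u)) (by rw [h5, sub_self]), add_zero, mul_comm]
    rfl
  have h10 : ∀ l : W →* ℂˣ, ∃ k : ℤ, classInner f (lc l - lc 1) = k := fun l => by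
    obtain ⟨k, hk⟩ := (hh.mul h6).classInner_eq_int ((isIrr_lc l).isGen.sub (isIrr_lc 1).isGen)
    rw [classInner_congr_off h9, classInner_smul_left] at hk
    have h11 : IsIntegral ℤ (Nat.card W * classInner f (lc l - lc 1)) := by
      rw [classInner, mul_inv_cancel_left₀ (card_ne_zero' W)]
      refine IsIntegral.sum _ fun u _ => ?_
      by_cases hu : u = 1
      · simpa [hu] using isIntegral_zero
      · exact (h2 u hu).mul (isIntegral_conj
          (((isIrr_lc l).isGen.sub (isIrr_lc 1).isGen).isIntegral u))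
    obtain ⟨a, b, hab⟩ := Nat.isCoprime_iff_coprime.2 h8
    have h12 : classInner f (lc l - lc 1) = a * k + b * (Nat.card W * classInner f (lc l - lc 1)) := by
      rw [← hk, ← mul_assoc, ← mul_assoc, ← add_mul]
      have : (a * c + b * Nat.card W : ℂ) = 1 := by exact_mod_cast hab
      rw [this, one_mul]
    exact exists_int_of_isIntegral_of_rat (h12 ▸ ((isIntegral_intCast a).mul
      (isIntegral_intCast k)).add ((isIntegral_intCast b).mul h11)) (q := k / c) (by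
        rw [Rat.cast_div, Rat.cast_intCast, ← hk, Rat.cast_natCast,
          mul_div_cancel_left₀ _ (Nat.cast_ne_zero.2 (fun h : c = 0 => h0 (by rw [h]; exact dvd_zero p)))])
  choose k hk using h10
  refine ⟨∑ l, (k l : ℂ) • lc l, IsGeneralizedCharacter.sum fun l _ =>
    (isIrr_lc l).isGen.intCast_smul _, fun u hu => ?_⟩
  simp only [apply_eq_sum_sub_one hc f hu, hk, Finset.sum_apply, Pi.smul_apply, smul_eq_mul]

omit [Group W] [Fintype W] in
theorem prod_powerset_eq_sq {s : Finset W} {u : W} (hu : u ∈ s) {F : Finset W → ℂ}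
    (h : ∀ J, F (insert u J) = F J) :
    ∏ J ∈ s.powerset, F J = ∏ J ∈ s.powerset, if Even J.card then 1 else F J ^ 2 := by
  rw [← Finset.insert_erase hu, Finset.prod_powerset_insert (Finset.notMem_erase u s),
    Finset.prod_powerset_insert (Finset.notMem_erase u s), ← Finset.prod_mul_distrib,
    ← Finset.prod_mul_distrib]
  refine Finset.prod_congr rfl fun J hJ => ?_
  rw [h, Finset.card_insert_of_notMem fun h1 => Finset.notMem_erase u s (Finset.mem_powerset.1 hJ h1)]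
  by_cases h1 : Even J.card <;> simp [h1, Nat.even_add_one, sq]

end

theorem Prim.Br {G k : Type*} [Group G] [Finite G] [Field k] {p : ℕ} [Fact p.Prime] [CharP k p]
    {P : Subgroup G} {i : k[G]} (hi : Prim (inv k P) i) (hP : IsPGroup p P) (h : Br P i ≠ 0) :
    Prim (sup k (Ce P)) (Br P i) := by
  refine ⟨Br_mem_sup _ _, Br_idem hP hi.mem hi.idem, h, fun f h1 h2 h3 h4 => ?_⟩
  have h5 := sup_le_inv_Ce _ h1
  have h6 : Blk.Br P (i * f * i) = f := by
    rw [Br_mul hP (mul_mem hi.mem h5) hi.mem, Br_mul hP hi.mem h5, Br_of_mem_sup h1, h3, h4]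
  rcases hi.nil_or (hi.corner_mem h5) (hi.corner_left f) (hi.corner_right f) with h7 | ⟨c, h7, h8, -⟩
  · exact Or.inl (h2.eq_zero_of_isNilpotent (h6 ▸ Br_nilpotent hP (hi.corner_mem h5) h7))
  · refine Or.inr ?_
    rw [← h4, ← h8, Br_mul hP (hi.corner_mem h5) h7, h6, ← mul_assoc, h2.eq]

variable {G : Type*} [Group G] [Finite G] {M : Ideal AlgInt} {p : ℕ} [PMod M p]
  {B : Set (IrrCharacter G)} {P Q R : Subgroup G} {e i : (kk M)[G]} {θ : G → ℂ}

variable (p) in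
/-- multiplicities attached to a source idempotent -/
noncomputable def mm (P : Subgroup G) (e i : (kk M)[G]) (R : Subgroup G) : ℂ :=
  nb p (Ce R) (lb p P e R) (Br R i)

theorem exists_nat_mm (hP : IsPGroup p P) (hi : Prim (inv (kk M) P) i) (hR : R ≤ P) :
    ∃ n : ℕ, mm p P e i R = n := by
  haveI : Fact p.Prime := ⟨PMod.prime M⟩
  have h1 := idem_rs (Br_mem_sup R i) (Br_idem (hP.to_le hR) (inv_anti hR hi.mem) hi.idem)
  rw [mm, nb, phi, dc_reg (hz p _).2.isClassFunction h1]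
  exact exists_nat_dc (hz p _).2.isCharacter h1

theorem IsBP.lb_mul_Br (he : IsBP p ⊤ P e) (hi : Prim (inv (kk M) P) i) (h : Br P i * e ≠ 0)
    (hR : R ≤ P) : lb p P e R * Br R i = Br R i := by
  haveI : Fact p.Prime := ⟨PMod.prime M⟩
  rw [commute_of_mem (he.isBlock_lb hR).inv (Br_mem_sup R i), hi.pure he h (he.lb_ple hR)]

theorem FA.mm_self (h : FA p B P e) (h1 : P ≠ ⊥) (hi : Prim (inv (kk M) P) i)
    (h2 : Br P i * e ≠ 0) : mm p P e i P = 1 := by
  haveI : Fact p.Prime := ⟨PMod.prime M⟩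
  have h3 := h.nilp_lb h1 le_rfl
  refine h3.nilp_cb.dc_phi (hi.Br h.bp.pg (left_ne_zero_of_mul h2)).rs ?_
  rw [h3.bar_cb, ← rs_mul_left h3.1.sup, h.bp.lb_mul_Br hi h2 le_rfl]

theorem ch_eq_TT (hP : IsPGroup p P) (hθ : IsCharacter G θ) (h1 : i ∈ inv (kk M) P)
    (h2 : IsIdempotentElem i) :
    IsCharacter P fun u : P => TT θ u (Br (Subgroup.zpowers (u : G)) i) := by
  haveI : Fact p.Prime := ⟨PMod.prime M⟩
  obtain ⟨j, -, h3, h4, rfl⟩ := exists_idem_lift_of_mem (K := ⊤) (mem_sup_top i) h1 h2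
  convert isCharacter_idem hθ (cf_mem_inv _ h3) (h4.map (toC M)) using 2 with u
  exact TT_eq (pelt_of_mem hP u.2) hθ.isClassFunction (inv_anti (zpowers_le' u.2) h3) h4

theorem FA.exists_eps (h : FA p B P e) : ∃ ε : Subgroup G → P → ℂ,
    (∀ Q, Q ≠ ⊥ → Q ≤ P → ∀ u, ε Q u * conj (ε Q u) = 1) ∧
    (∀ Q, Q ≠ ⊥ → Q ≤ P → ∀ u, IsIntegral ℤ (ε Q u)) ∧
    (∀ Q, Q ≠ ⊥ → Q ≤ P → ∀ i, Prim (inv (kk M) P) i → Br P i * e ≠ 0 →
      IsCharacter P fun u => ε Q u * mm p P e i (Q ⊔ Subgroup.zpowers (u : G))) ∧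
    ∀ Q, Q ≠ ⊥ → Q ≤ P → ∀ t ∈ stab (⊤ ⊓ No P) e, ∀ σ : MulAut P, (∀ u, (σ u : G) = t * u * t⁻¹) →
      ∃ l : P →* ℂˣ, ∀ u, ε (cs t Q) (σ u) = l u * ε Q u := by
  haveI : Fact p.Prime := ⟨PMod.prime M⟩
  have := Fintype.ofFinite G
  have inst : ∀ Q : Subgroup G, Nonempty (IrrCharacter (Ce Q)) := fun Q => ⟨irrOne _⟩
  choose! ξ ε h1 h2 h3 h4 h5 using fun Q : Subgroup G => h.exists_local (Q := Q)
  have hc : ∀ {Q}, Q ≤ P → P ≤ Ce Q := fun hQ => h.comm.trans (Ce_anti hQ)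
  have k0 : ∀ {Q}, Q ≤ P → ∀ u : P, Q ⊔ Subgroup.zpowers (u : G) ≤ P := fun hQ u =>
    sup_le hQ (zpowers_le' u.2)
  have k1 : ∀ (Q : Subgroup G) (u : Ce Q) (a : (kk M)[G]), a ∈ sup (kk M) (Ce (Q ⊔
      Subgroup.zpowers (u : G))) → rs (Ce Q) a ∈ sup (kk M) (Ce1 u) ∧ es (Ce Q) (rs (Ce Q) a) = a ∧
      (IsIdempotentElem a → IsIdempotentElem (rs (Ce Q) a)) := fun Q u a ha =>
    ⟨rs_mem_sup_Ce1 (sup_mono ((Ce_anti le_sup_right).trans (Ce_zpowers _).le) ha),
      es_rs_of_mem (sup_mono (Ce_anti le_sup_left) ha), idem_rs (sup_mono (Ce_anti le_sup_left) ha)⟩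
  have k2 : ∀ Q, Q ≠ ⊥ → ∀ (hQ : Q ≤ P) (l : P →* ℂˣ) (u : P) (a : (kk M)[G]),
      a ∈ sup (kk M) (Ce (Q ⊔ Subgroup.zpowers (u : G))) → IsIdempotentElem a →
      lb p P e (Q ⊔ Subgroup.zpowers (u : G)) * a = a → TT (ξ Q l).1 ⟨u, hc hQ u.2⟩ (rs (Ce Q) a) =
        l u * ε Q u * nb p (Ce (Q ⊔ Subgroup.zpowers (u : G)))
          (lb p P e (Q ⊔ Subgroup.zpowers (u : G))) a := fun Q h6 hQ l u a h7 h8 h9 => by
    obtain ⟨h10, h11, h12⟩ := k1 Q ⟨u, hc hQ u.2⟩ a h7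
    rw [h5 Q h6 hQ _ (ξ Q l).2.isClassFunction u _ rfl _ h10 (h12 h8) (by rwa [h11]), h11,
      sum_classInner_of_unique (h1 Q h6 hQ) (h2 Q h6 hQ)]
  refine ⟨ε, h3, fun Q h6 hQ u => ?_, fun Q h6 hQ i hi h7 => ?_, fun Q h6 hQ t ht σ hσ => ?_⟩
  · have k5 := h.nilp_lb (fun h3 => h6 (le_bot_iff.1 (h3 ▸ le_sup_left))) (k0 hQ u)
    obtain ⟨j, h7, h8, -⟩ := exists_prim_le k5.1.sup k5.1.idem k5.1.ne
    obtain ⟨k6, -, k8⟩ := k1 Q ⟨u, hc hQ u.2⟩ _ h7.mem
    have h9 := (ch_eq_TT (isPGroup_zpowers (x := (⟨u, hc hQ u.2⟩ : Ce Q)) (by rw [← Subgroup.orderOf_coe]; exact h.pelt u.2))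
      (ξ Q 1).2.isCharacter (sup_Ce1_le_inv _ k6) (k8 h7.idem)).isIntegral
      ⟨_, Subgroup.mem_zpowers _⟩
    rwa [Br_of_mem_sup (by rwa [Ce_zpowers]), k2 Q h6 hQ 1 u j h7.mem h7.idem h8, nb,
      k5.nilp_cb.dc_phi h7.rs (by rw [k5.bar_cb, ← rs_mul_left k5.1.sup, h8]), mul_one,
      MonoidHom.one_apply, Units.val_one, one_mul] at h9
  · have h8 : Br Q i ∈ inv (kk M) P := Br_mem_inv hi.mem ((hc hQ).trans (Ce_le_No Q))
    have h9 := es_rs_of_mem (Br_mem_sup Q i)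
    convert (ch_eq_TT (P := P.subgroupOf (Ce Q)) (h.bp.pg.comap_subtype)
      (ξ Q 1).2.isCharacter (i := rs (Ce Q) (Br Q i)) ((emb_mem_inv_iff (Ce Q).subtype_injective).1
      (by rwa [Subgroup.map_subgroupOf_eq_of_le (hc hQ), ← es, h9])) (idem_rs (Br_mem_sup Q i)
      (Br_idem (h.bp.pg.to_le hQ) (inv_anti hQ hi.mem) hi.idem))).comp
      (Subgroup.subgroupOfEquivOfLe (hc hQ)).symm.toMonoidHom using 2 with u
    have h10 := k2 Q h6 hQ 1 u _ (Br_mem_sup _ i) (Br_idem (h.bp.pg.to_le (k0 hQ u))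
      (inv_anti (k0 hQ u) hi.mem) hi.idem) (h.bp.lb_mul_Br hi h7 (k0 hQ u))
    rw [MonoidHom.one_apply, Units.val_one, one_mul] at h10
    refine h10.symm.trans (congrArg _ (es_injective _ ?_))
    rw [(k1 Q ⟨u, hc hQ u.2⟩ _ (Br_mem_sup _ i)).2.1, es, ← emb_Br (Ce Q).subtype_injective, ← es,
      h9, Br_Br, MonoidHom.map_zpowers, sup_comm]
    rfl
  · have h7 : cs t (Ce Q) = Ce (cs t Q) := cs_Ce _ _
    have h6' : cs t Q ≠ ⊥ := fun h => h6 (by rw [← Subgroup.card_eq_one, ← card_cs t, h]; simp)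
    have hQ' : cs t Q ≤ P := mem_No.1 ht.1.2 ▸ cs_mono t hQ
    obtain ⟨l, h8, -⟩ := h2 _ h6' hQ' (irrMap (conjIso h7) (ξ Q 1)) (by
      have hb := (h.bp.isBlock_lb hQ).isPBlock_cb
      have hb' := (h.bp.isBlock_lb hQ').isPBlock_cb
      exact (((isPBlock_image_iff (conjIso h7)).2 hb.1).isUB.barS_inj hb'.1.isUB (by
        rw [barS_image_conj, hb.2, hb'.2, h.bp.cj_lb hQ ht])).le ⟨_, h1 Q h6 hQ 1, rfl⟩)
    refine ⟨(lcomp l σ)⁻¹, fun u => ?_⟩
    have k3 := h.bp.isBlock_lb (k0 hQ u)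
    have k4 := h.bp.isBlock_lb (k0 hQ' (σ u))
    have k5 := h.nilp_lb (fun h3 => h6 (le_bot_iff.1 (h3 ▸ le_sup_left))) (k0 hQ u)
    have h9 := k2 _ h6' hQ' l (σ u) _ k4.sup k4.idem k4.mul_self
    have h13 : cs t (Q ⊔ Subgroup.zpowers (u : G)) = cs t Q ⊔ Subgroup.zpowers (σ u : G) := by
      rw [cs_sup, cs_zpowers, hσ]
    have h10 : lb p P e (cs t Q ⊔ Subgroup.zpowers (σ u : G)) =
        cj t (lb p P e (Q ⊔ Subgroup.zpowers (u : G))) := by rw [h.bp.cj_lb (k0 hQ u) ht, h13]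
    obtain ⟨k6, k7, k8⟩ := k1 Q ⟨u, hc hQ u.2⟩ _ k3.sup
    have h11 : rs (Ce (cs t Q)) (lb p P e (cs t Q ⊔ Subgroup.zpowers (σ u : G))) =
        emb (conjIso h7).toMonoidHom (rs (Ce Q) (lb p P e (Q ⊔ Subgroup.zpowers (u : G)))) :=
      es_injective _ (by
        rw [(k1 _ ⟨σ u, hc hQ' (σ u).2⟩ _ k4.sup).2.1, es_emb_conjIso, k7, h10])
    have h12 : ∀ a : (kk M)[G], cj t a = emb (MulAut.conj t).toMonoidHom a := fun a => rfl
    rw [h11, show (⟨σ u, hc hQ' (σ u).2⟩ : Ce (cs t Q)) = (conjIso h7).toMonoidHom ⟨u, hc hQ u.2⟩ from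
      Subtype.ext (hσ u), TT_emb (ξ _ l).2.isClassFunction (by
        rw [← Subgroup.orderOf_coe]; exact h.pelt u.2) k6 (k8 k3.idem), h8,
      show (fun c => (irrMap (conjIso h7) (ξ Q 1)).1 ((conjIso h7).toMonoidHom c)) =
        (ξ Q 1).1 from funext fun c => irrMap_apply' _ _ _, k2 Q h6 hQ 1 u _ k3.sup k3.idem k3.mul_self,
      h10, h12, nb_emb (MulAut.conj t).injective (by rw [← h13]; exact cs_Ce _ _)
        k5 k3.sup k3.idem, mul_left_inj' (nb_self_ne_zero k5)] at h9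
    simp only [MonoidHom.one_apply, Units.val_one, one_mul] at h9
    simp [h9]

theorem FA.exists_exd [Fintype P] (h : FA p B P e) (h0 : P ≠ ⊥) :
    ∃ (D : IrrCharacter G → P → ℂ) (ε : P → ℂ),
      (∀ χ ∈ B, ∀ u : P, u ≠ 1 → D χ u = ε u * dn p (u : G) (sb p P e u) χ.1) ∧
      (∀ u, ε u * conj (ε u) = 1) ∧ EXd p B (autE P e) D := by
  haveI hp : Fact p.Prime := ⟨PMod.prime M⟩
  obtain ⟨ε, h1, hε, h2, h3⟩ := h.exists_eps
  obtain ⟨i, hi, h4⟩ : ∃ i, Prim (inv (kk M) P) i ∧ Br P i * e ≠ 0 := by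
    obtain ⟨D, hD⟩ := exists_dec (one_mem (inv (kk M) P)) IsIdempotentElem.one
    by_contra! h4
    refine h.bp.blk.ne ?_
    rw [← one_mul e, ← Br_one P, ← hD.sum, map_sum, Finset.sum_mul]
    exact Finset.sum_eq_zero fun j hj => h4 j (hD.prim j hj)
  choose! m hm using fun R => exists_nat_mm (e := e) (R := R) h.bp.pg hi
  have k0 : ∀ {Q}, Q ≤ P → ∀ u : P, Q ⊔ Subgroup.zpowers (u : G) ≤ P := fun hQ u =>
    sup_le hQ (zpowers_le' u.2)
  have k1 : ∀ Q, Q ≠ ⊥ → Q ≤ P → ¬ p ∣ m Q := fun Q h5 h6 => by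
    induction Q using WellFoundedGT.induction with
    | _ Q ih =>
    rcases h6.eq_or_lt with rfl | h7
    · rw [show m Q = 1 by exact_mod_cast (hm Q le_rfl).symm.trans (h.mm_self h0 hi h4)]
      exact hp.out.not_dvd_one
    obtain ⟨u, h8, h9⟩ := SetLike.exists_of_lt h7
    refine fun h10 => ih (Q ⊔ Subgroup.zpowers u) (left_lt_sup.2 (mt Subgroup.zpowers_le.1 h9))
      (fun h3 => h5 (le_bot_iff.1 (h3 ▸ le_sup_left))) (k0 h6 ⟨u, h8⟩) ?_
    have h11 := LI_char_mul_sub (M := M) (h2 Q h5 h6 i hi h4) (x := ⟨u, h8⟩) (y := 1)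
      (pelt_of_dvd (h.pelt h8) (Subgroup.orderOf_coe _).symm.dvd) (Commute.one_right _)
    simp only [mul_one, OneMemClass.coe_one, Subgroup.zpowers_one_eq_bot, sup_bot_eq, hm Q h6,
      hm _ (k0 h6 _)] at h11
    have h12 := LI_mul_left (mem_O_of_isIntegral M (isIntegral_conj (hε Q h5 h6 ⟨u, h8⟩))) (LI_add h11
      (LI_mul_left (mem_O_of_isIntegral M (hε Q h5 h6 1)) (LI_natCast_iff.2 h10)))
    rwa [sub_add_cancel, ← mul_assoc, mul_comm (conj _), h1 Q h5 h6, one_mul, hm _ (k0 h6 ⟨u, h8⟩),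
      LI_natCast_iff] at h12
  let S : Finset P → Subgroup G := fun J => Subgroup.closure (Subtype.val '' (J : Set P))
  have k2 : ∀ J, S J ≤ P := fun J => (Subgroup.closure_le _).2 (Subtype.coe_image_subset _ _)
  let T : Finset (Finset P) := (Finset.univ.erase 1).powerset.erase ∅
  have k3 : ∀ J ∈ T, S J ≠ ⊥ := fun J hJ h5 => by
    obtain ⟨v, hv⟩ := Finset.nonempty_iff_ne_empty.2 (Finset.ne_of_mem_erase hJ)
    exact coe_ne_one (Finset.ne_of_mem_erase (Finset.mem_powerset.1 (Finset.mem_of_mem_erase hJ) hv))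
      ((Subgroup.eq_bot_iff_forall _).1 h5 _ (Subgroup.subset_closure ⟨v, hv, rfl⟩))
  let ε₀ : P → ℂ := fun u => ∏ J ∈ T, if Even J.card then ε (S J) u else conj (ε (S J) u)
  have k4 : ∀ u, ε₀ u * conj (ε₀ u) = 1 := fun u => by
    rw [map_prod, ← Finset.prod_mul_distrib]
    refine Finset.prod_eq_one fun J hJ => ?_
    split_ifs
    · exact h1 _ (k3 J hJ) (k2 J) u
    · rw [Complex.conj_conj, mul_comm, h1 _ (k3 J hJ) (k2 J) u]
  have k5 : ∀ J ∈ T, IsGeneralizedCharacter P fun u => ε (S J) u * m (S J ⊔ Subgroup.zpowers (u : G)) :=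
    fun J hJ => by simpa only [hm _ (k0 (k2 J) _)] using (h2 _ (k3 J hJ) (k2 J) i hi h4).isGen
  have k6 : ∀ u, IsIntegral ℤ (ε₀ u) := fun u => IsIntegral.prod _ fun J hJ => by
    split_ifs
    exacts [hε _ (k3 J hJ) (k2 J) u, isIntegral_conj (hε _ (k3 J hJ) (k2 J) u)]
  have k7 : ∀ χ ∈ B, ∃ f, IsGeneralizedCharacter P f ∧
      ∀ u, u ≠ 1 → f u = ε₀ u * dn p (u : G) (sb p P e u) χ.1 := fun χ hχ => by
    refine exists_gen_of_mul h.bp.pg h.comm' (isGen_prod (s := T) (f := fun J => if Even J.card then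
      fun _ => 1 else fun u : P => (m (S J ⊔ Subgroup.zpowers (u : G)) : ℂ) ^ 2) fun J hJ => ?_)
      ((ch_eq_TT h.bp.pg χ.2.isCharacter hi.mem hi.idem).isGen.mul (isGen_prod (s := T)
        (f := fun J => if Even J.card then fun u => ε (S J) u * m (S J ⊔ Subgroup.zpowers (u : G))
          else fun u => conj (ε (S J) u * m (S J ⊔ Subgroup.zpowers (u : G)))) fun J hJ => ?_))
      (fun u => ⟨∏ J ∈ T, if Even J.card then 1 else m (S J ⊔ Subgroup.zpowers (u : G)) ^ 2,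
        hp.out.prime.not_dvd_finset_prod fun J hJ => ?_, ?_⟩)
      (fun u hu => (k6 u).mul ((h.nilp_sb' hu).isIntegral_dn χ.2.isGen)) fun u hu => ?_
    · split_ifs
      · exact isCharacter_one.isGen
      · convert (k5 J hJ).mul (k5 J hJ).conj using 2 with u
        rw [Pi.mul_apply, map_mul, mul_mul_mul_comm, h1 _ (k3 J hJ) (k2 J), Complex.conj_natCast,
          one_mul, sq]
    · split_ifs
      exacts [k5 J hJ, (k5 J hJ).conj]
    · split_ifs
      · exact hp.out.not_dvd_one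
      · exact fun h5 => k1 _ (fun h3 => k3 J hJ (le_bot_iff.1 (h3 ▸ le_sup_left))) (k0 (k2 J) u)
          (hp.out.dvd_of_dvd_pow h5)
    · simp [ite_apply]
    · have h5 := prod_powerset_eq_sq (s := Finset.univ.erase 1) (u := u) (by simpa using hu)
        (F := fun J => (m (S J ⊔ Subgroup.zpowers (u : G)) : ℂ)) fun J => by
          simp only [S, Finset.coe_insert, Set.image_insert_eq]
          rw [Set.insert_eq, Subgroup.closure_union, ← Subgroup.zpowers_eq_closure,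
            sup_comm (Subgroup.zpowers (u : G)), sup_assoc, sup_idem]
      rw [← Finset.mul_prod_erase _ _ (Finset.empty_mem_powerset _),
        ← Finset.mul_prod_erase _ _ (Finset.empty_mem_powerset _)] at h5
      have h6 := h.bp.lb_mul_Br hi h4 (zpowers_le' u.2)
      have h7 := hm _ (zpowers_le' u.2)
      rw [mm, Ce_zpowers] at h7
      rw [Pi.mul_apply, TT_nilp χ.2.isClassFunction (h.nilp_sb' hu) (Br_zpowers_mem _ _)
        (Br_idem (h.bp.pg.to_le (zpowers_le' u.2)) (inv_anti (zpowers_le' u.2) hi.mem) hi.idem)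
        (by rwa [h.barS_sb u.2]), h.barS_sb u.2, h7]
      simp only [Finset.prod_apply, ite_apply]
      simp only [S, Finset.coe_empty, Set.image_empty, Subgroup.closure_empty, bot_sup_eq,
        Finset.card_empty, Even.zero, if_true, one_mul] at h5
      simp only [map_mul, Complex.conj_natCast, ← ite_mul, Finset.prod_mul_distrib]
      linear_combination (-ε₀ u * dn p (u : G) (sb p P e u) χ.1) * h5
  obtain ⟨l₀, hl⟩ := exists_stabilize (E := autE P e) (ε := ε₀) (by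
      rw [h.card_eq]
      exact Nat.Coprime.pow_right _ (hp.out.coprime_iff_not_dvd.2 (h.not_dvd_autE h.comm)).symm)
      (fun u _ => left_ne_zero_of_mul_eq_one (k4 u)) fun σ hσ => by
    obtain ⟨t, ht, h6⟩ := mem_autE.1 hσ
    choose! l hl using fun J hJ => h3 (S J) (k3 J hJ) (k2 J) t ht σ h6
    refine ⟨∏ J ∈ T, if Even J.card then l J else (l J)⁻¹, fun u _ => ?_⟩
    have h7 : ∀ J : Finset P, S (J.map σ.toEquiv.toEmbedding) = cs t (S J) := fun J => by
      simp only [S, cs, Finset.coe_map, MonoidHom.map_closure, Set.image_image]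
      exact congrArg _ (Set.image_congr fun v _ => h6 v)
    rw [MonoidHom.finset_prod_apply, Units.coe_prod, ← Finset.prod_mul_distrib]
    refine (Finset.prod_equiv σ.toEquiv.finsetCongr (fun J => ?_) fun J hJ => ?_).symm
    · simp [T, Finset.subset_erase, Finset.mem_map_equiv]
    · rw [Equiv.finsetCongr_apply, h7, hl J hJ, Finset.card_map]
      split_ifs
      · rfl
      · simp [inv_eq_of_mul_eq_one_right (lc_mul_conj (l J) u)]
  choose! f h5 h6 using k7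
  have k8 : ∀ χ ∈ B, ∀ u : P, u ≠ 1 → (lc l₀ * f χ) u = l₀ u * ε₀ u * dn p (u : G) (sb p P e u) χ.1 :=
    fun χ hχ u hu => by rw [Pi.mul_apply, h6 χ hχ u hu, mul_assoc]
  have k9 : ∀ u, l₀ u * ε₀ u * conj (l₀ u * ε₀ u) = 1 := fun u => by
    rw [map_mul, mul_mul_mul_comm, lc_mul_conj, k4, one_mul]
  exact ⟨_, _, k8, k9, h.exd k8 (fun u _ => k9 u) (fun χ hχ => (isIrr_lc l₀).isGen.mul (h5 χ hχ)) hl⟩

theorem FA.counts (h : FA p B P e) (h0 : P ≠ ⊥) :
    (fs B).card ≤ Nat.card (autE P e) + (Nat.card P - 1) / Nat.card (autE P e) ∧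
    blockRank p B ≤ Nat.card (autE P e) ∧
    ((fs B).card = Nat.card (autE P e) + (Nat.card P - 1) / Nat.card (autE P e) ↔
      blockRank p B = Nat.card (autE P e)) ∧
    (Nat.card (autE P e) ≤ 3 → blockRank p B = Nat.card (autE P e)) := by
  haveI hp : Fact p.Prime := ⟨PMod.prime M⟩
  have := Fintype.ofFinite P
  obtain ⟨D, ε, -, -, hD⟩ := h.exists_exd h0
  obtain ⟨δ, d, ζ, a, hx⟩ := hD.exists_exc h.blk.nonempty
  obtain ⟨u, hu⟩ := exists_ne_one_of_ne_bot h0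
  obtain ⟨l, hl⟩ := exists_lc_ne_one h.comm' hu
  have h1 := h.rank_le h0 hD
  have h2 := h.card_eq_rank
  have h3 := hx.card_exc hD
  have h4 := hx.card_add
  have h5 := hx.norm_eq hD hl
  have h6 := hx.card_le_sum hD hu
  have h7 := hx.one_le_head hD hu
  have h8 := EXC.card_pos ζ hl
  have h9 : 0 < Nat.card (autE P e) := Nat.card_pos
  have h10 : (Nat.card P - 1) / Nat.card (autE P e) = (excSet ζ).card := by
    rw [← h3, Nat.add_sub_cancel, Nat.mul_div_cancel_left _ h9]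
  have h11 : (fs B).card = blockRank p B + (excSet ζ).card :=
    Nat.eq_of_mul_eq_mul_left h9 (by rw [mul_add]; omega)
  refine ⟨by omega, h1, by omega, fun h12 => by_contra fun h13 => ?_⟩
  have h14 := blockRank_pos (p := p) h.blk.nonempty
  have h15 : ∀ q : ℕ, q.Prime → Nat.card P ≠ q := fun q hq h15 => by
    haveI := Fact.mk hq
    exact h13 (h.rank_eq (isCyclic_of_prime_card h15) h0)
  obtain ⟨n, hn⟩ := h.bp.pg.exists_card_eq
  have h16 : Nat.card P ≠ 10 := fun h16 => by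
    have h17 := (Nat.prime_dvd_prime_iff_eq Nat.prime_two hp.out).1 (Nat.prime_two.dvd_of_dvd_pow
      (n := n) (by rw [← hn, h16]; norm_num))
    have h18 := (Nat.prime_dvd_prime_iff_eq Nat.prime_five hp.out).1 (Nat.prime_five.dvd_of_dvd_pow
      (n := n) (by rw [← hn, h16]; norm_num))
    omega
  have h17 := h15 7 (by norm_num)
  have h18 := h15 13 (by norm_num)
  have h19 : ∀ x : ℤ, x ^ 2 ≤ 3 → x ^ 2 = 0 ∨ x ^ 2 = 1 := fun x hx => by
    have : -2 < x := by nlinarith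
    have : x < 2 := by nlinarith
    interval_cases x <;> simp
  have h20 : 0 ≤ (((excSet ζ).card : ℤ) - 1) * d ^ 2 := mul_nonneg (by omega) (sq_nonneg d)
  have h21 : d ^ 2 + (d - δ) ^ 2 ≠ 0 ∧ d ^ 2 + (d - δ) ^ 2 ≠ 2 := by
    rcases hx.sign with rfl | rfl <;> constructor <;> intro h <;>
      have := congrArg (· % 2) h <;> rcases Int.even_or_odd' d with ⟨k, rfl | rfl⟩ <;>
      ring_nf at this <;> omega
  have h22 : ∑ χ ∈ fs B \ excSet ζ, a χ ^ 2 = (fs B \ excSet ζ).card := by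
    rw [Finset.card_eq_sum_ones, Nat.cast_sum]
    refine Finset.sum_congr rfl fun χ hχ => ?_
    rcases sq_eq_one_of_sum_le (fun ψ hψ => hx.a_ne hD hu (mem_fs.1 (Finset.mem_sdiff.1 hψ).1)
      (Finset.mem_sdiff.1 hψ).2) (by omega) hχ with h | h <;> simp [h]
  have h23 := h19 (d - δ) (by omega)
  by_cases h24 : (excSet ζ).card = 1
  · rw [h24, Nat.cast_one, sub_self, zero_mul] at h5 h7
    omega
  have h25 := h19 d (by nlinarith [sq_nonneg (d - δ), (by omega : (2 : ℤ) ≤ (excSet ζ).card)])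
  clear h2 h10 h15 hn h20
  generalize Nat.card (autE P e) = k at *
  rcases h25 with h25 | h25 <;> rw [h25] at h5 h7 h21 <;> interval_cases k <;> omega

end Cfsg.Agent.Blk
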