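import Cfsg.Agent.Lib.Block.Glue

/-! Green's theorem on defect groups as Sylow intersections, Robinson's matrix. -/

set_option autoImplicit false

namespace Cfsg.Agent.Blk

open MonoidAlgebra
open Cfsg.Agent.Char hiding cj cj_mul cj_inv_cj cj_cj_inv sum_cj_eq om
open scoped ComplexConjugate Classical

section
variable {G : Type*} [Group G] {k : Type*} [Field k] {p : ℕ} [Fact p.Prime] [CharP k p]
  {H P Q R D : Subgroup G} {b v : k[G]} {x : G}

theorem coset_sum_eq [Fintype G] (hR : IsPGroup p R) (hb : b ∈ inv k R) (h : R ≤ P ⊓ cs x P) :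
    ∑ y, (if x⁻¹ * y ∈ P then b.coeff y else 0) =
      ∑ y, if y ∈ Ce R then (if x⁻¹ * y ∈ P then b.coeff y else 0) else 0 := by
  refine sum_eq_sum_Ce hR _ fun r hr g => ?_
  rw [mem_inv'.1 hb r hr]
  refine if_congr ?_ rfl rfl
  have h1 : x⁻¹ * r * x ∈ P := mem_cs.1 (mi2 (h hr))
  have h2 : x⁻¹ * (r * g * r⁻¹) = (x⁻¹ * r * x) * (x⁻¹ * g) * r⁻¹ := by group
  rw [h2, mul_mem_cancel_right (inv_mem (mi1 (h hr))), mul_mem_cancel_left h1]

omit [Fact p.Prime] [CharP k p] in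
theorem mul_eq_zero_of_coset_sum [Fintype G] (hv : ∀ u ∈ P, single u (1 : k) * v = v)
    (h : ∀ x, b.coeff x ≠ 0 → ∑ y, (if x⁻¹ * y ∈ P then b.coeff y else 0) = 0) : b * v = 0 := by
  have := Fintype.ofFinite (G ⧸ P)
  conv_lhs => rw [eq_sum_single b]
  rw [Finset.sum_mul, ← Finset.sum_fiberwise (s := Finset.univ) (g := fun y : G => (y : G ⧸ P))]
  refine Finset.sum_eq_zero fun c _ => ?_
  by_cases hc : ∃ x : G, (x : G ⧸ P) = c ∧ b.coeff x ≠ 0
  · obtain ⟨x, rfl, hx⟩ := hc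
    have h1 : ∀ y ∈ Finset.univ.filter (fun y : G => (y : G ⧸ P) = x),
        b.coeff y • single y (1 : k) * v = b.coeff y • (single x (1 : k) * v) := by
      intro y hy
      have h2 : x⁻¹ * y ∈ P := QuotientGroup.eq.1 (Finset.mem_filter.1 hy).2.symm
      rw [smul_mul_assoc]
      congr 1
      conv_rhs => rw [← hv _ h2, ← mul_assoc, single_mul_single, mul_inv_cancel_left, mul_one]
    rw [Finset.sum_congr rfl h1, ← Finset.sum_smul, Finset.sum_filter]
    have h3 := h x hx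
    rw [Finset.sum_congr rfl fun y _ => if_congr (eq_comm.trans QuotientGroup.eq) rfl rfl, h3,
      zero_smul]
  · push Not at hc
    refine Finset.sum_eq_zero fun y hy => ?_
    rw [hc y (Finset.mem_filter.1 hy).2, zero_smul, zero_mul]

variable [Finite G] [IsAlgClosed k]

theorem green_local (hb : IsBlock H b) (hD : IsDef p H b D) (hH : H ≤ No D) (hQ : IsPGroup p Q)
    (hQH : Q ≤ H) : ∃ x, b.coeff x ≠ 0 ∧ Q ⊓ cs x Q ≤ D := by
  have := Fintype.ofFinite G
  obtain ⟨v, hv0, hv1, hv⟩ := exists_fixed_mul hQ (inv_anti hQH hb.inv) hb.idem hb.ne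
  by_contra hn
  push Not at hn
  refine hv0 (hv1.symm.trans (mul_eq_zero_of_coset_sum hv fun x hx => ?_))
  have hR : IsPGroup p (Q ⊓ cs x Q : Subgroup G) := isPGroup_le hQ inf_le_left
  rw [coset_sum_eq hR (inv_anti (inf_le_left.trans hQH) hb.inv) le_rfl]
  refine Finset.sum_eq_zero fun y _ => ?_
  split_ifs with h1 h2
  · by_contra h3
    have h4 := mem_of_coeff_ne_zero (hb.mem_sup_Ce hD.pg hD.le hH) h3
    obtain ⟨z, hz, h5⟩ := (hD.isSyl h4 h3).exists_cs_le hR
      (le_inf (inf_le_left.trans hQH) (mem_Ce_iff_le.1 h1))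
    rw [cs_le_iff, mem_No.1 (hH (inv_mem (mi1 hz)))] at h5
    exact hn x hx h5
  · rfl
  · rfl

theorem green (hb : IsBlock H b) (hD : IsDef p H b D) (hP : IsPGroup p P) (hPH : P ≤ H)
    (hDP : D ≤ P) : ∃ x ∈ Ce D, b.coeff x ≠ 0 ∧ P ⊓ cs x P = D := by
  obtain ⟨x, hx, h⟩ := green_local (hb.isBlock_Br hD) (hb.isDef_Br hD) inf_le_right
    (isPGroup_le hP (inf_le_left (b := No D))) (inf_le_inf_right _ hPH)
  have hx1 : x ∈ Ce D := mem_of_coeff_ne_zero (Br_mem_sup D b) hx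
  have hxN : cs x D = D := mem_No.1 (Ce_le_No D hx1)
  rw [coeff_Br _ hx1] at hx
  refine ⟨x, hx1, hx, ?_⟩
  have h1 : D ≤ P ⊓ cs x P := le_inf hDP (hxN.symm.le.trans (cs_mono x hDP))
  by_contra hne
  have h2 := lt_inf_No (isPGroup_le hP inf_le_left) (lt_of_le_of_ne h1 (Ne.symm hne))
  refine not_le_of_gt h2 (le_trans ?_ h)
  rw [cs_inf, cs_No, hxN]
  exact le_inf (inf_le_inf_right _ inf_le_left) (inf_le_inf_right _ inf_le_right)

end

section
variable {R K L : Type*} [CommRing R] [Field K] [Field L] {m : Type*} [Fintype m] [DecidableEq m]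

theorem rank_map_le (f : R →+* K) (hf : Function.Surjective f) (g : R →+* L)
    (hg : Function.Injective g) (A : Matrix m m R) : (A.map f).rank ≤ (A.map g).rank := by
  obtain ⟨V, U, e, -, -, h⟩ := Matrix.exists_rank_normal_form (A.map f)
  choose V' hV using fun i j => hf (V i j)
  choose U' hU using fun i j => hf (U i j)
  have h1 : (Matrix.of V').map f = V := by ext i j; exact hV i j
  have h2 : (Matrix.of U').map f = U := by ext i j; exact hU i j
  set W := (Matrix.of V' * A * Matrix.of U').submatrix (e.symm ∘ Sum.inl) (e.symm ∘ Sum.inl)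
    with hW
  have h3 : W.map f = 1 := by
    rw [hW, ← Matrix.submatrix_map, Matrix.map_mul, Matrix.map_mul, h1, h2, h]
    ext i j
    simp [Matrix.one_apply]
  have h4 : (W.map g).det ≠ 0 := by
    change (g.mapMatrix W).det ≠ 0
    rw [← RingHom.map_det, map_ne_zero_iff g hg]
    intro h5
    have := f.map_det W
    rw [h5, map_zero, RingHom.mapMatrix_apply, h3, Matrix.det_one] at this
    exact zero_ne_one this
  have h5 := Matrix.rank_of_det_ne_zero h4
  rw [Fintype.card_fin] at h5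
  rw [← h5, hW, ← Matrix.submatrix_map, Matrix.map_mul, Matrix.map_mul]
  refine (Matrix.rank_submatrix_le _ _ _).trans ?_
  exact (Matrix.rank_mul_le_left _ _).trans (Matrix.rank_mul_le_right _ _)

theorem rank_map_eq (f : K →+* L) (A : Matrix m m K) : (A.map f).rank = A.rank := by
  refine le_antisymm ?_ (by simpa using rank_map_le (RingHom.id K) Function.surjective_id f f.injective A)
  obtain ⟨V, U, e, hV, hU, h⟩ := Matrix.exists_rank_normal_form A
  have h1 := congrArg (fun X => (X.map f).rank) h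
  simp only [Matrix.map_mul] at h1
  rw [Matrix.rank_mul_eq_left_of_isUnit_det (U.map f) _
      ((Matrix.isUnit_iff_isUnit_det _).1 (hU.map f.mapMatrix)),
    Matrix.rank_mul_eq_right_of_isUnit_det (V.map f) _
      ((Matrix.isUnit_iff_isUnit_det _).1 (hV.map f.mapMatrix))] at h1
  have h2 : ((Matrix.fromBlocks 1 0 0 0).submatrix e e).map f =
      (Matrix.of fun i j => if e i = Sum.inl j then (1 : L) else 0) *
      (Matrix.of fun i j => if e j = Sum.inl i then (1 : L) else 0) := by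
    ext i j
    simp only [Matrix.map_apply, Matrix.submatrix_apply, Matrix.mul_apply, Matrix.of_apply]
    rcases e i with a | a <;> rcases e j with b | b <;> simp [Matrix.one_apply, eq_comm]
  rw [h1, h2]
  exact (Matrix.rank_mul_le_left _ _).trans ((Matrix.rank_le_card_width _).trans (by simp))

end

section
variable {G : Type*} [Group G] [Finite G] {M : Ideal AlgInt} {p : ℕ} [PMod M p]
  {B : Set (IrrCharacter G)} {S D : Subgroup G} {x y : G}

omit [PMod M p] in
theorem eq_sum_cls_of {R : Type*} [CommRing R] {ι : Type*} [Fintype ι] {x : ι → G}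
    (hinj : ∀ i j, IsConj (x i) (x j) → i = j) {z : R[G]} (hz : z ∈ Z R (⊤ : Subgroup G))
    (h : ∀ g, z.coeff g ≠ 0 → ∃ i, IsConj (x i) g) :
    z = ∑ i, z.coeff (x i) • cls R ⊤ (x i) := by
  refine ext' fun g => ?_
  rw [coeff_sum']
  by_cases hg : ∃ i, IsConj (x i) g
  · obtain ⟨i, hi⟩ := hg
    rw [Finset.sum_eq_single i, coeff_smul', coeff_cls_top, if_pos hi, mul_one,
      coeff_eq_of_isConj hz hi]
    · intro j _ hj
      rw [coeff_smul', coeff_cls_top, if_neg fun h' => hj (hinj _ _ (h'.trans hi.symm)), mul_zero]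
    · simp
  · rw [not_imp_comm.1 (h g) hg, Finset.sum_eq_zero]
    intro j _
    rw [coeff_smul', coeff_cls_top, if_neg fun h' => hg ⟨j, h'⟩, mul_zero]

theorem IsUB.card_mul_sum_pm [Fintype G] (hB : IsUB M B) (hS : IsPGroup p S) :
    Nat.card S * ∑ χ ∈ fs B, pm S χ * charDegree χ.1 = ∑ χ ∈ fs B, charDegree χ.1 ^ 2 := by
  haveI : Fact p.Prime := ⟨PMod.prime M⟩
  have := Fintype.ofFinite S
  have h0 : (Nat.card S : ℂ) ≠ 0 := Nat.cast_ne_zero.2 Nat.card_pos.ne'
  have h1 : ∀ χ : IrrCharacter G, (Nat.card S : ℂ) * pm S χ = ∑ s : S, χ.1 s := fun χ => by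
    have h2 := em_spec χ (irrOne S)
    rw [← classInner_indFun_eq_em] at h2
    rw [← pm_spec]
    erw [← h2]
    simp only [classInner, irrOne_apply, map_one, mul_one, Nat.card_eq_fintype_card]
    rw [mul_inv_cancel_left₀ (by rwa [← Nat.card_eq_fintype_card])]
  apply Nat.cast_injective (R := ℂ)
  push_cast
  simp only [Finset.mul_sum, ← mul_assoc, h1, Finset.sum_mul, cast_deg]
  rw [Finset.sum_comm, Finset.sum_eq_single (1 : S)]
  · simp [sq]
  · intro s _ hs
    have := hB.sum_degree_mul_eq_zero (y := (s : G))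
      (dvd_orderOf_of_pelt (pelt_of_mem hS s.2) fun h => hs (Subtype.ext h))
    simpa only [mul_comm] using this
  · simp

theorem _root_.Cfsg.IsPBlock.factorization_sum_pm [Fintype G] (hB : IsPBlock M B)
    (hS : IsSyl p S ⊤) : ∑ χ ∈ fs B, pm S χ * charDegree χ.1 ≠ 0 ∧
      (∑ χ ∈ fs B, pm S χ * charDegree χ.1).factorization p = mnu p B := by
  haveI : Fact p.Prime := ⟨PMod.prime M⟩
  have h1 := hB.isUB.card_mul_sum_pm hS.pg
  have h0 : ∑ χ ∈ fs B, charDegree χ.1 ^ 2 ≠ 0 := by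
    obtain ⟨χ, hχ⟩ := hB.nonempty
    exact fun h => pow_ne_zero 2 (charDegree_ne_zero χ)
      (Finset.sum_eq_zero_iff.1 h χ (mem_fs.2 hχ))
  have h2 := hB.factorization_sum_sq (p := p)
  rw [← h1] at h0 h2
  rw [Nat.factorization_mul (left_ne_zero_of_mul h0) (right_ne_zero_of_mul h0), hS.card_eq,
    Finsupp.add_apply, factorization_pow_self, Subgroup.card_top] at h2
  have h3 := defect_add_mnu (p := p) hB.nonempty
  exact ⟨right_ne_zero_of_mul h0, by omega⟩

theorem _root_.Cfsg.IsPBlock.isDef_of_lam_normal [D.Normal] (hB : IsPBlock M B)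
    (hy : IsSyl p D (⊤ ⊓ Ce1 y)) (h : lam (bar M B) (cls (kk M) ⊤ y) ≠ 0) :
    IsDef p ⊤ (bar M B) D := by
  haveI : Fact p.Prime := ⟨PMod.prime M⟩
  obtain ⟨E, hE⟩ := hB.isBlock.exists_isDef p
  refine hB.isBlock.isDef_of_lam_of_card hE trivial h hy (Subgroup.card_le_of_le ?_)
  exact hB.isBlock.le_of_isDef hE hy.pg le_top fun g _ => mem_No.2 (cs_normal g D)

theorem _root_.Cfsg.IsPBlock.mnu_eq_of_isDef (hB : IsPBlock M B) (hD : IsDef p ⊤ (bar M B) D) :
    mnu p B = (Nat.card G).factorization p - (Nat.card D).factorization p := by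
  haveI : Fact p.Prime := ⟨PMod.prime M⟩
  have h3 := defect_add_mnu (p := p) hB.nonempty
  rw [hB.card_isDef hD, factorization_pow_self]
  omega

theorem robinson_entry [Fintype G] [D.Normal] (hS : IsSyl p S ⊤) (hx : IsSyl p D (⊤ ⊓ Ce1 x))
    (hy : IsSyl p D (⊤ ⊓ Ce1 y)) {m : ℕ}
    (hm : m = (Nat.card G).factorization p - (Nat.card D).factorization p) :
    ((pairCount S x y / p ^ m : ℕ) : kk M) =
      ∑ B ∈ (blocksIn M Set.univ).filter (fun B => IsDef p ⊤ (bar M B) D),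
        lam (bar M B) (cls (kk M) ⊤ x⁻¹) *
          (rd M (((∑ χ ∈ fs B, pm S χ * charDegree χ.1 : ℕ) : ℂ) / (p ^ m * S.index : ℕ)) *
            lam (bar M B) (cls (kk M) ⊤ y)) := by
  haveI : Fact p.Prime := ⟨PMod.prime M⟩
  have hp := PMod.prime M
  have hi : S.index ≠ 0 := Subgroup.index_ne_zero_of_finite
  have hi' : (S.index : ℂ) ≠ 0 := Nat.cast_ne_zero.2 hi
  have hpm : (p : ℂ) ^ m ≠ 0 := pow_ne_zero _ (p_ne_zero M)
  have hf : (p ^ m * S.index).factorization p = m := by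
    have h2 := hS.not_dvd_relIndex
    rw [Subgroup.relIndex_top_right] at h2
    rw [Nat.factorization_mul (pow_ne_zero _ hp.ne_zero) hi, Finsupp.add_apply,
      factorization_pow_self, Nat.factorization_eq_zero_of_not_dvd h2, add_zero]
  have hne : p ^ m * S.index ≠ 0 := mul_ne_zero (pow_ne_zero _ hp.ne_zero) hi
  have hu : ((Ce1 x).index : ℂ) / (p ^ m * S.index : ℕ) ∈ O M := by
    rw [natDiv_mem_O_iff Subgroup.index_ne_zero_of_finite hne, hf]
    have h1 := factorization_index_add p (Ce1 x)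
    have h2 := hx.card_eq
    rw [top_inf_eq] at h2
    rw [hm, h2, factorization_pow_self]
    omega
  set t : IrrCharacter G → ℂ := fun χ => centralChar χ.1 y * (pm S χ * conj (χ.1 x) *
    (((Ce1 x).index : ℂ) / (p ^ m * S.index : ℕ))) with ht
  have ht1 : ∀ χ, pm S χ * conj (χ.1 x) * (((Ce1 x).index : ℂ) / (p ^ m * S.index : ℕ)) ∈ O M :=
    fun χ => mul_mem (mul_mem (natCast_mem _ _) (conj_irr_mem_O M χ x)) hu
  have ht2 : ∀ χ, t χ ∈ O M := fun χ => mul_mem (centralChar_mem_O χ.2 y) (ht1 χ)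
  have h1 : (pairCount S x y : ℂ) / (p ^ m : ℕ) = ∑ χ, t χ := by
    have h2 := robinson S x y
    rw [← eq_inv_mul_iff_mul_eq₀ hi'] at h2
    rw [h2, Finset.mul_sum, Finset.mul_sum, Finset.sum_div]
    refine Finset.sum_congr rfl fun χ _ => ?_
    simp only [ht]
    push_cast
    field_simp
  have h2 : p ^ m ∣ pairCount S x y := by
    have h3 : (((pairCount S x y : ℤ) : ℂ)) / (p ^ m : ℕ) ∈ O M := by
      rw [Int.cast_natCast, h1]; exact sum_mem fun χ _ => ht2 χ
    rw [intDiv_mem_O_iff (pow_ne_zero _ hp.ne_zero), factorization_pow_self] at h3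
    exact_mod_cast h3
  rw [← rd_natCast, Nat.cast_div h2 (by exact_mod_cast hpm), h1, rd_sum _ _ fun χ _ => ht2 χ,
    ← sum_fs_eq_univ Set.univ (fun χ h => (h trivial).elim), ← isUB_univ.sum_blocksIn (M := M),
    Finset.sum_filter]
  refine Finset.sum_congr rfl fun B hB => ?_
  have hB' := (isUB_univ.mem_blocksIn.1 hB).1
  split_ifs with hD
  · have h3 : ∀ χ ∈ fs B, ((pm S χ * charDegree χ.1 : ℕ) : ℂ) / (p ^ m * S.index : ℕ) ∈ O M := by
      intro χ hχ
      rw [Nat.cast_mul, mul_div_assoc]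
      refine mul_mem (natCast_mem _ _) ?_
      rw [natDiv_mem_O_iff (charDegree_ne_zero χ) hne, hf, hm, ← hB'.mnu_eq_of_isDef hD]
      exact mnu_le p (mem_fs.1 hχ)
    rw [Nat.cast_sum, Finset.sum_div, rd_sum _ _ h3, Finset.sum_mul, Finset.mul_sum]
    refine Finset.sum_congr rfl fun χ hχ => ?_
    rw [hB'.lam_cls (mem_fs.1 hχ), hB'.lam_cls (mem_fs.1 hχ),
      ← rd_mul (h3 χ hχ) (centralChar_mem_O χ.2 _),
      ← rd_mul (centralChar_mem_O χ.2 _) (mul_mem (h3 χ hχ) (centralChar_mem_O χ.2 _))]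
    congr 1
    have h4 := χ.2.apply_one_ne_zero
    simp only [ht]
    rw [show centralChar χ.1 x⁻¹ = (Ce1 x⁻¹).index * χ.1 x⁻¹ / χ.1 1 from rfl, index_Ce1_inv,
      χ.2.isCharacter.apply_inv]
    push_cast
    rw [cast_deg]
    field_simp
  · refine Finset.sum_eq_zero fun χ hχ => ?_
    rw [rd_mul (centralChar_mem_O χ.2 y) (ht1 χ), ← hB'.lam_cls (mem_fs.1 hχ),
      not_imp_comm.1 (hB'.isDef_of_lam_normal hy) hD, zero_mul]

theorem sum_lam_mul_coeff {ι : Type*} [Fintype ι] {x : ι → G}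
    (hinj : ∀ i j, IsConj (x i) (x j) → i = j) {B' : Set (IrrCharacter G)} (hB : IsPBlock M B)
    (hB' : IsPBlock M B') (h : ∀ g, (bar M B').coeff g ≠ 0 → ∃ i, IsConj (x i) g) :
    ∑ i, (bar M B').coeff (x i) * lam (bar M B) (cls (kk M) ⊤ (x i)) = if B' = B then 1 else 0 := by
  have h1 := congrArg (lam (bar M B)) (eq_sum_cls_of hinj hB'.isBlock.mem h)
  rw [hB.isBlock.lam_sum _ _ fun C _ => Subalgebra.smul_mem _ (cls_mem_top _) _,
    Finset.sum_congr rfl fun C _ => hB.isBlock.lam_smul _ (cls_mem_top _)] at h1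
  rw [← h1]
  split_ifs with h2
  · rw [h2, hB.isBlock.lam_self]
  · exact hB.isBlock.lam_of_ne hB'.isBlock fun h3 => h2 (hB'.bar_inj hB h3)

theorem robinson_rank [D.Normal] (hS : IsSyl p S ⊤) {ι : Type*} [Fintype ι] {x : ι → G}
    (hinj : ∀ i j, IsConj (x i) (x j) → i = j) (h1 : ∀ i, IsSyl p D (⊤ ⊓ Ce1 (x i)))
    (h2 : ∀ g, ¬ p ∣ orderOf g → IsSyl p D (⊤ ⊓ Ce1 g) → ∃ i, IsConj (x i) g) {m : ℕ}
    (hm : m = (Nat.card G).factorization p - (Nat.card D).factorization p) :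
    Nat.card {B // IsPBlock M B ∧ IsDef p ⊤ (bar M B) D} =
      (Matrix.of fun i j => ((pairCount S (x i) (x j) / p ^ m : ℕ) : kk M)).rank := by
  haveI : Fact p.Prime := ⟨PMod.prime M⟩
  have hp := PMod.prime M
  have := Fintype.ofFinite G
  have := Fintype.ofFinite {B : Set (IrrCharacter G) // IsPBlock M B ∧ IsDef p ⊤ (bar M B) D}
  set c : Set (IrrCharacter G) → kk M := fun B =>
    rd M (((∑ χ ∈ fs B, pm S χ * charDegree χ.1 : ℕ) : ℂ) / (p ^ m * S.index : ℕ)) with hc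
  set T : Matrix ι {B : Set (IrrCharacter G) // IsPBlock M B ∧ IsDef p ⊤ (bar M B) D} (kk M) :=
    Matrix.of fun i B => lam (bar M B.1) (cls (kk M) ⊤ (x i)⁻¹) with hT
  set L : Matrix {B : Set (IrrCharacter G) // IsPBlock M B ∧ IsDef p ⊤ (bar M B) D} ι (kk M) :=
    Matrix.of fun B i => c B.1 * lam (bar M B.1) (cls (kk M) ⊤ (x i)) with hL
  have h3 : (Matrix.of fun i j => ((pairCount S (x i) (x j) / p ^ m : ℕ) : kk M)) = T * L := by
    ext i j
    rw [Matrix.of_apply, robinson_entry hS (h1 i) (h1 j) hm, Matrix.mul_apply]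
    exact Finset.sum_subtype _ (by simp [isUB_univ.mem_blocksIn]) _
  have hsupp : ∀ B : {B : Set (IrrCharacter G) // IsPBlock M B ∧ IsDef p ⊤ (bar M B) D}, ∀ g,
      (bar M B.1).coeff g ≠ 0 → ¬ p ∣ orderOf g ∧ IsSyl p D (⊤ ⊓ Ce1 g) := fun B g hg =>
    ⟨B.2.1.isUB.preg_of_coeff_bar hg, B.2.2.isSyl (mem_of_coeff_ne_zero
      (B.2.1.isBlock.mem_sup_Ce B.2.2.pg le_top fun g _ => mem_No.2 (cs_normal g D)) hg) hg⟩
  have hc0 : ∀ B : {B : Set (IrrCharacter G) // IsPBlock M B ∧ IsDef p ⊤ (bar M B) D},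
      c B.1 ≠ 0 := fun B => by
    obtain ⟨h4, h5⟩ := B.2.1.factorization_sum_pm hS
    have hi : S.index ≠ 0 := Subgroup.index_ne_zero_of_finite
    have hne : p ^ m * S.index ≠ 0 := mul_ne_zero (pow_ne_zero _ hp.ne_zero) hi
    have hf : (p ^ m * S.index).factorization p = mnu p B.1 := by
      have h2 := hS.not_dvd_relIndex
      rw [Subgroup.relIndex_top_right] at h2
      rw [Nat.factorization_mul (pow_ne_zero _ hp.ne_zero) hi, Finsupp.add_apply,
        factorization_pow_self, Nat.factorization_eq_zero_of_not_dvd h2, add_zero, hm,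
        B.2.1.mnu_eq_of_isDef B.2.2]
    rw [hc, Ne, rd_eq_zero_iff ((natDiv_mem_O_iff h4 hne).2 (by rw [hf, h5])), LI_natDiv_iff h4 hne,
      hf, h5]
    exact lt_irrefl _
  have h4 : (Matrix.of fun (B : {B : Set (IrrCharacter G) // IsPBlock M B ∧
      IsDef p ⊤ (bar M B) D}) i => (bar M B.1).coeff (x i)⁻¹) * T = 1 := by
    ext B' B
    rw [Matrix.mul_apply, Matrix.one_apply]
    refine (sum_lam_mul_coeff (x := fun i => (x i)⁻¹) (fun i j h => hinj i j (isConj_inv_iff.1 h))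
      B.2.1 B'.2.1 fun g hg => ?_).trans (if_congr Subtype.ext_iff.symm rfl rfl)
    obtain ⟨h5, h6⟩ := hsupp B' g hg
    obtain ⟨i, hi⟩ := h2 g⁻¹ (by rwa [orderOf_inv]) (by
      rwa [← Ce_zpowers, Subgroup.zpowers_inv, Ce_zpowers])
    exact ⟨i, isConj_inv_iff.1 (by rwa [inv_inv])⟩
  have h5 : L * (Matrix.of fun i (B : {B : Set (IrrCharacter G) // IsPBlock M B ∧
      IsDef p ⊤ (bar M B) D}) => (bar M B.1).coeff (x i) * (c B.1)⁻¹) = 1 := by
    ext B B'
    rw [Matrix.mul_apply, Matrix.one_apply]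
    have h6 := sum_lam_mul_coeff hinj B.2.1 B'.2.1 fun g hg => h2 g (hsupp B' g hg).1 (hsupp B' g hg).2
    simp only [hL, Matrix.of_apply]
    rw [Finset.sum_congr rfl (g := fun i => c B.1 * (c B'.1)⁻¹ * ((bar M B'.1).coeff (x i) *
      lam (bar M B.1) (cls (kk M) ⊤ (x i)))) fun i _ => by ring, ← Finset.mul_sum, h6]
    by_cases h7 : B = B'
    · rw [if_pos h7, if_pos (by rw [h7]), h7, mul_inv_cancel₀ (hc0 _), mul_one]
    · rw [if_neg h7, if_neg fun h => h7 (Subtype.ext h.symm), mul_zero]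
  rw [h3, Nat.card_eq_fintype_card]
  refine le_antisymm ?_ ((Matrix.rank_mul_le_left _ _).trans (Matrix.rank_le_card_width _))
  rw [← Matrix.rank_one (R := kk M), ← Matrix.one_mul (1 : Matrix _ _ (kk M))]
  nth_rw 1 [← h4]
  rw [← h5, Matrix.mul_assoc, ← Matrix.mul_assoc T]
  exact (Matrix.rank_mul_le_right _ _).trans (Matrix.rank_mul_le_left _ _)

end

end Cfsg.Agent.Blk
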