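import Mathlib.GroupTheory.Sylow
import Mathlib.GroupTheory.Subgroup.Centralizer
import Mathlib.GroupTheory.Nilpotent

/-!
Group-theoretic helpers for block theory: conjugate subgroups `cs x Q`, and Sylow subgroups of a
subgroup viewed in the ambient group (`IsSyl`).
-/

namespace Cfsg.Agent.Blk

variable {G : Type*} [Group G]

/-- Conjugate subgroup `x Q x⁻¹`. -/
abbrev cs (x : G) (Q : Subgroup G) : Subgroup G := Q.map (MulAut.conj x).toMonoidHom

/-- Centralizer of a subgroup. -/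
abbrev Ce (Q : Subgroup G) : Subgroup G := Subgroup.centralizer (Q : Set G)

/-- Normalizer of a subgroup. -/
abbrev No (Q : Subgroup G) : Subgroup G := Subgroup.normalizer (Q : Set G)

/-- Centralizer of an element. -/
abbrev Ce1 (g : G) : Subgroup G := Subgroup.centralizer ({g} : Set G)

theorem mem_cs {x g : G} {Q : Subgroup G} : g ∈ cs x Q ↔ x⁻¹ * g * x ∈ Q := by
  constructor
  · rintro ⟨y, hy, rfl⟩
    simpa [mul_assoc] using hy
  · intro h
    exact ⟨_, h, by simp [mul_assoc]⟩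

theorem conj_mem_cs {x g : G} {Q : Subgroup G} : x * g * x⁻¹ ∈ cs x Q ↔ g ∈ Q := by
  simp [mem_cs, mul_assoc]

@[simp] theorem cs_one (Q : Subgroup G) : cs 1 Q = Q := by ext; simp [mem_cs]

theorem cs_mul (x y : G) (Q : Subgroup G) : cs (x * y) Q = cs x (cs y Q) := by
  ext; simp [mem_cs, mul_assoc]

@[simp] theorem cs_inv_cs (x : G) (Q : Subgroup G) : cs x⁻¹ (cs x Q) = Q := by
  rw [← cs_mul]; simp

@[simp] theorem cs_cs_inv (x : G) (Q : Subgroup G) : cs x (cs x⁻¹ Q) = Q := by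
  rw [← cs_mul]; simp

theorem cs_mono (x : G) {P Q : Subgroup G} (h : P ≤ Q) : cs x P ≤ cs x Q := Subgroup.map_mono h

theorem cs_le_cs_iff {x : G} {P Q : Subgroup G} : cs x P ≤ cs x Q ↔ P ≤ Q :=
  ⟨fun h => by simpa using cs_mono x⁻¹ h, cs_mono x⟩

theorem cs_le_iff {x : G} {P Q : Subgroup G} : cs x P ≤ Q ↔ P ≤ cs x⁻¹ Q := by
  rw [← cs_le_cs_iff (x := x⁻¹), cs_inv_cs]

theorem le_cs_iff {x : G} {P Q : Subgroup G} : P ≤ cs x Q ↔ cs x⁻¹ P ≤ Q := by
  rw [cs_le_iff, inv_inv]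

theorem cs_injective (x : G) : Function.Injective (cs x : Subgroup G → Subgroup G) :=
  fun P Q h => by rw [← cs_inv_cs x P, h, cs_inv_cs]

theorem cs_inf (x : G) (P Q : Subgroup G) : cs x (P ⊓ Q) = cs x P ⊓ cs x Q := by
  ext; simp only [mem_cs, Subgroup.mem_inf]

theorem cs_sup (x : G) (P Q : Subgroup G) : cs x (P ⊔ Q) = cs x P ⊔ cs x Q :=
  Subgroup.map_sup _ _ _

@[simp] theorem cs_top (x : G) : cs x ⊤ = ⊤ := by ext; simp only [mem_cs, Subgroup.mem_top]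

@[simp] theorem cs_bot (x : G) : cs x ⊥ = ⊥ := Subgroup.map_bot _

theorem mem_No {x : G} {Q : Subgroup G} : x ∈ No Q ↔ cs x Q = Q := by
  rw [Subgroup.mem_normalizer_iff'']
  constructor
  · intro h; ext g; rw [mem_cs]; exact (h g).symm
  · intro h g
    conv_lhs => rw [← h]
    exact mem_cs

theorem cs_eq_of_mem {x : G} {Q : Subgroup G} (hx : x ∈ Q) : cs x Q = Q :=
  mem_No.1 (Subgroup.le_normalizer hx)

theorem cs_normal (x : G) (Q : Subgroup G) [hQ : Q.Normal] : cs x Q = Q :=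
  mem_No.1 (by rw [No, Subgroup.normalizer_eq_top]; trivial)

theorem mem_Ce {g : G} {Q : Subgroup G} : g ∈ Ce Q ↔ ∀ q ∈ Q, q * g = g * q :=
  Subgroup.mem_centralizer_iff

theorem mem_Ce1 {g h : G} : h ∈ Ce1 g ↔ h * g = g * h :=
  Subgroup.mem_centralizer_singleton_iff

theorem mem_Ce_iff_le {g : G} {Q : Subgroup G} : g ∈ Ce Q ↔ Q ≤ Ce1 g := by
  rw [mem_Ce]; exact forall₂_congr fun q _ => mem_Ce1.symm

theorem Ce_anti {P Q : Subgroup G} (h : P ≤ Q) : Ce Q ≤ Ce P :=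
  Subgroup.centralizer_le h

theorem cs_Ce (x : G) (Q : Subgroup G) : cs x (Ce Q) = Ce (cs x Q) := by
  ext g
  rw [mem_cs, mem_Ce, mem_Ce]
  constructor
  · intro h q hq
    have := h _ (mem_cs.1 hq)
    have h2 : x * (x⁻¹ * q * x * (x⁻¹ * g * x)) * x⁻¹ = x * (x⁻¹ * g * x * (x⁻¹ * q * x)) * x⁻¹ := by
      rw [this]
    simpa [mul_assoc] using h2
  · intro h q hq
    have := h _ (conj_mem_cs (x := x).2 hq)
    have h2 : x⁻¹ * (x * q * x⁻¹ * g) * x = x⁻¹ * (g * (x * q * x⁻¹)) * x := by rw [this]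
    simpa [mul_assoc] using h2

theorem cs_No (x : G) (Q : Subgroup G) : cs x (No Q) = No (cs x Q) := by
  ext g
  rw [mem_cs, mem_No, mem_No, cs_mul, cs_mul]
  constructor
  · intro h
    have := congrArg (cs x) h
    simpa using this
  · intro h; rw [h]; simp

theorem cs_Ce1 (x g : G) : cs x (Ce1 g) = Ce1 (x * g * x⁻¹) := by
  ext h
  rw [mem_cs, mem_Ce1, mem_Ce1]
  constructor
  · intro h1
    have h2 : x * (x⁻¹ * h * x * g) * x⁻¹ = x * (g * (x⁻¹ * h * x)) * x⁻¹ := by rw [h1]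
    simpa [mul_assoc] using h2
  · intro h1
    have h2 : x⁻¹ * (h * (x * g * x⁻¹)) * x = x⁻¹ * (x * g * x⁻¹ * h) * x := by rw [h1]
    simpa [mul_assoc] using h2

theorem Ce_sup (P Q : Subgroup G) : Ce (P ⊔ Q) = Ce P ⊓ Ce Q := by
  ext g; simp only [Subgroup.mem_inf, mem_Ce_iff_le, sup_le_iff]

@[simp] theorem Ce_bot : Ce (⊥ : Subgroup G) = ⊤ := by
  ext g; simp [mem_Ce_iff_le]

theorem Ce_zpowers (g : G) : Ce (Subgroup.zpowers g) = Ce1 g := by
  ext h; rw [mem_Ce_iff_le, Subgroup.zpowers_le, mem_Ce1, mem_Ce1, eq_comm]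

theorem Ce_le_No (Q : Subgroup G) : Ce Q ≤ No Q := Subgroup.centralizer_le_normalizer _

theorem le_No (Q : Subgroup G) : Q ≤ No Q := Subgroup.le_normalizer

theorem No_le_No_Ce (Q : Subgroup G) : No Q ≤ No (Ce Q) := by
  intro x hx
  rw [mem_No] at *
  rw [cs_Ce, hx]

theorem No_inf_le (P Q : Subgroup G) : No P ⊓ No Q ≤ No (P ⊓ Q) := by
  intro x hx
  rw [Subgroup.mem_inf, mem_No, mem_No] at hx
  rw [mem_No, cs_inf, hx.1, hx.2]

theorem No_sup_le (P Q : Subgroup G) : No P ⊓ No Q ≤ No (P ⊔ Q) := by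
  intro x hx
  rw [Subgroup.mem_inf, mem_No, mem_No] at hx
  rw [mem_No, cs_sup, hx.1, hx.2]

theorem card_cs (x : G) (Q : Subgroup G) : Nat.card (cs x Q) = Nat.card Q :=
  Subgroup.card_map_of_injective (MulAut.conj x).injective

theorem isPGroup_cs {p : ℕ} (x : G) {Q : Subgroup G} (hQ : IsPGroup p Q) : IsPGroup p (cs x Q) :=
  hQ.map _

theorem isPGroup_le {p : ℕ} {P Q : Subgroup G} (hQ : IsPGroup p Q) (h : P ≤ Q) : IsPGroup p P :=
  hQ.to_le h

theorem eq_of_le_of_cs_le [Finite G] {P Q : Subgroup G} {x : G} (h1 : P ≤ Q) (h2 : cs x Q ≤ P) :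
    P = Q := by
  apply Subgroup.eq_of_le_of_card_ge h1
  rw [← card_cs x Q]
  exact Subgroup.card_le_of_le h2

theorem cs_eq_of_cs_le [Finite G] {P Q : Subgroup G} {x y : G} (h1 : cs x P ≤ Q)
    (h2 : cs y Q ≤ P) : cs x P = Q := by
  apply Subgroup.eq_of_le_of_card_ge h1
  rw [card_cs, ← card_cs y Q]
  exact Subgroup.card_le_of_le h2

theorem isPGroup_sup {p : ℕ} {P Q : Subgroup G} (hP : IsPGroup p P) (hQ : IsPGroup p Q)
    (h : P ≤ No Q) : IsPGroup p (P ⊔ Q : Subgroup G) :=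
  IsPGroup.to_sup_of_normal_right' hP hQ h

/-- In a finite `p`-group a proper subgroup is properly contained in its normalizer. -/
theorem lt_inf_No [Finite G] {p : ℕ} [Fact p.Prime] {P Q : Subgroup G} (hQ : IsPGroup p Q)
    (h : P < Q) : P < Q ⊓ No P := by
  have hn : Group.IsNilpotent Q := hQ.isNilpotent
  have h1 : P.subgroupOf Q < ⊤ := by
    rw [lt_top_iff_ne_top, Ne, Subgroup.subgroupOf_eq_top]
    exact not_le_of_gt h
  have h2 := Group.normalizerCondition_of_isNilpotent (G := Q) _ h1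
  obtain ⟨x, hx1, hx2⟩ := SetLike.exists_of_lt h2
  refine lt_of_le_of_ne (le_inf h.le (le_No P)) ?_
  intro heq
  apply hx2
  rw [Subgroup.mem_subgroupOf, heq]
  refine ⟨x.2, ?_⟩
  rw [← Subgroup.subgroupOf_normalizer_eq h.le] at hx1
  exact hx1

/-- `D` is a Sylow `p`-subgroup of `K`, both viewed in `G`. -/
structure IsSyl (p : ℕ) (D K : Subgroup G) : Prop where
  le : D ≤ K
  pg : IsPGroup p D
  max : ∀ Q : Subgroup G, Q ≤ K → IsPGroup p Q → D ≤ Q → Q = D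

variable {p : ℕ}

theorem isSyl_map {K : Subgroup G} (S : Sylow p K) :
    IsSyl p ((S : Subgroup K).map K.subtype) K := by
  refine ⟨Subgroup.map_subtype_le _, S.isPGroup'.map _, fun Q hQK hQ hSQ => ?_⟩
  have h1 : Q.subgroupOf K = S := S.is_maximal' (hQ.comap_subtype) (by
    intro x hx; exact hSQ ⟨x, hx, rfl⟩)
  rw [← h1, Subgroup.subgroupOf_map_subtype, inf_eq_left.2 hQK]

theorem IsSyl.exists_sylow {D K : Subgroup G} (h : IsSyl p D K) :
    ∃ S : Sylow p K, (S : Subgroup K).map K.subtype = D := by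
  obtain ⟨S, hS⟩ := (h.pg.comap_subtype (K := K)).exists_le_sylow
  refine ⟨S, h.max _ (Subgroup.map_subtype_le _) (S.isPGroup'.map _) ?_⟩
  intro x hx
  exact ⟨⟨x, h.le hx⟩, hS hx, rfl⟩

theorem isSyl_iff {D K : Subgroup G} :
    IsSyl p D K ↔ ∃ S : Sylow p K, (S : Subgroup K).map K.subtype = D :=
  ⟨IsSyl.exists_sylow, fun ⟨S, h⟩ => h ▸ isSyl_map S⟩

theorem isSyl_top_iff {D : Subgroup G} : IsSyl p D ⊤ ↔ ∃ S : Sylow p G, (S : Subgroup G) = D := by
  constructor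
  · intro h
    obtain ⟨S, hS⟩ := h.pg.exists_le_sylow
    exact ⟨S, h.max _ le_top S.isPGroup' hS⟩
  · rintro ⟨S, rfl⟩
    exact ⟨le_top, S.isPGroup', fun Q _ hQ h => S.is_maximal' hQ h⟩

theorem isSyl_sylow (S : Sylow p G) : IsSyl p (S : Subgroup G) ⊤ := isSyl_top_iff.2 ⟨S, rfl⟩

theorem exists_isSyl_ge {Q K : Subgroup G} (hQ : IsPGroup p Q) (hQK : Q ≤ K) :
    ∃ D, IsSyl p D K ∧ Q ≤ D := by
  obtain ⟨S, hS⟩ := (hQ.comap_subtype (K := K)).exists_le_sylow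
  exact ⟨_, isSyl_map S, fun x hx => ⟨⟨x, hQK hx⟩, hS hx, rfl⟩⟩

theorem exists_isSyl (p : ℕ) (K : Subgroup G) : ∃ D, IsSyl p D K := by
  obtain ⟨D, hD, -⟩ := exists_isSyl_ge (p := p) (Q := ⊥) (K := K) IsPGroup.of_bot bot_le
  exact ⟨D, hD⟩

theorem IsSyl.cs {D K : Subgroup G} (h : IsSyl p D K) (x : G) : IsSyl p (cs x D) (cs x K) := by
  refine ⟨cs_mono x h.le, isPGroup_cs x h.pg, fun Q hQK hQ hDQ => ?_⟩
  have := h.max _ (le_cs_iff.1 hQK) (isPGroup_cs x⁻¹ hQ) (cs_le_iff.1 hDQ)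
  rw [← this, cs_cs_inv]

theorem IsSyl.of_le {D K L : Subgroup G} (h : IsSyl p D K) (h1 : D ≤ L) (h2 : L ≤ K) :
    IsSyl p D L :=
  ⟨h1, h.pg, fun Q hQ => h.max Q (hQ.trans h2)⟩

variable [Finite G] [hp : Fact p.Prime]

theorem IsSyl.exists_cs_le {D K Q : Subgroup G} (h : IsSyl p D K) (hQ : IsPGroup p Q)
    (hQK : Q ≤ K) : ∃ x ∈ K, Blk.cs x Q ≤ D := by
  obtain ⟨S, rfl⟩ := h.exists_sylow
  obtain ⟨T, hT⟩ := (hQ.comap_subtype (K := K)).exists_le_sylow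
  obtain ⟨x, hx⟩ := MulAction.exists_smul_eq K T S
  refine ⟨x, x.2, ?_⟩
  rintro _ ⟨q, hq, rfl⟩
  refine ⟨x * ⟨q, hQK hq⟩ * x⁻¹, ?_, rfl⟩
  rw [← hx]
  exact ⟨⟨q, hQK hq⟩, hT hq, rfl⟩

theorem IsSyl.exists_cs_eq {D K E : Subgroup G} (h : IsSyl p D K) (hE : IsSyl p E K) :
    ∃ x ∈ K, Blk.cs x E = D := by
  obtain ⟨x, hx, h1⟩ := h.exists_cs_le hE.pg hE.le
  obtain ⟨y, -, h2⟩ := hE.exists_cs_le h.pg h.le
  exact ⟨x, hx, cs_eq_of_cs_le h1 h2⟩

theorem IsSyl.card_eq {D K : Subgroup G} (h : IsSyl p D K) :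
    Nat.card D = p ^ (Nat.card K).factorization p := by
  obtain ⟨S, rfl⟩ := h.exists_sylow
  rw [Subgroup.card_map_of_injective K.subtype_injective, Sylow.card_eq_multiplicity]

theorem IsSyl.not_dvd_relIndex {D K : Subgroup G} (h : IsSyl p D K) : ¬ p ∣ D.relIndex K := by
  obtain ⟨S, rfl⟩ := h.exists_sylow
  rw [Subgroup.relIndex, Subgroup.subgroupOf, Subgroup.comap_map_eq_self_of_injective
    K.subtype_injective]
  exact S.not_dvd_index

theorem isSyl_of_not_dvd {D K : Subgroup G} (hle : D ≤ K) (hD : IsPGroup p D)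
    (h : ¬ p ∣ D.relIndex K) : IsSyl p D K := by
  refine ⟨hle, hD, fun Q hQK hQ hDQ => ?_⟩
  have h1 : D.relIndex Q ∣ D.relIndex K := by
    rw [← Subgroup.relIndex_mul_relIndex D Q K hDQ hQK]; exact dvd_mul_right _ _
  obtain ⟨n, hn⟩ := hQ.index (D.subgroupOf Q)
  rcases n with _ | n
  · rw [pow_zero, Subgroup.index_eq_one, Subgroup.subgroupOf_eq_top] at hn
    exact le_antisymm hn hDQ
  · exfalso; apply h
    refine Dvd.dvd.trans ?_ h1
    rw [Subgroup.relIndex, hn]; exact dvd_pow_self p n.succ_ne_zero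

theorem isSyl_of_card {D K : Subgroup G} (hle : D ≤ K)
    (h : Nat.card D = p ^ (Nat.card K).factorization p) : IsSyl p D K := by
  have hD : IsPGroup p D := IsPGroup.of_card h
  obtain ⟨E, hE, hDE⟩ := exists_isSyl_ge hD hle
  have : D = E := Subgroup.eq_of_le_of_card_ge hDE (by rw [hE.card_eq, h])
  rwa [this]

/-- A `p`-subgroup that is Sylow in `K ⊓ N(D)` is Sylow in `K`. -/
theorem IsSyl.of_inf_No {D K : Subgroup G} (h : IsSyl p D (K ⊓ No D)) : IsSyl p D K := by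
  refine ⟨h.le.trans inf_le_left, h.pg, fun Q hQK hQ hDQ => ?_⟩
  by_contra hne
  have hlt := lt_inf_No hQ (lt_of_le_of_ne hDQ (Ne.symm hne))
  exact hlt.ne' (h.max _ (inf_le_inf_right _ hQK) (isPGroup_le hQ inf_le_left) hlt.le)

/-- A normal `p`-subgroup lies in every Sylow subgroup. -/
theorem IsSyl.ge_of_le_No {D K Q : Subgroup G} (h : IsSyl p D K) (hQ : IsPGroup p Q) (hQK : Q ≤ K)
    (hN : K ≤ No Q) : Q ≤ D := by
  obtain ⟨x, hx, h1⟩ := h.exists_cs_le hQ hQK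
  rwa [mem_No.1 (hN hx)] at h1

end Cfsg.Agent.Blk
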