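import Cfsg.Agent.Lib.Block.Twist
import Cfsg.Agent.Lib.Char.Integral

/-!
Heights, the defect of a block, and the central elements attached to `p`-regular restrictions.
-/

namespace Cfsg.Agent.Blk

open MonoidAlgebra Cfsg.Agent.Char
open scoped ComplexConjugate

variable {G : Type*} [Group G] [Finite G]

theorem exists_root_mul {θ : G → ℂ} (hθ : IsIrrCharacter G θ) {z : G}
    (hz : z ∈ Subgroup.center G) :
    ∃ ω : ℂ, ω ^ orderOf z = 1 ∧ ∀ u, θ (z * u) = ω * θ u := by
  obtain ⟨ω, -, h⟩ := mem_charCenter.1 (hθ.center_le_charCenter hz)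
  have h1 : ∀ n : ℕ, θ (z ^ n) = ω ^ n * θ 1 := fun n => by
    induction n with
    | zero => simp
    | succ n ih => rw [pow_succ', h, ih, pow_succ']; ring
  refine ⟨ω, ?_, h⟩
  have := h1 (orderOf z)
  rw [pow_orderOf_eq_one] at this
  exact mul_right_cancel₀ hθ.apply_one_ne_zero (by rw [← this, one_mul])

theorem mem_center_Ce1 (x : G) : (⟨x, mem_Ce1.2 rfl⟩ : Ce1 x) ∈ Subgroup.center (Ce1 x) :=
  Subgroup.mem_center_iff.2 fun g => Subtype.ext (mem_Ce1.1 g.2)

theorem char_induction {P : (G → ℂ) → Prop} {χ : G → ℂ} (hχ : IsCharacter G χ) (h0 : P 0)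
    (hadd : ∀ φ ψ, P φ → P ψ → P (φ + ψ)) (hirr : ∀ ψ, IsIrrCharacter G ψ → P ψ) : P χ := by
  obtain ⟨s, hs, rfl⟩ := hχ.exists_multiset
  clear hχ
  induction s using Multiset.induction_on with
  | empty => exact h0
  | cons a s ih =>
    rw [Multiset.sum_cons]
    exact hadd _ _ (hirr a (hs a (Multiset.mem_cons_self _ _)))
      (ih fun ψ hψ => hs ψ (Multiset.mem_cons_of_mem hψ))

theorem isIntegral_avg {χ : G → ℂ} (hχ : IsCharacter G χ) {x : G} {K : Subgroup G} [Fintype K]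
    (hK : K ≤ Ce1 x) : IsIntegral ℤ ((Nat.card K : ℂ)⁻¹ * ∑ u : K, χ (x * u)) := by
  refine char_induction (P := fun θ : Ce1 x → ℂ => IsIntegral ℤ ((Nat.card K : ℂ)⁻¹ *
    ∑ u : K, θ (⟨x, mem_Ce1.2 rfl⟩ * ⟨u, hK u.2⟩))) (hχ.res (Ce1 x)) ?_ ?_ ?_
  · simp only [Pi.zero_apply, Finset.sum_const_zero, mul_zero]; exact isIntegral_zero
  · intro φ ψ h1 h2
    simp only [Pi.add_apply, Finset.sum_add_distrib, mul_add]; exact h1.add h2
  · intro θ hθ
    obtain ⟨ω, h1, h2⟩ := exists_root_mul hθ (mem_center_Ce1 x)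
    obtain ⟨n, hn⟩ := (hθ.isCharacter.res_le hK).classInner_eq_nat isCharacter_one
    rw [classInner_one_right] at hn
    simp only [h2, ← Finset.mul_sum]
    rw [mul_left_comm, hn]
    exact (isIntegral_of_pow_eq_one (orderOf_pos _).ne' h1).mul (isIntegral_natCast n)

variable {M : Ideal AlgInt} {p : ℕ} [PMod M p]

theorem char_mem_O (M : Ideal AlgInt) [M.IsPrime] {χ : G → ℂ} (hχ : IsCharacter G χ) (g : G) :
    χ g ∈ O M := mem_O_of_isIntegral M (hχ.isIntegral g)

theorem irr_mem_O (M : Ideal AlgInt) [M.IsPrime] (χ : IrrCharacter G) (g : G) :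
    (χ : G → ℂ) g ∈ O M := char_mem_O M χ.2.isCharacter g

theorem conj_irr_mem_O (M : Ideal AlgInt) [M.IsPrime] (χ : IrrCharacter G) (g : G) :
    conj ((χ : G → ℂ) g) ∈ O M := char_mem_O M χ.2.isCharacter.conj g

theorem LI_char_mul_sub {χ : G → ℂ} (hχ : IsCharacter G χ) {x y : G}
    (hx : ∃ k : ℕ, orderOf x = p ^ k) (hc : Commute x y) : MemLocalIdeal M (χ (x * y) - χ y) := by
  refine char_induction (P := fun θ : Ce1 x → ℂ => MemLocalIdeal M
    (θ (⟨x, mem_Ce1.2 rfl⟩ * ⟨y, mem_Ce1.2 hc.symm⟩) - θ ⟨y, mem_Ce1.2 hc.symm⟩))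
    (hχ.res (Ce1 x)) ?_ ?_ ?_
  · simp only [Pi.zero_apply, sub_zero]; exact LI_zero
  · intro φ ψ h1 h2
    simp only [Pi.add_apply]
    convert LI_add h1 h2 using 1; ring
  · intro θ hθ
    obtain ⟨ω, h1, h2⟩ := exists_root_mul hθ (mem_center_Ce1 x)
    obtain ⟨k, hk⟩ := hx
    rw [← Subgroup.orderOf_coe, hk] at h1
    simp only [h2]
    rw [← sub_one_mul]
    exact LI_mul_right (LI_sub_one_of_pow_eq_one h1) (char_mem_O M hθ.isCharacter _)

theorem LI_gen_mul_sub {χ : G → ℂ} (hχ : IsGeneralizedCharacter G χ) {x y : G}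
    (hx : ∃ k : ℕ, orderOf x = p ^ k) (hc : Commute x y) : MemLocalIdeal M (χ (x * y) - χ y) := by
  obtain ⟨φ, ψ, hφ, hψ, rfl⟩ := hχ
  have := LI_sub (LI_char_mul_sub (M := M) hφ hx hc) (LI_char_mul_sub hψ hx hc)
  convert this using 1
  simp only [Pi.sub_apply]; ring

theorem charDegree_ne_zero (χ : IrrCharacter G) : charDegree (χ : G → ℂ) ≠ 0 := fun h =>
  χ.2.apply_one_ne_zero (by rw [← χ.2.isCharacter.cast_charDegree, h, Nat.cast_zero])

theorem cast_deg (χ : IrrCharacter G) : (charDegree (χ : G → ℂ) : ℂ) = (χ : G → ℂ) 1 :=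
  χ.2.isCharacter.cast_charDegree

theorem deg_dvd_card (χ : IrrCharacter G) : charDegree (χ : G → ℂ) ∣ Nat.card G :=
  χ.2.degree_dvd_card (cast_deg χ).symm

/-- The exponent of `p` in the degree. -/
noncomputable abbrev nu (p : ℕ) (χ : IrrCharacter G) : ℕ :=
  (charDegree (χ : G → ℂ)).factorization p

theorem nu_le (p : ℕ) (χ : IrrCharacter G) : nu p χ ≤ (Nat.card G).factorization p :=
  (Nat.factorization_le_iff_dvd (charDegree_ne_zero χ) Nat.card_pos.ne').2 (deg_dvd_card χ) p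

/-- The least exponent of `p` in the degrees of the members of `B`. -/
noncomputable abbrev mnu (p : ℕ) (B : Set (IrrCharacter G)) : ℕ :=
  sInf ((fun χ : IrrCharacter G => (charDegree (χ : G → ℂ)).factorization p) '' B)

omit [Finite G] in
theorem mnu_le (p : ℕ) {B : Set (IrrCharacter G)} {χ : IrrCharacter G} (h : χ ∈ B) :
    mnu p B ≤ nu p χ := Nat.sInf_le ⟨χ, h, rfl⟩

omit [Finite G] in
theorem exists_nu_eq_mnu (p : ℕ) {B : Set (IrrCharacter G)} (h : B.Nonempty) :
    ∃ χ ∈ B, nu p χ = mnu p B := Nat.sInf_mem (h.image _)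

omit [Finite G] in
theorem height_eq_zero_iff {B : Set (IrrCharacter G)} {χ : IrrCharacter G} (h : χ ∈ B) :
    blockHeight p B χ = 0 ↔ nu p χ = mnu p B := by
  have := mnu_le p h
  rw [blockHeight, Nat.sub_eq_zero_iff_le]
  exact ⟨fun h => le_antisymm h this, fun h => h.le⟩

omit [Finite G] in
theorem height_add_mnu {B : Set (IrrCharacter G)} {χ : IrrCharacter G} (h : χ ∈ B) :
    blockHeight p B χ + mnu p B = nu p χ := Nat.sub_add_cancel (mnu_le p h)

omit [Finite G] in
theorem exists_height_zero (p : ℕ) {B : Set (IrrCharacter G)} (h : B.Nonempty) :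
    ∃ χ ∈ B, blockHeight p B χ = 0 := by
  obtain ⟨χ, h1, h2⟩ := exists_nu_eq_mnu p h
  exact ⟨χ, h1, (height_eq_zero_iff h1).2 h2⟩

theorem defect_add_mnu {B : Set (IrrCharacter G)} (h : B.Nonempty) :
    blockDefect p B + mnu p B = (Nat.card G).factorization p := by
  obtain ⟨χ, -, h2⟩ := exists_nu_eq_mnu p h
  exact Nat.sub_add_cancel (h2.ge.trans (nu_le p χ))

theorem factorization_index_add (p : ℕ) (K : Subgroup G) :
    K.index.factorization p + (Nat.card K).factorization p = (Nat.card G).factorization p := by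
  rw [← K.index_mul_card, Nat.factorization_mul K.index_ne_zero_of_finite Nat.card_pos.ne']; rfl

theorem factorization_pow_self [hp : Fact p.Prime] (d : ℕ) : (p ^ d).factorization p = d := by
  rw [hp.out.factorization_pow, Finsupp.single_eq_same]

theorem nu_ge_of_centralChar (χ : IrrCharacter G) {g : G}
    (h : ¬ MemLocalIdeal M (centralChar (χ : G → ℂ) g)) :
    (Ce1 g).index.factorization p ≤ nu p χ := by
  by_contra hlt
  apply h
  rw [centralChar, mul_div_right_comm, ← cast_deg]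
  exact LI_mul_right ((LI_natDiv_iff (Subgroup.index_ne_zero_of_finite) (charDegree_ne_zero χ)).2
    (not_le.1 hlt)) (irr_mem_O M χ g)

open Classical in
/-- The idempotent coefficient at a `p`-regular element in terms of averages over a `p`-subgroup
of the centralizer. -/
theorem IsUB.blockCoeff_eq_avg {A : Set (IrrCharacter G)} (hA : IsUB M A) {g : G}
    (hg : ¬ p ∣ orderOf g) {D : Subgroup G} [Fintype D] (hD : IsPGroup p D) (hDg : D ≤ Ce1 g) :
    blockCoeff A g = ∑ χ : IrrCharacter G, if χ ∈ A then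
      ((Nat.card D * charDegree (χ : G → ℂ) : ℕ) : ℂ) / (Nat.card G : ℕ) *
        ((Nat.card D : ℂ)⁻¹ * ∑ u : D, conj ((χ : G → ℂ) (g * u))) else 0 := by
  haveI : Fact p.Prime := ⟨PMod.prime M⟩
  have h1 : ∀ χ : IrrCharacter G, (if χ ∈ A then
      ((Nat.card D * charDegree (χ : G → ℂ) : ℕ) : ℂ) / (Nat.card G : ℕ) *
        ((Nat.card D : ℂ)⁻¹ * ∑ u : D, conj ((χ : G → ℂ) (g * u))) else 0) =
      (Nat.card G : ℂ)⁻¹ * ∑ u : D, if χ ∈ A then
        (χ : G → ℂ) 1 * conj ((χ : G → ℂ) (g * u)) else 0 := fun χ => by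
    have := card_ne_zero' D
    split_ifs
    · rw [← Finset.mul_sum, Nat.cast_mul, cast_deg]; field_simp
    · simp
  simp only [h1, ← Finset.mul_sum]
  rw [blockCoeff_eq, Finset.sum_comm (t := Finset.univ (α := D)), Finset.sum_eq_single (1 : D)]
  · simp
  · intro u _ hu
    refine hA.weak_orthogonality preg_one ?_
    have hc : Commute (u : G) g := mem_Ce1.1 (hDg u.2)
    have h2 := isPPart_mul hc (pelt_of_mem hD u.2) hg
    rw [hc.eq] at h2
    by_contra h3
    exact hu (Subtype.ext (h2.eq_one_iff.2 h3))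
  · simp

end Cfsg.Agent.Blk

namespace Cfsg.IsPBlock

open Cfsg.Agent.Blk MonoidAlgebra Cfsg.Agent.Char
open scoped ComplexConjugate

variable {G : Type*} [Group G] [Finite G] {M : Ideal AlgInt} {p : ℕ} [PMod M p]
  {B : Set (IrrCharacter G)} {χ ψ : IrrCharacter G} {D : Subgroup G}

theorem index_eq_mnu (hB : IsPBlock M B) {g : G} (hg : IsDefectClass M B g) :
    (Ce1 g).index.factorization p = mnu p B := by
  classical
  haveI : Fact p.Prime := ⟨PMod.prime M⟩
  refine le_antisymm ?_ ?_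
  · obtain ⟨χ, h1, h2⟩ := exists_nu_eq_mnu p hB.nonempty
    exact h2 ▸ nu_ge_of_centralChar χ (hg.2.2 χ h1)
  · by_contra hlt
    obtain ⟨D, hD⟩ := exists_isSyl p (Ce1 g)
    have := Fintype.ofFinite D
    apply hg.2.1
    rw [hB.isUB.blockCoeff_eq_avg (hB.isUB.preg_of_coeff_bar (hB.coeff_bar_ne_zero_iff.2 hg.2.1))
      hD.pg hD.le]
    refine LI_sum _ _ fun χ _ => ?_
    split_ifs with hχ
    · refine LI_mul_right ((LI_natDiv_iff (mul_ne_zero Nat.card_pos.ne' (charDegree_ne_zero χ))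
        Nat.card_pos.ne').2 ?_) (mem_O_of_isIntegral M (isIntegral_avg χ.2.isCharacter.conj hD.le))
      rw [Nat.factorization_mul Nat.card_pos.ne' (charDegree_ne_zero χ), Finsupp.add_apply,
        hD.card_eq, factorization_pow_self, ← factorization_index_add p (Ce1 g)]
      have := mnu_le p hχ
      simp only [nu] at this
      omega
    · exact LI_zero

theorem card_Ce1_eq_defect (hB : IsPBlock M B) {g : G} (hg : IsDefectClass M B g) :
    (Nat.card (Ce1 g)).factorization p = blockDefect p B := by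
  have h1 := hB.index_eq_mnu hg
  have h2 := defect_add_mnu (p := p) hB.nonempty
  have h3 := factorization_index_add p (Ce1 g)
  omega

theorem card_defectGroup (hB : IsPBlock M B) (hD : IsDefectGroup p M B D) :
    Nat.card D = p ^ blockDefect p B := by
  haveI : Fact p.Prime := ⟨PMod.prime M⟩
  obtain ⟨g, hg, P, rfl⟩ := hD
  rw [(isSyl_map P).card_eq, hB.card_Ce1_eq_defect hg]

theorem card_isDef (hB : IsPBlock M B) (hD : IsDef p ⊤ (bar M B) D) :
    Nat.card D = p ^ blockDefect p B := hB.card_defectGroup (hB.isDefectGroup_iff.2 hD)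

theorem card_isDefS {K : Subgroup G} {b : Set (IrrCharacter K)} (hb : IsPBlock M b)
    (hD : IsDef p K (barS M K b) D) : Nat.card D = p ^ blockDefect p b := by
  obtain ⟨E, hE, rfl⟩ := hb.exists_isDefectGroup_map hD
  rw [Subgroup.card_subtype, hb.card_defectGroup hE]

theorem exists_isDefectGroup (hB : IsPBlock M B) : ∃ D, IsDefectGroup p M B D := by
  haveI : Fact p.Prime := ⟨PMod.prime M⟩
  obtain ⟨D, hD⟩ := hB.isBlock.exists_isDef p
  exact ⟨D, hB.isDefectGroup_iff.2 hD⟩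

theorem isDef_of_card (hB : IsPBlock M B) (hD : IsPGroup p D) (h : Br D (bar M B) ≠ 0)
    (hc : p ^ blockDefect p B ≤ Nat.card D) : IsDef p ⊤ (bar M B) D := by
  haveI : Fact p.Prime := ⟨PMod.prime M⟩
  obtain ⟨E, hE⟩ := hB.isBlock.exists_isDef p
  exact hE.of_card hB.isBlock.inv le_top hD h (by rwa [hB.card_isDef hE])

/-- At an element whose class size has the least valuation, central character and value of a
height zero character are units together. -/
theorem LI_centralChar_iff (hχ : χ ∈ B) (h0 : blockHeight p B χ = 0) {g : G}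
    (hg : (Ce1 g).index.factorization p = mnu p B) :
    MemLocalIdeal M (centralChar (χ : G → ℂ) g) ↔ MemLocalIdeal M ((χ : G → ℂ) g) := by
  rw [height_eq_zero_iff hχ, ← hg] at h0
  rw [centralChar, mul_div_right_comm, ← cast_deg, mul_comm, LI_mul_unit_iff]
  · exact (natDiv_mem_O_iff Subgroup.index_ne_zero_of_finite (charDegree_ne_zero χ)).2 h0.le
  · rw [LI_natDiv_iff Subgroup.index_ne_zero_of_finite (charDegree_ne_zero χ)]
    exact not_lt.2 h0.ge

end Cfsg.IsPBlock

namespace Cfsg.Agent.Blk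

open MonoidAlgebra Cfsg.Agent.Char
open scoped ComplexConjugate

variable {G : Type*} [Group G] [Finite G] {M : Ideal AlgInt} {p : ℕ}

/-- The restriction to `p`-regular elements, extended by zero. -/
noncomputable def reg (p : ℕ) (θ : G → ℂ) : G → ℂ := fun x => if p ∣ orderOf x then 0 else θ x

omit [Finite G] in
theorem isClassFunction_reg (p : ℕ) {θ : G → ℂ} (hθ : IsClassFunction G θ) :
    IsClassFunction G (reg p θ) := fun g x => by
  simp only [reg, orderOf_conj', hθ.apply_conj]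

/-- The `p`-part of the group order divided by the group order. -/
noncomputable def pu (p : ℕ) (G : Type*) : ℂ :=
  ((p ^ (Nat.card G).factorization p : ℕ) : ℂ) / (Nat.card G : ℕ)

theorem pu_mem (M : Ideal AlgInt) [PMod M p] (G : Type*) [Finite G] [Nonempty G] :
    pu p G ∈ O M := by
  haveI : Fact p.Prime := ⟨PMod.prime M⟩
  rw [pu, natDiv_mem_O_iff (pow_ne_zero _ (PMod.prime M).ne_zero) Nat.card_pos.ne',
    factorization_pow_self]

theorem not_LI_pu (M : Ideal AlgInt) [PMod M p] (G : Type*) [Finite G] [Nonempty G] :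
    ¬ MemLocalIdeal M (pu p G) := by
  haveI : Fact p.Prime := ⟨PMod.prime M⟩
  rw [pu, LI_natDiv_iff (pow_ne_zero _ (PMod.prime M).ne_zero) Nat.card_pos.ne',
    factorization_pow_self]
  exact lt_irrefl _

/-- The central element attached to the `p`-regular restriction of `θ`. -/
noncomputable def zr (p : ℕ) (θ : G → ℂ) : ℂ[G] := ofFun fun x => pu p G * reg p θ x⁻¹

theorem coeff_zr (θ : G → ℂ) (x : G) : (zr p θ).coeff x = pu p G * reg p θ x⁻¹ := coeff_ofFun _ _

theorem zr_mem {θ : G → ℂ} (hθ : IsClassFunction G θ) : zr p θ ∈ Z ℂ (⊤ : Subgroup G) :=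
  ofFun_mem_Z fun x g => by
    rw [show (x * g * x⁻¹)⁻¹ = x * g⁻¹ * x⁻¹ by group, (isClassFunction_reg p hθ).apply_conj]

theorem zr_add (θ φ : G → ℂ) : zr p (θ + φ) = zr p θ + zr p φ := ext' fun x => by
  simp only [coeff_add', coeff_zr, reg, Pi.add_apply]; split_ifs <;> ring

theorem zr_smul (c : ℂ) (θ : G → ℂ) : zr p (c • θ) = c • zr p θ := ext' fun x => by
  simp only [coeff_smul', coeff_zr, reg, Pi.smul_apply, smul_eq_mul]; split_ifs <;> ring

theorem zr_zero : zr p (0 : G → ℂ) = 0 := ext' fun x => by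
  simp only [coeff_zero', coeff_zr, reg, Pi.zero_apply, ite_self, mul_zero]

theorem zr_sum {ι : Type*} (s : Finset ι) (f : ι → G → ℂ) :
    zr p (∑ i ∈ s, f i) = ∑ i ∈ s, zr p (f i) := by
  classical
  induction s using Finset.induction_on with
  | empty => simp only [Finset.sum_empty, zr_zero]
  | insert a s ha ih => rw [Finset.sum_insert ha, Finset.sum_insert ha, zr_add, ih]

theorem zr_congr {θ φ : G → ℂ} (h : ∀ x, ¬ p ∣ orderOf x → θ x = φ x) : zr p θ = zr p φ :=
  ext' fun x => by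
    simp only [coeff_zr, reg]
    split_ifs with h1
    · rfl
    · rw [h _ h1]

theorem ch_zr [Fintype G] (χ θ : G → ℂ) :
    ch χ (zr p θ) = pu p G * ∑ x, reg p χ x * θ x⁻¹ := by
  rw [ch_eq_sum, Finset.mul_sum]
  refine Finset.sum_congr rfl fun x _ => ?_
  simp only [coeff_zr, reg, orderOf_inv]; split_ifs <;> ring

theorem ch_zr_comm (χ θ : G → ℂ) : ch χ (zr p θ) = ch θ (zr p χ) := by
  have := Fintype.ofFinite G
  rw [ch_zr, ch_zr, ← Equiv.sum_comp (Equiv.inv G)]
  congr 1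
  refine Finset.sum_congr rfl fun x _ => ?_
  simp only [reg, Equiv.inv_apply, orderOf_inv, inv_inv]; split_ifs <;> ring

theorem ch_zr_eq_classInner [Fintype G] (χ : G → ℂ) {θ : G → ℂ} (hθ : IsCharacter G θ) :
    ch χ (zr p θ) = classInner (fun x : G => if p ∣ orderOf x then (0 : ℂ) else
      ((p ^ (Nat.card G).factorization p : ℕ) : ℂ) * χ x) θ := by
  rw [ch_zr, classInner, pu, div_eq_inv_mul, mul_assoc, Finset.mul_sum]
  congr 1
  refine Finset.sum_congr rfl fun x _ => ?_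
  simp only [reg, hθ.apply_inv]; split_ifs <;> ring

theorem ch_zr_eq_reg [Fintype G] (χ : G → ℂ) {θ : G → ℂ} (hθ : IsCharacter G θ) :
    ch χ (zr p θ) = ((p ^ (Nat.card G).factorization p : ℕ) : ℂ) * classInner (reg p χ) θ := by
  rw [ch_zr, classInner, pu, div_eq_inv_mul]
  simp only [hθ.apply_inv]; ring

theorem rs_zr [Fact p.Prime] (K : Subgroup G) (θ : G → ℂ) :
    rs K (zr p θ) = (pu p G / pu p K) • zr p (fun h : K => θ h) := ext' fun x => by
  have h : pu p K ≠ 0 := div_ne_zero (Nat.cast_ne_zero.2 (pow_ne_zero _ (Fact.out : p.Prime).ne_zero))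
    (card_ne_zero' K)
  rw [coeff_rs, coeff_smul', coeff_zr, coeff_zr, reg, reg, ← Subgroup.coe_inv,
    Subgroup.orderOf_coe]
  field_simp

variable [PMod M p]

theorem isInt_zr {θ : G → ℂ} (hθ : ∀ x, ¬ p ∣ orderOf x → θ x ∈ O M) : IsInt M (zr p θ) :=
  fun x => by
    rw [coeff_zr, reg]
    split_ifs with h
    · rw [mul_zero]; exact zero_mem _
    · exact mul_mem (pu_mem M G) (hθ _ h)

theorem liftO_mem_Z {K : Subgroup G} {a : ℂ[G]} (ha : a ∈ Z ℂ K) (hi : IsInt M a) :
    liftO M a ∈ Z (O M) K := by rw [← toC_mem_Z_iff, toC_liftO hi]; exact ha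

theorem om_mem_O (χ : IrrCharacter G) {a : ℂ[G]} (ha : a ∈ Z ℂ (⊤ : Subgroup G))
    (hi : IsInt M a) : om χ a ∈ O M := by
  rw [← toC_liftO hi]; exact om_toC_mem_O χ.2 (liftO_mem_Z ha hi)

theorem LI_om_sub_om {χ ψ : IrrCharacter G} (h : blk M χ = blk M ψ) {a : ℂ[G]}
    (ha : a ∈ Z ℂ (⊤ : Subgroup G)) (hi : IsInt M a) : MemLocalIdeal M (om χ a - om ψ a) := by
  rw [← rd_eq_iff (om_mem_O χ ha hi) (om_mem_O ψ ha hi), ← toC_liftO hi,
    ← lam_blk χ (liftO_mem_Z ha hi), ← lam_blk ψ (liftO_mem_Z ha hi), h]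

theorem LI_om_congr {χ ψ : IrrCharacter G} (h : blk M χ = blk M ψ) {a : ℂ[G]}
    (ha : a ∈ Z ℂ (⊤ : Subgroup G)) (hi : IsInt M a) :
    MemLocalIdeal M (om χ a) ↔ MemLocalIdeal M (om ψ a) := by
  have := LI_om_sub_om h ha hi
  exact ⟨fun h1 => by simpa using LI_sub h1 this, fun h1 => by simpa using LI_add this h1⟩

theorem IsUB.blockPart_reg {A : Set (IrrCharacter G)} (hA : IsUB M A) {θ : G → ℂ}
    (hθ : IsClassFunction G θ) : blockPart A (reg p θ) = reg p (blockPart A θ) := by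
  classical
  haveI : Fact p.Prime := ⟨PMod.prime M⟩
  funext u
  obtain ⟨z, hz⟩ := exists_isPPart p u
  rw [reg]
  split_ifs with hu
  · refine hA.blockPart_eq_zero (x := z) (fun v w hw hc => ?_) hz (IsConj.refl z)
    rw [reg, if_pos]
    by_contra h
    rw [hw.eq_one_iff.2 h] at hc
    exact hz.eq_one_iff.1 (isConj_one_left.1 hc) hu
  · have h1 : blockPart A (θ - reg p θ) u = 0 := by
      refine hA.blockPart_eq_zero (x := 1) (fun v w hw hc => ?_) (isPPart_one_iff.2 hu)
        (IsConj.refl 1)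
      rw [Pi.sub_apply, reg, if_neg (hw.eq_one_iff.1 (isConj_one_right.1 hc)), sub_self]
    have h2 := isClassFunction_reg p hθ
    rw [blockPart_eq_ch (hθ.sub h2), sub_eq_add_neg, ch_add_left, ← neg_one_smul ℂ (reg p θ),
      ch_smul_left, ← blockPart_eq_ch hθ, ← blockPart_eq_ch h2] at h1
    linear_combination -h1

theorem classInner_blockPart [Fintype G] (A : Set (IrrCharacter G)) (θ : G → ℂ)
    (χ : IrrCharacter G) [Decidable (χ ∈ A)] :
    classInner (blockPart A θ) χ = if χ ∈ A then classInner θ χ else 0 := by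
  classical
  have : blockPart A θ = ∑ ψ : IrrCharacter G,
      (if ψ ∈ A then classInner θ ψ else 0) • (ψ : G → ℂ) := by
    funext g
    rw [blockPart_eq, Finset.sum_apply]
    exact Finset.sum_congr rfl fun ψ _ => by split_ifs <;> simp
  rw [this, classInner_sum_left, Finset.sum_eq_single χ]
  · rw [classInner_smul_left, χ.2.classInner_self, mul_one]; congr
  · intro ψ _ h
    rw [classInner_smul_left, classInner_irr, if_neg h, mul_zero]
  · simp

theorem blockPart_irr_of_notMem {A : Set (IrrCharacter G)} {χ : IrrCharacter G} (h : χ ∉ A) :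
    blockPart A (χ : G → ℂ) = 0 := funext fun g => by
  rw [blockPart_eq_ch χ.2.isClassFunction, ch_fC_mul_of_notMem h]; rfl

theorem blockPart_irr_of_mem {A : Set (IrrCharacter G)} {χ : IrrCharacter G} (h : χ ∈ A) :
    blockPart A (χ : G → ℂ) = χ := funext fun g => by
  rw [blockPart_eq_ch χ.2.isClassFunction, ch_fC_mul_of_mem h, ch_single, one_mul]

theorem classInner_reg_eq_zero [Fintype G] {χ ψ : IrrCharacter G} (h : blk M χ ≠ blk M ψ) :
    classInner (reg p χ.1) ψ.1 = 0 := by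
  classical
  have h1 := classInner_blockPart (blockOf M (ψ : G → ℂ)) (reg p χ.1) ψ
  rw [if_pos (mem_blockOf_self ψ), (isUB_blockOf ψ).blockPart_reg χ.2.isClassFunction,
    blockPart_irr_of_notMem (by rwa [mem_blockOf])] at h1
  rw [← h1, show reg p (0 : G → ℂ) = 0 from funext fun x => by simp [reg], classInner_zero_left]

theorem ch_zr_eq_zero {χ ψ : IrrCharacter G} (h : blk M χ ≠ blk M ψ) : ch χ (zr p ψ.1) = 0 := by
  have := Fintype.ofFinite G
  rw [ch_zr_eq_reg _ ψ.2.isCharacter, classInner_reg_eq_zero h, mul_zero]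

theorem om_zr_eq_zero {χ ψ : IrrCharacter G} (h : blk M χ ≠ blk M ψ) : om χ (zr p ψ.1) = 0 := by
  rw [om, ch_zr_eq_zero h, zero_div]

theorem isInt_zr_irr (χ : IrrCharacter G) : IsInt M (zr p χ.1) :=
  isInt_zr fun x _ => irr_mem_O M χ x

theorem om_zr_mem (M : Ideal AlgInt) [PMod M p] (χ ψ : IrrCharacter G) : om χ (zr p ψ.1) ∈ O M :=
  om_mem_O χ (zr_mem ψ.2.isClassFunction) (isInt_zr_irr ψ)

theorem om_zr_comm (χ ψ : IrrCharacter G) : om χ (zr p ψ.1) =
    om ψ (zr p χ.1) * ((charDegree (ψ : G → ℂ) : ℂ) / charDegree (χ : G → ℂ)) := by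
  rw [om, om, ch_zr_comm, cast_deg, cast_deg]
  have := ψ.2.apply_one_ne_zero
  field_simp

/-- The permutation character on a Sylow subgroup gives the identity element. -/
theorem zr_indFun_sylow [Fact p.Prime] [Fintype G] (P : Sylow p G) :
    zr p (indFun (P : Subgroup G) fun _ => 1) = 1 := by
  classical
  refine ext' fun x => ?_
  rw [coeff_zr, coeff_one', reg]
  split_ifs with h1 h2 h2
  · rw [← h2, inv_one] at h1; exact absurd h1 preg_one
  · exact mul_zero _
  · rw [← h2, inv_one, indFun_one, pu, ← P.card_eq_multiplicity,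
      ← (P : Subgroup G).index_mul_card]
    have := card_ne_zero' P
    have : ((P : Subgroup G).index : ℂ) ≠ 0 := Nat.cast_ne_zero.2 Subgroup.index_ne_zero_of_finite
    push_cast; field_simp
  · rw [indFun_eq_zero, mul_zero]
    intro y hy
    exfalso
    have := eq_one_of_pelt_of_preg (pelt_of_mem P.2 hy) (by rwa [orderOf_conj'])
    exact h2 (by simpa [eq_comm] using this)

theorem exists_not_LI_om_zr {θ : G → ℂ} [Fintype G] (hθ : IsGeneralizedCharacter G θ)
    (ξ : IrrCharacter G) (h : ¬ MemLocalIdeal M (om ξ (zr p θ))) :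
    ∃ χ : IrrCharacter G, ¬ MemLocalIdeal M (classInner θ χ) ∧
      ¬ MemLocalIdeal M (om ξ (zr p χ.1)) := by
  by_contra hn
  push Not at hn
  apply h
  rw [hθ.isClassFunction.eq_sum, zr_sum, om_sum]
  refine LI_sum _ _ fun χ _ => ?_
  rw [zr_smul, om_smul]
  by_cases h1 : MemLocalIdeal M (classInner θ χ)
  · exact LI_mul_right h1 (om_zr_mem M ξ χ)
  · obtain ⟨n, hn'⟩ := hθ.classInner_eq_int χ.2.isGen
    exact LI_mul_left (by rw [hn']; exact intCast_mem _ n) (hn χ h1)

end Cfsg.Agent.Blk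

namespace Cfsg.IsPBlock

open Cfsg.Agent.Blk MonoidAlgebra Cfsg.Agent.Char
open scoped ComplexConjugate

variable {G : Type*} [Group G] [Finite G] {M : Ideal AlgInt} {p : ℕ} [PMod M p]
  {B : Set (IrrCharacter G)} {χ ψ ξ : IrrCharacter G} {D : Subgroup G}

theorem mem_height_zero_of_not_LI (hB : IsPBlock M B) (hξ : ξ ∈ B)
    (h : ¬ MemLocalIdeal M (om ξ (zr p χ.1))) : χ ∈ B ∧ blockHeight p B χ = 0 := by
  have hχ : χ ∈ B := by
    by_contra hn
    refine h ?_
    rw [om_zr_eq_zero (M := M) fun h' => hn (hB.isUB ξ hξ χ h'.symm)]; exact LI_zero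
  refine ⟨hχ, ?_⟩
  obtain ⟨ψ, hψ, h1⟩ := exists_nu_eq_mnu p hB.nonempty
  rw [LI_om_congr ((hB.blk_eq hξ).trans (hB.blk_eq hψ).symm) (zr_mem χ.2.isClassFunction)
    (isInt_zr_irr χ), om_zr_comm] at h
  rw [height_eq_zero_iff hχ]
  refine le_antisymm (not_lt.1 fun hlt => h (LI_mul_left (om_zr_mem M _ _) ?_)) (mnu_le p hχ)
  rw [LI_natDiv_iff (charDegree_ne_zero χ) (charDegree_ne_zero ψ)]
  exact h1.trans_lt hlt

/-- The height zero characters of a block are detected by the central elements `zr`. -/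
theorem not_LI_om_zr_iff (hB : IsPBlock M B) (hξ : ξ ∈ B) :
    ¬ MemLocalIdeal M (om ξ (zr p χ.1)) ↔ χ ∈ B ∧ blockHeight p B χ = 0 := by
  refine ⟨hB.mem_height_zero_of_not_LI hξ, fun ⟨hχ, h0⟩ => ?_⟩
  haveI : Fact p.Prime := ⟨PMod.prime M⟩
  have := Fintype.ofFinite G
  obtain ⟨P⟩ : Nonempty (Sylow p G) := inferInstance
  obtain ⟨ψ, -, h1⟩ := exists_not_LI_om_zr (M := M) (isCharacter_one.ind (H := P)).isGen χ (by
    rw [zr_indFun_sylow, om_one χ.2]; exact not_LI_one)
  obtain ⟨hψ, h2⟩ := hB.mem_height_zero_of_not_LI hχ h1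
  rw [LI_om_congr ((hB.blk_eq hξ).trans (hB.blk_eq hψ).symm) (zr_mem χ.2.isClassFunction)
    (isInt_zr_irr χ), om_zr_comm]
  rw [height_eq_zero_iff hχ] at h0
  rw [height_eq_zero_iff hψ, ← h0] at h2
  rwa [LI_mul_unit_iff]
  · exact (natDiv_mem_O_iff (charDegree_ne_zero χ) (charDegree_ne_zero ψ)).2 h2.le
  · rw [LI_natDiv_iff (charDegree_ne_zero χ) (charDegree_ne_zero ψ)]
    exact not_lt.2 h2.ge

theorem ch_zr_ne_zero (hB : IsPBlock M B) (hξ : ξ ∈ B) (hχ : χ ∈ B)
    (h0 : blockHeight p B χ = 0) : ch ξ (zr p χ.1) ≠ 0 := fun h =>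
  (hB.not_LI_om_zr_iff hξ).2 ⟨hχ, h0⟩ (by rw [om, h, zero_div]; exact LI_zero)

/-- Blocks do not depend on the choice of the maximal ideal over `p`. -/
theorem of_pmod (hB : IsPBlock M B) (M' : Ideal AlgInt) [PMod M' p] : IsPBlock M' B := by
  have key : ∀ (M M' : Ideal AlgInt) [PMod M p] [PMod M' p] (χ ψ : IrrCharacter G),
      blk M χ = blk M ψ → blk M' χ = blk M' ψ := by
    intro M M' _ _ χ ψ h
    have hB := isPBlock_blockOf (M := M) ψ
    obtain ⟨ξ, hξ, h0⟩ := exists_height_zero p hB.nonempty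
    have h1 : ∀ φ ∈ blockOf M (ψ : G → ℂ), blk M' φ = blk M' ξ := fun φ hφ =>
      by_contra fun hn => hB.ch_zr_ne_zero hφ hξ h0 (ch_zr_eq_zero hn)
    rw [h1 χ (mem_blockOf.2 h), h1 ψ (mem_blockOf_self ψ)]
  obtain ⟨χ, rfl⟩ := hB
  refine ⟨χ, Set.ext fun ψ => ?_⟩
  rw [mem_blockOf, mem_blockOf]
  exact ⟨key M M' ψ χ, key M' M ψ χ⟩

end Cfsg.IsPBlock
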