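import Cfsg.Agent.Lib.Block.Homo

/-! Decomposition numbers, Cartan matrices and Brauer characters via primitive idempotents. -/

set_option autoImplicit false
set_option linter.unusedSectionVars false

namespace Cfsg.Agent.Blk

open MonoidAlgebra
open Cfsg.Agent.Char hiding cj cj_mul cj_inv_cj cj_cj_inv sum_cj_eq om
open scoped ComplexConjugate Matrix

variable {G : Type*} [Group G] [Finite G] {M : Ideal AlgInt} {p : ℕ} [PMod M p]
  {B : Set (IrrCharacter G)} {χ ψ : IrrCharacter G} {θ φ : G → ℂ} {ι ι' i j : (kk M)[G]}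
  {I D : Finset (kk M)[G]}

/-- the whole group algebra -/
noncomputable abbrev TA (M : Ideal AlgInt) [M.IsMaximal] (G : Type*) [Group G] :
    Subalgebra (kk M) (kk M)[G] := ⊤

theorem sup_Ce1_one {R : Type*} [CommRing R] : sup R (Ce1 (1 : G)) = ⊤ :=
  top_le_iff.1 fun a _ => by rw [Ce1_one]; exact mem_sup_top a

/-- the value of a class function at the lift of an idempotent -/
noncomputable def dc (θ : G → ℂ) (ι : (kk M)[G]) : ℂ := ch θ (toC M (il ⊤ ι))

theorem dc_eq_TT (θ : G → ℂ) (ι : (kk M)[G]) : dc θ ι = TT θ 1 ι := by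
  rw [TT, dc, Ce1_one, ← one_def, one_mul]

theorem il_top (hi : IsIdempotentElem ι) : IsIdempotentElem (il ⊤ ι) ∧ toK M (il ⊤ ι) = ι :=
  (il_spec (mem_sup_top _) hi).2

theorem dc_eq (hθ : IsClassFunction G θ) {e : (O M)[G]} (hi : IsIdempotentElem e) :
    dc θ (toK M e) = ch θ (toC M e) := by
  rw [dc_eq_TT, TT_eq' pelt_one hθ (by rw [sup_Ce1_one]; trivial) hi, ← one_def, one_mul]

theorem dc_eqv (hθ : IsClassFunction G θ) (h : Eqv (TA M G) ι ι') (hi : IsIdempotentElem ι)
    (hi' : IsIdempotentElem ι') : dc θ ι = dc θ ι' := by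
  rw [dc_eq_TT, dc_eq_TT, TT_eqv pelt_one hθ (by rwa [sup_Ce1_one]) hi hi']

theorem dc_zero (θ : G → ℂ) : dc θ (0 : (kk M)[G]) = 0 := by rw [dc_eq_TT, TT_zero]

theorem dc_one (hθ : IsClassFunction G θ) : dc θ (1 : (kk M)[G]) = θ 1 := by
  rw [← map_one (toK M), dc_eq hθ IsIdempotentElem.one, map_one, ch_one]

theorem dc_add (hθ : IsClassFunction G θ) (hi : IsIdempotentElem ι) (hi' : IsIdempotentElem ι')
    (h1 : ι * ι' = 0) (h2 : ι' * ι = 0) : dc θ (ι + ι') = dc θ ι + dc θ ι' := by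
  simp only [dc_eq_TT]
  exact TT_add pelt_one hθ (by rw [sup_Ce1_one]; trivial) (by rw [sup_Ce1_one]; trivial) hi hi' h1 h2

theorem Dec.dc_sum {S : Subalgebra (kk M) (kk M)[G]} (h : Dec S ι D) (hθ : IsClassFunction G θ) :
    dc θ ι = ∑ j ∈ D, dc θ j := by
  simp only [dc_eq_TT]
  rw [← h.sum]
  exact TT_sum pelt_one hθ D id (fun _ _ => by rw [sup_Ce1_one]; trivial)
    (fun j hj => (h.prim j hj).idem) h.orth

theorem dc_add_left (θ φ : G → ℂ) (ι : (kk M)[G]) : dc (θ + φ) ι = dc θ ι + dc φ ι :=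
  ch_add_left _ _ _

theorem dc_smul_left (c : ℂ) (θ : G → ℂ) (ι : (kk M)[G]) : dc (c • θ) ι = c * dc θ ι :=
  ch_smul_left _ _ _

theorem dc_sub_left (θ φ : G → ℂ) (ι : (kk M)[G]) : dc (θ - φ) ι = dc θ ι - dc φ ι := by
  rw [eq_sub_iff_add_eq, ← dc_add_left, sub_add_cancel]

theorem dc_zero_left (ι : (kk M)[G]) : dc (0 : G → ℂ) ι = 0 := ch_zero_left _

theorem dc_sum_left {α : Type*} (s : Finset α) (f : α → G → ℂ) (ι : (kk M)[G]) :
    dc (∑ a ∈ s, f a) ι = ∑ a ∈ s, dc (f a) ι := ch_sum_left _ _ _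

theorem ch_idem_eq_zero (hθ : IsClassFunction G θ) (h : ∀ x, ¬ p ∣ orderOf x → θ x = 0)
    {e : (O M)[G]} (hi : IsIdempotentElem e) : ch θ (toC M e) = 0 := by
  haveI : Fact p.Prime := ⟨PMod.prime M⟩
  have := Fintype.ofFinite G
  have h1 : ∀ g : G, ch θ (toC M e) = ∑ x, (e.coeff (g⁻¹ * x * g * 1⁻¹) : ℂ) * θ x := fun g => by
    rw [← ch_cj hθ g, ch_eq_sum]
    simp only [coeff_cj, coeff_toC, inv_one, mul_one]
  have h2 := Finset.sum_congr (rfl : (Finset.univ : Finset G) = _) fun g _ => h1 g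
  rw [Finset.sum_comm, Finset.sum_const, Finset.sum_eq_zero fun x _ => ?_, nsmul_eq_mul,
    mul_eq_zero] at h2
  · exact h2.resolve_left (by simp)
  rw [← Finset.sum_mul]
  by_cases hx : p ∣ orderOf x
  · obtain ⟨x', hx'⟩ := exists_isPPart p x
    rw [sum_coeff_eq_zero_of_idem hi (cj_one' e) hx' (isPPart_one_iff.2 preg_one)
      fun h => hx'.eq_one_iff.1 (isConj_one_left.1 h) hx, zero_mul]
  · rw [h x hx, mul_zero]

theorem ch_reg_idem (hθ : IsClassFunction G θ) {e : (O M)[G]} (hi : IsIdempotentElem e) :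
    ch (reg p θ) (toC M e) = ch θ (toC M e) := by
  have := ch_idem_eq_zero (hθ.sub (isClassFunction_reg p hθ))
    (fun x hx => by rw [Pi.sub_apply, reg_of_preg hx, sub_self]) hi
  rw [← sub_add_cancel θ (reg p θ), ch_add_left, this, zero_add, sub_add_cancel]

theorem dc_reg (hθ : IsClassFunction G θ) (hi : IsIdempotentElem ι) :
    dc (reg p θ) ι = dc θ ι := ch_reg_idem hθ (il_top hi).1

theorem commute_bar (B : Set (IrrCharacter G)) (a : (kk M)[G]) : Commute (bar M B) a :=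
  commute_of_mem (bar_mem B).2 (mem_sup_top a)

theorem idem_bar_mul (hB : IsUB M B) (hi : IsIdempotentElem ι) :
    IsIdempotentElem (bar M B * ι) := hB.bar_idem.mul_of_commute (commute_bar B ι) hi

theorem IsUB.dc_bar_mul (hB : IsUB M B) (hθ : IsClassFunction G θ) (hi : IsIdempotentElem ι) :
    dc θ (bar M B * ι) = dc (blockPart B θ) ι := by
  have := Fintype.ofFinite G
  classical
  obtain ⟨h1, h2⟩ := il_top hi
  have := dc_eq hθ (hB.fO_idem.mul_of_commute
    (commute_of_mem (fO_mem B).2 (mem_sup_top _)) h1)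
  rw [map_mul, map_mul, h2, toK_fO, hB.toC_fO, ch_fC_mul_eq hθ, sum_ite_fs] at this
  rw [this, blockPart_fs, dc_sum_left]
  exact Finset.sum_congr rfl fun χ _ => (dc_smul_left _ _ _).symm

theorem IsUB.dc_of_notMem (hB : IsUB M B) (hi : IsIdempotentElem ι) (h : bar M B * ι = ι)
    (hχ : χ ∉ B) : dc χ.1 ι = 0 := by
  rw [← h, hB.dc_bar_mul χ.2.isClassFunction hi, blockPart_irr_of_notMem hχ, dc_zero_left]

theorem isClassFunction_of_mem_regSpan (h : θ ∈ regSpan p B) : IsClassFunction G θ := by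
  induction h using Submodule.span_induction with
  | mem x hx => obtain ⟨χ, -, rfl⟩ := hx; exact isClassFunction_reg p χ.2.isClassFunction
  | zero => exact fun _ _ => rfl
  | add x y _ _ hx hy => exact hx.add hy
  | smul c x _ hx => exact hx.smul c

theorem reg_of_mem_regSpan (h : θ ∈ regSpan p B) : reg p θ = θ := by
  induction h using Submodule.span_induction with
  | mem x hx => obtain ⟨χ, -, rfl⟩ := hx; exact reg_reg _
  | zero => exact reg_zero
  | add x y _ _ hx hy => rw [reg_add, hx, hy]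
  | smul c x _ hx => rw [reg_smul, hx]

theorem IsUB.blockPart_of_mem (hB : IsUB M B) (h : θ ∈ regSpan p B) : blockPart B θ = θ := by
  rw [← reg_of_mem_regSpan h, hB.blockPart_reg (isClassFunction_of_mem_regSpan h),
    hB.reg_blockPart_of_mem h, reg_of_mem_regSpan h]

/-- decomposition numbers -/
noncomputable def dm (χ : IrrCharacter G) (ι : (kk M)[G]) : ℕ := ⌊(dc χ.1 ι).re⌋₊

theorem exists_nat_dc (hθ : IsCharacter G θ) (hi : IsIdempotentElem ι) : ∃ n : ℕ, dc θ ι = n :=
  exists_nat_ch_idem hθ ((il_top hi).1.map (toC M))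

theorem dm_cast (χ : IrrCharacter G) (hi : IsIdempotentElem ι) : (dm χ ι : ℂ) = dc χ.1 ι := by
  obtain ⟨n, hn⟩ := exists_nat_dc χ.2.isCharacter hi
  simp [dm, hn]

theorem eq_zero_of_dc (hθ : IsClassFunction G θ) (hr : reg p θ = θ)
    (h : ∀ j : (kk M)[G], IsIdempotentElem j → dc θ j = 0) : θ = 0 := by
  funext s
  by_cases hs : p ∣ orderOf s
  · rw [← hr, reg_of_dvd hs]; rfl
  have := Fintype.ofFinite (Subgroup.zpowers s)
  have h1 := congrFun (eq_sum_lc (W := Subgroup.zpowers s) (fun a b => mul_comm' a b)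
    fun b => θ b) ⟨s, Subgroup.mem_zpowers s⟩
  rw [h1, Finset.sum_apply]
  refine Finset.sum_eq_zero fun μ _ => ?_
  obtain ⟨j, -, h2, h3⟩ := exists_lin_idem M (L := Subgroup.zpowers s)
    (by rwa [Nat.card_zpowers]) μ
  have h4 := h _ (h2.map (toK M))
  rw [dc_eq hθ h2, h3] at h4
  simp only [map_smul, map_sum, ch_single, one_mul, smul_eq_mul] at h4
  rw [Pi.smul_apply, classInner, smul_eq_zero]
  left
  rw [← h4]
  simp [mul_comm]

theorem chR_toK_eq_zero {a : (O M)[G]} (h : ∀ χ : IrrCharacter G, ch χ.1 (toC M a) = 0)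
    {f : G → kk M} (hf : ∀ g h, f (g * h) = f (h * g)) : chR f (toK M a) = 0 := by
  have := Fintype.ofFinite G
  obtain ⟨s, hs⟩ := (res_surjective (M := M)).hasRightInverse
  have h1 : IsClassFunction G fun g => (s (f g) : ℂ) := fun g h => by
    simp only [hf (h * g), inv_mul_cancel_left]
  have h2 := ch_eq_sum_irr h1 (toC M a)
  simp only [h, mul_zero, Finset.sum_const_zero, ch_eq_sum, coeff_toC] at h2
  have h3 : ∑ g, a.coeff g * s (f g) = 0 := Subtype.ext (by simpa using h2)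
  have h4 := congrArg (res M) h3
  rw [map_sum, map_zero] at h4
  rw [chR_eq_sum, ← h4]
  exact Finset.sum_congr rfl fun g _ => by rw [map_mul, hs, coeff_toK, rd_coe]

theorem exists_trace_prim (hi : Prim (TA M G) i) : ∃ f : G → kk M, (∀ g h, f (g * h) = f (h * g)) ∧
    chR f i = 1 ∧ ∀ j, Prim (TA M G) j → ¬ Eqv (TA M G) j i → chR f j = 0 := by
  classical
  obtain ⟨D, hD⟩ := exists_dec (S := TA M G) (e := 1) trivial
    IsIdempotentElem.one
  let Φ : (kk M)[G] → kk M := fun j => if Eqv (TA M G) j i then 1 else 0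
  have hΦ : ∀ a b, Prim (TA M G) a → Prim (TA M G) b → Eqv (TA M G) a b → Φ a = Φ b := fun a b ha hb h => by
    simp only [Φ]
    congr 1
    exact propext ⟨fun h' => h.symm.trans h' hb.idem hi.idem, fun h' => h.trans h' ha.idem hi.idem⟩
  let τ : (kk M)[G] →ₗ[kk M] kk M :=
    { toFun a := ∑ j ∈ D, Φ j * rho (kk M) j a
      map_add' a b := by
        rw [← Finset.sum_add_distrib]
        exact Finset.sum_congr rfl fun j hj => by
          rw [(hD.prim j hj).rho_add trivial trivial, mul_add]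
      map_smul' c a := by
        rw [Finset.smul_sum]
        exact Finset.sum_congr rfl fun j hj => by
          rw [(hD.prim j hj).rho_smul c trivial]; simp [mul_left_comm] }
  have h1 : ∀ j, Prim (TA M G) j → τ j = Φ j := fun j hj => by
    have := hD.trace_comm (Dec.single hj) (Φ := Φ) (Ψ := Φ) (x := 1) (y := 1) (fun a ha b hb =>
      hΦ a b (hD.prim a ha) (Finset.mem_singleton.1 hb ▸ hj)) trivial trivial
    simpa [hj.rho_one, τ] using this
  refine ⟨fun g => τ (single g 1), fun g h => ?_, ?_, fun j hj h => ?_⟩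
  · have := hD.trace_comm hD (Φ := Φ) (Ψ := Φ) (x := single g 1) (y := single h 1)
      (fun a ha b hb => hΦ a b (hD.prim a ha) (hD.prim b hb)) trivial trivial
    simpa [single_mul_single, τ] using this
  · rw [← eq_chR, h1 i hi]; exact if_pos (Eqv.refl Algebra.mem_top hi.idem)
  · rw [← eq_chR, h1 j hj]; exact if_neg h

theorem dvd_of_sum_dm {α : Type*} [Fintype α] {f : α → (kk M)[G]} (h1 : ∀ a, Prim (TA M G) (f a))
    (h2 : ∀ a b, Eqv (TA M G) (f a) (f b) → a = b) {c : α → ℤ} {n : IrrCharacter G → ℤ}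
    {w : (O M)[G]} (hw : ∀ χ : IrrCharacter G, ch χ.1 (toC M w) = n χ)
    (h : ∀ χ : IrrCharacter G, ∑ a, c a * dm χ (f a) = p * n χ) (a : α) : (p : ℤ) ∣ c a := by
  obtain ⟨τ, t1, t2, t3⟩ := exists_trace_prim (h1 a)
  have h3 := chR_toK_eq_zero (a := ∑ a, (c a : O M) • il ⊤ (f a) - (p : O M) • w) (fun χ => by
    have := congrArg (Int.cast : ℤ → ℂ) (h χ)
    simp only [map_sub, map_sum, toC_smul, map_smul, hw, smul_eq_mul]
    push_cast at this ⊢
    rw [← this, sub_eq_zero]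
    exact Finset.sum_congr rfl fun a _ => by rw [dm_cast χ (h1 a).idem, dc]) t1
  simp only [map_sub, map_sum, toK_smul, map_smul, (il_top (h1 _).idem).2, smul_eq_mul] at h3
  rw [Finset.sum_eq_single a (fun b _ hb => by rw [t3 _ (h1 b) fun h => hb (h2 _ _ h), mul_zero])
    (by simp), t2] at h3
  push_cast at h3
  rwa [rd_natCast, CharP.cast_eq_zero, zero_mul, sub_zero, mul_one, rd_intCast,
    CharP.intCast_eq_zero_iff (kk M) p] at h3

theorem eq_zero_of_sum_dm {α : Type*} [Fintype α] {f : α → (kk M)[G]} (h1 : ∀ a, Prim (TA M G) (f a))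
    (h2 : ∀ a b, Eqv (TA M G) (f a) (f b) → a = b) {c : α → ℤ}
    (h : ∀ χ : IrrCharacter G, ∑ a, c a * dm χ (f a) = 0) : c = 0 := by
  have hp := PMod.prime M
  have key : ∀ n : ℕ, ∀ c : α → ℤ, (∀ χ : IrrCharacter G, ∑ a, c a * dm χ (f a) = 0) →
      ∀ a, (p : ℤ) ^ n ∣ c a := fun n => by
    induction n with
    | zero => simp
    | succ n ih =>
      intro c h a
      choose c' hc' using dvd_of_sum_dm h1 h2 (n := 0) (w := 0) (by simp) (by simpa using h)
      rw [hc', pow_succ']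
      refine mul_dvd_mul_left _ (ih c' (fun χ => ?_) a)
      have := h χ
      simp only [hc', mul_assoc, ← Finset.mul_sum, mul_eq_zero, Nat.cast_eq_zero] at this
      exact this.resolve_left hp.ne_zero
  funext a
  by_contra h0
  have := Int.natAbs_le_of_dvd_ne_zero (key (c a).natAbs c h a) h0
  rw [Int.natAbs_pow, Int.natAbs_natCast] at this
  exact absurd this (Nat.lt_pow_self hp.one_lt).not_ge

variable (B) in
/-- representatives of the points of a union of blocks -/
structure Pts (I : Finset (kk M)[G]) : Prop where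
  ub : IsUB M B
  prim : ∀ i ∈ I, Prim (TA M G) i
  mul : ∀ i ∈ I, bar M B * i = i
  uniq : ∀ i ∈ I, ∀ j ∈ I, Eqv (TA M G) i j → i = j
  ex : ∀ j, Prim (TA M G) j → bar M B * j = j → ∃ i ∈ I, Eqv (TA M G) j i

theorem IsUB.exists_pts (hB : IsUB M B) : ∃ I : Finset (kk M)[G], Pts B I := by
  classical
  obtain ⟨D, hD⟩ := exists_dec (S := TA M G) trivial hB.bar_idem
  let R : Finset (kk M)[G] → Prop := fun I => ∀ i ∈ I, ∀ j ∈ I, Eqv (TA M G) i j → i = j
  obtain ⟨I, hI, hm⟩ := (D.powerset.filter R).exists_max_image Finset.card ⟨∅, by simp [R]⟩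
  obtain ⟨h1, h2⟩ := Finset.mem_filter.1 hI
  rw [Finset.mem_powerset] at h1
  refine ⟨I, hB, fun i hi => hD.prim i (h1 hi), fun i hi => hD.mul_left (h1 hi), h2,
    fun j hj h => ?_⟩
  obtain ⟨j', hj', h3⟩ := hD.exists_eqv hj h
  by_contra! h4
  have h5 : ∀ i ∈ I, ¬ Eqv (TA M G) j' i := fun i hi h =>
    h4 i hi (h3.trans h hj.idem (hD.prim i (h1 hi)).idem)
  have h6 : j' ∉ I := fun h => h5 j' h (Eqv.refl Algebra.mem_top (hD.prim _ hj').idem)
  have := hm (insert j' I) (Finset.mem_filter.2 ⟨Finset.mem_powerset.2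
    (Finset.insert_subset hj' h1), fun a ha b hb hab => ?_⟩)
  · rw [Finset.card_insert_of_notMem h6] at this; omega
  rcases Finset.mem_insert.1 ha with rfl | ha' <;> rcases Finset.mem_insert.1 hb with rfl | hb'
  · rfl
  · exact absurd hab (h5 b hb')
  · exact absurd hab.symm (h5 a ha')
  · exact h2 a ha' b hb' hab

variable (B I) in
/-- the Cartan matrix -/
noncomputable def cart : Matrix I I ℤ := fun i j => ∑ χ ∈ fs B, (dm χ i.1 : ℤ) * dm χ j.1

variable (B) in
/-- projective indecomposable characters -/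
noncomputable def pim (i : (kk M)[G]) : G → ℂ := ∑ χ ∈ fs B, (dm χ i : ℂ) • χ.1

open Classical in
variable (B I) in
/-- irreducible Brauer characters -/
noncomputable def ibr (i : I) : G → ℂ :=
  ∑ j : I, ((cart B I).map (Int.cast : ℤ → ℂ))⁻¹ i j • pim B j.1

theorem cart_comm (i j : I) : cart B I i j = cart B I j i :=
  Finset.sum_congr rfl fun _ _ => mul_comm _ _

theorem isCharacter_pim (i : (kk M)[G]) : IsCharacter G (pim B i) :=
  IsCharacter.sum fun χ _ => by
    simpa [← Nat.cast_smul_eq_nsmul ℂ] using χ.2.isCharacter.nsmul (dm χ i)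

theorem classInner_pim [Fintype G] (hθ : IsClassFunction G θ) (hi : IsIdempotentElem i) :
    classInner θ (pim B i) = dc (blockPart B θ) i := by
  rw [blockPart_fs, dc_sum_left, pim, classInner_sum_right]
  exact Finset.sum_congr rfl fun χ _ => by
    rw [classInner_smul_right, dc_smul_left, Complex.conj_natCast, dm_cast χ hi, mul_comm]

theorem blockPart_pim (i : (kk M)[G]) : blockPart B (pim B i) = pim B i := by
  rw [pim, blockPart_sum]
  exact Finset.sum_congr rfl fun χ hχ => by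
    rw [blockPart_smul, blockPart_irr_of_mem (mem_fs.1 hχ)]

theorem IsUB.reg_pim (hB : IsUB M B) (hi : IsIdempotentElem i) : reg p (pim B i) = pim B i := by
  have := Fintype.ofFinite G
  have c := (isCharacter_pim (B := B) i).isClassFunction
  refine (isClassFunction_reg p c).ext_classInner c fun χ hχ => ?_
  rw [classInner_reg_comm, ← conj_classInner, ← conj_classInner χ,
    classInner_pim (isClassFunction_reg p hχ.isClassFunction) hi,
    classInner_pim hχ.isClassFunction hi, hB.blockPart_reg hχ.isClassFunction,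
    dc_reg (isClassFunction_blockPart _ _) hi]

theorem IsUB.pim_mem (hB : IsUB M B) (hi : IsIdempotentElem i) : pim B i ∈ regSpan p B := by
  rw [← hB.reg_pim hi, ← blockPart_pim]; exact reg_blockPart_mem _ _

theorem dc_pim (i : (kk M)[G]) (hj : IsIdempotentElem j) :
    dc (pim B i) j = (∑ χ ∈ fs B, (dm χ i : ℤ) * dm χ j : ℤ) := by
  rw [pim, dc_sum_left]
  push_cast
  exact Finset.sum_congr rfl fun χ _ => by rw [dc_smul_left, dm_cast χ hj]

namespace Pts

theorem idem (h : Pts B I) (i : I) : IsIdempotentElem i.1 := (h.prim i i.2).idem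

theorem dm_of_notMem (h : Pts B I) (hχ : χ ∉ B) (i : I) : dm χ i.1 = 0 := by
  rw [← Nat.cast_eq_zero (R := ℂ), dm_cast χ (h.idem i),
    h.ub.dc_of_notMem (h.idem i) (h.mul i i.2) hχ]

theorem eq_zero (h : Pts B I) {c : I → ℤ} (h1 : ∀ χ ∈ B, ∑ i, c i * dm χ i.1 = 0) : c = 0 :=
  eq_zero_of_sum_dm (fun i : I => h.prim i i.2)
    (fun a b hab => Subtype.ext (h.uniq _ a.2 _ b.2 hab)) fun χ => by
      by_cases hχ : χ ∈ B
      · exact h1 χ hχ
      · simp [h.dm_of_notMem hχ]

theorem quad (c c' : I → ℤ) : c ⬝ᵥ (cart B I).mulVec c' =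
    ∑ χ ∈ fs B, (∑ i, c i * dm χ i.1) * ∑ i, c' i * dm χ i.1 := by
  simp only [dotProduct, Matrix.mulVec, cart, Finset.sum_mul, Finset.mul_sum]
  rw [Finset.sum_comm]
  refine (Finset.sum_congr rfl fun j _ => Finset.sum_comm).trans (Finset.sum_comm.trans ?_)
  exact Finset.sum_congr rfl fun χ _ => Finset.sum_congr rfl fun j _ =>
    Finset.sum_congr rfl fun i _ => by ring

open Classical in
theorem det_ne_zero (h : Pts B I) : (cart B I).det ≠ 0 := fun h0 => by
  obtain ⟨v, hv, h1⟩ := Matrix.exists_mulVec_eq_zero_iff.2 h0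
  have h2 := quad (B := B) v v
  rw [h1, dotProduct_zero, eq_comm, Finset.sum_eq_zero_iff_of_nonneg
    fun _ _ => mul_self_nonneg _] at h2
  exact hv (h.eq_zero fun χ hχ => mul_self_eq_zero.1 (h2 χ (mem_fs.2 hχ)))

open Classical in
theorem isUnit_det (h : Pts B I) : IsUnit ((cart B I).map (Int.cast : ℤ → ℂ)).det := by
  rw [← Int.cast_det]; exact IsUnit.mk0 _ (by exact_mod_cast h.det_ne_zero)

theorem ibr_mem (h : Pts B I) (i : I) : ibr B I i ∈ regSpan p B :=
  Submodule.sum_mem _ fun j _ => Submodule.smul_mem _ _ (h.ub.pim_mem (h.idem j))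

theorem isClassFunction_ibr (h : Pts B I) (i : I) : IsClassFunction G (ibr B I i) :=
  isClassFunction_of_mem_regSpan (h.ibr_mem i)

open Classical in
theorem dc_ibr (h : Pts B I) (i j : I) : dc (ibr B I i) j.1 = if i = j then 1 else 0 := by
  have := congrFun (congrFun (Matrix.nonsing_inv_mul _ h.isUnit_det) i) j
  rw [Matrix.mul_apply, Matrix.one_apply] at this
  rw [← this, ibr, dc_sum_left]
  exact Finset.sum_congr rfl fun l _ => by rw [dc_smul_left, dc_pim _ (h.idem j)]; rfl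

theorem exists_mult (h : Pts B I) (hj : IsIdempotentElem j) : ∃ m : I → ℕ,
    (∀ θ, IsClassFunction G θ → dc (blockPart B θ) j = ∑ i : I, m i * dc θ i.1) ∧
    ∀ i : I, (∃ a b, a * j * b = i.1) → m i ≠ 0 := by
  classical
  obtain ⟨D, hD⟩ := exists_dec (S := TA M G) trivial
    (idem_bar_mul h.ub hj)
  have h0 : ∀ a ∈ D, bar M B * a = a := fun a ha => by
    rw [← hD.mul_left ha, ← mul_assoc, ← mul_assoc, h.ub.bar_idem.eq]
  have h1 : ∀ a : D, ∃ i : I, Eqv (TA M G) a.1 i.1 := fun a =>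
    let ⟨i, hi, h2⟩ := h.ex a (hD.prim a a.2) (h0 a a.2); ⟨⟨i, hi⟩, h2⟩
  choose r hr using h1
  refine ⟨fun i => (Finset.univ.filter fun a => r a = i).card, fun θ hθ => ?_,
    fun i ⟨a, b, hab⟩ => ?_⟩
  · rw [← h.ub.dc_bar_mul hθ hj, hD.dc_sum hθ, ← Finset.sum_coe_sort D,
      Finset.sum_congr rfl fun a _ => dc_eqv hθ (hr a) (hD.prim a a.2).idem (h.idem _),
      Finset.sum_comp (fun i : I => dc θ i.1) r,
      Finset.sum_subset (Finset.subset_univ _) fun i _ hi => ?_]
    · simp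
    · rw [Finset.card_eq_zero.2 (Finset.filter_eq_empty_iff.2 fun a _ h => hi
        (Finset.mem_image.2 ⟨a, Finset.mem_univ _, h⟩)), zero_smul]
  · have hi := h.prim i i.2
    obtain ⟨c, hc, h2⟩ := hi.exists_rho_ne_zero D (fun c => a * c * b) (fun _ _ => trivial) (by
      rw [← Finset.sum_mul, ← Finset.mul_sum, hD.sum, ← mul_assoc, ← (commute_bar B a).eq,
        mul_assoc _ a, mul_assoc _ _ b, hab, h.mul i i.2, hi.idem.eq])
    have h3 := (hi.eqv_of_rho (hD.prim c hc) trivial trivial h2).1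
    exact Finset.card_ne_zero.2 ⟨⟨c, hc⟩, Finset.mem_filter.2 ⟨Finset.mem_univ _,
      Subtype.ext (h.uniq _ (r _).2 _ i.2 ((h3.trans (hr ⟨c, hc⟩) hi.idem (h.idem _)).symm))⟩⟩

theorem eq_zero_of_mem (h : Pts B I) (hθ : θ ∈ regSpan p B) (h1 : ∀ i : I, dc θ i.1 = 0) :
    θ = 0 :=
  eq_zero_of_dc (M := M) (isClassFunction_of_mem_regSpan hθ) (reg_of_mem_regSpan hθ) fun j hj => by
    obtain ⟨m, hm, -⟩ := h.exists_mult hj
    rw [← h.ub.blockPart_of_mem hθ, hm θ (isClassFunction_of_mem_regSpan hθ)]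
    simp [h1]

theorem eq_sum (h : Pts B I) (hθ : θ ∈ regSpan p B) : θ = ∑ i : I, dc θ i.1 • ibr B I i := by
  classical
  rw [← sub_eq_zero]
  refine h.eq_zero_of_mem (Submodule.sub_mem _ hθ (Submodule.sum_mem _ fun i _ =>
    Submodule.smul_mem _ _ (h.ibr_mem i))) fun j => ?_
  simp [dc_sub_left, dc_sum_left, dc_smul_left, h.dc_ibr]

theorem reg_eq (h : Pts B I) (hχ : χ ∈ B) : reg p χ.1 = ∑ i : I, (dm χ i.1 : ℂ) • ibr B I i := by
  rw [h.eq_sum (reg_mem_regSpan hχ)]
  exact Finset.sum_congr rfl fun i _ => by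
    rw [dc_reg χ.2.isClassFunction (h.idem i), dm_cast χ (h.idem i)]

theorem linearIndependent (h : Pts B I) : LinearIndependent ℂ (ibr B I) := by
  classical
  rw [Fintype.linearIndependent_iff]
  intro c hc j
  simpa [dc_sum_left, dc_smul_left, h.dc_ibr, dc_zero_left] using congrArg (dc · j.1) hc

theorem card_eq (h : Pts B I) : I.card = blockRank p B := by
  rw [blockRank_eq, ← Fintype.card_coe, ← finrank_span_eq_card h.linearIndependent]
  suffices Submodule.span ℂ (Set.range (ibr B I)) = regSpan p B by rw [this]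
  refine le_antisymm (Submodule.span_le.2 (Set.range_subset_iff.2 h.ibr_mem)) fun θ hθ => ?_
  rw [h.eq_sum hθ]
  exact Submodule.sum_mem _ fun i _ => Submodule.smul_mem _ _ (Submodule.subset_span ⟨i, rfl⟩)

theorem exists_nat_dc_ibr (h : Pts B I) (i : I) (hj : IsIdempotentElem j) :
    ∃ n : ℕ, dc (ibr B I i) j = n ∧ ((∃ a b, a * j * b = i.1) → n ≠ 0) := by
  classical
  obtain ⟨m, hm, hm'⟩ := h.exists_mult hj
  refine ⟨m i, ?_, hm' i⟩
  rw [← h.ub.blockPart_of_mem (h.ibr_mem i), hm _ (h.isClassFunction_ibr i)]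
  simp [h.dc_ibr]

theorem exists_ibr_one (h : Pts B I) (i : I) : ∃ n : ℕ, n ≠ 0 ∧ ibr B I i 1 = n := by
  obtain ⟨n, h1, h2⟩ := h.exists_nat_dc_ibr i IsIdempotentElem.one
  exact ⟨n, h2 ⟨1, i, by simp⟩, by rw [← h1, dc_one (h.isClassFunction_ibr i)]⟩

theorem exists_nat_inner_ibr (h : Pts B I) (i : I) {L : Subgroup G} [Fintype L]
    (hL : ¬ p ∣ Nat.card L) (μ : L →* ℂˣ) :
    ∃ n : ℕ, (Nat.card L : ℂ)⁻¹ * ∑ b : L, conj (μ b : ℂ) * ibr B I i b = n := by
  obtain ⟨j, -, h2, h3⟩ := exists_lin_idem M hL μ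
  obtain ⟨n, hn, -⟩ := h.exists_nat_dc_ibr i (h2.map (toK M))
  rw [dc_eq (h.isClassFunction_ibr i) h2, h3] at hn
  exact ⟨n, by simpa only [map_smul, map_sum, ch_single, one_mul, smul_eq_mul] using hn⟩

theorem exists_gen (h : Pts B I) (i : I) : ∃ θ, IsGeneralizedCharacter G θ ∧
    blockPart B θ = θ ∧ reg p θ = ibr B I i := by
  haveI : Fact p.Prime := ⟨PMod.prime M⟩
  have c := h.isClassFunction_ibr i
  have h1 : IsGeneralizedCharacter G fun g => ibr B I i ((pp p g)⁻¹ * g) := by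
    refine brauer_char_split p (fun g x => ?_) fun Q L _ hQ hL hLQ μ => ?_
    · simp only [((pp_spec p g).conj x).pp_eq]
      rw [← c ((pp p g)⁻¹ * g) x]; congr 1; group
    · obtain ⟨n, hn⟩ := h.exists_nat_inner_ibr i hL μ
      have h2 : ∀ (a : Q) (b : L), pp p ((a : G) * b) = a := fun a b =>
        (isPPart_mul (mem_Ce.1 (hLQ b.2) _ a.2) (pelt_of_mem hQ a.2)
          fun h => hL (h.trans (Subgroup.orderOf_dvd_natCard L b.2))).pp_eq
      simp only [h2, inv_mul_cancel_left, hn]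
      simpa [Pi.smul_def] using (isCharacter_one (G := Q)).isGen.nsmul n
  refine ⟨_, isGen_blockPart B h1, blockPart_idem _ _, ?_⟩
  rw [← h.ub.blockPart_reg h1.isClassFunction, reg_congr (φ := ibr B I i) fun x hx => by
    simp [(isPPart_one_iff.2 hx).pp_eq], reg_of_mem_regSpan (h.ibr_mem i),
    h.ub.blockPart_of_mem (h.ibr_mem i)]

theorem exists_int_comb (h : Pts B I) (i : I) : ∃ c : IrrCharacter G → ℤ,
    ibr B I i = ∑ χ ∈ fs B, (c χ : ℂ) • reg p χ.1 := by
  have := Fintype.ofFinite G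
  obtain ⟨θ, h1, h2, h3⟩ := h.exists_gen i
  choose c hc using fun χ : IrrCharacter G => h1.classInner_eq_int χ.2.isGen
  refine ⟨c, ?_⟩
  rw [← h3, ← h2, blockPart_fs, reg_sum]
  exact Finset.sum_congr rfl fun χ _ => by rw [reg_smul, hc]

open Classical in
theorem classInner_ibr_pim [Fintype G] (h : Pts B I) (i j : I) :
    classInner (ibr B I i) (pim B j.1) = if i = j then 1 else 0 := by
  rw [classInner_pim (h.isClassFunction_ibr i) (h.idem j), h.ub.blockPart_of_mem (h.ibr_mem i),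
    h.dc_ibr]

theorem pim_eq (h : Pts B I) (i : I) : pim B i.1 = ∑ j : I, (cart B I i j : ℂ) • ibr B I j := by
  rw [h.eq_sum (h.ub.pim_mem (h.idem i))]
  exact Finset.sum_congr rfl fun j _ => by rw [dc_pim _ (h.idem j)]; rfl

open Classical in
theorem classInner_ibr [Fintype G] (h : Pts B I) (i j : I) :
    classInner (ibr B I i) (ibr B I j) = ((cart B I).map (Int.cast : ℤ → ℂ))⁻¹ i j := by
  have h1 : ∀ a b, conj (((cart B I).map (Int.cast : ℤ → ℂ))⁻¹ a b) =
      ((cart B I).map (Int.cast : ℤ → ℂ))⁻¹ b a := fun a b => by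
    have : ((cart B I).map (Int.cast : ℤ → ℂ))ᴴ = (cart B I).map (Int.cast : ℤ → ℂ) := by
      ext; simp [cart_comm]
    conv_rhs => rw [← this, ← Matrix.conjTranspose_nonsing_inv]
    rfl
  conv_lhs => rw [ibr.eq_1 B I j, classInner_sum_right]
  simp [classInner_smul_right, h.classInner_ibr_pim, h1]

theorem exists_int_inner [Fintype G] (h : Pts B I) (i j : I) :
    ∃ n : ℤ, (p : ℂ) ^ blockDefect p B * classInner (ibr B I i) (ibr B I j) = n := by
  haveI : Fact p.Prime := ⟨PMod.prime M⟩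
  obtain ⟨c, hc⟩ := h.exists_int_comb i
  obtain ⟨c', hc'⟩ := h.exists_int_comb j
  refine ⟨∑ χ ∈ fs B, ∑ ψ ∈ fs B, c χ * c' ψ * am p B χ ψ, ?_⟩
  rw [hc, hc', classInner_sum_left, Finset.mul_sum]
  push_cast
  refine Finset.sum_congr rfl fun χ hχ => ?_
  rw [classInner_sum_right, Finset.mul_sum]
  refine Finset.sum_congr rfl fun ψ _ => ?_
  rw [classInner_smul_left, classInner_smul_right, classInner_reg_reg, am_cast (mem_fs.1 hχ),
    map_intCast]
  ring

end Pts

end Cfsg.Agent.Blk
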