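import Cfsg.Agent.Lib.Block.Alg
import Mathlib.RingTheory.Artinian.Module
import Mathlib.RingTheory.Nilpotent.Basic
import Mathlib.FieldTheory.IsAlgClosed.Basic
import Mathlib.RingTheory.Finiteness.Basic
import Mathlib.RingTheory.Idempotents
import Mathlib.Tactic.NoncommRing

/-!
Blocks of a subgroup `H` as primitive idempotents of the centre of `k[H] ⊆ k[G]`, and their
central characters `lam`.
-/

namespace Cfsg.Agent.Blk

open MonoidAlgebra

section General
variable {A : Type*} [Ring A]

theorem idem_eq_zero_of_nilpotent {e : A} (he : IsIdempotentElem e) (h : IsNilpotent e) : e = 0 := by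
  obtain ⟨n, hn⟩ := h
  rcases n with _ | n
  · rw [pow_zero] at hn
    rw [← mul_one e, hn, mul_zero]
  · rwa [he.pow_succ_eq] at hn

/-- Commuting idempotents with nilpotent difference are equal. -/
theorem idem_eq_of_nilpotent_sub {e f : A} (he : IsIdempotentElem e) (hf : IsIdempotentElem f)
    (hc : Commute e f) (h : IsNilpotent (e - f)) : e = f := by
  have h1 : e * (e - f) = 0 := by
    apply idem_eq_zero_of_nilpotent
    · have : e * (e - f) = e * (1 - f) := by rw [mul_sub, mul_sub, he.eq, mul_one]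
      rw [this]
      exact he.mul_of_commute ((Commute.one_right e).sub_right hc) hf.one_sub
    · exact ((Commute.refl e).sub_right hc).isNilpotent_mul_left h
  have h2 : f * (f - e) = 0 := by
    apply idem_eq_zero_of_nilpotent
    · have : f * (f - e) = f * (1 - e) := by rw [mul_sub, mul_sub, hf.eq, mul_one]
      rw [this]
      exact hf.mul_of_commute ((Commute.one_right f).sub_right hc.symm) he.one_sub
    · refine ((Commute.refl f).sub_right hc.symm).isNilpotent_mul_left ?_
      rw [← neg_sub]; exact h.neg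
  rw [mul_sub, he.eq, sub_eq_zero] at h1
  rw [mul_sub, hf.eq, sub_eq_zero] at h2
  rw [h1, hc.eq, ← h2]

end General

variable {R : Type*} [CommRing R] {k : Type*} [Field k] {G : Type*} [Group G]

/-- `e` is a block (primitive central idempotent) of `R[H]`. -/
structure IsBlock (H : Subgroup G) (e : R[G]) : Prop where
  mem : e ∈ Z R H
  idem : IsIdempotentElem e
  ne : e ≠ 0
  prim : ∀ z ∈ Z R H, IsIdempotentElem z → z * e = 0 ∨ z * e = e

namespace IsBlock
variable {H : Subgroup G} {e f : R[G]}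

theorem sup (he : IsBlock H e) : e ∈ sup R H := he.mem.1
theorem inv (he : IsBlock H e) : e ∈ inv R H := he.mem.2
theorem mul_self (he : IsBlock H e) : e * e = e := he.idem

theorem eq_of_mul_ne_zero (he : IsBlock H e) (hf : IsBlock H f) (h : e * f ≠ 0) : e = f := by
  have h1 := (hf.prim e he.mem he.idem).resolve_left h
  have h2 := (he.prim f hf.mem hf.idem).resolve_left (by rwa [(Z_comm hf.mem he.mem).eq])
  rw [← h1, (Z_comm he.mem hf.mem).eq, h2]

theorem mul_eq_zero (he : IsBlock H e) (hf : IsBlock H f) (h : e ≠ f) : e * f = 0 := by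
  by_contra h1; exact h (he.eq_of_mul_ne_zero hf h1)

theorem cj (he : IsBlock H e) (x : G) : IsBlock (cs x H) (cj x e) := by
  refine ⟨cj_mem_Z x he.mem, he.idem.map (Blk.cj x), by simpa using he.ne, fun z hz hzi => ?_⟩
  have hz' : Blk.cj x⁻¹ z ∈ Z R H := by simpa using cj_mem_Z x⁻¹ hz
  rcases he.prim _ hz' (hzi.map (Blk.cj x⁻¹)) with h | h
  · left; simpa using congrArg (Blk.cj x) h
  · right; simpa using congrArg (Blk.cj x) h

theorem cj_of_mem_No (he : IsBlock H e) {x : G} (hx : x ∈ No H) : IsBlock H (Blk.cj x e) := by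
  have := he.cj x; rwa [mem_No.1 hx] at this

theorem cj_eq (he : IsBlock H e) {x : G} (hx : x ∈ H) : Blk.cj x e = e := he.inv x hx

theorem not_nilpotent (he : IsBlock H e) : ¬ IsNilpotent e := fun h =>
  he.ne (idem_eq_zero_of_nilpotent he.idem h)

theorem mul_eq_self_of_ne_zero (he : IsBlock H e) {z : R[G]} (hz : z ∈ Z R H)
    (hzi : IsIdempotentElem z) (h : z * e ≠ 0) : z * e = e := (he.prim z hz hzi).resolve_left h

end IsBlock

section Field

variable [Finite G]

instance instFiniteZ (H : Subgroup G) : Module.Finite k (Z k H) :=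
  Module.Finite.of_injective (Z k H).val.toLinearMap Subtype.val_injective

/-- Fitting's lemma in the centre. -/
theorem exists_idem_fitting {H : Subgroup G} {a : k[G]} (ha : a ∈ Z k H) :
    ∃ n : ℕ, ∃ b ∈ Z k H, IsIdempotentElem (a ^ (n + 1) * b) ∧
      a ^ (n + 1) * (a ^ (n + 1) * b) = a ^ (n + 1) := by
  have : IsArtinianRing (Z k H) := IsArtinianRing.of_finite k _
  obtain ⟨n, y, hy⟩ := IsArtinian.exists_pow_succ_smul_dvd (⟨a, ha⟩ : Z k H) (1 : Z k H)
  set a' : Z k H := ⟨a, ha⟩
  simp only [smul_eq_mul, mul_one, Nat.succ_eq_add_one] at hy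
  have key : ∀ m, a' ^ (n + m) * y ^ m = a' ^ n := by
    intro m
    induction m with
    | zero => simp
    | succ m ih => rw [← ih]; linear_combination (a' ^ m * y ^ m) * hy
  have h1 : a' ^ (n + 1) * (a' ^ (n + 1) * y ^ (n + 1)) = a' ^ (n + 1) := by
    linear_combination a' * key (n + 1)
  refine ⟨n, (y ^ (n + 1) : Z k H), (y ^ (n + 1)).2, ?_, congrArg Subtype.val h1⟩
  have h2 : IsIdempotentElem (a' ^ (n + 1) * y ^ (n + 1)) := by
    unfold IsIdempotentElem
    linear_combination y ^ (n + 1) * h1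
  exact congrArg Subtype.val h2

theorem IsBlock.nilpotent_or {H : Subgroup G} {e a : k[G]} (he : IsBlock H e) (ha : a ∈ Z k H) :
    IsNilpotent (a * e) ∨ ∃ b ∈ Z k H, a * b * e = e := by
  obtain ⟨n, b, hb, h1, h2⟩ := exists_idem_fitting ha
  rcases he.prim _ ((Z k H).mul_mem ((Z k H).pow_mem ha _) hb) h1 with h | h
  · left
    refine ⟨n + 1, ?_⟩
    rw [(Z_comm ha he.mem).mul_pow, he.idem.pow_succ_eq, ← h2, mul_assoc, h, mul_zero]
  · right
    refine ⟨a ^ n * b, (Z k H).mul_mem ((Z k H).pow_mem ha _) hb, ?_⟩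
    rwa [← mul_assoc, ← pow_succ']

theorem exists_block_mul_eq {H : Subgroup G} {z : k[G]} (hz : z ∈ Z k H)
    (hzi : IsIdempotentElem z) (hz0 : z ≠ 0) : ∃ e, IsBlock H e ∧ z * e = e := by
  let r : k[G] → ℕ := fun u => Module.finrank k (LinearMap.range (LinearMap.mulLeft k u))
  have hr : ∀ u v : k[G], IsIdempotentElem v → u * v = v → v * u = v → v ≠ u → r v < r u := by
    intro u v hv h1 h2 hne
    apply Submodule.finrank_lt_finrank_of_lt
    refine lt_of_le_of_ne ?_ fun heq => hne ?_
    · rintro _ ⟨w, rfl⟩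
      exact ⟨v * w, by simp [← mul_assoc, h1]⟩
    · have : u ∈ LinearMap.range (LinearMap.mulLeft k v) := heq ▸ ⟨1, by simp⟩
      obtain ⟨w, hw⟩ := this
      simp only [LinearMap.mulLeft_apply] at hw
      calc v = v * u := h2.symm
        _ = u := by rw [← hw, ← mul_assoc, hv.eq]
  induction hn : r z using Nat.strong_induction_on generalizing z with | _ n ih =>
  by_cases hb : ∀ u ∈ Z k H, IsIdempotentElem u → u * z = 0 ∨ u * z = z
  · exact ⟨z, ⟨hz, hzi, hz0, hb⟩, hzi⟩
  push Not at hb
  obtain ⟨u, hu, hui, h0, h1⟩ := hb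
  have hc := Z_comm hu hz
  have hvi : IsIdempotentElem (u * z) := hui.mul_of_commute hc hzi
  have h2 : z * (u * z) = u * z := by rw [← mul_assoc, ← hc.eq, mul_assoc, hzi.eq]
  have h3 : u * z * z = u * z := by rw [mul_assoc, hzi.eq]
  obtain ⟨e, he, h4⟩ := ih _ (hn ▸ hr z (u * z) hvi h2 h3 h1) ((Z k H).mul_mem hu hz) hvi h0 rfl
  exact ⟨e, he, by rw [← h4, ← mul_assoc, h2]⟩

theorem exists_isBlock (k : Type*) [Field k] (H : Subgroup G) : ∃ e : k[G], IsBlock H e := by
  obtain ⟨e, he, -⟩ := exists_block_mul_eq (Z k H).one_mem IsIdempotentElem.one one_ne_zero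
  exact ⟨e, he⟩

theorem finite_blocks (H : Subgroup G) : {e : k[G] | IsBlock H e}.Finite := by
  have : LinearIndependent k (Subtype.val : {e : k[G] | IsBlock H e} → k[G]) := by
    rw [linearIndependent_iff']
    intro s c hc i hi
    have h1 := congrArg (· * i.1) hc
    simp only [Finset.sum_mul, zero_mul, smul_mul_assoc] at h1
    rw [Finset.sum_eq_single i] at h1
    · rw [IsBlock.mul_self i.2] at h1
      exact (smul_eq_zero.1 h1).resolve_right (IsBlock.ne i.2)
    · intro j _ hj
      rw [IsBlock.mul_eq_zero j.2 i.2 (fun h => hj (Subtype.ext h)), smul_zero]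
    · intro h; exact (h hi).elim
  exact this.finite_of_isNoetherian

variable (k) in
/-- The finite set of blocks of `H`. -/
noncomputable def blocks (H : Subgroup G) : Finset k[G] := (finite_blocks H).toFinset

@[simp] theorem mem_blocks {H : Subgroup G} {e : k[G]} : e ∈ blocks k H ↔ IsBlock H e := by
  simp [blocks]

theorem sum_blocks_mem {H : Subgroup G} {s : Finset k[G]} (hs : ∀ e ∈ s, IsBlock H e) :
    ∑ e ∈ s, e ∈ Z k H := (Z k H).sum_mem fun e he => (hs e he).mem

theorem sum_blocks_mul_of_mem {H : Subgroup G} {s : Finset k[G]} (hs : ∀ e ∈ s, IsBlock H e)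
    {f : k[G]} (hf : f ∈ s) : (∑ e ∈ s, e) * f = f := by
  rw [Finset.sum_mul, Finset.sum_eq_single f]
  · exact (hs f hf).mul_self
  · intro e he hne; exact (hs e he).mul_eq_zero (hs f hf) hne
  · intro h; exact (h hf).elim

theorem sum_blocks_mul_of_notMem {H : Subgroup G} {s : Finset k[G]} (hs : ∀ e ∈ s, IsBlock H e)
    {f : k[G]} (hf : IsBlock H f) (hfs : f ∉ s) : (∑ e ∈ s, e) * f = 0 := by
  rw [Finset.sum_mul]
  apply Finset.sum_eq_zero
  intro e he
  exact (hs e he).mul_eq_zero hf (by rintro rfl; exact hfs he)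

theorem sum_blocks_idem {H : Subgroup G} {s : Finset k[G]} (hs : ∀ e ∈ s, IsBlock H e) :
    IsIdempotentElem (∑ e ∈ s, e) := by
  unfold IsIdempotentElem
  rw [Finset.mul_sum]
  exact Finset.sum_congr rfl fun f hf => sum_blocks_mul_of_mem hs hf

theorem sum_blocks (H : Subgroup G) : ∑ e ∈ blocks k H, e = 1 := by
  have hs : ∀ e ∈ blocks k H, IsBlock H e := fun e he => mem_blocks.1 he
  by_contra hne
  obtain ⟨e, he, h⟩ := exists_block_mul_eq ((Z k H).sub_mem (Z k H).one_mem (sum_blocks_mem hs))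
    (sum_blocks_idem hs).one_sub (sub_ne_zero.2 (Ne.symm hne))
  rw [sub_mul, one_mul, sum_blocks_mul_of_mem hs (mem_blocks.2 he), sub_self] at h
  exact he.ne h.symm

theorem eq_sum_mul_blocks (H : Subgroup G) (a : k[G]) : a = ∑ e ∈ blocks k H, a * e := by
  rw [← Finset.mul_sum, sum_blocks, mul_one]

theorem eq_sum_blocks_mul (H : Subgroup G) (a : k[G]) : a = ∑ e ∈ blocks k H, e * a := by
  rw [← Finset.sum_mul, sum_blocks, one_mul]

theorem eq_zero_of_forall_block (H : Subgroup G) {a : k[G]}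
    (h : ∀ e, IsBlock H e → a * e = 0) : a = 0 := by
  rw [eq_sum_mul_blocks H a]
  exact Finset.sum_eq_zero fun e he => h e (mem_blocks.1 he)

theorem exists_block_mul_ne_zero (H : Subgroup G) {a : k[G]} (ha : a ≠ 0) :
    ∃ e, IsBlock H e ∧ a * e ≠ 0 := by
  by_contra hc
  push Not at hc
  exact ha (eq_zero_of_forall_block H hc)

theorem exists_block_mul_ne_zero' (H : Subgroup G) {a : k[G]} (ha : a ≠ 0) :
    ∃ e, IsBlock H e ∧ e * a ≠ 0 := by
  by_contra hc
  push Not at hc
  apply ha
  rw [eq_sum_blocks_mul H a]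
  exact Finset.sum_eq_zero fun e he => hc e (mem_blocks.1 he)

open Classical in
theorem idem_eq_sum {H : Subgroup G} {z : k[G]} (hz : z ∈ Z k H) (hzi : IsIdempotentElem z) :
    z = ∑ e ∈ (blocks k H).filter (fun e => z * e = e), e := by
  conv_lhs => rw [eq_sum_mul_blocks H z]
  rw [Finset.sum_filter]
  apply Finset.sum_congr rfl
  intro e he
  split_ifs with h
  · exact h
  · exact ((mem_blocks.1 he).prim z hz hzi).resolve_right h

/-- Two central idempotents that contain the same blocks are equal. -/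
theorem idem_ext {H : Subgroup G} {z w : k[G]} (hz : z ∈ Z k H) (hzi : IsIdempotentElem z)
    (hw : w ∈ Z k H) (hwi : IsIdempotentElem w)
    (h : ∀ e, IsBlock H e → (z * e = e ↔ w * e = e)) : z = w := by
  rw [idem_eq_sum hz hzi, idem_eq_sum hw hwi]
  congr 1
  ext e
  simp only [Finset.mem_filter, mem_blocks]
  exact and_congr_right (h e)

theorem nilpotent_of_forall_block {H : Subgroup G} {a : k[G]} (ha : a ∈ Z k H)
    (h : ∀ e, IsBlock H e → IsNilpotent (a * e)) : IsNilpotent a := by
  rw [eq_sum_mul_blocks H a]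
  apply Commute.isNilpotent_sum (fun e he => h e (mem_blocks.1 he))
  intro e f he hf
  exact Z_comm ((Z k H).mul_mem ha (mem_blocks.1 he).mem) ((Z k H).mul_mem ha (mem_blocks.1 hf).mem)

end Field

/-! ### The central character of a block -/

open Classical in
/-- The value of the central character of the block `e` at `z`. -/
@[irreducible] noncomputable def lam (e z : k[G]) : k :=
  if h : ∃ c : k, IsNilpotent ((z - algebraMap k _ c) * e) then h.choose else 0

theorem lam_eq {e z : k[G]} (he : IsIdempotentElem e) (he0 : e ≠ 0) (hc : Commute z e) {c : k}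
    (h : IsNilpotent ((z - algebraMap k _ c) * e)) : lam e z = c := by
  have hex : ∃ c : k, IsNilpotent ((z - algebraMap k _ c) * e) := ⟨c, h⟩
  rw [lam, dif_pos hex]
  have h1 := hex.choose_spec
  set d := hex.choose
  by_contra hne
  have hcom : ∀ a : k, Commute (z - algebraMap k _ a) e := fun a =>
    hc.sub_left (Algebra.commutes a e)
  have hcom2 : Commute (z - algebraMap k k[G] c) (z - algebraMap k _ d) :=
    ((Commute.refl z).sub_right (Algebra.commutes d z).symm).sub_left (Algebra.commutes c _)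
  have h2 := Commute.isNilpotent_sub
    ((hcom2.mul_right (hcom c)).mul_left ((hcom d).symm.mul_right (Commute.refl e))) h h1
  have h3 : (z - algebraMap k k[G] c) * e - (z - algebraMap k _ d) * e = (d - c) • e := by
    rw [Algebra.smul_def, map_sub]; noncomm_ring
  rw [h3] at h2
  have h4 := h2.smul (d - c)⁻¹
  rw [smul_smul, inv_mul_cancel₀ (sub_ne_zero.2 hne), one_smul] at h4
  exact he0 (idem_eq_zero_of_nilpotent he h4)

namespace IsBlock

variable {H : Subgroup G} {e f z w : k[G]}

theorem lam_eq (he : IsBlock H e) (hz : z ∈ Z k H) {c : k}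
    (h : IsNilpotent ((z - algebraMap k _ c) * e)) : lam e z = c :=
  Blk.lam_eq he.idem he.ne (Z_comm hz he.mem) h

theorem lam_algebraMap (he : IsBlock H e) (c : k) : lam e (algebraMap k _ c) = c :=
  he.lam_eq ((Z k H).algebraMap_mem c) (by simp)

theorem lam_one (he : IsBlock H e) : lam e 1 = 1 := by
  simpa only [map_one] using he.lam_algebraMap 1

theorem lam_zero (he : IsBlock H e) : lam e 0 = 0 := by simpa using he.lam_algebraMap 0

theorem lam_eq_zero_of_nilpotent (he : IsBlock H e) (hz : z ∈ Z k H) (h : IsNilpotent (z * e)) :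
    lam e z = 0 := he.lam_eq hz (by simpa using h)

theorem lam_eq_zero_of_nilpotent' (he : IsBlock H e) (hz : z ∈ Z k H) (h : IsNilpotent z) :
    lam e z = 0 :=
  he.lam_eq_zero_of_nilpotent hz ((Z_comm hz he.mem).isNilpotent_mul_right h)

theorem lam_eq_zero_of_mul (he : IsBlock H e) (hz : z ∈ Z k H) (h : z * e = 0) :
    lam e z = 0 := he.lam_eq_zero_of_nilpotent hz (by rw [h]; exact IsNilpotent.zero)

theorem lam_eq_one_of_mul (he : IsBlock H e) (hz : z ∈ Z k H) (h : z * e = e) :
    lam e z = 1 := he.lam_eq hz (by rw [map_one, sub_mul, one_mul, h, sub_self]; exact IsNilpotent.zero)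

theorem lam_self (he : IsBlock H e) : lam e e = 1 := he.lam_eq_one_of_mul he.mem he.idem

theorem lam_of_ne (he : IsBlock H e) (hf : IsBlock H f) (h : f ≠ e) : lam e f = 0 :=
  he.lam_eq_zero_of_mul hf.mem (hf.mul_eq_zero he h)

theorem lam_idem_eq_one_iff (he : IsBlock H e) (hz : z ∈ Z k H) (hzi : IsIdempotentElem z) :
    lam e z = 1 ↔ z * e = e := by
  refine ⟨fun h => (he.prim z hz hzi).resolve_left fun h0 => ?_, he.lam_eq_one_of_mul hz⟩
  rw [he.lam_eq_zero_of_mul hz h0] at h
  exact zero_ne_one h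

theorem lam_idem_eq_zero_iff (he : IsBlock H e) (hz : z ∈ Z k H) (hzi : IsIdempotentElem z) :
    lam e z = 0 ↔ z * e = 0 := by
  refine ⟨fun h => (he.prim z hz hzi).resolve_right fun h0 => ?_, he.lam_eq_zero_of_mul hz⟩
  rw [he.lam_eq_one_of_mul hz h0] at h
  exact one_ne_zero h

theorem lam_idem_ne_zero_iff (he : IsBlock H e) (hz : z ∈ Z k H) (hzi : IsIdempotentElem z) :
    lam e z ≠ 0 ↔ z * e = e := by
  refine ⟨fun h => (he.prim z hz hzi).resolve_left fun h0 => h (he.lam_eq_zero_of_mul hz h0),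
    fun h => ?_⟩
  rw [he.lam_eq_one_of_mul hz h]; exact one_ne_zero

theorem eq_of_lam_ne_zero (he : IsBlock H e) (hf : IsBlock H f) (h : lam e f ≠ 0) : f = e := by
  by_contra hne; exact h (he.lam_of_ne hf hne)

variable [Finite G] [IsAlgClosed k]

theorem lam_spec (he : IsBlock H e) (hz : z ∈ Z k H) :
    IsNilpotent ((z - algebraMap k _ (lam e z)) * e) := by
  have hex : ∃ c : k, IsNilpotent ((z - algebraMap k _ c) * e) := by
    by_contra hc
    push Not at hc
    have h1 : ∀ c : k, ∃ b ∈ Z k H, (z - algebraMap k _ c) * b * e = e := fun c =>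
      (he.nilpotent_or ((Z k H).sub_mem hz ((Z k H).algebraMap_mem c))).resolve_left (hc c)
    let z' : Z k H := ⟨z, hz⟩
    let e' : Z k H := ⟨e, he.mem⟩
    have h2 : ∀ s : Multiset k, ∃ b : Z k H,
        (s.map fun c => z' - algebraMap k _ c).prod * b * e' = e' := by
      intro s
      induction s using Multiset.induction_on with
      | empty => exact ⟨1, by simp⟩
      | cons c s ih =>
        obtain ⟨b, hb⟩ := ih
        obtain ⟨b1, hb1, h3⟩ := h1 c
        have h4 : (z' - algebraMap k _ c) * ⟨b1, hb1⟩ * e' = e' := Subtype.ext h3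
        refine ⟨b * ⟨b1, hb1⟩, ?_⟩
        rw [Multiset.map_cons, Multiset.prod_cons]
        linear_combination ((Multiset.map (fun c => z' - algebraMap k _ c) s).prod * b) * h4 + hb
    have hint : IsIntegral k z' := Algebra.IsIntegral.isIntegral z'
    have hsp := (IsAlgClosed.splits (minpoly k z')).eq_prod_roots_of_monic (minpoly.monic hint)
    have h5 := minpoly.aeval k z'
    rw [hsp, map_multiset_prod, Multiset.map_map] at h5
    obtain ⟨b, hb⟩ := h2 (minpoly k z').roots
    simp only [Function.comp_def, map_sub, Polynomial.aeval_X, Polynomial.aeval_C] at h5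
    rw [h5, zero_mul, zero_mul] at hb
    exact he.ne (congrArg Subtype.val hb).symm
  rw [lam, dif_pos hex]
  exact hex.choose_spec

theorem lam_add (he : IsBlock H e) (hz : z ∈ Z k H) (hw : w ∈ Z k H) :
    lam e (z + w) = lam e z + lam e w := by
  apply he.lam_eq ((Z k H).add_mem hz hw)
  have h := Commute.isNilpotent_add (Z_comm
    ((Z k H).mul_mem ((Z k H).sub_mem hz ((Z k H).algebraMap_mem _)) he.mem)
    ((Z k H).mul_mem ((Z k H).sub_mem hw ((Z k H).algebraMap_mem _)) he.mem))
    (he.lam_spec hz) (he.lam_spec hw)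
  convert h using 1
  rw [map_add]; noncomm_ring

theorem lam_mul (he : IsBlock H e) (hz : z ∈ Z k H) (hw : w ∈ Z k H) :
    lam e (z * w) = lam e z * lam e w := by
  apply he.lam_eq ((Z k H).mul_mem hz hw)
  have hz' := (Z k H).mul_mem ((Z k H).sub_mem hz ((Z k H).algebraMap_mem (lam e z))) he.mem
  have hw' := (Z k H).mul_mem ((Z k H).sub_mem hw ((Z k H).algebraMap_mem (lam e w))) he.mem
  have h := Commute.isNilpotent_add (Z_comm ((Z k H).mul_mem hz hw') ((Z k H).smul_mem hz' _))
    ((Z_comm hz hw').isNilpotent_mul_left (he.lam_spec hw)) ((he.lam_spec hz).smul (lam e w))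
  convert h using 1
  simp only [Algebra.algebraMap_eq_smul_one, sub_mul, mul_sub, smul_mul_assoc, one_mul,
    mul_smul_comm, smul_sub, smul_smul, mul_assoc, mul_comm (lam e z)]
  abel

/-- The central character as an algebra homomorphism. -/
noncomputable def lamHom (he : IsBlock H e) : Z k H →ₐ[k] k where
  toFun z := lam e z
  map_one' := he.lam_one
  map_mul' z w := he.lam_mul z.2 w.2
  map_zero' := he.lam_zero
  map_add' z w := he.lam_add z.2 w.2
  commutes' c := he.lam_algebraMap c

theorem lam_smul (he : IsBlock H e) (c : k) (hz : z ∈ Z k H) : lam e (c • z) = c * lam e z :=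
  map_smul he.lamHom c ⟨z, hz⟩

theorem lam_sub (he : IsBlock H e) (hz : z ∈ Z k H) (hw : w ∈ Z k H) :
    lam e (z - w) = lam e z - lam e w := map_sub he.lamHom ⟨z, hz⟩ ⟨w, hw⟩

theorem lam_pow (he : IsBlock H e) (hz : z ∈ Z k H) (n : ℕ) : lam e (z ^ n) = lam e z ^ n :=
  map_pow he.lamHom ⟨z, hz⟩ n

theorem lam_sum (he : IsBlock H e) {ι : Type*} (s : Finset ι) (f : ι → k[G])
    (hf : ∀ i ∈ s, f i ∈ Z k H) : lam e (∑ i ∈ s, f i) = ∑ i ∈ s, lam e (f i) := by
  classical
  induction s using Finset.induction_on with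
  | empty => simpa using he.lam_zero
  | insert a s ha ih =>
    rw [Finset.sum_insert ha, Finset.sum_insert ha, he.lam_add (hf a (by simp))
      ((Z k H).sum_mem fun i hi => hf i (by simp [hi])), ih fun i hi => hf i (by simp [hi])]

theorem lam_mul_self (he : IsBlock H e) (hz : z ∈ Z k H) : lam e (z * e) = lam e z := by
  rw [he.lam_mul hz he.mem, he.lam_self, mul_one]

theorem lam_eq_zero_iff (he : IsBlock H e) (hz : z ∈ Z k H) :
    lam e z = 0 ↔ IsNilpotent (z * e) :=
  ⟨fun h => by simpa [h] using he.lam_spec hz, he.lam_eq_zero_of_nilpotent hz⟩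

theorem lam_ne_zero_iff (he : IsBlock H e) (hz : z ∈ Z k H) :
    lam e z ≠ 0 ↔ ∃ b ∈ Z k H, z * b * e = e := by
  constructor
  · intro h
    exact (he.nilpotent_or hz).resolve_left fun h1 => h ((he.lam_eq_zero_iff hz).2 h1)
  · rintro ⟨b, hb, h⟩ h0
    have := he.lam_eq_one_of_mul ((Z k H).mul_mem hz hb) h
    rw [he.lam_mul hz hb, h0, zero_mul] at this
    exact zero_ne_one this

theorem ext_lam (he : IsBlock H e) (hf : IsBlock H f) (h : ∀ z ∈ Z k H, lam e z = lam f z) :
    e = f :=
  hf.eq_of_lam_ne_zero he (by rw [← h e he.mem, he.lam_self]; exact one_ne_zero)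

theorem lam_cj (he : IsBlock H e) (hz : z ∈ Z k H) (x : G) :
    lam (Blk.cj x e) (Blk.cj x z) = lam e z := by
  apply (he.cj x).lam_eq (cj_mem_Z x hz)
  have := (he.lam_spec hz).map (Blk.cj x)
  simpa using this

/-- If `lam e` does not vanish at `z`, it does not vanish at a class sum in the support of `z`. -/
theorem exists_cls_lam_ne_zero (he : IsBlock H e) (hz : z ∈ Z k H) (h : lam e z ≠ 0) :
    ∃ g ∈ H, z.coeff g ≠ 0 ∧ lam e (cls k H g) ≠ 0 := by
  by_contra hc
  push Not at hc
  apply h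
  refine (inv_induction (P := fun w => w ∈ Z k H ∧ lam e w = 0) hz.2
    ⟨(Z k H).zero_mem, he.lam_zero⟩ ?_ ?_).2
  · intro a b _ _ ha hb
    exact ⟨(Z k H).add_mem ha.1 hb.1, by rw [he.lam_add ha.1 hb.1, ha.2, hb.2, add_zero]⟩
  · intro g hg
    have hgH := mem_of_coeff_ne_zero hz.1 hg
    exact ⟨(Z k H).smul_mem (cls_mem_Z hgH) _, by
      rw [he.lam_smul _ (cls_mem_Z hgH), hc g hgH hg, mul_zero]⟩

end IsBlock

theorem nilpotent_of_forall_lam [Finite G] [IsAlgClosed k] {H : Subgroup G} {a : k[G]}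
    (ha : a ∈ Z k H) (h : ∀ e, IsBlock H e → lam e a = 0) : IsNilpotent a :=
  nilpotent_of_forall_block ha fun e he => (he.lam_eq_zero_iff ha).1 (h e he)

/-- Two linear functionals that agree on class sums agree on the centre. -/
theorem Z_ext_cls [Finite G] {H : Subgroup G} {φ ψ : R[G] → R}
    (hφ0 : φ 0 = ψ 0)
    (hadd : ∀ a ∈ Z R H, ∀ b ∈ Z R H, φ a = ψ a → φ b = ψ b → φ (a + b) = ψ (a + b))
    (hsm : ∀ (c : R), ∀ g ∈ H, φ (c • cls R H g) = ψ (c • cls R H g)) {z : R[G]}
    (hz : z ∈ Z R H) : φ z = ψ z := by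
  refine (inv_induction (P := fun w => w ∈ Z R H ∧ φ w = ψ w) hz.2
    ⟨(Z R H).zero_mem, hφ0⟩ ?_ ?_).2
  · intro a b _ _ ha hb
    exact ⟨(Z R H).add_mem ha.1 hb.1, hadd a ha.1 b hb.1 ha.2 hb.2⟩
  · intro g hg
    have hgH := mem_of_coeff_ne_zero hz.1 hg
    exact ⟨(Z R H).smul_mem (cls_mem_Z hgH) _, hsm _ g hgH⟩

/-- Every algebra homomorphism from the centre to `k` is the central character of a block. -/
theorem exists_block_of_algHom [Finite G] [IsAlgClosed k] {H : Subgroup G}
    (φ : Z k H →ₐ[k] k) : ∃ e, IsBlock H e ∧ ∀ z : Z k H, φ z = lam e z := by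
  have h1 : ∃ e, ∃ he : IsBlock H e, φ ⟨e, he.mem⟩ ≠ 0 := by
    by_contra hc
    push Not at hc
    have h2 : (1 : Z k H) = ∑ e ∈ (blocks k H).attach, ⟨e.1, (mem_blocks.1 e.2).mem⟩ := by
      apply Subtype.ext
      rw [AddSubmonoidClass.coe_finsetSum]
      simp only
      rw [Finset.sum_attach (blocks k H) (fun e => e), sum_blocks]; rfl
    have h3 := congrArg φ h2
    rw [map_one, map_sum] at h3
    exact one_ne_zero (h3.trans (Finset.sum_eq_zero fun e _ => hc _ (mem_blocks.1 e.2)))
  obtain ⟨e, he, h⟩ := h1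
  refine ⟨e, he, fun z => ?_⟩
  have h4 : IsNilpotent ((z - algebraMap k (Z k H) (lam e z)) * ⟨e, he.mem⟩) := by
    obtain ⟨n, hn⟩ := he.lam_spec z.2
    exact ⟨n, Subtype.ext hn⟩
  have h5 := (h4.map φ).eq_zero
  rw [map_mul, map_sub, AlgHom.commutes] at h5
  exact sub_eq_zero.1 ((mul_eq_zero.1 h5).resolve_right h)

end Cfsg.Agent.Blk
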