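import Mathlib

/-! Arithmetic for groups of order dividing 175560. -/

set_option autoImplicit false
set_option synthInstance.maxSize 4096
set_option synthInstance.maxHeartbeats 200000

namespace Cfsg.Agent.Blk.J1

theorem ar1 : (∀ d < 420, 175560 % d = 0 → d % 19 = 1 ∨ d % 19 = 18 → d ≠ 1 →
    d ∈ [20, 56, 77, 132, 210]) ∧
    (∀ n ∈ Nat.divisors 9240, n % 19 = 1 % 19 → n = 1 ∨ n = 20 ∨ n = 77 ∨ n = 210 ∨ n = 1540) ∧
    ∀ a ∈ [20, 56, 77, 132, 210], ∀ b ∈ [20, 56, 77, 132, 210], ∀ d, d = (1 + ([a, b].map fun n : ℕ =>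
      (if n % 19 = 1 then 1 else -1 : ℤ) * n).sum).natAbs → 175560 % d = 0 → 6 * d ^ 2 ≤ 175560 →
        a = 56 ∨ b = 56 := by
  simp only [forall_eq]
  decide +kernel

theorem ar2 : ∀ m ∈ Nat.divisors 1540, m ≠ 1540 → ∀ a ∈ [20, 56, 77, 132, 210], 114 * m % a = 0 →
    ∀ b ∈ [20, 56, 77, 132, 210], a ≤ b → 114 * m % b = 0 → ∀ c ∈ [20, 56, 77, 132, 210], b ≤ c →
    114 * m % c = 0 → ∀ e ∈ [20, 56, 77, 132, 210], c ≤ e → 114 * m % e = 0 →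
    ∀ f ∈ [20, 56, 77, 132, 210], e ≤ f → 114 * m % f = 0 → ∀ d, d = (1 + ([a, b, c, e, f].map
      fun n : ℕ => (if n % 19 = 1 then 1 else -1 : ℤ) * n).sum).natAbs → d ≠ 1 → 114 * m % d = 0 →
      1 + ([a, b, c, e, f].map (· ^ 2)).sum + 3 * d ^ 2 ≤ 114 * m → a = 20 ∧ m = 770 := by
  simp only [forall_eq]
  decide +kernel

end Cfsg.Agent.Blk.J1
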