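import Cfsg.Agent.Lib.Block.M12h
import Cfsg.Agent.Lib.Block.J1a

/-! Groups whose order divides 175560. -/

set_option autoImplicit false

namespace Cfsg.Agent.Blk

open MonoidAlgebra Subgroup
open Cfsg.Agent.Char hiding cj cj_mul cj_inv_cj cj_cj_inv sum_cj_eq
attribute [local instance] _root_.Classical.propDecidable

variable {G : Type*} [Group G] [Finite G] {p q : ℕ} {x : G} {χ ψ : IrrCharacter G} {K : Subgroup G}
  {N X : Finset (IrrCharacter G)} {δ : ℤ} {a : IrrCharacter G → ℤ}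

theorem S1.le_cen (hx : S1 p x) (hG : ∀ q k, q.Prime → q ^ k ∣ Nat.card G → q ^ k ≡ 1 [MOD p] → k = 0)
    [K.Normal] (h : ¬ p ∣ Nat.card K) : K ≤ Ce (zpowers x) := by
  have := Fact.mk hx.prime
  refine inf_eq_left.1 (eq_of_le_of_card_ge inf_le_left (Nat.le_of_dvd Nat.card_pos
    ((Nat.dvd_iff_prime_pow_dvd_dvd _ _).2 fun q k hq k1 => ?_)))
  have := Fact.mk hq
  obtain ⟨Q, a, h1, h2, h3⟩ := exists_norm_syl (N := K) hx.prime q
    (hx.card ▸ card_subgroup_dvd_card _) h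
  obtain ⟨g, hg⟩ := hx.exists_cs ((Nat.card_zpowers a).trans h2)
  have h4 : Nat.card Q ≡ Nat.card (Ce1 a ⊓ Q : Subgroup G) [MOD p] :=
    (cnt_mod (k := a) (p := p) (h2 ▸ pow_orderOf_eq_one a) (A := fun g => g ∈ Q)
      fun g hg => (mem_No.1 h3).le (conj_mem_cs.2 hg)).trans (by
        rw [Transfer.cnt_congr (q := fun g => g ∈ Ce1 a ⊓ Q) fun g =>
          ⟨fun k => ⟨mem_Ce1.2 k.2.symm, k.1⟩, fun k => ⟨k.2, (mem_Ce1.1 k.1).symm⟩⟩])
  have h5 := Solv.card_inf_mul_relIndex (Ce1 a) Q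
  obtain ⟨j, -, hj⟩ := (Nat.dvd_prime_pow hq).1 (h1.card_eq ▸ Dvd.intro_left _ h5)
  have h8 : (Ce1 a).relIndex Q ≡ 1 [MOD p] := by
    refine Nat.ModEq.cancel_left_of_coprime (c := Nat.card (Ce1 a ⊓ Q : Subgroup G))
      ((Nat.Prime.coprime_iff_not_dvd hx.prime).2 fun k => ?_) (by rwa [h5, mul_one])
    exact h (k.trans (card_dvd_of_le (inf_le_right.trans h1.le)))
  have k2 : Q ≤ Ce1 a := relIndex_eq_one.1 (by
    rw [hj, hG q j hq (hj ▸ (Dvd.intro_left _ h5).trans (card_subgroup_dvd_card Q)) (hj ▸ h8), pow_zero])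
  have k3 : cs g Q ≤ K ⊓ Ce (zpowers x) := le_inf ((cs_mono g h1.le).trans (cs_normal g K).le) (by
    rw [← hg, ← cs_Ce, Ce_zpowers]
    exact cs_mono g k2)
  refine dvd_trans ?_ (card_dvd_of_le k3)
  rw [card_cs, h1.card_eq]
  exact pow_dvd_pow _ ((hq.pow_dvd_iff_le_factorization Nat.card_pos.ne').1 k1)

theorem S1.exists_K (hx : S1 p x)
    (hG : ∀ q k, q.Prime → q ^ k ∣ Nat.card G → q ^ k ≡ 1 [MOD p] → k = 0) : (zpowers x).Normal ∨
      ∃ K : Subgroup G, K.Normal ∧ x ∈ K ∧ IsSimpleGroup (K ⧸ center K) ∧ p ∣ (center K).index ∧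
        (center K).index ≠ p := by
  have := Fact.mk hx.prime
  let K := normalClosure {x}
  have xK : x ∈ K := subset_normalClosure rfl
  have s : ∀ y : K, IsConj x y → S1 p y := fun y c => ⟨hx.prime, by
    rw [← orderOf_coe]; exact (Transfer.IsConj.orderOf_eq' c).trans hx.ord,
    fun e => hx.3 (e.trans (card_subgroup_dvd_card _))⟩
  have hK : ∀ L : Subgroup K, L.Normal → p ∣ Nat.card L → L = ⊤ := fun L _ k => by
    rw [eq_top_iff, ← map_subtype_le_map_subtype, ← MonoidHom.range_eq_map, range_subtype]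
    refine (closure_le _).2 fun y hy => ?_
    obtain ⟨z, hz, c⟩ := Group.mem_conjugatesOfSet_iff.1 hy
    rw [Set.mem_singleton_iff.1 hz] at c
    exact ⟨_, (s ⟨y, conjugatesOfSet_subset_normalClosure hy⟩ c).le_of_dvd k (mem_zpowers _), rfl⟩
  have hx' := s ⟨x, xK⟩ (IsConj.refl x)
  by_cases ab : ∀ a b : K, a * b = b * a
  · refine .inl ⟨fun u hu g => ?_⟩
    have l := (cs_mono g (zpowers_le.2 xK)).trans (cs_normal g K).le
    exact (hx.isSyl.of_le (zpowers_le.2 xK) le_top).ge_of_le_No (isPGroup_cs g hx.isSyl.pg) l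
      (fun v hv => Ce_le_No _ (mem_Ce.2 fun w hw => congrArg Subtype.val (ab ⟨w, l hw⟩ ⟨v, hv⟩)))
      (conj_mem_cs.2 hu)
  have j1 : p ∣ (center K).index := ((Nat.Prime.dvd_mul hx.prime).1 ((center K).card_mul_index ▸
    hx'.card ▸ card_subgroup_dvd_card _)).resolve_left fun k => ab fun a b =>
      mem_center_iff.1 ((hK _ inferInstance k).ge (mem_top b)) a
  refine .inr ⟨K, inferInstance, xK, M12.Dv.quot_simple (fun L _ => or_iff_not_imp_left.2 fun k => ?_)
    fun k => hx.prime.one_lt.ne' (by simpa [k] using j1), j1, fun k => ab ?_⟩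
  · have h1 := hx'.le_cen (fun q k a b => hG q k a (b.trans (card_subgroup_dvd_card _)))
      (mt (hK L inferInstance) k)
    have h2 := hK (Ce L) inferInstance (hx'.card ▸ card_dvd_of_le (le_centralizer_iff.1 h1))
    exact fun u hu => mem_center_iff.2 fun g => (mem_Ce.1 (h2.ge (mem_top g)) u hu).symm
  · have := isCyclic_of_prime_card (α := K ⧸ center K) k
    exact commutative_of_cyclic_center_quotient (QuotientGroup.mk' _) (QuotientGroup.ker_mk' _).le

/-- a prime for which a character of the block has defect zero does not divide the centralizer -/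
theorem PB.not_dvd [hp : Fact p.Prime] [hq : Fact q.Prime] (h : PB p x N X δ a) (hχ : χ ∈ N) {m : ℕ}
    (hm : Nat.card G = dg χ * m) (h1 : ¬ q ∣ m) {g : G} (h2 : p ∣ orderOf g) : ¬ q ∣ orderOf g := fun k => by
  have := h.val χ hχ g h2
  rw [dz hm h1 k] at this
  rcases h.sgn χ hχ with e | e <;> simp [e] at this

theorem PB.not_dvd' [hp : Fact p.Prime] [hq : Fact q.Prime] (h : PB p x N X δ a) (hx : orderOf x = p)
    (hχ : χ ∈ N) {m : ℕ} (hm : Nat.card G = dg χ * m) (h1 : ¬ q ∣ m) (n : p ≠ q) :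
    ¬ q ∣ Nat.card (Ce1 x) := fun k => by
  obtain ⟨z, hz, c⟩ := exists_ord_Ce1 k
  have o := c.orderOf_mul_eq_mul_orderOf_of_coprime
    (by rw [hx, hz]; exact (Nat.coprime_primes hp.out hq.out).2 n)
  exact h.not_dvd hχ hm h1 (g := x * z) (by rw [o, hx]; simp) (by rw [o, hz]; simp)

theorem PB.card_le [Fact p.Prime] (h : PB p x N X δ a) {S : Finset (IrrCharacter G)}
    (hS : ∀ χ ∈ S, ∃ c ≠ 0, ∀ g, p ∣ orderOf g → χ.1 g = c) : S.card ≤ p := by
  have k : S ⊆ N ∪ X := fun χ k => by_contra fun k' => by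
    obtain ⟨c, c1, c2⟩ := hS χ k
    rw [Finset.mem_union, not_or] at k'
    exact c1 (h.out χ k'.1 k'.2 c c2)
  have := (Finset.card_le_card k).trans (Finset.card_union_le _ _)
  have := h.cX
  have := h.X_ne.card_pos
  have := Finset.card_pos.2 ⟨_, h.one⟩
  nlinarith

namespace J1

instance : Fact (Nat.Prime 19) := ⟨by norm_num⟩
instance : Fact (Nat.Prime 7) := ⟨by norm_num⟩

set_option maxHeartbeats 800000 in
theorem orders [IsSimpleGroup G] (hG : Nat.card G ∣ 175560) (h1 : 19 ∣ Nat.card G)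
    (h2 : Nat.card G ≠ 19) : Nat.card G = 175560 := by
  have hc := perfect_of (G := G) fun k => h2 ((Nat.prime_dvd_prime_iff_eq (by norm_num) k).1 h1).symm
  have h3 : ¬ 19 ^ 2 ∣ Nat.card G := fun k => absurd (k.trans hG) (by norm_num)
  have le := Nat.le_of_dvd (by norm_num) hG
  obtain ⟨x, hx⟩ := exists_S1 (by norm_num) h1 h3
  obtain ⟨N, X, δ, a, h⟩ := exists_PB hx.ord h3
  obtain ⟨c, cx⟩ := hx.dvd_Ce1
  obtain ⟨ψ, hψ⟩ := h.X_ne
  have c1 := h.cN
  have c2 := h.cX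
  have c3 := (No (zpowers x)).card_mul_index
  have c5 : (No (zpowers x)).index ≠ 1 := fun e => by
    rcases (normalizer_eq_top_iff.1 (index_eq_one.1 e)).eq_bot_or_eq_top with e | e
    · simpa [e] using hx.card
    · exact h2 (by simpa [e] using hx.card)
  rw [cx] at c1
  have c6 : Nat.card G = 19 * (N.card * c * (No (zpowers x)).index) := by rw [← c3, ← c1]; ring
  have c7 : N.card * c * (No (zpowers x)).index ∣ 9240 :=
    Nat.dvd_of_mul_dvd_mul_left (by norm_num : 0 < 19) (c6 ▸ hG)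
  have c8 := ar1.2.1 _ (Nat.mem_divisors.2 ⟨(Dvd.intro_left _ rfl).trans c7, by norm_num⟩) hx.index_modEq
  have bd : ∀ χ : IrrCharacter G, dg χ < 420 ∧ 175560 % dg χ = 0 := fun χ => by
    refine ⟨?_, Nat.mod_eq_zero_of_dvd ((deg_dvd_card χ).trans hG)⟩
    have := sum_sq_sub {χ}
    rw [Finset.sum_singleton] at this
    nlinarith
  obtain ⟨l, l1, l2, l3, l4⟩ := exists_sorted' h.one
  have n : ∀ χ ∈ l, dg χ ∈ [20, 56, 77, 132, 210] ∧ a χ = if dg χ % 19 = 1 then 1 else -1 := fun χ k => by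
    have h2 := h.cong χ ((l3 χ).1 k).1
    have h3 := ar1.1 _ (bd χ).1 (bd χ).2
    have h4 := mt (dg_eq_one hc) ((l3 χ).1 k).2
    rcases h.sgn χ ((l3 χ).1 k).1 with k | k <;> rw [k] at h2 ⊢ <;> refine ⟨h3 (by omega) h4, ?_⟩ <;>
      split_ifs <;> omega
  have r1 := h.rel_one hψ
  have r2 := h.sum_sq hψ
  have r3 : ∀ s : ℤ, δ * dg ψ = s → dg ψ = s.natAbs := fun s e => by
    rcases h.sd with rfl | rfl <;> omega
  rw [l4, h.a_one, dg_one] at r1
  rw [l4, dg_one] at r2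
  have e1 := h.card_ne_one hc
  have e5 : N.card = 2 ∨ N.card = 3 ∨ N.card = 6 := by
    have := Nat.le_of_dvd (by norm_num) (⟨X.card, by omega⟩ : N.card ∣ 18)
    have := ((Dvd.intro _ rfl).trans (Dvd.intro _ rfl)).trans c7
    generalize N.card = e at *
    interval_cases e <;> omega
  rcases e5 with e | e | e <;> rw [e] at c2 c6 c7
  · obtain ⟨χ, rfl⟩ := List.length_eq_one_iff.1 (show l.length = 1 by omega)
    obtain ⟨q, q1, q2, q3, q4⟩ : ∃ q : ℕ, q.Prime ∧ q < 8 ∧ ¬ q ^ 2 ∣ 175560 ∧ q ∣ dg χ := by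
      have := (n χ (by simp)).1
      simp only [List.mem_cons, List.not_mem_nil, or_false] at this
      rcases this with e | e | e | e | e <;> rw [e]
      exacts [⟨5, by norm_num⟩, ⟨7, by norm_num⟩, ⟨7, by norm_num⟩, ⟨3, by norm_num⟩, ⟨3, by norm_num⟩]
    have := Fact.mk q1
    obtain ⟨m, hm⟩ : dg χ ∣ _ := deg_dvd_card χ
    have q5 : ¬ q ^ 2 ∣ Nat.card G := fun k => q3 (k.trans hG)
    have q6 : ¬ q ∣ m := fun k => q5 (by rw [hm, sq]; exact mul_dvd_mul q4 k)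
    obtain ⟨y, hy⟩ := exists_prime_orderOf_dvd_card' q (q4.trans (deg_dvd_card χ))
    obtain ⟨_, _, _, _, k⟩ := exists_PB hy q5
    have := k.card_le (S := X) fun φ hφ => ⟨δ, by rcases h.sd with rfl | rfl <;> simp, fun g hg => by
      have := h.rel φ hφ g fun e => h.not_dvd ((l3 χ).1 (by simp)).1 hm q6 e hg
      rw [l4] at this
      rcases h.sd with rfl | rfl <;> simp [h.a_one, dz hm q6 hg] at this ⊢
      exacts [this, neg_eq_iff_eq_neg.1 this]⟩
    omega
  · obtain ⟨α, β, rfl⟩ := List.length_eq_two.1 (show l.length = 2 by omega)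
    obtain ⟨a1, b1⟩ := n α (by simp)
    obtain ⟨a2, b2⟩ := n β (by simp)
    obtain ⟨χ, k1, k2⟩ : ∃ χ ∈ N, dg χ = 56 := by
      rcases ar1.2.2 _ a1 _ a2 _ (r3 _ (by simpa [b1, b2] using r1)) (bd ψ).2 (by
        rw [show X.card = 6 by omega] at r2; omega) with e | e
      exacts [⟨α, ((l3 _).1 (by simp)).1, e⟩, ⟨β, ((l3 _).1 (by simp)).1, e⟩]
    obtain ⟨m, hm⟩ : dg χ ∣ _ := deg_dvd_card χ
    have := h.not_dvd' (q := 2) hx.ord k1 hm (fun k => absurd ((mul_dvd_mul_left 56 k).trans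
      (k2 ▸ hm ▸ hG)) (by norm_num)) (by norm_num)
    rw [k2, c6] at hm
    rw [cx] at this
    clear * - hm this c8
    rcases c8 with e | e | e | e | e <;> rw [e] at hm <;> omega
  · obtain ⟨α, β, γ, ε, ζ, rfl⟩ : ∃ α β γ ε ζ, l = [α, β, γ, ε, ζ] := by
      match l, (show l.length = 5 by omega) with
      | [α, β, γ, ε, ζ], _ => exact ⟨_, _, _, _, _, rfl⟩
    obtain ⟨a1, b1⟩ := n α (by simp)
    obtain ⟨a2, b2⟩ := n β (by simp)
    obtain ⟨a3, b3⟩ := n γ (by simp)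
    obtain ⟨a4, b4⟩ := n ε (by simp)
    obtain ⟨a5, b5⟩ := n ζ (by simp)
    by_contra k
    have c9 : Nat.card G = 114 * (c * (No (zpowers x)).index) := by rw [c6]; ring
    have w : ∀ χ : IrrCharacter G, 114 * (c * (No (zpowers x)).index) % dg χ = 0 := fun χ =>
      Nat.mod_eq_zero_of_dvd (c9 ▸ deg_dvd_card χ)
    simp only [List.pairwise_cons, List.mem_cons, forall_eq_or_imp] at l2
    obtain ⟨k1, k2⟩ := ar2 _ (Nat.mem_divisors.2 ⟨Nat.dvd_of_mul_dvd_mul_left (by norm_num : 0 < 6)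
      (mul_assoc 6 _ _ ▸ c7), by norm_num⟩) (by omega) _ a1 (w _) _ a2 l2.1.1 (w _) _ a3 l2.2.1.1 (w _)
      _ a4 l2.2.2.1.1 (w _) _ a5 l2.2.2.2.1.1 (w _) _ (r3 _ (by simpa [b1, b2, b3, b4, b5] using r1))
      (fun e => h.ne_one hψ (dg_eq_one hc e)) (w _) (by
        rw [show X.card = 3 by omega, c9] at r2; simpa using r2)
    have := h.not_dvd' (q := 5) hx.ord ((l3 α).1 (by simp)).1 (m := 4389) (by rw [c9, k1, k2])
      (by norm_num) (by norm_num)
    rw [cx] at this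
    clear * - k2 this c8
    rcases c8 with e | e | e | e | e <;> rw [e] at k2 <;> omega

end J1

end Cfsg.Agent.Blk
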