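import Cfsg.Agent.Lib.Transfer.Count

/-! A finite group with two commuting involutions whose four-group has small centralizers has
bounded order. -/

set_option autoImplicit false

namespace Cfsg.Agent.Blk.KF

open Subgroup Cfsg.Agent.Transfer
attribute [local instance] _root_.Classical.propDecidable

universe u

section
variable {G : Type*} [Group G] [Finite G]

/-- The size of the conjugacy class. -/
noncomputable def cls (x : G) : ℕ := (centralizer ({x} : Set G)).index

theorem mem_cent {x g : G} : g ∈ centralizer ({x} : Set G) ↔ g * x = x * g := by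
  rw [mem_centralizer_iff]; simp [eq_comm]

theorem cls_pos (x : G) : 0 < cls x := Nat.pos_of_ne_zero index_ne_zero_of_finite

theorem cls_mul_card (x : G) : cls x * Nat.card (centralizer ({x} : Set G)) = Nat.card G :=
  index_mul_card _

theorem cls_mul_le (x y : G) : cls (x * y) ≤ cls x * cls y := by
  refine le_trans ?_ index_inf_le
  refine Nat.le_of_dvd (Nat.pos_of_ne_zero index_ne_zero_of_finite) (index_dvd_of_le ?_)
  intro g hg
  have h1 := mem_cent.1 (mem_inf.1 hg).1
  have h2 := mem_cent.1 (mem_inf.1 hg).2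
  rw [mem_cent, ← mul_assoc, h1, mul_assoc, h2, mul_assoc]

theorem cls_inv (x : G) : cls x⁻¹ = cls x := by
  unfold cls; rw [Transfer.centralizer_inv]

omit [Finite G] in
theorem cls_one : cls (1 : G) = 1 := by
  unfold cls
  rw [index_eq_one, eq_top_iff]
  intro g _
  rw [mem_centralizer_iff]; simp

theorem cls_conj (g x : G) : cls (g * x * g⁻¹) = cls x := by
  have h1 := cls_mul_card (g * x * g⁻¹)
  have h2 := cls_mul_card x
  rw [card_centralizer_conj, ← h2] at h1
  exact Nat.eq_of_mul_eq_mul_right Nat.card_pos h1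

theorem index_normalCore_le (H : Subgroup G) : H.normalCore.index ≤ H.index.factorial := by
  rw [normalCore_eq_ker, index_ker]
  refine le_trans (card_le_card_group _) ?_
  letI := Fintype.ofFinite (G ⧸ H)
  rw [Nat.card_eq_fintype_card, Fintype.card_perm, index, Nat.card_eq_fintype_card]

theorem card_cent_map_le {H : Type*} [Group H] [Finite H] {φ : G →* H}
    (hφ : Function.Surjective φ) (t : G) :
    Nat.card (centralizer ({φ t} : Set H)) ≤ Nat.card (centralizer ({t} : Set G)) := by
  set L := (centralizer ({φ t} : Set H)).comap φ with hL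
  have h1 : L.index = (centralizer ({φ t} : Set H)).index := index_comap_of_surjective _ hφ
  have h2 : Nat.card L ≤ Nat.card φ.ker * Nat.card (centralizer ({t} : Set G)) := by
    refine cnt_le_mul (p := fun g => g ∈ L) (q := fun k => k ∈ φ.ker)
      (fun g k => g * t * g⁻¹ * t⁻¹ = k) (fun g hg => ⟨_, ?_, rfl⟩) (fun k _ => ?_)
    · rw [hL, mem_comap, mem_cent] at hg
      rw [MonoidHom.mem_ker]
      simp only [map_mul, map_inv]
      rw [hg]; group
    · by_cases h : ∃ g, g * t * g⁻¹ * t⁻¹ = k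
      · obtain ⟨g0, rfl⟩ := h
        rw [← card_conj_fiber' t g0]
        exact cnt_mono fun g hg => mul_right_cancel hg.2
      · rw [cnt_eq_zero fun g hg => h ⟨g, hg.2⟩]; exact Nat.zero_le _
  have h3 := index_mul_card L
  have h4 := index_mul_card (centralizer ({φ t} : Set H))
  have h5 : Nat.card G = Nat.card H * Nat.card φ.ker := by
    rw [← index_mul_card φ.ker, index_ker, MonoidHom.range_eq_top.2 hφ, card_top]
  have h6 : 0 < (centralizer ({φ t} : Set H)).index := Nat.pos_of_ne_zero index_ne_zero_of_finite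
  have h7 : 0 < Nat.card φ.ker := Nat.card_pos
  rw [h1, h5, ← h4, mul_assoc] at h3
  have h8 := Nat.eq_of_mul_eq_mul_left h6 h3
  rw [h8, mul_comm] at h2
  exact Nat.le_of_mul_le_mul_left h2 h7

/-- The hypothesis. -/
structure Hyp (m : ℕ) (t v : G) : Prop where
  t2 : t * t = 1
  v2 : v * v = 1
  comm : t * v = v * t
  ct : Nat.card (centralizer ({t} : Set G)) ≤ m
  cv : Nat.card (centralizer ({v} : Set G)) ≤ m
  ctv : Nat.card (centralizer ({t * v} : Set G)) ≤ m

theorem Hyp.map {m : ℕ} {t v : G} (h : Hyp m t v) {H : Type*} [Group H] [Finite H] {φ : G →* H}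
    (hφ : Function.Surjective φ) : Hyp m (φ t) (φ v) where
  t2 := by rw [← map_mul, h.t2, map_one]
  v2 := by rw [← map_mul, h.v2, map_one]
  comm := by rw [← map_mul, h.comm, map_mul]
  ct := (card_cent_map_le hφ t).trans h.ct
  cv := (card_cent_map_le hφ v).trans h.cv
  ctv := by rw [← map_mul]; exact (card_cent_map_le hφ _).trans h.ctv

theorem Hyp.card_abelian_le {m : ℕ} {t v : G} (h : Hyp m t v) (L : Subgroup G) [hL : L.Normal]
    (hc : ∀ x ∈ L, ∀ y ∈ L, x * y = y * x) : Nat.card L ≤ m ^ 3 := by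
  have key : ∀ s : G, s * s = 1 → ∀ x ∈ L, x * (s * x * s⁻¹) ∈ centralizer ({s} : Set G) := by
    intro s hs x hx
    have hs' : s⁻¹ = s := inv_eq_of_mul_eq_one_right hs
    rw [mem_cent, hs']
    have h1 := hc x hx _ (hL.conj_mem x hx s)
    rw [hs'] at h1
    calc x * (s * x * s) * s = x * s * x * (s * s) := by group
      _ = x * s * x := by rw [hs, mul_one]
      _ = (s * s) * x * s * x := by rw [hs, one_mul]
      _ = s * (s * x * s * x) := by group
      _ = s * (x * (s * x * s)) := by rw [h1]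
  have key2 : ∀ s : G, ∀ x ∈ L, ∀ y ∈ L, x * (s * x * s⁻¹) = y * (s * y * s⁻¹) →
      s * (y⁻¹ * x) * s⁻¹ = (y⁻¹ * x)⁻¹ := by
    intro s x hx y hy e
    have h1 : y⁻¹ * x = (s * y * s⁻¹) * (s * x * s⁻¹)⁻¹ := by
      calc y⁻¹ * x = y⁻¹ * (x * (s * x * s⁻¹)) * (s * x * s⁻¹)⁻¹ := by group
        _ = _ := by rw [e]; group
    have h2 := hc _ (hL.conj_mem y hy s) _ (L.inv_mem (hL.conj_mem x hx s))
    calc s * (y⁻¹ * x) * s⁻¹ = ((s * x * s⁻¹)⁻¹ * (s * y * s⁻¹))⁻¹ := by group
      _ = _ := by rw [← h2, ← h1]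
  have h1 : Nat.card L ≤ Nat.card {b : G × G // b.1 ∈ centralizer ({t} : Set G) ∧
      b.2 ∈ centralizer ({v} : Set G)} * m := by
    refine cnt_le_mul (p := fun g => g ∈ L)
      (fun x b => (x * (t * x * t⁻¹), x * (v * x * v⁻¹)) = b)
      (fun x hx => ⟨_, ⟨key t h.t2 x hx, key v h.v2 x hx⟩, rfl⟩) (fun b _ => ?_)
    by_cases hb : ∃ y ∈ L, (y * (t * y * t⁻¹), y * (v * y * v⁻¹)) = b
    · obtain ⟨y, hy, rfl⟩ := hb
      refine le_trans ?_ h.ctv
      refine cnt_le_of_injOn (q := fun g => g ∈ centralizer ({t * v} : Set G))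
        (fun x => y⁻¹ * x) (fun x hx => ?_) (fun x z _ _ e => mul_left_cancel e)
      have e1 := key2 t x hx.1 y hy (congrArg Prod.fst hx.2)
      have e2 := key2 v x hx.1 y hy (congrArg Prod.snd hx.2)
      rw [mem_cent]
      generalize y⁻¹ * x = z at e1 e2
      have e3 : t * z⁻¹ * t⁻¹ = z := by
        calc t * z⁻¹ * t⁻¹ = (t * z * t⁻¹)⁻¹ := by group
          _ = z := by rw [e1, inv_inv]
      calc z * (t * v) = (t * z⁻¹ * t⁻¹) * (t * v) := by rw [e3]
        _ = t * (v * z * v⁻¹) * v := by rw [e2]; group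
        _ = t * v * z := by group
    · rw [cnt_eq_zero fun g hg => hb ⟨g, hg.1, hg.2⟩]; exact Nat.zero_le _
  rw [cnt_prod (fun a => a ∈ centralizer ({t} : Set G)) (fun a => a ∈ centralizer ({v} : Set G))]
    at h1
  calc Nat.card L ≤ _ := h1
    _ ≤ m * m * m := Nat.mul_le_mul_right _ (Nat.mul_le_mul h.ct h.cv)
    _ = m ^ 3 := by ring

theorem Hyp.card_le_of_comm {m : ℕ} {t v : G} (h : Hyp m t v) (K A : Subgroup G) [K.Normal]
    [A.Normal] (hc : ∀ x ∈ K, ∀ y ∈ K, x⁻¹ * (y * x * y⁻¹) ∈ A) :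
    Nat.card K ≤ m ^ 3 * Nat.card A := by
  have hs := QuotientGroup.mk'_surjective A
  haveI : (K.map (QuotientGroup.mk' A)).Normal := Subgroup.Normal.map inferInstance _ hs
  have h1 := (h.map hs).card_abelian_le (K.map (QuotientGroup.mk' A)) (by
    rintro _ ⟨x, hx, rfl⟩ _ ⟨y, hy, rfl⟩
    have := (QuotientGroup.eq_one_iff _).2 (hc x hx y hy)
    simp only [QuotientGroup.mk'_apply]
    simp only [QuotientGroup.mk_mul, QuotientGroup.mk_inv] at this
    generalize (x : G ⧸ A) = x' at this
    generalize (y : G ⧸ A) = y' at this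
    calc x' * y' = x' * (x'⁻¹ * (y' * x' * y'⁻¹)) * y' := by rw [this, mul_one]
      _ = y' * x' := by group)
  have h2 : Nat.card K ≤ Nat.card (K.map (QuotientGroup.mk' A)) * Nat.card A := by
    refine cnt_le_mul (p := fun g => g ∈ K) (q := fun b => b ∈ K.map (QuotientGroup.mk' A))
      (fun x b => QuotientGroup.mk' A x = b) (fun x hx => ⟨_, mem_map_of_mem _ hx, rfl⟩) ?_
    rintro _ ⟨y, hy, rfl⟩
    refine cnt_le_of_injOn (q := fun g => g ∈ A) (fun x => y⁻¹ * x) (fun x hx => ?_)
      (fun x z _ _ e => mul_left_cancel e)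
    exact QuotientGroup.eq.1 hx.2.symm
  exact h2.trans (Nat.mul_le_mul_right _ h1)

theorem Hyp.card_normalClosure_le {m : ℕ} {t v : G} (h : Hyp m t v) (a : G) :
    Nat.card (normalClosure ({a} : Set G)) ≤ (cls a).factorial * m ^ 3 := by
  set A := normalClosure ({a} : Set G) with hA
  set R := (centralizer ({a} : Set G)).normalCore with hR
  have h1 : A ≤ centralizer (R : Set G) := by
    refine normalClosure_le_normal ?_
    rintro _ rfl
    rw [SetLike.mem_coe, mem_centralizer_iff]
    intro g hg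
    exact mem_cent.1 (normalCore_le _ hg)
  have h2 := h.card_abelian_le (A ⊓ R) fun x hx y hy =>
    (mem_centralizer_iff.1 (h1 hy.1) x hx.2)
  have h3 : R.relIndex A * Nat.card (A ⊓ R : Subgroup G) = Nat.card A := by
    rw [relIndex, ← index_mul_card (R.subgroupOf A)]
    congr 1
    rw [inf_comm, ← inf_subgroupOf_right]
    exact Nat.card_congr (subgroupOfEquivOfLe inf_le_right).toEquiv.symm
  have h4 : R.relIndex A ≤ R.index :=
    Nat.le_of_dvd (Nat.pos_of_ne_zero index_ne_zero_of_finite) (relIndex_dvd_index_of_normal _ _)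
  rw [← h3]
  exact Nat.mul_le_mul (h4.trans (index_normalCore_le _)) h2

theorem card_le_small_classes {m : ℕ} {t : G} (ht : orderOf t = 2)
    (hm : Nat.card (centralizer ({t} : Set G)) ≤ m) :
    Nat.card G ≤ 2 * m ^ 2 * Nat.card {x : G // cls x ≤ 2 * m ^ 2} := by
  letI := Fintype.ofFinite G
  set c := 2 * m ^ 2 with hc
  set n := Nat.card {s : G // orderOf s = 2} with hn
  set g := Nat.card G with hg
  have h1 : g ≤ n * m := (card_le_card_invol_mul ht).trans (Nat.mul_le_mul_left _ hm)
  have h2 : n * n ≤ ∑ x : G, Nat.card (centralizer ({x} : Set G)) := by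
    rw [hn, ← cnt_prod, cnt_eq_sum_fiber _ (fun p : G × G => p.1 * p.2)]
    refine Finset.sum_le_sum fun x _ => ?_
    rw [cnt_congr (q := fun p : G × G => orderOf p.1 = 2 ∧ orderOf p.2 = 2 ∧ p.1 * p.2 = x)
      (fun p => and_assoc)]
    by_cases hx : IsConj x x⁻¹
    · exact (card_pairs_le x).trans (card_inverting_of_real hx).le
    · rw [card_pairs_eq_zero hx]; exact Nat.zero_le _
  have h3 : ∀ x : G, c * Nat.card (centralizer ({x} : Set G)) ≤
      c * g * (if cls x ≤ c then 1 else 0) + g := by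
    intro x
    split_ifs with hx
    · have := card_le_card_group (centralizer ({x} : Set G))
      nlinarith
    · have := cls_mul_card x
      have h0 : c ≤ cls x := by omega
      have := Nat.mul_le_mul_right (Nat.card (centralizer ({x} : Set G))) h0
      omega
  have h4 : c * (n * n) ≤ c * g * Nat.card {x : G // cls x ≤ c} + g * g := by
    refine (Nat.mul_le_mul_left _ h2).trans ?_
    rw [Finset.mul_sum, cnt_eq_sum, Finset.mul_sum]
    refine (Finset.sum_le_sum fun x _ => h3 x).trans ?_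
    rw [Finset.sum_add_distrib]
    simp [hg]
  have h5 : 2 * (g * g) ≤ c * (n * n) := by
    have := Nat.mul_le_mul h1 h1
    rw [hc]; nlinarith
  have h6 : 0 < g := Nat.card_pos
  have h7 : g * g ≤ g * (c * Nat.card {x : G // cls x ≤ c}) := by nlinarith
  exact Nat.le_of_mul_le_mul_left h7 h6

/-- The exponents used in the growth argument. -/
def ex : ℕ → ℕ
  | 0 => 1
  | k + 1 => 2 * ex k + 3

theorem ex_mono : Monotone ex := monotone_nat_of_le_succ fun k => by simp only [ex]; omega

theorem exists_bfc {c : ℕ} (hc : Nat.card G ≤ c * Nat.card {x : G // cls x ≤ c}) :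
    ∃ H : Subgroup G, H.Normal ∧ H.index ≤ c ∧ ∀ x ∈ H, cls x ≤ c ^ (ex c + 1) := by
  have hc0 : 0 < c := by
    rcases Nat.eq_zero_or_pos c with h | h
    · rw [h, zero_mul] at hc; have := Nat.card_pos (α := G); omega
    · exact h
  have hpow : ∀ {i j : ℕ}, i ≤ j → c ^ i ≤ c ^ j := fun h => Nat.pow_le_pow_right hc0 h
  have hmul : ∀ {x y : G} {i j : ℕ}, cls x ≤ c ^ i → cls y ≤ c ^ j → cls (x * y) ≤ c ^ (i + j) :=
    fun hx hy => by rw [pow_add]; exact (cls_mul_le _ _).trans (Nat.mul_le_mul hx hy)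
  by_cases h : ∃ k < c, ∀ x y : G, cls x ≤ c ^ (ex k + 1) → cls y ≤ c ^ (ex k + 1) →
      cls (x * y) ≤ c ^ (ex k + 1)
  · obtain ⟨k, hk, h⟩ := h
    let H : Subgroup G :=
      { carrier := {x | cls x ≤ c ^ (ex k + 1)}
        mul_mem' := fun hx hy => h _ _ hx hy
        one_mem' := by
          show cls (1 : G) ≤ _
          rw [cls_one]; exact Nat.pow_pos hc0
        inv_mem' := fun {x} hx => by
          show cls x⁻¹ ≤ _
          rw [cls_inv]; exact hx }
    refine ⟨H, ⟨fun x hx g => ?_⟩, ?_, fun x hx => le_trans hx (hpow ?_)⟩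
    · show cls (g * x * g⁻¹) ≤ _
      rw [cls_conj]; exact hx
    · have h1 : Nat.card {x : G // cls x ≤ c} ≤ Nat.card H :=
        cnt_mono (q := fun x => x ∈ H) fun x hx => by
          show cls x ≤ _
          exact hx.trans (by simpa using hpow (i := 1) (j := ex k + 1) (by omega))
      have h2 := index_mul_card H
      have h3 : H.index * Nat.card H ≤ c * Nat.card H :=
        h2.le.trans (hc.trans (Nat.mul_le_mul_left _ h1))
      exact Nat.le_of_mul_le_mul_right h3 Nat.card_pos
    · have := ex_mono hk.le; omega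
  · exfalso
    push Not at h
    have key : ∀ k ≤ c, (k + 1) * Nat.card {x : G // cls x ≤ c} ≤
        Nat.card {x : G // cls x ≤ c ^ ex k} := by
      intro k
      induction k with
      | zero => intro _; simp [ex]
      | succ k ih =>
        intro hk
        obtain ⟨x, y, hx, hy, hxy⟩ := h k (by omega)
        have h1 := hmul hx hy
        generalize x * y = g at hxy h1
        have h2 : Nat.card {z : G // cls z ≤ c} = Nat.card {z : G // cls (g⁻¹ * z) ≤ c} :=
          cnt_eq_of_bij (fun z => g * z) (fun z hz => by simpa using hz)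
            (fun _ _ _ _ e => mul_left_cancel e) (fun z hz => ⟨g⁻¹ * z, hz, by group⟩)
        have h3 := cnt_or (p := fun z : G => cls z ≤ c ^ ex k) (q := fun z => cls (g⁻¹ * z) ≤ c)
          (fun z hz1 hz2 => by
            have h4 : cls (g⁻¹ * z)⁻¹ ≤ c ^ 1 := by rw [cls_inv, pow_one]; exact hz2
            have h5 := hmul hz1 h4
            have h6 : z * (g⁻¹ * z)⁻¹ = g := by group
            rw [h6] at h5
            omega)
        have h4 : Nat.card {z : G // cls z ≤ c ^ ex k ∨ cls (g⁻¹ * z) ≤ c} ≤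
            Nat.card {x : G // cls x ≤ c ^ ex (k + 1)} := by
          refine cnt_mono fun z hz => ?_
          rcases hz with hz | hz
          · exact hz.trans (hpow (ex_mono (by omega)))
          · have h5 := hmul h1 (j := 1) (y := g⁻¹ * z) (by rw [pow_one]; exact hz)
            rw [mul_inv_cancel_left] at h5
            refine h5.trans (hpow ?_)
            simp only [ex]; omega
        have h5 := ih (by omega)
        rw [h3, ← h2] at h4
        nlinarith
    have h1 := key c le_rfl
    have h2 : Nat.card {x : G // cls x ≤ c ^ ex c} ≤ Nat.card G := by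
      rw [← cnt_true (α := G)]; exact cnt_mono (q := fun _ : G => True) fun _ _ => trivial
    have h3 : 0 < Nat.card {x : G // cls x ≤ c} :=
      cnt_pos (x := 1) (by rw [cls_one]; exact hc0)
    nlinarith

/-- B. H. Neumann's argument. -/
theorem exists_neumann (H : Subgroup G) {d : ℕ} (hd : ∀ x ∈ H, cls x ≤ d) :
    ∃ a ∈ H, ∃ C : Subgroup G, C ≤ H ∧ C.index ≤ H.index * d ^ d ∧
      ∀ x ∈ C, ∀ g ∈ H, x⁻¹ * (g * x * g⁻¹) ∈ normalClosure ({a} : Set G) := by
  letI := Fintype.ofFinite G
  have hd0 : 0 < d := by have := hd 1 H.one_mem; rw [cls_one] at this; exact this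
  let S : G → Finset G := fun x => Finset.univ.filter fun y => ∃ h ∈ H, h * x * h⁻¹ = y
  have hS : ∀ x y, y ∈ S x ↔ ∃ h ∈ H, h * x * h⁻¹ = y := fun x y => by simp [S]
  obtain ⟨a, ha, hmax⟩ := Finset.exists_max_image (Finset.univ.filter fun x => x ∈ H)
    (fun x => (S x).card) ⟨1, by simp⟩
  have ha : a ∈ H := by simpa using ha
  have hb : ∀ s : S a, ∃ h ∈ H, h * a * h⁻¹ = s := fun s => (hS _ _).1 s.2
  choose b hbH hb using hb
  have hcard : (S a).card ≤ d := by
    refine le_trans ?_ (hd a ha)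
    rw [cls, ← card_isConj_eq_index, ← Nat.card_eq_finsetCard]
    refine cnt_mono (p := fun y => y ∈ S a) fun y hy => ?_
    obtain ⟨h, _, rfl⟩ := (hS _ _).1 hy
    exact isConj_conj h a
  refine ⟨a, ha, H ⊓ ⨅ s, centralizer ({b s} : Set G), inf_le_left, ?_, fun x hx g hg => ?_⟩
  · refine index_inf_le.trans (Nat.mul_le_mul_left _ ((index_iInf_le _).trans ?_))
    refine (Finset.prod_le_pow_card _ _ d fun s _ => hd _ (hbH s)).trans ?_
    rw [Finset.card_univ, Fintype.card_coe]
    exact Nat.pow_le_pow_right hd0 hcard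
  · have hx1 : x ∈ H := hx.1
    have hx2 : ∀ s, x * b s = b s * x := fun s => mem_cent.1 (mem_iInf.1 hx.2 s)
    have h1 : (S a).image (fun s => x * s) ⊆ S (x * a) := by
      intro y hy
      obtain ⟨s, hs, rfl⟩ := Finset.mem_image.1 hy
      refine (hS _ _).2 ⟨b ⟨s, hs⟩, hbH _, ?_⟩
      have := hb ⟨s, hs⟩
      simp only at this
      rw [← mul_assoc, ← hx2, mul_assoc x, mul_assoc x, this]
    have h2 := Finset.eq_of_subset_of_card_le h1 (by
      rw [Finset.card_image_of_injective _ (mul_right_injective x)]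
      exact hmax _ (by simpa using H.mul_mem hx1 ha))
    have h3 : g * (x * a) * g⁻¹ ∈ S (x * a) := (hS _ _).2 ⟨g, hg, rfl⟩
    rw [← h2] at h3
    obtain ⟨s, hs, e⟩ := Finset.mem_image.1 h3
    obtain ⟨k, _, rfl⟩ := (hS _ _).1 hs
    have h4 : a ∈ normalClosure ({a} : Set G) := subset_normalClosure rfl
    have h5 : x⁻¹ * (g * x * g⁻¹) = (k * a * k⁻¹) * (g * a * g⁻¹)⁻¹ := by
      calc x⁻¹ * (g * x * g⁻¹) = x⁻¹ * (g * (x * a) * g⁻¹) * (g * a * g⁻¹)⁻¹ := by group
        _ = _ := by rw [← e]; group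
    rw [h5]
    exact mul_mem (normalClosure_normal.conj_mem _ h4 _)
      (inv_mem (normalClosure_normal.conj_mem _ h4 _))

end

theorem exists_bound (m : ℕ) : ∃ N : ℕ, ∀ (G : Type u) [Group G] [Finite G] (t v : G),
    Hyp m t v → Nat.card G ≤ N := by
  set c := 2 * m ^ 2 with hc
  set d := c ^ (ex c + 1) with hd
  refine ⟨m + (c * d ^ d).factorial * (m ^ 3 * (d.factorial * m ^ 3)), fun G _ _ t v h => ?_⟩
  by_cases ht : t = 1
  · have h1 := h.ct
    have h2 := cls_mul_card t
    rw [ht, cls_one, one_mul] at h2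
    rw [ht, h2] at h1
    omega
  have ht2 : orderOf t = 2 := orderOf_eq_prime (by rw [pow_two, h.t2]) ht
  obtain ⟨H, hH, h1, h2⟩ := exists_bfc (card_le_small_classes ht2 h.ct)
  obtain ⟨a, ha, C, h3, h4, h5⟩ := exists_neumann H h2
  have h6 := h.card_le_of_comm C.normalCore (normalClosure ({a} : Set G)) fun x hx y hy =>
    h5 x (normalCore_le _ hx) y (h3 (normalCore_le _ hy))
  have h7 := h.card_normalClosure_le a
  have h8 : C.normalCore.index ≤ (c * d ^ d).factorial :=
    (index_normalCore_le _).trans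
      (Nat.factorial_le (h4.trans (Nat.mul_le_mul_right _ h1)))
  have h9 : (cls a).factorial ≤ d.factorial := Nat.factorial_le (h2 a ha)
  rw [← index_mul_card C.normalCore]
  refine le_trans (Nat.mul_le_mul h8 (h6.trans (Nat.mul_le_mul_left _
    (h7.trans (Nat.mul_le_mul_right _ h9))))) (Nat.le_add_left _ _)

end Cfsg.Agent.Blk.KF
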