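import Cfsg.Agent.Lib.Block.Rob
import Mathlib.GroupTheory.FixedPointFree

/-! Kernels of local blocks, blocks of principal type, involutions inverting Sylow subgroups. -/

set_option autoImplicit false

namespace Cfsg.Agent.Blk

open MonoidAlgebra
open Cfsg.Agent.Char hiding cj cj_mul cj_inv_cj cj_cj_inv sum_cj_eq
open scoped ComplexConjugate

section
variable {G : Type*} [Group G] [Finite G] {p : ℕ} [hp : Fact p.Prime]

omit hp in
theorem mem_No_of_forall {Q : Subgroup G} {t : G} (h : ∀ u ∈ Q, t * u * t⁻¹ ∈ Q) : t ∈ No Q :=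
  mem_No.2 (Subgroup.eq_of_le_of_card_ge (by rintro _ ⟨u, hu, rfl⟩; exact h u hu) (card_cs t Q).ge)

omit hp in
theorem conj_eq_inv_of_fpf {Q : Subgroup G} {t : G} (ht : t * t = 1) (hQ : t ∈ No Q)
    (h : ∀ u ∈ Q, t * u * t⁻¹ = u → u = 1) {u : G} (hu : u ∈ Q) : t * u * t⁻¹ = u⁻¹ := by
  let φ : Q →* Q :=
    { toFun := fun u => ⟨t * u * t⁻¹, conj_mem_of_No hQ u.2⟩
      map_one' := Subtype.ext (by simp)
      map_mul' := fun a b => Subtype.ext (by simp [mul_assoc]) }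
  have h1 : MonoidHom.FixedPointFree φ := fun u hu =>
    Subtype.ext (h u u.2 (congrArg Subtype.val hu))
  have h2 := h1.coe_eq_inv_of_involutive fun u => Subtype.ext (by
    change t * (t * u * t⁻¹) * t⁻¹ = u
    rw [inv_eq_of_mul_eq_one_right ht, ← mul_assoc, ← mul_assoc, ht, one_mul, mul_assoc, ht,
      mul_one])
  exact congrArg Subtype.val (congrFun h2 ⟨u, hu⟩)

theorem exists_sylow_inverted (hp2 : p ≠ 2)
    (hC : ∀ g : G, g ≠ 1 → (∃ k : ℕ, orderOf g = p ^ k) → Odd (Nat.card (Ce1 g))) {t z : G}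
    (ht : orderOf t = 2) (hz1 : z ≠ 1) (hz : ∃ k : ℕ, orderOf z = p ^ k) (h : t * z * t⁻¹ = z⁻¹) :
    ∃ P, IsSyl p P ⊤ ∧ ∀ u ∈ P, t * u * t⁻¹ = u⁻¹ := by
  have htt : t * t = 1 := by rw [← sq, ← ht, pow_orderOf_eq_one]
  obtain ⟨Q, ⟨hQ, hzQ, htQ⟩, hmax⟩ := Set.Finite.exists_maximal
    (s := {Q : Subgroup G | IsPGroup p Q ∧ z ∈ Q ∧ t ∈ No Q}) (Set.toFinite _)
    ⟨Subgroup.zpowers z, isPGroup_zpowers hz, Subgroup.mem_zpowers z, mem_No_of_forall (by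
      rintro _ ⟨n, rfl⟩
      rw [← conj_zpow, h]
      exact Subgroup.zpow_mem _ (inv_mem (Subgroup.mem_zpowers z)) n)⟩
  have hinv : ∀ u ∈ Q, t * u * t⁻¹ = u⁻¹ := fun u hu => conj_eq_inv_of_fpf htt htQ (fun u hu h1 => by
    by_contra h2
    have := Subgroup.orderOf_dvd_natCard _ (mem_Ce1.2 (mul_inv_eq_iff_eq_mul.1 h1))
    rw [ht] at this
    exact Nat.not_even_iff_odd.2 (hC u h2 (pelt_of_mem hQ hu)) (even_iff_two_dvd.2 this)) hu
  refine ⟨Q, IsSyl.of_inf_No ?_, hinv⟩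
  rw [top_inf_eq]
  obtain ⟨R, hR, hQR⟩ := exists_isSyl_ge hQ (le_No Q)
  have hRC : R ≤ No (Ce Q) := hR.le.trans (No_le_No_Ce Q)
  have hti : t⁻¹ = t := inv_eq_of_mul_eq_one_right htt
  have hK : t ∈ No (R ⊔ Ce Q) := mem_No_of_forall fun x hx => by
    obtain ⟨r, hr, c, hc, rfl⟩ := exists_mul_of_mem_sup hRC hx
    have h1 : r⁻¹ * (t * r * t⁻¹) ∈ Ce Q := mem_Ce.2 fun u hu => by
      have h2 := hinv _ (conj_mem_of_No (hR.le hr) (inv_mem hu))
      have h3 := hinv u hu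
      rw [hti] at h2 h3 ⊢
      have h4 : u = t * u⁻¹ * t := by
        rw [← h3, ← mul_assoc, ← mul_assoc, htt, one_mul, mul_assoc, htt, mul_one]
      have h5 : t * r * u⁻¹ = r * u * r⁻¹ * t * r := by
        have : t * (r * u⁻¹ * r⁻¹) * t * t * r = (r * u⁻¹ * r⁻¹)⁻¹ * t * r := by rw [h2]
        simpa [mul_assoc, htt] using this
      calc u * (r⁻¹ * (t * r * t)) = r⁻¹ * (r * u * r⁻¹ * t * r) * t := by group
        _ = r⁻¹ * (t * r * (t * t) * u⁻¹) * t := by rw [← h5, htt, mul_one]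
        _ = r⁻¹ * (t * r * t) * (t * u⁻¹ * t) := by group
        _ = _ := by rw [← h4]
    have h2 : t * (r * c) * t⁻¹ = r * (r⁻¹ * (t * r * t⁻¹)) * (t * c * t⁻¹) := by group
    rw [h2]
    exact mul_mem (mul_mem (Subgroup.mem_sup_left hr) (Subgroup.mem_sup_right h1))
      (Subgroup.mem_sup_right (conj_mem_of_No (No_le_No_Ce Q htQ) hc))
  have hodd : Odd (Nat.card ↥(R ⊔ Ce Q)) := by
    have h1 : Odd (Nat.card (Ce Q)) :=
      Odd.of_dvd_nat (hC z hz1 hz) (Subgroup.card_dvd_of_le fun x hx =>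
        mem_Ce1.2 (mem_Ce.1 hx z hzQ).symm)
    have h2 : Odd (Nat.card R) := by
      rw [hR.card_eq]; exact (hp.out.odd_of_ne_two hp2).pow
    have h3 := card_inf_mul_relIndex' (Ce Q) (R ⊔ Ce Q)
    rw [inf_eq_right.2 le_sup_right, relIndex_sup_eq hRC le_rfl] at h3
    rw [← h3]
    exact h1.mul (h2.of_dvd_nat (Subgroup.relIndex_dvd_card _ _))
  obtain ⟨S, hS, htS⟩ := Solv.coprime_exists_sylowIn (A := Subgroup.zpowers t) (K := R ⊔ Ce Q)
    (Subgroup.zpowers_le.2 hK) (by rw [Nat.card_zpowers, ht]; exact hodd.coprime_two_left)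
    (Or.inl (Solv.isSolvable_zpowers t)) p
  have hS' : IsSyl p S (R ⊔ Ce Q) := isSyl_iff.2 hS.exists_sylow_map
  have hQS : Q ≤ S := hS'.ge_of_le_No hQ (hQR.trans le_sup_left) (sup_le hR.le (Ce_le_No Q))
  have h1 : S ≤ Q := hmax ⟨hS'.pg, hQS hzQ, htS (Subgroup.mem_zpowers t)⟩ hQS
  obtain ⟨x, -, hx⟩ := hS'.exists_cs_le hR.pg le_sup_left
  have h2 := eq_of_le_of_cs_le hQR (hx.trans h1)
  subst h2
  exact hR

theorem defect_zero_or_inverted (hp2 : p ≠ 2)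
    (hC : ∀ g : G, g ≠ 1 → (∃ k : ℕ, orderOf g = p ^ k) → Odd (Nat.card (Ce1 g))) :
    (∃ χ : IrrCharacter G, nu p χ = (Nat.card G).factorization p) ∨
      ∀ t : G, orderOf t = 2 → ∀ P, IsSyl p P ⊤ →
        ∃ s, IsConj t s ∧ ∀ u ∈ P, s * u * s⁻¹ = u⁻¹ := by
  refine or_iff_not_imp_left.2 fun hn t ht P hP => ?_
  by_contra hne
  refine hn (exists_defect_zero_of_sep p (x := t) (fun hd => ?_) fun g h h1 h2 h3 => ?_)
  · obtain ⟨x, hx⟩ := exists_prime_orderOf_dvd_card' p hd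
    rw [← Subgroup.orderOf_coe] at hx
    refine Nat.not_even_iff_odd.2 (hC x (fun h1 => hp.out.ne_one (by rw [← hx, h1, orderOf_one]))
      ⟨1, by rw [hx, pow_one]⟩) (even_iff_two_dvd.2 ?_)
    rw [← ht]
    exact Subgroup.orderOf_dvd_natCard _ (mem_Ce1.2 (mem_Ce1.1 x.2).symm)
  · by_contra hgh
    have hg : orderOf g = 2 := (orderOf_of_isConj h1).symm.trans ht
    have h4 : g * g = 1 := by rw [← sq, ← hg, pow_orderOf_eq_one]
    have h5 : h * h = 1 := by rw [← sq, ← ht, orderOf_of_isConj h2, pow_orderOf_eq_one]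
    obtain ⟨Q, hQ, h6⟩ := exists_sylow_inverted hp2 hC hg
      (fun h4 => hgh (mul_inv_eq_one.1 h4).symm) h3 (by
        rw [mul_inv_rev, inv_inv, inv_eq_of_mul_eq_one_right h5, inv_eq_of_mul_eq_one_right h4]
        simp [mul_assoc, h4])
    obtain ⟨x, -, rfl⟩ := hP.exists_cs_eq hQ
    refine hne ⟨x * g * x⁻¹, h1.trans (isConj_iff.2 ⟨x, rfl⟩), ?_⟩
    rintro _ ⟨u, hu, rfl⟩
    have := h6 u hu
    simp only [MulEquiv.toMonoidHom_eq_coe, MonoidHom.coe_coe, MulAut.conj_apply]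
    calc _ = x * (g * u * g⁻¹) * x⁻¹ := by group
      _ = _ := by rw [this]; group

omit [Finite G] hp in
theorem comm_of_inverted {P : Subgroup G} {s : G} (h : ∀ u ∈ P, s * u * s⁻¹ = u⁻¹) :
    IsMulCommutative P := ⟨⟨fun a b => Subtype.ext (by
  have h1 := h _ (mul_mem a.2 b.2)
  have h2 : s * (a * b) * s⁻¹ = (s * a * s⁻¹) * (s * b * s⁻¹) := by group
  rw [h2, h a a.2, h b b.2, ← mul_inv_rev, inv_inj] at h1
  exact h1.symm)⟩⟩

end

section
variable {G : Type*} [Group G] [Finite G] {k : Type*} [Field k] {p : ℕ} {K L R H : Subgroup G}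

open Classical in
variable (k) in
/-- The principal idempotent of a subgroup. -/
noncomputable def eK (K : Subgroup G) : k[G] :=
  ofFun fun g => if g ∈ K then (Nat.card K : k)⁻¹ else 0

open Classical in
theorem coeff_eK (K : Subgroup G) (g : G) :
    (eK k K).coeff g = if g ∈ K then (Nat.card K : k)⁻¹ else 0 := coeff_ofFun _ _

theorem eK_mem_sup (K : Subgroup G) : eK k K ∈ sup k K :=
  mem_sup.2 fun g hg => by rw [coeff_eK, if_neg hg]

theorem eK_mem_inv (h : H ≤ No K) : eK k K ∈ inv k H :=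
  mem_inv'.2 fun x hx g => by
    classical
    rw [coeff_eK, coeff_eK]
    refine if_congr ⟨fun h1 => ?_, conj_mem_of_No (h hx)⟩ rfl rfl
    simpa [mul_assoc] using conj_mem_of_No' (h hx) h1

theorem eK_mem_Z (h1 : K ≤ H) (h : H ≤ No K) : eK k K ∈ Z k H :=
  mem_Z.2 ⟨sup_mono h1 (eK_mem_sup K), eK_mem_inv h⟩

theorem eK_mul_eK (hK : (Nat.card K : k) ≠ 0) (h : K ≤ L) : eK k K * eK k L = eK k L := by
  classical
  have := Fintype.ofFinite G
  refine ext' fun g => ?_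
  rw [coeff_mul_left]
  simp only [coeff_eK, ite_mul, zero_mul]
  rw [← sum_subgroup K fun x => (Nat.card K : k)⁻¹ * if x⁻¹ * g ∈ L then (Nat.card L : k)⁻¹ else 0,
    Finset.sum_congr rfl fun x _ => by rw [if_congr (L.mul_mem_cancel_left (inv_mem (h x.2))) rfl rfl]]
  rw [Finset.sum_const, Finset.card_univ, ← Nat.card_eq_fintype_card, nsmul_eq_mul,
    mul_inv_cancel_left₀ hK]

theorem eK_idem (hK : (Nat.card K : k) ≠ 0) : IsIdempotentElem (eK k K) := eK_mul_eK hK le_rfl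

variable [Fact p.Prime] [CharP k p]

theorem card_ne_zero_of_not_dvd (hK : ¬ p ∣ Nat.card K) : (Nat.card K : k) ≠ 0 := by
  rwa [Ne, CharP.cast_eq_zero_iff k p]

theorem Br_eK (hK : ¬ p ∣ Nat.card K) (hR : IsPGroup p R) (h : R ≤ No K) :
    Br R (eK k K) = eK k (K ⊓ Ce R) := by
  classical
  have h0 := card_ne_zero_of_not_dvd (k := k) hK
  have h1 : (Nat.card ↥(K ⊓ Ce R) : k) ≠ 0 := card_ne_zero_of_not_dvd fun h =>
    hK (h.trans (Subgroup.card_dvd_of_le inf_le_left))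
  have h2 : Br R (eK k K) = ((Nat.card ↥(K ⊓ Ce R) : k) * (Nat.card K : k)⁻¹) • eK k (K ⊓ Ce R) :=
    ext' fun g => by
      rw [coeff_smul', coeff_eK]
      by_cases h4 : g ∈ Ce R
      · rw [coeff_Br _ h4, coeff_eK]
        by_cases h3 : g ∈ K
        · rw [if_pos h3, if_pos (mi h3 h4), mul_right_comm, mul_inv_cancel₀ h1, one_mul]
        · rw [if_neg h3, if_neg fun h => h3 (mi1 h), mul_zero]
      · rw [if_neg fun h => h4 (mi2 h), mul_zero]
        exact mem_sup.1 (Br_mem_sup _ _) g h4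
  have h3 := Br_idem hR (eK_mem_inv (k := k) h) (eK_idem h0)
  rw [h2, IsIdempotentElem, smul_mul_smul_comm, eK_idem h1] at h3
  have h4 := congrArg (fun a => a.coeff 1) h3
  simp only [coeff_smul', coeff_eK, if_pos (one_mem _)] at h4
  have h5 := mul_right_cancel₀ (inv_ne_zero h1) h4
  rw [h2, (mul_eq_right₀ (mul_ne_zero h1 (inv_ne_zero h0))).1 h5, one_smul]

theorem eK_mul_eq_of_le {f : k[G]} (hL : ¬ p ∣ Nat.card L) (h : K ≤ L) (hf : eK k L * f = f) :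
    eK k K * f = f := by
  rw [← hf, ← mul_assoc, eK_mul_eK (card_ne_zero_of_not_dvd fun h1 =>
    hL (h1.trans (Subgroup.card_dvd_of_le h))) h]

theorem NSub.eK_mul_iff {Q P : Subgroup G} {f e : k[G]} (h : NSub p H Q f P e)
    (hK : ¬ p ∣ Nat.card K) (h1 : K ≤ H ⊓ Ce Q) (h2 : P ≤ No K) (h3 : H ⊓ Ce Q ≤ No K) :
    eK k (K ⊓ Ce P) * e = e ↔ eK k K * f = f := by
  have := h.Br_mul_iff (sup_mono (h1.trans inf_le_left) (eK_mem_sup K)) (eK_mem_inv h2)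
    (eK_mem_inv h3) (eK_idem (card_ne_zero_of_not_dvd hK))
  rwa [Br_eK hK h.pg h2, Br_of_mem_sup (sup_mono (h1.trans inf_le_right) (eK_mem_sup K))] at this

end

section
variable {G : Type*} [Group G] [Finite G] {π : Set ℕ} {K L H : Subgroup G}

theorem piCoreOf_le (π : Set ℕ) (H : Subgroup G) : piCoreOf π H ≤ H := Subgroup.map_subtype_le _

theorem piCoreOf_spec {q : ℕ} (hq : q.Prime) (h : q ∣ Nat.card (piCoreOf π H)) : q ∈ π := by
  rw [piCoreOf, Subgroup.card_map_of_injective (Subgroup.subtype_injective _)] at h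
  exact Solv.piCore_spec π q hq h

omit [Finite G] in
theorem le_piCoreOf (h : ∀ q : ℕ, q.Prime → q ∣ Nat.card K → q ∈ π) (h1 : K ≤ H) (h2 : H ≤ No K) :
    K ≤ piCoreOf π H := Solv.le_map_subtype_piCore h h1 h2

theorem No_le_No_piCoreOf (π : Set ℕ) (H : Subgroup G) : No H ≤ No (piCoreOf π H) := by
  have h0 : ∀ x ∈ No H, cs x (piCoreOf π H) ≤ piCoreOf π H := fun x hx => by
    refine le_piCoreOf (fun q hq h => piCoreOf_spec hq (by rwa [card_cs] at h)) ?_ ?_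
    · rw [← mem_No.1 hx, cs_le_cs_iff, mem_No.1 hx]; exact piCoreOf_le π H
    · rw [← cs_No, le_cs_iff, mem_No.1 (inv_mem hx)]
      intro y hy
      refine mem_No_of_forall ?_
      rintro _ ⟨u, hu, rfl⟩
      exact ⟨_, (inferInstance : (piCore π H).Normal).conj_mem u hu ⟨y, hy⟩, rfl⟩
  intro x hx
  exact mem_No.2 (Subgroup.eq_of_le_of_card_ge (h0 x hx) (card_cs _ _).ge)

theorem piCoreOf_inf_le (h : K ≤ H) : piCoreOf π H ⊓ K ≤ piCoreOf π K :=
  le_piCoreOf (fun _ hq h => piCoreOf_spec hq (h.trans (Subgroup.card_dvd_of_le inf_le_left)))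
    inf_le_right ((le_inf (h.trans ((le_No H).trans (No_le_No_piCoreOf π H))) (le_No K)).trans
      (No_inf_le _ _))

theorem mem_piCoreOf {x : H} : (x : G) ∈ piCoreOf π H ↔ x ∈ piCore π H := by
  simp [piCoreOf]

theorem cs_piCoreOf (x : G) (π : Set ℕ) (H : Subgroup G) :
    cs x (piCoreOf π H) = piCoreOf π (cs x H) := by
  have h0 : ∀ (x : G) (H : Subgroup G), cs x (piCoreOf π H) ≤ piCoreOf π (cs x H) := fun x H =>
    le_piCoreOf (fun q hq h => piCoreOf_spec hq (by rwa [card_cs] at h))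
      (cs_mono x (piCoreOf_le π H))
      (by rw [← cs_No]; exact cs_mono x ((le_No H).trans (No_le_No_piCoreOf π H)))
  refine le_antisymm (h0 x H) ?_
  rw [le_cs_iff]
  simpa using h0 x⁻¹ (cs x H)

theorem cj_eK {k : Type*} [Field k] (x : G) (K : Subgroup G) : cj x (eK k K) = eK k (cs x K) :=
  ext' fun g => by
    classical
    rw [coeff_cj, coeff_eK, coeff_eK, card_cs]
    exact if_congr mem_cs.symm rfl rfl

variable {k : Type*} [Field k] {p : ℕ} [Fact p.Prime] [CharP k p] {Q P : Subgroup G} {e f : k[G]}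

theorem not_dvd_piCoreOf (hp : p ∉ π) (H : Subgroup G) : ¬ p ∣ Nat.card (piCoreOf π H) :=
  fun h => hp (piCoreOf_spec Fact.out h)

theorem NSub.eK_core_iff (h : NSub p H Q f P e) (hp : p ∉ π) :
    eK k (piCoreOf π (H ⊓ Ce Q) ⊓ Ce P) * e = e ↔ eK k (piCoreOf π (H ⊓ Ce Q)) * f = f :=
  h.eK_mul_iff (not_dvd_piCoreOf hp _) (piCoreOf_le _ _)
    (((le_inf h.leH h.no).trans (inf_No_le_No_inf_Ce H Q)).trans (No_le_No_piCoreOf _ _))
    ((le_No _).trans (No_le_No_piCoreOf _ _))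

theorem NSub.core_inf_le (h : NSub p H Q f P e) :
    piCoreOf π (H ⊓ Ce Q) ⊓ Ce P ≤ piCoreOf π (H ⊓ Ce P) :=
  le_trans (le_inf inf_le_left (inf_le_inf_right _ ((piCoreOf_le _ _).trans inf_le_left)))
    (piCoreOf_inf_le (inf_le_inf_left _ (Ce_anti h.le)))

theorem PLe.eK_down (h : PLe p H Q f P e) (hp : p ∉ π)
    (he : eK k (piCoreOf π (H ⊓ Ce P)) * e = e) : eK k (piCoreOf π (H ⊓ Ce Q)) * f = f :=
  h.head_induction (C := fun Q f => eK k (piCoreOf π (H ⊓ Ce Q)) * f = f) he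
    fun _ _ _ _ h1 _ h3 => (h1.eK_core_iff hp).1
      (eK_mul_eq_of_le (not_dvd_piCoreOf hp _) h1.core_inf_le h3)

theorem PLe.eK_up (h : PLe p H Q f P e) (hp : p ∉ π)
    (hc : ∀ x ∈ H ⊓ Ce Q, (∀ q : ℕ, q.Prime → q ∣ orderOf x → q ∈ π) → x ∈ piCoreOf π (H ⊓ Ce Q))
    (hf : eK k (piCoreOf π (H ⊓ Ce Q)) * f = f) : eK k (piCoreOf π (H ⊓ Ce P)) * e = e := by
  revert hc hf
  refine h.head_induction (C := fun Q f => (∀ x ∈ H ⊓ Ce Q,
    (∀ q : ℕ, q.Prime → q ∣ orderOf x → q ∈ π) → x ∈ piCoreOf π (H ⊓ Ce Q)) →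
    eK k (piCoreOf π (H ⊓ Ce Q)) * f = f → eK k (piCoreOf π (H ⊓ Ce P)) * e = e) (fun _ h => h)
    fun Q f R g h1 _ h3 h4 h5 => h3 (fun x hx hq => h1.core_inf_le
      (mi (h4 x (inf_le_inf_left _ (Ce_anti h1.le) hx) hq) hx.2)) ?_
  refine eK_mul_eq_of_le (fun h => not_dvd_piCoreOf hp _
    (h.trans (Subgroup.card_dvd_of_le inf_le_left))) (fun x hx => ?_) ((h1.eK_core_iff hp).2 h5)
  have h6 := piCoreOf_le _ _ hx
  exact mi (h4 x (inf_le_inf_left _ (Ce_anti h1.le) h6) fun q hq h =>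
    piCoreOf_spec hq (h.trans (Subgroup.orderOf_dvd_natCard _ hx))) h6.2

end

section
variable {G : Type*} [Group G] [Finite G] {M : Ideal AlgInt} {p : ℕ} [PMod M p]
  {K H : Subgroup G}

theorem barS_ker (hK : ¬ p ∣ Nat.card K) (h1 : K ≤ H) (h2 : H ≤ No K) :
    barS M H {ξ : IrrCharacter H | K.subgroupOf H ≤ charKer (ξ : H → ℂ)} = eK (kk M) K := by
  classical
  have : (K.subgroupOf H).Normal := (Subgroup.normal_subgroupOf_iff_le_normalizer h1).2 h2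
  refine ext' fun g => ?_
  rw [coeff_eK]
  by_cases hg : g ∈ H
  · rw [barS, coeff_es_of_mem _ hg, coeff_bar, blockCoeff_ker, Subgroup.mem_subgroupOf,
      Nat.card_congr (Subgroup.subgroupOfEquivOfLe h1).toEquiv]
    split_ifs
    · rw [rd_inv (natCast_mem _ _) (by rwa [LI_natCast_iff]), rd_natCast]
    · exact rd_zero
  · rw [barS, coeff_es_of_notMem _ hg, if_neg fun h => hg (h1 h)]

theorem eK_mul_blk_iff (hK : ¬ p ∣ Nat.card K) (h1 : K ≤ H) (h2 : H ≤ No K) (ξ : IrrCharacter H) :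
    eK (kk M) K * es H (blk M ξ) = es H (blk M ξ) ↔
      ∀ h : H, (h : G) ∈ K → (ξ : H → ℂ) h = (ξ : H → ℂ) 1 := by
  have : (K.subgroupOf H).Normal := (Subgroup.normal_subgroupOf_iff_le_normalizer h1).2 h2
  rw [← barS_ker hK h1 h2, ← (isUB_ker (by
    rwa [Nat.card_congr (Subgroup.subgroupOfEquivOfLe h1).toEquiv])).mem_iffS]
  exact forall₂_congr fun h _ => ξ.2.isCharacter.mem_charKer

theorem _root_.Cfsg.IsPBlock.eK_mul_iff {b : Set (IrrCharacter H)} (hb : IsPBlock M b)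
    (hK : ¬ p ∣ Nat.card K) (h1 : K ≤ H) (h2 : H ≤ No K) :
    eK (kk M) K * barS M H b = barS M H b ↔ ∀ h : H, (h : G) ∈ K → h ∈ blockKer b := by
  constructor
  · intro h x hx ξ hξ
    rw [← hb.es_blk_eq hξ, eK_mul_blk_iff hK h1 h2] at h
    exact h x hx
  · intro h
    obtain ⟨ξ, hξ⟩ := hb.nonempty
    rw [← hb.es_blk_eq hξ, eK_mul_blk_iff hK h1 h2]
    exact fun x hx => h x hx ξ hξ

variable {π : Set ℕ} {B b e f : (kk M)[G]} {D Q : Subgroup G}

theorem IsMP.eK_iff_Br (hm : IsMP p H B D e) (hp : p ∉ π) :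
    eK (kk M) (piCoreOf π (H ⊓ Ce D)) * e = e ↔
      eK (kk M) (piCoreOf π (H ⊓ No D)) * Br D B = Br D B := by
  have := Fact.mk (PMod.prime M)
  have hb := hm.blkB.isBlock_Br hm.isDef
  have h1 : piCoreOf π (H ⊓ No D) ≤ H ⊓ Ce D := by
    refine le_inf ((piCoreOf_le _ _).trans inf_le_left) (Solv.le_centralizer_of_inf_eq_bot
      ((piCoreOf_le _ _).trans inf_le_right) ((le_inf hm.bp.le (le_No D)).trans
        ((le_No _).trans (No_le_No_piCoreOf _ _))) ?_)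
    exact Subgroup.inf_eq_bot_of_coprime
      (Solv.coprime_card_of_isPGroup hm.bp.pg (not_dvd_piCoreOf hp _)).symm
  have h2 : piCoreOf π (H ⊓ No D) = piCoreOf π (H ⊓ Ce D) := le_antisymm
    ((le_inf le_rfl h1).trans (piCoreOf_inf_le (inf_Ce_le_inf_No H D)))
    (le_piCoreOf (fun _ hq h => piCoreOf_spec hq h)
      ((piCoreOf_le _ _).trans (inf_Ce_le_inf_No H D))
      ((inf_No_le_No_inf_Ce H D).trans (No_le_No_piCoreOf _ _)))
  have h3 := eK_idem (card_ne_zero_of_not_dvd (k := kk M) (not_dvd_piCoreOf hp (H ⊓ Ce D)))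
  have h4 : H ⊓ No D ≤ No (piCoreOf π (H ⊓ Ce D)) :=
    (inf_No_le_No_inf_Ce H D).trans (No_le_No_piCoreOf _ _)
  rw [h2, ← hm.bp.blk.lam_idem_eq_one_iff (eK_mem_Z (piCoreOf_le _ _)
    ((inf_Ce_le_inf_No H D).trans h4)) h3, ← hb.lam_idem_eq_one_iff (eK_mem_Z
    ((piCoreOf_le _ _).trans (inf_Ce_le_inf_No H D)) h4) h3, hm.bp.blk.lam_cover
    (inf_Ce_le_inf_No H D) hb (by rw [hm.eq]; exact hm.bp.blk.ne)
    (sup_mono (piCoreOf_le _ _) (eK_mem_sup _)) (eK_mem_inv h4)]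

theorem IsBP.eK_core (hf : IsBP p H Q f) (hB : IsBlock H B) (hD : IsDef p H B D)
    (h : Br Q B * f = f) (hp : p ∉ π)
    (h0 : eK (kk M) (piCoreOf π (H ⊓ No D)) * Br D B = Br D B) :
    eK (kk M) (piCoreOf π (H ⊓ Ce Q)) * f = f := by
  have := Fact.mk (PMod.prime M)
  obtain ⟨e, hm⟩ := hD.exists_isMP hB
  obtain ⟨x, hx, h1⟩ := hm.exists_cs_PLe hf h
  have h2 := h1.eK_down hp ((hm.eK_iff_Br hp).2 h0)
  rw [← cs_inf_Ce hx, ← cs_piCoreOf, ← cj_eK, ← map_mul] at h2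
  exact (cj x).injective h2

theorem IsBP.eK_core_up (hf : IsBP p H Q f) (hB : IsBlock H B) (hD : IsDef p H B D)
    (h : Br Q B * f = f) (hp : p ∉ π)
    (hc : ∀ x ∈ H ⊓ Ce Q, (∀ q : ℕ, q.Prime → q ∣ orderOf x → q ∈ π) → x ∈ piCoreOf π (H ⊓ Ce Q))
    (h0 : eK (kk M) (piCoreOf π (H ⊓ Ce Q)) * f = f) :
    eK (kk M) (piCoreOf π (H ⊓ No D)) * Br D B = Br D B := by
  have := Fact.mk (PMod.prime M)
  obtain ⟨e, hm⟩ := hD.exists_isMP hB
  obtain ⟨x, hx, h1⟩ := hm.exists_cs_PLe hf h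
  refine (hm.eK_iff_Br hp).1 (h1.eK_up hp (fun y hy hq => ?_) ?_)
  · rw [← cs_inf_Ce hx] at hy ⊢
    rw [← cs_piCoreOf, mem_cs]
    refine hc _ (mem_cs.1 hy) fun q hq' h => hq q hq' ?_
    have := orderOf_conj' x⁻¹ y
    rw [inv_inv] at this
    rwa [this] at h
  · rw [← cs_inf_Ce hx, ← cs_piCoreOf, ← cj_eK, ← map_mul, h0]

theorem eq_Br_of_ind (hB : IsBlock H B) (hD : IsDef p H B D) (hb : IsBlock (H ⊓ No D) b)
    (h : Ind H (H ⊓ No D) b B) : b = Br D B := by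
  have := Fact.mk (PMod.prime M)
  exact hB.eq_Br_of_mul hD hb ((ind_iff_Br hD.pg (le_inf hD.le (le_No D)) (inf_Ce_le_inf_No H D)
    inf_le_left inf_le_right hb hB).1 h)

theorem IsMP.pair_of_ind (hm : IsMP p K b D e) (h1 : H ⊓ Ce D ≤ K) (h2 : K ≤ H) (hB : IsBlock H B)
    (h : Ind H K b B) : IsBP p H D e ∧ Br D B * e = e := by
  have := Fact.mk (PMod.prime M)
  refine ⟨hm.bp.of_sub h1 h2 le_rfl, ?_⟩
  rw [← hm.eq, ← mul_assoc, (ind_iff_Br_Br hm.blkB hm.isDef h1 h2 hB).1 h]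

end

section
variable {G : Type*} [Group G] [Finite G] {M : Ideal AlgInt} {p : ℕ} [PMod M p]
  {K L U : Subgroup G} {e : (kk M)[G]}

omit [PMod M p] in
theorem relIndex_sup_pow [Fact p.Prime] (hU : IsPGroup p U) (h : U ≤ No K) :
    ∃ n, K.relIndex (U ⊔ K) = p ^ n := by
  rw [relIndex_sup_eq h le_rfl]
  obtain ⟨n, hn⟩ := hU.exists_card_eq
  obtain ⟨m, -, hm⟩ := (Nat.dvd_prime_pow Fact.out).1 (hn ▸ Subgroup.relIndex_dvd_card K U)
  exact ⟨m, hm⟩

theorem IsBlock.isBlock_of_relIndex (he : IsBlock K e) (h1 : K ≤ L) (h2 : L ≤ No K)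
    (h3 : e ∈ Blk.inv (kk M) L) {n : ℕ} (h : K.relIndex L = p ^ n) : IsBlock L e := by
  have := Fact.mk (PMod.prime M)
  have := he.isBlock_orb_of_preg h1 h2 fun g hg h4 => mem_of_preg_of_relIndex h2 h hg h4
  rwa [orb_of_inv h3] at this

theorem IsDef.isSyl_of_coprime {D : Subgroup G} (he : IsBlock K e) (hK : ¬ p ∣ Nat.card K)
    (h1 : K ≤ L) (h2 : L ≤ No K) (h3 : e ∈ Blk.inv (kk M) L) (hD : IsDef p L e D) :
    IsSyl p D L := by
  have hp := Fact.mk (PMod.prime M)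
  refine isSyl_of_not_dvd hD.le hD.pg (not_dvd_relIndex_trans le_sup_left (sup_le hD.le h1)
    (fun h => hK ?_) (hD.not_dvd_index he h1 h2 h3))
  rw [relIndex_eq_of_forall (C := K) le_sup_right fun l hl => by
    obtain ⟨n, hn, c, hc, rfl⟩ := exists_mul_of_mem_sup' (hD.le.trans h2) hl
    exact ⟨n, hn, by simpa using hc⟩] at h
  exact h.trans (Subgroup.relIndex_dvd_card _ _)

theorem IsBlock.isDef_of_isSyl {D : Subgroup G} (he : IsBlock K e) (he' : IsBlock L e)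
    (hK : ¬ p ∣ Nat.card K) (h1 : K ≤ L) (h2 : L ≤ No K) (hD : IsSyl p D L) : IsDef p L e D := by
  have hp := Fact.mk (PMod.prime M)
  obtain ⟨E, hE⟩ := he'.exists_isDef p
  obtain ⟨x, hx, rfl⟩ := hD.exists_cs_eq (hE.isSyl_of_coprime he hK h1 h2 he'.inv)
  exact hE.cs_of_mem he'.inv hx

omit [PMod M p] in
theorem isSyl_sup_coprime [Fact p.Prime] (hU : IsPGroup p U) (hK : ¬ p ∣ Nat.card K)
    (h : U ≤ No K) : IsSyl p U (U ⊔ K) := by
  refine isSyl_of_not_dvd le_sup_left hU fun h1 => hK ?_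
  rw [relIndex_eq_of_forall (C := K) le_sup_right fun l hl => by
    obtain ⟨n, hn, c, hc, rfl⟩ := exists_mul_of_mem_sup' h hl
    exact ⟨n, hn, by simpa using hc⟩] at h1
  exact h1.trans (Subgroup.relIndex_dvd_card _ _)

omit [PMod M p] in
theorem inf_No_le_Ce_of_coprime [Fact p.Prime] (hU : IsPGroup p U) (hK : ¬ p ∣ Nat.card K)
    (h : U ≤ No K) : K ⊓ No U ≤ Ce U := fun x hx => mem_Ce.2 fun u hu => by
  have h1 : x⁻¹ * u * x * u⁻¹ ∈ U ⊓ K := mi (mul_mem (conj_mem_of_No' (mi2 hx) hu) (inv_mem hu)) (by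
    have := mul_mem (inv_mem (mi1 hx)) (conj_mem_of_No (h hu) (mi1 hx))
    simpa [mul_assoc] using this)
  rw [Subgroup.inf_eq_bot_of_coprime (Solv.coprime_card_of_isPGroup hU hK), Subgroup.mem_bot] at h1
  calc u * x = x * (x⁻¹ * u * x * u⁻¹) * u := by group
    _ = _ := by rw [h1, mul_one]

theorem IsBlock.isBlock_Br_of_coprime (he : IsBlock K e) (hK : ¬ p ∣ Nat.card K) (hU : IsPGroup p U)
    (h1 : U ≤ No K) (h2 : e ∈ Blk.inv (kk M) U) : IsBlock ((U ⊔ K) ⊓ Ce U) (Br U e) := by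
  have hp := Fact.mk (PMod.prime M)
  obtain ⟨n, hn⟩ := relIndex_sup_pow hU h1
  have h3 := he.isBlock_of_relIndex le_sup_right (sup_le h1 (le_No K)) (mem_inv_sup.2 ⟨h2, he.inv⟩) hn
  have h4 := h3.isBlock_Br (he.isDef_of_isSyl h3 hK le_sup_right (sup_le h1 (le_No K))
    (isSyl_sup_coprime hU hK h1))
  rw [← isBlock_sup_iff hU le_sup_left]
  convert h4 using 1
  refine le_antisymm (sup_le (le_inf le_sup_left (le_No U)) (inf_Ce_le_inf_No _ _)) fun x hx => ?_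
  obtain ⟨u, hu, c, hc, rfl⟩ := exists_mul_of_mem_sup h1 (mi1 hx)
  exact mul_mem (Subgroup.mem_sup_left hu) (Subgroup.mem_sup_right (mi (Subgroup.mem_sup_right hc)
    (inf_No_le_Ce_of_coprime hU hK h1 (mi hc ((No U).mul_mem_cancel_left (le_No U hu) |>.1 (mi2 hx))))))

theorem IsBlock.isBlock_top_of_coprime [K.Normal] [(U ⊔ K).Normal] (he : IsBlock K e)
    (hK : ¬ p ∣ Nat.card K) (hU : IsPGroup p U) (hC : Ce U ≤ U ⊔ K)
    (h2 : e ∈ Blk.inv (kk M) ⊤) : IsBlock ⊤ e := by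
  have hp := Fact.mk (PMod.prime M)
  have h1 := le_No_of_normal U K
  have h3 := he.isBlock_Br_of_coprime hK hU h1 (inv_anti le_top h2)
  rw [inf_eq_right.2 hC] at h3
  obtain ⟨n, hn⟩ := relIndex_sup_pow hU h1
  have h4 := he.isBlock_of_relIndex le_sup_right (le_No_of_normal _ K) (inv_anti le_top h2) hn
  obtain ⟨B, ⟨hB, h5⟩, hu⟩ := existsUnique_block_Br (H := ⊤) hU le_top inf_le_right le_top
    (Ce_le_No U) h3
  have hZ : e ∈ Z (kk M) (⊤ : Subgroup G) := mem_Z.2 ⟨mem_sup_top e, h2⟩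
  have h6 : ∀ B', IsBlock ⊤ B' → e * B' = B' → B' = B := fun B' hB' h => hu B' ⟨hB', by
    refine h3.mul_eq_self_of_ne_zero (Br_mem_Z inf_le_right le_top (Ce_le_No U) hB'.mem)
      (hB'.Br_mul_Br hU le_top) (h4.Br_mul_Br_ne_zero le_top (top_le_No _) hB' ?_ hU le_sup_left
      h3.ne)
    rw [← (Z_top_comm hZ B').eq, h]; exact hB'.ne⟩
  suffices e = B from this ▸ hB
  refine idem_ext hZ he.idem hB.mem hB.idem fun B' hB' => ⟨fun h => ?_, fun h => ?_⟩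
  · rw [h6 B' hB' h, hB.mul_self]
  · obtain ⟨B'', hB'', h7⟩ := exists_block_mul_eq hZ he.idem he.ne
    rw [← hB.eq_of_mul_ne_zero hB' (by rw [h]; exact hB'.ne), ← h6 B'' hB'' h7, h7]

theorem IsBlock.existsUnique_pair_of_coprime [K.Normal] [(U ⊔ K).Normal] (he : IsBlock K e)
    (hK : ¬ p ∣ Nat.card K) (hU : IsPGroup p U) (hC : Ce U ≤ U ⊔ K)
    (h2 : e ∈ Blk.inv (kk M) ⊤) {R : Subgroup G} (hR : IsPGroup p R) :
    ∃! f, IsBP p ⊤ R f ∧ Br R e * f = f := by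
  have hp := Fact.mk (PMod.prime M)
  have hB := he.isBlock_top_of_coprime hK hU hC h2
  have hUS := isSyl_sup_coprime hU hK (le_No_of_normal U K)
  have key : ∀ f, IsBP p ⊤ R f → Br R e * f = f → ∃ V, IsSyl p V (R ⊔ (U ⊔ K)) ∧ R ≤ V ∧
      PLe p ⊤ R f V (Br V e) ∧ IsBP p ⊤ V (Br V e) := by
    intro f hf h
    obtain ⟨S, g, h3, h4⟩ := hf.exists_isMP hB h
    have hS := h4.isDef.isSyl_of_coprime he hK le_top (top_le_No K) h2
    obtain ⟨x, -, hx⟩ := hS.exists_cs_le hU le_top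
    have h5 : cs x U ⊔ K = U ⊔ K := by rw [← cs_normal x (U ⊔ K), cs_sup, cs_normal x K]
    have hV : IsPGroup p ↥(R ⊔ cs x U) := isPGroup_le hS.pg (sup_le h3.le hx)
    have h6 : R ⊔ cs x U ⊔ K = R ⊔ (U ⊔ K) := by rw [sup_assoc, h5]
    have h7 := he.isBlock_Br_of_coprime hK hV (le_No_of_normal _ K) (inv_anti le_top h2)
    rw [inf_eq_right.2 ((Ce_anti le_sup_right).trans (by
      rw [← cs_Ce, h6, ← cs_normal x (U ⊔ K)]; exact (cs_mono x hC).trans le_sup_right))] at h7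
    obtain ⟨g', h8⟩ := h4.bp.exists_PLe (Q := R ⊔ cs x U) (sup_le h3.le hx)
    have h9 := (h8.left h4.bp).blk
    rw [top_inf_eq] at h9
    have h10 : Br (R ⊔ cs x U) e = g' :=
      h7.eq_of_mul_ne_zero h9 (by rw [h4.eq_of_PLe h8]; exact h9.ne)
    refine ⟨R ⊔ cs x U, h6 ▸ isSyl_sup_coprime hV hK (le_No_of_normal _ K), le_sup_left, ?_, ?_⟩
    · rw [h10]; exact PLe.of_le h4.bp h3 h8 le_sup_left
    · rw [h10]; exact h8.left h4.bp
  obtain ⟨S, hS, hRS⟩ := exists_isSyl_ge hR (le_top : R ≤ ⊤)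
  obtain ⟨f, hf, h⟩ := exists_block_Br_mul (H := ⊤) hR le_rfl inf_le_left
    (inf_le_right.trans (Ce_le_No R)) hB.mem (inv_anti le_top h2) he.idem
    (Br_ne_zero_of_le hRS (he.isDef_of_isSyl hB hK le_top (top_le_No K) hS).ne)
  refine ⟨f, ⟨⟨hR, le_top, hf⟩, h⟩, fun f' ⟨hf', h'⟩ => ?_⟩
  obtain ⟨V, hV, hRV, h3, h4⟩ := key f ⟨hR, le_top, hf⟩ h
  obtain ⟨V', hV', hRV', h3', -⟩ := key f' hf' h'
  obtain ⟨x, hx, h5⟩ := hV.exists_cs_eq hV'
  have h6 : R ⊔ (U ⊔ K) ≤ V ⊔ K := by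
    have h7 := isSyl_sup_coprime hV.pg hK (le_No_of_normal V K)
    obtain ⟨n, hn⟩ := relIndex_sup_pow hU (le_No_of_normal U K)
    obtain ⟨m, hm⟩ := relIndex_sup_pow hR (le_No_of_normal R (U ⊔ K))
    have h8 := Subgroup.relIndex_mul_relIndex K (U ⊔ K) (R ⊔ (U ⊔ K)) le_sup_right le_sup_right
    rw [hn, hm, ← pow_add] at h8
    exact (eq_of_relIndex_pow le_sup_right (sup_le hV.le (le_sup_right.trans le_sup_right)) h8.symm
      (not_dvd_relIndex_of_isSyl hV le_sup_left)).ge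
  obtain ⟨v, hv, c, hc, rfl⟩ := exists_mul_of_mem_sup (le_No_of_normal V K) (h6 hx)
  rw [cs_mul, ← cs_eq_of_mem hv] at h5
  have h7 := cs_injective v h5
  have h8 : c ∈ Ce R := mem_Ce.2 fun r hr => by
    have h9 : c * r * c⁻¹ * r⁻¹ ∈ V ⊓ K := mi (mul_mem (h7 ▸ conj_mem_cs.2 (hRV' hr))
      (inv_mem (hRV hr))) (by
        have := mul_mem hc (conj_mem_of_No (top_le_No K (Subgroup.mem_top r)) (inv_mem hc))
        simpa [mul_assoc] using this)
    rw [Subgroup.inf_eq_bot_of_coprime (Solv.coprime_card_of_isPGroup hV.pg hK),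
      Subgroup.mem_bot] at h9
    calc r * c = (c * r * c⁻¹ * r⁻¹) * r * c := by rw [h9, one_mul]
      _ = _ := by group
  have h9 := h3'.cs (Subgroup.mem_top c)
  rw [cj_Br, h7, mem_No.1 (Ce_le_No R h8), hB.cj_eq trivial, hf'.blk.cj_eq (mi trivial h8)] at h9
  exact PLe.unique h4 h9 h3

theorem es_blk_mem_inv [K.Normal] {θ : IrrCharacter K}
    (hθ : ∀ g : G, IsConjCharOf K g (θ : K → ℂ) (θ : K → ℂ)) :
    es K (blk M θ) ∈ Blk.inv (kk M) (⊤ : Subgroup G) := mem_inv.2 fun x _ => by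
  rw [← es_emb_conjIso (cs_normal x K), ← blk_irrMap,
    ← (conj_iff_eq_irrMap (cs_normal x K)).1 (hθ x)]

theorem bar_over [K.Normal] [Fintype K] (hK : ¬ p ∣ Nat.card K) {θ : IrrCharacter K}
    (hθ : es K (blk M θ) ∈ Blk.inv (kk M) (⊤ : Subgroup G)) :
    bar M {χ : IrrCharacter G | classInner (fun n : K => (χ : G → ℂ) n) (θ : K → ℂ) ≠ 0} =
      es K (blk M θ) := by
  have hA := isUB_over (M := M) hK θ
  have hZ : es K (blk M θ) ∈ Z (kk M) (⊤ : Subgroup G) := mem_Z.2 ⟨mem_sup_top _, hθ⟩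
  refine idem_ext (bar_mem _) hA.bar_idem hZ (isBlock_es_blk θ).idem fun B hB => ?_
  obtain ⟨χ, rfl⟩ := exists_blk_eq hB
  rw [← hA.mem_iff]
  constructor
  · intro h
    refine hB.mul_eq_self_of_ne_zero hZ (isBlock_es_blk θ).idem ?_
    rw [(Z_top_comm hZ _).eq]
    exact blk_mul_ne_zero h
  · intro h
    have h1 : bar M (blockOf M (χ : G → ℂ)) * barS M K (blockOf M (θ : K → ℂ)) ≠ 0 := by
      rw [bar_blockOf, barS_blockOf, ← (Z_top_comm hZ _).eq, h]; exact hB.ne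
    obtain ⟨ψ, hψ, η, hη, h2⟩ := ((isUB_blockOf χ).cover_iff (isUB_blockOf θ)).2 h1
    rw [blockOf_of_not_dvd hK] at hη
    obtain rfl : η = θ := hη
    have h3 := hA.eq_of_forall (χ := ψ) h2
    exact h3 (mem_blockOf.2 (mem_blockOf.1 hψ).symm)

theorem principal_type [K.Normal] [Fintype K] [(U ⊔ K).Normal] (hK : ¬ p ∣ Nat.card K)
    (hU : IsPGroup p U) (hC : Ce U ≤ U ⊔ K) {θ : IrrCharacter K}
    (hθ : ∀ g : G, IsConjCharOf K g (θ : K → ℂ) (θ : K → ℂ)) {B : Set (IrrCharacter G)}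
    (hB : ∀ χ : IrrCharacter G, χ ∈ B ↔ classInner (fun n : K => (χ : G → ℂ) n) (θ : K → ℂ) ≠ 0) :
    IsPBlock M B ∧ (∀ D, IsDefectGroup p M B D ↔ IsSyl p D ⊤) ∧
      ∀ R : Subgroup G, IsPGroup p R → ∃! f, IsInducedBlock M (Ce R) f B := by
  have hp := Fact.mk (PMod.prime M)
  have h1 := es_blk_mem_inv (M := M) hθ
  have h2 := bar_over hK h1
  have hA := isUB_over (M := M) hK θ
  rw [← Set.ext hB] at h2 hA
  have he := isBlock_es_blk (M := M) θ
  have h3 := he.isBlock_top_of_coprime hK hU hC h1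
  obtain ⟨B', hB', h4⟩ := exists_isPBlock_bar_eq h3
  obtain rfl : B' = B := hB'.isUB.bar_inj hA (h4.trans h2.symm)
  refine ⟨hB', fun D => ?_, fun R hR => ?_⟩
  · rw [hB'.isDefectGroup_iff, h4]
    exact ⟨fun h => h.isSyl_of_coprime he hK le_top (top_le_No K) h1,
      he.isDef_of_isSyl h3 hK le_top (top_le_No K)⟩
  · obtain ⟨f, ⟨hf, h5⟩, hu⟩ := he.existsUnique_pair_of_coprime hK hU hC h1 hR
    obtain ⟨f, hf', rfl⟩ := hf.exists_isPBlock
    refine ⟨f, (isInducedBlock_Ce_iff hR).2 (isBrauerPairOf_iff'.2 ⟨hB', hf', hf, h4 ▸ h5⟩),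
      fun f' h => ?_⟩
    obtain ⟨-, h6, h7, h8⟩ := isBrauerPairOf_iff'.1 ((isInducedBlock_Ce_iff hR).1 h)
    exact h6.barS_inj hf' (hu _ ⟨h7, h4 ▸ h8⟩)

omit [PMod M p] in
theorem IsSyl.sup_eq_of_relIndex [Fact p.Prime] (hU : IsSyl p U L) (h1 : K ≤ L) {n : ℕ}
    (h : K.relIndex L = p ^ n) : U ⊔ K = L :=
  eq_of_relIndex_pow le_sup_right (sup_le hU.le h1) h (not_dvd_relIndex_of_isSyl hU le_sup_left)

omit [PMod M p] in
theorem exists_relIndex_pPrimePCore [Fact p.Prime] :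
    ∃ n, (pPrimeCore p G).relIndex (pPrimePCore p G) = p ^ n := by
  obtain ⟨n, hn⟩ := (Solv.isPGroup_pCore p (G ⧸ pPrimeCore p G)).exists_card_eq
  refine ⟨n, ?_⟩
  have := Subgroup.relIndex_comap (⊥ : Subgroup (G ⧸ pPrimeCore p G))
    (QuotientGroup.mk' (pPrimeCore p G)) (pPrimePCore p G)
  rwa [MonoidHom.comap_bot, QuotientGroup.ker_mk', pPrimePCore,
    Subgroup.map_comap_eq_self_of_surjective (QuotientGroup.mk'_surjective _),
    Subgroup.relIndex_bot_left, hn] at this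

omit [PMod M p] [Finite G] in
theorem pPrimeCore_le_pPrimePCore : pPrimeCore p G ≤ pPrimePCore p G := fun x hx => by
  rw [pPrimePCore, Subgroup.mem_comap, QuotientGroup.mk'_apply, (QuotientGroup.eq_one_iff x).2 hx]
  exact one_mem _

end

end Cfsg.Agent.Blk
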