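import Cfsg.Agent.Lib.Block.Ord1

/-! More tools for the recognition of simple groups from their order. -/

set_option autoImplicit false

namespace Cfsg.Agent.Blk

open MonoidAlgebra Subgroup
open Cfsg.Agent.Char hiding cj cj_mul cj_inv_cj cj_cj_inv sum_cj_eq
open scoped ComplexConjugate
attribute [local instance] _root_.Classical.propDecidable

variable {G : Type*} [Group G] [Finite G] {p : ℕ} {x g t : G} {χ ψ : IrrCharacter G}
  {N X : Finset (IrrCharacter G)} {δ : ℤ} {a : IrrCharacter G → ℤ}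

theorem abs_le_dg {n : ℤ} (h : χ.1 g = n) : |n| ≤ dg χ := by
  have := χ.2.isCharacter.norm_le g
  rw [h, ← cast_deg, Complex.norm_intCast, Complex.norm_natCast] at this
  exact_mod_cast this

theorem abs_lt_dg [IsSimpleGroup G] (hc : _root_.commutator G = ⊤) (h1 : χ ≠ irrOne G) (hg : g ≠ 1)
    {n : ℤ} (h : χ.1 g = n) : |n| < dg χ :=
  (abs_le_dg h).lt_of_ne fun k => hg (cen_eq hc h1 (by
    rw [h, Complex.norm_intCast]; exact_mod_cast k))

theorem ne_of_dg (h : dg χ ≠ dg ψ) : χ ≠ ψ := fun k => h (k ▸ rfl)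

theorem ne_one_of_dg (h : dg χ ≠ 1) : χ ≠ irrOne G := ne_of_dg (dg_one (G := G) ▸ h)

theorem val_one {n : ℕ} (h : dg χ = n) : χ.1 1 = n := by rw [← cast_deg, ← h]

theorem exists_ord_Ce1 {q : ℕ} [Fact q.Prime] (h : q ∣ Nat.card (Ce1 x)) :
    ∃ s, orderOf s = q ∧ Commute x s := by
  obtain ⟨s, hs⟩ := exists_prime_orderOf_dvd_card' q h
  exact ⟨s, (orderOf_coe s).trans hs, (mem_Ce1.1 s.2 : Commute _ _).symm⟩

theorem dvd_Ce1 (h : Commute x g) : orderOf g ∣ Nat.card (Ce1 x) := by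
  rw [← Nat.card_zpowers]
  exact card_dvd_of_le (zpowers_le.2 (mem_Ce1.2 h.symm))

theorem Ce1_eq_of_card (h : Nat.card (Ce1 x) = orderOf x) : Ce1 x = zpowers x :=
  (eq_of_le_of_card_ge (zpowers_le.2 (mem_Ce1.2 rfl)) (by rw [h, Nat.card_zpowers])).symm

theorem exists_reg [hp : Fact p.Prime] (hx : orderOf x = p) (h2 : ¬ p ^ 2 ∣ Nat.card G)
    (h : Ce1 x ≠ zpowers x) : ∃ s, s ≠ 1 ∧ ¬ p ∣ orderOf s ∧ Commute x s := by
  obtain ⟨m, hm⟩ : p ∣ Nat.card (Ce1 x) := hx ▸ dvd_Ce1 (Commute.refl x)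
  obtain ⟨q, hq, h3⟩ := Nat.exists_prime_and_dvd (n := m) (by
    rintro rfl; exact h (Ce1_eq_of_card (by rw [hm, hx, mul_one])))
  have := Fact.mk hq
  obtain ⟨s, h4, h5⟩ := exists_ord_Ce1 (x := x) (hm ▸ h3.mul_left p)
  refine ⟨s, fun k => hq.one_lt.ne (by rw [← h4, k, orderOf_one]), fun k => h2 ?_, h5⟩
  rw [h4, Nat.prime_dvd_prime_iff_eq hp.out hq] at k
  subst k
  exact (sq p ▸ hm ▸ Nat.mul_dvd_mul_left p h3).trans (card_subgroup_dvd_card _)

theorem SC.ord_eq (h : SC p x) (hg : p ∣ orderOf g) : orderOf g = p := by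
  have h1 := h.of_ord (orderOf_pow_orderOf_div (orderOf_pos g).ne' hg)
  have h2 := dvd_Ce1 (x := g ^ (orderOf g / p)) ((Commute.refl g).pow_left _)
  rw [h1.cen, h1.card] at h2
  exact Nat.dvd_antisymm h2 hg

theorem SC.card_Ce1 (h : SC p x) (hg : p ∣ orderOf g) : Nat.card (Ce1 g) = p := by
  have h1 := h.of_ord (h.ord_eq hg)
  rw [h1.cen, h1.card]

theorem SC.not_dvd (h : SC p x) (h1 : g ≠ 1) (hg : ¬ p ∣ orderOf g) : ¬ p ∣ Nat.card (Ce1 g) := by
  have := Fact.mk h.prime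
  intro k
  obtain ⟨s, h2, h3⟩ := exists_ord_Ce1 k
  have h4 := dvd_Ce1 h3.symm
  rw [h.card_Ce1 (h2 ▸ dvd_rfl), Nat.dvd_prime h.prime] at h4
  rcases h4 with h4 | h4
  · exact h1 (orderOf_eq_one_iff.1 h4)
  · exact hg (h4 ▸ dvd_rfl)

theorem sum_fib {M : Type*} [AddCommMonoid M] (hc : _root_.commutator G = ⊤) (h1 : irrOne G ∈ N)
    {D : Finset ℕ} (h2 : 1 ∉ D) (h : ∀ χ ∈ N, χ = irrOne G ∨ dg χ ∈ D) (f : IrrCharacter G → M) :
    ∑ χ ∈ N, f χ = f (irrOne G) + ∑ d ∈ D, ∑ χ ∈ N with dg χ = d, f χ := by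
  rw [← Finset.sum_fiberwise_of_maps_to (t := insert 1 D) (g := dg) fun χ hχ => by
    rcases h χ hχ with rfl | k
    · simp [dg_one]
    · simp [k], Finset.sum_insert h2]
  congr 1
  refine Finset.sum_eq_single_of_mem _ (by simp [h1, dg_one]) fun χ hχ k => ?_
  exact (k (dg_eq_one hc (Finset.mem_filter.1 hχ).2)).elim

namespace PB
variable (h : PB p x N X δ a)
include h

theorem X_ne [hp : Fact p.Prime] : X.Nonempty := Finset.card_pos.1 (Nat.pos_of_ne_zero fun k => by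
  have := h.cX
  rw [k] at this
  exact hp.out.one_lt.ne this)

theorem ne_one (hψ : ψ ∈ X) : ψ ≠ irrOne G := fun k => h.disj _ h.one (k ▸ hψ)

theorem rel_one [hp : Fact p.Prime] (hψ : ψ ∈ X) : δ * dg ψ = ∑ χ ∈ N, a χ * dg χ := by
  have := h.rel ψ hψ 1 (by simp [hp.out.one_lt.ne'])
  simp only [← cast_deg] at this
  exact_mod_cast this

theorem dg_exc [hp : Fact p.Prime] (hχ : χ ∈ X) (hψ : ψ ∈ X) : dg χ = dg ψ := by
  have := h.exc χ hχ ψ hψ 1 (by simp [hp.out.one_lt.ne'])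
  simp only [← cast_deg] at this
  exact_mod_cast this

theorem sum_sq [Fact p.Prime] (hψ : ψ ∈ X) :
    ∑ χ ∈ N, dg χ ^ 2 + X.card * dg ψ ^ 2 ≤ Nat.card G := by
  have := sum_sq_sub (N ∪ X)
  rwa [Finset.sum_union (Finset.disjoint_left.2 h.disj), Finset.sum_congr rfl
    (g := fun _ => dg ψ ^ 2) fun χ (hχ : χ ∈ X) => by rw [h.dg_exc hχ hψ], Finset.sum_const] at this

/-- a character of degree `p - 1` forces a self-centralizing Sylow subgroup -/
theorem sc_of [hp : Fact p.Prime] [IsSimpleGroup G] (hx : orderOf x = p) (h2 : ¬ p ^ 2 ∣ Nat.card G)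
    (hχ : χ ∈ N) (h3 : a χ = -1) (h4 : dg χ + 1 = p) : Ce1 x = zpowers x := by
  by_contra k
  obtain ⟨s, s1, s2, s3⟩ := exists_reg hx h2 k
  obtain ⟨φ, k1, k2, s, rfl, k3⟩ := avg_val hx s3 s2 χ.2.isCharacter (h.val χ hχ)
  have e : (p : ℂ) = dg χ + 1 := by exact_mod_cast h4.symm
  rw [← cast_deg, h3] at k2
  have k4 : φ 1 = 0 := (mul_eq_zero.1 (k2.trans (by rw [e]; push_cast; ring))).resolve_left
    (Nat.cast_ne_zero.2 hp.out.ne_zero)
  rw [k1.eq_zero_of_apply_one k4, h3, e] at k3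
  refine s1 (ker_eq (χ := χ) (fun k => ?_) (by simp at k3; linear_combination -k3))
  rw [k, h.a_one] at h3
  omega

/-- one class of elements of order `p` -/
theorem full (hX : X.card = 1) : ∃ (S : Finset (IrrCharacter G)) (ε : IrrCharacter G → ℤ),
    S.card = p ∧ (∀ χ, χ ∈ S ↔ χ ∈ N ∨ χ ∈ X) ∧ (∀ χ ∈ S, ε χ = 1 ∨ ε χ = -1) ∧
    (∀ χ ∈ S, ∀ g, p ∣ orderOf g → χ.1 g = ε χ) ∧ (∀ χ ∈ S, (p : ℤ) ∣ ε χ * dg χ - 1) ∧
    ∀ g, ¬ p ∣ orderOf g → ∑ χ ∈ S, ε χ * χ.1 g = 0 := by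
  obtain ⟨ψ, rfl⟩ := Finset.card_eq_one.1 hX
  have m : ψ ∈ ({ψ} : Finset _) := Finset.mem_singleton_self ψ
  have n : ψ ∉ N := fun k => h.disj ψ k m
  have e : ∀ χ ∈ N, Function.update a ψ (-δ) χ = a χ := fun χ hχ =>
    Function.update_of_ne (fun k : χ = ψ => n (k ▸ hχ)) _ _
  have c := h.cX
  rw [hX, mul_one] at c
  refine ⟨insert ψ N, Function.update a ψ (-δ), by rw [Finset.card_insert_of_notMem n, c],
    by simp [or_comm], ?_, ?_, ?_, fun g hg => ?_⟩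
  · simp only [Finset.mem_insert, forall_eq_or_imp, Function.update_self]
    exact ⟨by have := h.sd; omega, fun χ hχ => e χ hχ ▸ h.sgn χ hχ⟩
  · simp only [Finset.mem_insert, forall_eq_or_imp, Function.update_self]
    exact ⟨fun g hg => by simpa using h.xval hX ψ m g hg, fun χ hχ => e χ hχ ▸ h.val χ hχ⟩
  · simp only [Finset.mem_insert, forall_eq_or_imp, Function.update_self]
    refine ⟨?_, fun χ hχ => e χ hχ ▸ h.cong χ hχ⟩
    have := h.xcong ψ m
    have c' : (N.card : ℤ) = p - 1 := by omega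
    rw [c'] at this
    rcases h.sd with rfl | rfl
    · obtain ⟨c, hc⟩ := this
      exact ⟨-1 - c, by linear_combination -hc⟩
    · obtain ⟨c, hc⟩ := this
      exact ⟨c - 1, by linear_combination hc⟩
  · rw [Finset.sum_insert n, Function.update_self, Finset.sum_congr rfl fun χ hχ => by rw [e χ hχ],
      ← h.rel ψ m g hg]
    simp

end PB

/-- a character of degree `p` forces a self-centralizing Sylow subgroup -/
theorem sc_of_dg [hp : Fact p.Prime] [IsSimpleGroup G] (hc : _root_.commutator G = ⊤)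
    (hx : orderOf x = p) (h2 : ¬ p ^ 2 ∣ Nat.card G) (h4 : dg χ = p) : Ce1 x = zpowers x := by
  by_contra k
  obtain ⟨s, s1, s2, s3⟩ := exists_reg hx h2 k
  obtain ⟨m, hm⟩ := deg_dvd_card χ
  obtain ⟨φ, k1, k2, s, rfl, k3⟩ := avg_val hx s3 s2 χ.2.isCharacter (c := 0) fun g hg =>
    dz hm (fun k => h2 (by rw [hm, sq]; exact Nat.mul_dvd_mul (h4 ▸ dvd_rfl) k)) hg
  have p0 : (p : ℂ) ≠ 0 := Nat.cast_ne_zero.2 hp.out.ne_zero
  rw [val_one h4, mul_zero, add_zero] at k2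
  obtain ⟨l, rfl⟩ := k1.exists_units_of_apply_one (mul_left_cancel₀ p0 (k2.trans (mul_one _).symm))
  rw [mul_zero, add_zero] at k3
  refine s1 (cen_eq hc (ne_one_of_dg (h4 ▸ hp.out.one_lt.ne')) ?_)
  rw [← k3, norm_mul, norm_units_hom, mul_one, Complex.norm_natCast, h4]

end Cfsg.Agent.Blk
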