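import Cfsg.Agent.Lib.Block.Rec2
import Cfsg.Agent.Lib.Block.M11c
import Cfsg.Agent.S0904
import Cfsg.Agent.S3993

/-! Simple groups of order 5616: character values. -/

set_option autoImplicit false

namespace Cfsg.Agent.Blk

open MonoidAlgebra Subgroup
open Cfsg.Agent.Char hiding cj cj_mul cj_inv_cj cj_cj_inv sum_cj_eq
open scoped ComplexConjugate
attribute [local instance] _root_.Classical.propDecidable

theorem sum_mul_int {G : Type*} [Group G] [Fintype G] {χ ψ : IrrCharacter G} {A B : G → ℤ}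
    (h1 : ∀ g, χ.1 g = A g) (h2 : ∀ g, ψ.1 g = B g) :
    ∑ g, A g * B g = if χ = ψ then Nat.card G else 0 := by
  have := classInner_irr χ ψ
  rw [classInner, inv_mul_eq_iff_eq_mul₀ (card_ne_zero' _)] at this
  simp only [h1, h2, map_intCast] at this
  split_ifs at this ⊢
  · rw [mul_one] at this; exact_mod_cast this
  · rw [mul_zero] at this; exact_mod_cast this

theorem index_le_cnt {G : Type*} [Group G] [Finite G] {p : G → Prop} {g : G}
    (h : ∀ y, IsConj g y → p y) : (Ce1 g).index ≤ Nat.card {y // p y} :=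
  Transfer.card_isConj_eq_index g ▸ Transfer.cnt_mono h

namespace L33

variable {G : Type*} [Group G] [Finite G] [IsSimpleGroup G] {x y g t z : G} {χ ψ : IrrCharacter G}
  {N X : Finset (IrrCharacter G)} {δ : ℤ} {a : IrrCharacter G → ℤ} {α β : IrrCharacter G}
  {A B : G → ℤ}

instance : Fact (Nat.Prime 13) := ⟨by norm_num⟩

theorem perf (hG : Nat.card G = 5616) : _root_.commutator G = ⊤ := perfect_of (by rw [hG]; norm_num)

theorem sc13 (hG : Nat.card G = 5616) : ∃ x : G, SC 13 x := by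
  obtain ⟨x, hx⟩ := exists_prime_orderOf_dvd_card' (G := G) 13 (by rw [hG]; norm_num)
  exact ⟨x, by norm_num, hx, S0904.elt (a := 4) (b := 3) Nat.prime_two Nat.prime_three
    (by norm_num) (by norm_num) hG hx⟩

omit [IsSimpleGroup G] in
theorem No13 (hG : Nat.card G = 5616) (hx : SC 13 x) : Nat.card (No (zpowers x)) = 39 := by
  have h : S1 13 x := ⟨hx.prime, hx.ord, by rw [hG]; norm_num⟩
  obtain ⟨e, h1, h2⟩ := h.No_eq
  have h3 := h.index_modEq
  have h4 := (No (zpowers x)).card_mul_index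
  rw [hx.cen, hx.card] at h2
  rw [hG, h2] at h4
  have := Nat.le_of_dvd (by norm_num) h1
  unfold Nat.ModEq at h3
  interval_cases e <;> omega

/-- the principal `13`-block -/
structure T33 (α β : IrrCharacter G) (X : Finset (IrrCharacter G)) (A B : G → ℤ) : Prop where
  card : Nat.card G = 5616
  dα : dg α = 12
  dβ : dg β = 27
  cX : X.card = 4
  dX : ∀ θ ∈ X, dg θ = 16
  mem : ∀ χ, ¬ 13 ∣ dg χ → χ = irrOne G ∨ χ = α ∨ χ = β ∨ χ ∈ X
  vA : ∀ g, α.1 g = A g
  vB : ∀ g, β.1 g = B g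
  v13 : ∀ g, 13 ∣ orderOf g → A g = -1 ∧ B g = 1
  r13 : ∀ θ ∈ X, ∀ g, ¬ 13 ∣ orderOf g → θ.1 g = (1 - A g + B g : ℤ)

theorem exists_T33 (hG : Nat.card G = 5616) : ∃ (α β : IrrCharacter G) (X : _) (A B : G → ℤ),
    T33 α β X A B := by
  obtain ⟨x, hx⟩ := sc13 hG
  obtain ⟨N, X, δ, a, h⟩ := exists_PB hx.ord (by rw [hG]; norm_num)
  have h1 := h.cN
  have h2 := h.cX
  rw [No13 hG hx, hx.cen, hx.card] at h1
  have h3 : N.card = 3 := by omega
  rw [h3] at h2
  have bd : ∀ χ : IrrCharacter G, dg χ < 75 ∧ 5616 % dg χ = 0 := fun χ => by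
    refine ⟨?_, Nat.mod_eq_zero_of_dvd (hG ▸ deg_dvd_card χ)⟩
    have := sum_sq_sub {χ}
    rw [Finset.sum_singleton, hG] at this
    nlinarith
  have ne : ∀ χ ∈ N, χ ≠ irrOne G → (dg χ = 12 ∧ a χ = -1) ∨ (dg χ = 27 ∧ a χ = 1) :=
    fun χ hχ k1 => by
    have h1 := bd χ
    have h2 := h.cong χ hχ
    have key : ∀ d < 75, 5616 % d = 0 → (d % 13 = 1 → d = 1 ∨ d = 27) ∧
      (d % 13 = 12 → d = 12) := by decide
    have h3 := key _ h1.1 h1.2
    rcases h.sgn χ hχ with k | k <;> rw [k] at h2 ⊢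
    · simp [(h3.1 (by omega)).resolve_left fun k => k1 (dg_eq_one (perf hG) k)]
    · simp [h3.2 (by omega)]
  have key : ∀ α β, dg α = 12 → a α = -1 → dg β = 27 → a β = 1 → N = {irrOne G, α, β} →
      ∃ (α β : IrrCharacter G) (X : _) (A B : G → ℤ), T33 α β X A B := by
    rintro α β d1 a1 d2 a2 rfl
    have n1 : irrOne G ∉ ({α, β} : Finset _) := by
      simp [(ne_one_of_dg (χ := α) (by omega)).symm, (ne_one_of_dg (χ := β) (by omega)).symm]
    have n2 : α ≠ β := ne_of_dg (by omega)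
    have dX : ∀ θ ∈ X, δ = 1 ∧ dg θ = 16 := fun θ hθ => by
      have := h.rel_one hθ
      rw [Finset.sum_insert n1, Finset.sum_pair n2, h.a_one, dg_one, a1, a2, d1, d2] at this
      rcases h.sd with rfl | rfl <;> omega
    have mem : ∀ χ, ¬ 13 ∣ dg χ → χ = irrOne G ∨ χ = α ∨ χ = β ∨ χ ∈ X := fun χ k => by
      simpa [or_assoc] using h.sc hx.cen χ k
    have u : ∀ χ ψ : IrrCharacter G, dg χ = dg ψ → ψ = α ∨ ψ = β → χ = ψ := fun χ ψ k1 k2 => by
      have := dg_one (G := G)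
      rcases mem χ (by rcases k2 with rfl | rfl <;> omega) with rfl | rfl | rfl | k <;>
        rcases k2 with rfl | rfl <;> first | rfl | omega | (have := (dX _ k).2; omega)
    choose A hA using fun g => int_of_gal (χ := α) (g := g) fun s => by
      rw [u _ _ (charDegree_gal s α) (.inl rfl)]
    choose B hB using fun g => int_of_gal (χ := β) (g := g) fun s => by
      rw [u _ _ (charDegree_gal s β) (.inr rfl)]
    refine ⟨α, β, X, A, B, hG, d1, d2, by omega, fun θ hθ => (dX θ hθ).2, mem, hA, hB, fun g hg => ?_,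
      fun θ hθ g hg => ?_⟩
    · have k1 := h.val α (by simp) g hg
      have k2 := h.val β (by simp) g hg
      rw [hA, a1] at k1
      rw [hB, a2] at k2
      exact ⟨by exact_mod_cast k1, by exact_mod_cast k2⟩
    · have := h.rel θ hθ g hg
      rw [Finset.sum_insert n1, Finset.sum_pair n2, h.a_one, a1, a2, (dX θ hθ).1, hA, hB] at this
      simp at this
      push_cast
      linear_combination this
  obtain ⟨χ, ψ, n, e⟩ := Finset.card_eq_two.1 (show (N.erase (irrOne G)).card = 2 by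
    rw [Finset.card_erase_of_mem h.one, h3])
  have e' : N = {irrOne G, χ, ψ} := by rw [← e, Finset.insert_erase h.one]
  have m1 := Finset.mem_erase.1 (e.ge (Finset.mem_insert_self _ _))
  have m2 := Finset.mem_erase.1 (e.ge (Finset.mem_insert_of_mem (Finset.mem_singleton_self _)))
  obtain ⟨θ, hθ⟩ := h.X_ne
  have k := h.rel_one hθ
  have k' := bd θ
  rw [e', Finset.sum_insert (by simp [m1.1.symm, m2.1.symm]), Finset.sum_pair n, h.a_one, dg_one] at k
  rcases ne χ m1.2 m1.1 with ⟨d1, a1⟩ | ⟨d1, a1⟩ <;> rcases ne ψ m2.2 m2.1 with ⟨d2, a2⟩ | ⟨d2, a2⟩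
  · rw [d1, d2, a1, a2] at k
    have : dg θ = 23 := by rcases h.sd with rfl | rfl <;> omega
    rw [this] at k'
    omega
  · exact key χ ψ d1 a1 d2 a2 e'
  · exact key ψ χ d2 a2 d1 a1 (by rw [e', Finset.pair_comm χ])
  · rw [d1, d2, a1, a2] at k
    have : dg θ = 55 := by rcases h.sd with rfl | rfl <;> omega
    rw [this] at k'
    omega

theorem ar3 : ∀ c ∈ Nat.divisors 432, ∀ a ∈ Finset.Icc (-20 : ℤ) 20, 3 ∣ a - 12 →
    16 ∣ (5616 / c : ℕ) * (1 - a + 0) → 1 + a ^ 2 + 0 ^ 2 + 4 * (1 - a + 0) ^ 2 ≤ c →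
    (a = 0 ∧ c ∣ 27) ∨ (a = 3 ∧ (c = 27 ∨ c = 54)) ∨ (a = -3 ∧ c = 108) := by
  decide +kernel

theorem ar2 : ∀ c ∈ Nat.divisors 432, ∀ a ∈ Finset.Icc (-20 : ℤ) 20, 4 ∣ a - 12 → 3 ∣ a - 1 →
    27 ∣ (5616 / c : ℕ) * (a - 1) → 1 + a ^ 2 + (a - 1) ^ 2 ≤ c → a = 4 ∧ c = 48 := by
  decide +kernel

namespace T33
variable (h : T33 α β X A B)
include h

omit [IsSimpleGroup G] in
theorem one : A 1 = 12 ∧ B 1 = 27 :=
  ⟨by exact_mod_cast (h.vA 1).symm.trans (val_one h.dα),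
    by exact_mod_cast (h.vB 1).symm.trans (val_one h.dβ)⟩

omit [IsSimpleGroup G] in
theorem cnj (k : IsConj x y) : A x = A y ∧ B x = B y := by
  obtain ⟨c, rfl⟩ := isConj_iff.1 k
  exact ⟨by exact_mod_cast (h.vA _).symm.trans ((α.2.isClassFunction _ _).symm.trans (h.vA _)),
    by exact_mod_cast (h.vB _).symm.trans ((β.2.isClassFunction _ _).symm.trans (h.vB _))⟩

theorem dvd432 (h1 : g ≠ 1) (h13 : ¬ 13 ∣ orderOf g) : Nat.card (Ce1 g) ∈ Nat.divisors 432 := by
  obtain ⟨x, hx⟩ := sc13 h.card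
  have h2 := card_subgroup_dvd_card (Ce1 g)
  rw [h.card] at h2
  exact Nat.mem_divisors.2 ⟨Nat.Coprime.dvd_of_dvd_mul_right (n := 13)
    ((Nat.Prime.coprime_iff_not_dvd (by norm_num)).2 (hx.not_dvd h1 h13)).symm h2, by norm_num⟩

omit [IsSimpleGroup G] in
theorem index_eq (g : G) : (Ce1 g).index = 5616 / Nat.card (Ce1 g) := by
  rw [← h.card, ← (Ce1 g).card_mul_index, Nat.mul_div_cancel_left _ Nat.card_pos]

omit [IsSimpleGroup G] in
theorem col (h13 : ¬ 13 ∣ orderOf g) :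
    1 + A g ^ 2 + B g ^ 2 + 4 * (1 - A g + B g) ^ 2 ≤ Nat.card (Ce1 g) := by
  have := col_sub (insert (irrOne G) (insert α (insert β X))) g
  have n : ∀ χ, dg χ ≠ 16 → χ ∉ X := fun χ k1 k2 => k1 (h.dX χ k2)
  have := h.dα; have := h.dβ; have := dg_one (G := G)
  rw [Finset.sum_insert (by simp [ne_of_dg (χ := irrOne G) (ψ := α) (by omega), n _ (by omega : dg
    (irrOne G) ≠ 16), ne_of_dg (χ := irrOne G) (ψ := β) (by omega)]), Finset.sum_insert (by
    simp [ne_of_dg (χ := α) (ψ := β) (by omega), n α (by omega)]), Finset.sum_insert (n β (by omega)),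
    Finset.sum_congr rfl fun θ hθ => norm_sq_int (h.r13 θ hθ g h13), Finset.sum_const, h.cX,
    norm_sq_int (h.vA g), norm_sq_int (h.vB g)] at *
  have : (1 + A g ^ 2 + B g ^ 2 + 4 * (1 - A g + B g) ^ 2 : ℝ) ≤ Nat.card (Ce1 g) := by
    simp at *; linarith
  exact_mod_cast this

omit [IsSimpleGroup G] in
theorem v3 (hg : 3 ∣ orderOf g) : B g = 0 := by
  exact_mod_cast (h.vB g).symm.trans (dz (m := 208) (by rw [h.card, h.dβ]) (by norm_num) hg)

theorem not13 {q : ℕ} (hq : q ∣ orderOf g) (k : ¬ q ∣ 13) : ¬ 13 ∣ orderOf g := fun k1 => by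
  obtain ⟨x, hx⟩ := sc13 h.card
  exact k (hx.ord_eq k1 ▸ hq)

theorem v2 (hg : 2 ∣ orderOf g) : B g = A g - 1 := by
  obtain ⟨θ, hθ⟩ := Finset.card_pos.1 (h.cX ▸ by norm_num : 0 < X.card)
  have := (h.r13 θ hθ g (h.not13 hg (by norm_num))).symm.trans
    (dz (m := 351) (by rw [h.card, h.dX θ hθ]) (by norm_num) hg)
  have : 1 - A g + B g = 0 := by exact_mod_cast this
  omega

theorem three (h1 : g ≠ 1) {n : ℕ} (hg : orderOf g = 3 ^ n) : B g = 0 ∧
    ((A g = 0 ∧ Nat.card (Ce1 g) ∣ 27) ∨ (A g = 3 ∧ (Nat.card (Ce1 g) = 27 ∨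
      Nat.card (Ce1 g) = 54)) ∨ (A g = -3 ∧ Nat.card (Ce1 g) = 108)) := by
  have h3 : 3 ∣ orderOf g := hg ▸ dvd_pow_self 3 fun k => h1 (by simpa [k] using hg)
  have h13 := h.not13 h3 (by norm_num)
  obtain ⟨θ, hθ⟩ := Finset.card_pos.1 (h.cX ▸ by norm_num : 0 < X.card)
  have c1 := h.dvd432 h1 h13
  have c2 := h.col h13
  have c3 := cong_dg hg (h.vA g)
  have c4 := cen_int (h.r13 θ hθ g h13)
  have c5 := Nat.le_of_dvd (by norm_num) (Nat.dvd_of_mem_divisors c1)
  rw [h.index_eq, h.dX θ hθ] at c4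
  rw [h.dα] at c3
  rw [h.v3 h3] at c2 c4
  exact ⟨h.v3 h3, ar3 _ c1 _ (mem_Icc_of_sq (by norm_num) (by
    nlinarith [sq_nonneg (1 - A g + 0)])) c3 c4 c2⟩

theorem two (ht : orderOf t = 2) (hz : orderOf z = 3) (c : Commute z t) :
    A t = 4 ∧ Nat.card (Ce1 t) = 48 := by
  have h13 : ¬ 13 ∣ orderOf t := by rw [ht]; norm_num
  have o : orderOf (z * t) = 6 := by
    rw [c.orderOf_mul_eq_mul_orderOf_of_coprime (by rw [hz, ht]; norm_num), hz, ht]
  have k1 := h.v2 (g := z * t) (by rw [o]; norm_num)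
  have k2 := h.v3 (g := z * t) (by rw [o]; norm_num)
  have k3 := h.v2 ht.symm.dvd
  have c1 := h.dvd432 (fun e => by simp [e] at ht) h13
  have c2 := h.col h13
  have c3 := cong_int α.2.isCharacter (p := 3) (k := 1) hz c (h.vA _) (h.vA _)
  have c4 := cen_int (h.vB t)
  obtain ⟨n, c5, c6⟩ := inv_val (perf h.card) ht α
  obtain rfl : A t = n := by exact_mod_cast (h.vA t).symm.trans c5
  have c7 := Nat.le_of_dvd (by norm_num) (Nat.dvd_of_mem_divisors c1)
  rw [h.index_eq, h.dβ, k3] at c4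
  rw [h.dα] at c6
  rw [k3] at c2
  exact ar2 _ c1 _ (mem_Icc_of_sq (by norm_num) (by nlinarith [sq_nonneg (A t - 1)])) c6 (by omega)
    c4 (by linarith)

theorem cases (g : G) : g = 1 ∨ orderOf g = 13 ∨ 2 ∣ orderOf g ∨ (g ≠ 1 ∧ ∃ n, orderOf g = 3 ^ n) := by
  by_cases h1 : g = 1
  · exact .inl h1
  by_cases h13 : 13 ∣ orderOf g
  · obtain ⟨x, hx⟩ := sc13 h.card
    exact .inr (.inl (hx.ord_eq h13))
  by_cases h2 : 2 ∣ orderOf g
  · exact .inr (.inr (.inl h2))
  obtain ⟨n, -, hn⟩ := (Nat.dvd_prime_pow Nat.prime_three (m := 3)).1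
    (Nat.Coprime.dvd_of_dvd_mul_left (m := 2 ^ 4) (Nat.Coprime.pow_right _
      ((Nat.Prime.coprime_iff_not_dvd Nat.prime_two).2 h2).symm)
      ((dvd_Ce1 (Commute.refl g)).trans (Nat.dvd_of_mem_divisors (h.dvd432 h1 h13))))
  exact .inr (.inr (.inr ⟨h1, n, hn⟩))

theorem counts : Nat.card {g // 1 - A g + B g = -2} = 104 ∧ ∀ g, 1 - A g + B g ≠ 4 := by
  have := Fintype.ofFinite G
  obtain ⟨x, hx⟩ := sc13 h.card
  have n13 := (⟨hx.prime, hx.ord, by rw [h.card]; norm_num⟩ : S1 13 x).cnt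
  have n1 := (No (zpowers x)).card_mul_index
  rw [No13 h.card hx, h.card] at n1
  have fr := S3993.result (G := G) 27 (by rw [h.card]; norm_num)
  have e : ∀ (p : G → Prop) [DecidablePred p], (Nat.card {g // p g} : ℤ) =
      ∑ g, if p g then 1 else 0 := fun p _ => by
    rw [Transfer.cnt_eq_sum]; simp
  have v1 : ∀ g, (irrOne G).1 g = ((fun _ => 1 : G → ℤ) g : ℤ) := fun g => by simp
  have := h.dα; have := h.dβ; have := dg_one (G := G)
  have s1 := sum_mul_int h.vA h.vA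
  have s2 := sum_mul_int h.vB h.vB
  have s3 := sum_mul_int h.vA h.vB
  have s4 := sum_mul_int h.vA v1
  have s5 := sum_mul_int h.vB v1
  have s6 := sum_mul_int v1 v1
  rw [if_pos rfl, h.card] at s1 s2 s6
  rw [if_neg (ne_of_dg (by omega))] at s3 s4 s5
  have key : ∀ g, ((1 - A g + B g) * (B g - A g) = 240 * (if g = 1 then 1 else 0) +
      6 * (if orderOf g = 13 then 1 else 0) + 6 * (if 1 - A g + B g = -2 then 1 else 0) +
      12 * (if 1 - A g + B g = 4 then 1 else 0)) ∧ 1 - A g + B g = 15 * (if g = 1 then 1 else 0) +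
      3 * (if orderOf g = 13 then 1 else 0) + (if g ^ 27 = 1 then 1 else 0) -
      3 * (if 1 - A g + B g = -2 then 1 else 0) + 3 * (if 1 - A g + B g = 4 then 1 else 0) :=
    fun g => by
    rw [← orderOf_dvd_iff_pow_eq_one]
    rcases h.cases g with rfl | k | k | ⟨k, n, hn⟩
    · simp [h.one]
    · have : g ≠ 1 := fun e => by simp [e] at k
      simp [h.v13 g k.symm.dvd, k, this]
    · have k1 : g ≠ 1 := fun e => by simp [e] at k
      have k2 : orderOf g ≠ 13 := fun e => by omega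
      have k3 : ¬ orderOf g ∣ 27 := fun e => by have := k.trans e; omega
      simp [h.v2 k, k1, k2, k3]
    · have k2 : orderOf g ≠ 13 := fun e => by
        rcases n with _ | n
        · omega
        · rw [pow_succ] at hn; omega
      have k3 : orderOf g ∣ 27 := Nat.Coprime.dvd_of_dvd_mul_left (m := 208)
        (hn ▸ Nat.Coprime.pow_left _ (by norm_num)) (h.card ▸ orderOf_dvd_natCard g :)
      rcases h.three k hn with ⟨k4, ⟨k5, -⟩ | ⟨k5, -⟩ | ⟨k5, -⟩⟩ <;> simp [k, k2, k3, k4, k5]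
  have t1 := Finset.sum_congr rfl fun g (_ : g ∈ Finset.univ) => (key g).1
  have t2 := Finset.sum_congr rfl fun g (_ : g ∈ Finset.univ) => (key g).2
  simp only [Finset.sum_add_distrib, Finset.sum_sub_distrib, ← Finset.mul_sum, ← e,
    Transfer.cnt_eq_one] at t1 t2
  rw [show ∑ g, (1 - A g + B g) * (B g - A g) = ∑ g, A g * A g + ∑ g, B g * B g - 2 *
    ∑ g, A g * B g - ∑ g, A g * 1 + ∑ g, B g * 1 by
      simp only [Finset.mul_sum, ← Finset.sum_add_distrib, ← Finset.sum_sub_distrib]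
      exact Finset.sum_congr rfl fun _ _ => by ring] at t1
  simp only [mul_one] at s4 s5 s6 t1
  have k : ∀ g, 1 - A g + B g ≠ 4 := fun g hg => by
    have k1 := index_le_cnt (p := fun g => 1 - A g + B g = 4) (g := g) fun y hy => by
      rw [← (h.cnj hy).1, ← (h.cnj hy).2, hg]
    rcases h.cases g with rfl | k | k | ⟨k, n, hn⟩
    · simp [h.one] at hg
    · simp [h.v13 g k.symm.dvd] at hg
    · simp [h.v2 k] at hg
    · rw [h.index_eq] at k1
      rcases h.three k hn with ⟨k4, ⟨k5, -⟩ | ⟨k5, -⟩ | ⟨-, k5⟩⟩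
      · omega
      · omega
      rw [k5] at k1
      omega
  rw [Transfer.cnt_eq_zero k] at t1
  exact ⟨by omega, k⟩

end T33

end L33

end Cfsg.Agent.Blk
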