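import Cfsg.Agent.Lib.Block.L33a

/-! Simple groups of order 5616: a subgroup of index 13. -/

set_option autoImplicit false

namespace Cfsg.Agent.Blk

open MonoidAlgebra Subgroup
open Cfsg.Agent.Char hiding cj cj_mul cj_inv_cj cj_cj_inv sum_cj_eq
open scoped ComplexConjugate
attribute [local instance] _root_.Classical.propDecidable

theorem of_cnt_le {α : Type*} [Finite α] {p q : α → Prop} (h : ∀ x, p x → q x)
    (h1 : Nat.card {x // q x} ≤ Nat.card {x // p x}) {x : α} (hx : q x) : p x := by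
  by_contra k
  have := Transfer.cnt_mono (p := fun y => p y ∨ y = x) (q := q) (by rintro y (k | rfl); exacts [h y k, hx])
  rw [Transfer.cnt_insert k] at this
  omega

theorem exists_of_cnt_lt {α : Type*} [Finite α] {p q : α → Prop}
    (h1 : Nat.card {x // q x} < Nat.card {x // p x}) : ∃ x, p x ∧ ¬ q x := by
  by_contra! k
  exact absurd (Transfer.cnt_mono k) h1.not_ge

section
variable {G : Type*} [Group G] [Finite G] {p : ℕ} {a z y : G} {P : Subgroup G}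

theorem mem_No_sup2 (h1 : a * z * a⁻¹ ∈ zpowers z ⊔ zpowers y)
    (h2 : a * y * a⁻¹ ∈ zpowers z ⊔ zpowers y) : a ∈ No (zpowers z ⊔ zpowers y) :=
  mem_No.2 (eq_of_le_of_card_ge (by
    rw [cs_sup, cs_zpowers, cs_zpowers]
    exact sup_le (zpowers_le.2 h1) (zpowers_le.2 h2)) (card_cs _ _).ge)

theorem comm_mem_of_card [hp : Fact p.Prime] (hz : orderOf z = p) (h1 : z ∈ P) (h2 : P ≤ Ce1 z)
    (h3 : Nat.card P = p ^ 3) (ha : a ∈ P) (hy : y ∈ P) : a * y * a⁻¹ * y⁻¹ ∈ zpowers z := by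
  have hn : ((zpowers z).subgroupOf P).Normal := normal_subgroupOf_of_le_normalizer
    (h2.trans (Ce_zpowers z ▸ Ce_le_No _))
  have h4 := ((zpowers z).subgroupOf P).card_mul_index
  rw [Nat.card_congr (subgroupOfEquivOfLe (zpowers_le.2 h1)).toEquiv, Nat.card_zpowers, hz, h3,
    pow_succ'] at h4
  have := IsPGroup.isMulCommutative_of_card_eq_prime_sq (Nat.eq_of_mul_eq_mul_left hp.out.pos h4)
  have h5 : (((⟨a, ha⟩ * ⟨y, hy⟩ * ⟨a, ha⟩⁻¹ * ⟨y, hy⟩⁻¹ : P)) : P ⧸ (zpowers z).subgroupOf P) = 1 := by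
    simp only [QuotientGroup.mk_mul, QuotientGroup.mk_inv]
    rw [mul_comm' (_ : P ⧸ (zpowers z).subgroupOf P) (QuotientGroup.mk ⟨y, hy⟩)]
    simp
  exact mem_subgroupOf.1 ((QuotientGroup.eq_one_iff _).1 h5)

theorem card_sup2 [hp : Fact p.Prime] (hz : orderOf z = p) (hy : orderOf y = p) (c : Commute z y)
    (h : y ∉ zpowers z) : Nat.card (zpowers z ⊔ zpowers y : Subgroup G) = p ^ 2 := by
  have h1 := Solv.card_sup_mul_card_inf (H := zpowers z) (N := zpowers y)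
    ((zpowers_le.2 (Ce_zpowers y ▸ mem_Ce1.2 c)).trans (Ce_le_No _))
  have h2 : zpowers z ⊓ zpowers y = ⊥ := by
    by_contra k
    obtain ⟨u, hu, u1⟩ := (bot_or_exists_ne_one _).resolve_left k
    exact h (zpowers_eq_of_card ((Nat.card_zpowers z).trans hz) hu.1 u1 ▸
      zpowers_eq_of_card ((Nat.card_zpowers y).trans hy) hu.2 u1 ▸ mem_zpowers y)
  rwa [h2, card_bot, mul_one, Nat.card_zpowers, Nat.card_zpowers, hz, hy, ← sq] at h1

end

namespace L33.T33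

variable {G : Type*} [Group G] [Finite G] [IsSimpleGroup G] {x y g t z : G}
  {X : Finset (IrrCharacter G)} {α β : IrrCharacter G} {A B : G → ℤ} {P : Subgroup G}
variable (h : T33 α β X A B)
include h

theorem three' (h1 : g ≠ 1) {n : ℕ} (hg : orderOf g = 3 ^ n) :
    (A g = 0 ∧ 1 - A g + B g ≠ -2 ∧ Nat.card (Ce1 g) ∣ 27) ∨ (A g = 3 ∧ 1 - A g + B g = -2) := by
  have := h.counts.2 g
  rcases h.three h1 hg with ⟨k4, ⟨k5, k6⟩ | ⟨k5, -⟩ | ⟨k5, -⟩⟩
  · exact .inl ⟨k5, by omega, k6⟩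
  · exact .inr ⟨k5, by omega⟩
  · omega

theorem tA1 (hg : 1 - A g + B g = -2) : g ≠ 1 ∧ (∃ n, orderOf g = 3 ^ n) ∧
    Nat.card (Ce1 g) = 54 := by
  have k1 := index_le_cnt (p := fun g => 1 - A g + B g = -2) (g := g) fun y hy => by
    rw [← (h.cnj hy).1, ← (h.cnj hy).2, hg]
  rw [h.counts.1, h.index_eq] at k1
  rcases h.cases g with rfl | k | k | ⟨k, n, hn⟩
  · simp [h.one] at hg
  · simp [h.v13 g k.symm.dvd] at hg
  · simp [h.v2 k] at hg
  refine ⟨k, ⟨n, hn⟩, ?_⟩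
  rcases h.three k hn with ⟨k4, ⟨k5, -⟩ | ⟨-, k5 | k5⟩ | ⟨k5, -⟩⟩
  · omega
  · rw [k5] at k1; omega
  · exact k5
  · omega

theorem conjA (hx : 1 - A x + B x = -2) (hy : 1 - A y + B y = -2) : IsConj x y :=
  of_cnt_le (p := IsConj x) (q := fun g => 1 - A g + B g = -2) (fun y hy => by
    rw [← (h.cnj hy).1, ← (h.cnj hy).2, hx]) (by
    rw [h.counts.1, Transfer.card_isConj_eq_index, h.index_eq, (h.tA1 hx).2.2]) hy

theorem ordA (hg : 1 - A g + B g = -2) : orderOf g = 3 := by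
  obtain ⟨h1, ⟨n, hn⟩, h2⟩ := h.tA1 hg
  have h3 : 3 ∣ orderOf g := hn ▸ dvd_pow_self 3 fun k => h1 (by simpa [k] using hn)
  have h4 := orderOf_pow_orderOf_div (orderOf_pos g).ne' h3
  have h5 := card_dvd_of_le (Ce1_le_pow g (orderOf g / 3))
  rcases h.three' (fun e => by simp [e] at h4) (n := 1) h4 with k | k
  · exact absurd (h2 ▸ h5.trans k.2.2) (by norm_num)
  · exact (Transfer.IsConj.orderOf_eq' (h.conjA k.2 hg)).trans h4

theorem cntA (hP : Nat.card P = 27) : Nat.card {g // g ∈ P ∧ 1 - A g + B g = -2} % 9 = 5 := by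
  have := Fintype.ofFinite G
  obtain ⟨n, hn⟩ := sum_int P α.2.isCharacter
  have h1 : ∑ g : P, A g = 27 * n := by
    simp only [h.vA, hP] at hn
    exact_mod_cast hn
  rw [Finset.sum_congr rfl (g := fun g : P => 12 * (if g = 1 then 1 else 0) +
    3 * (if 1 - A g + B g = -2 then 1 else 0)) fun g _ => ?_] at h1
  · simp only [Finset.sum_add_distrib, ← Finset.mul_sum] at h1
    have := Transfer.cnt_eq_sum (fun g : P => 1 - A g + B g = -2)
    rw [← Nat.card_congr (Equiv.subtypeSubtypeEquivSubtypeInter (· ∈ P) _), this]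
    simp at h1 ⊢
    omega
  by_cases k : g = 1
  · simp [k, h.one]
  obtain ⟨m, hm⟩ := IsPGroup.iff_orderOf.1 (IsPGroup.of_card (p := 3) (n := 3) hP) g
  rcases h.three' (coe_ne_one k) ((orderOf_coe g).trans hm) with e | e <;> simp [k, e.1] <;> omega

theorem sylA (hz : 1 - A z + B z = -2) : ∃ P : Subgroup G, Nat.card P = 27 ∧ P ≤ Ce1 z ∧ z ∈ P ∧
    Ce1 z ≤ No P ∧ ∀ Q ≤ Ce1 z, IsPGroup 3 Q → Q ≤ P := by
  obtain ⟨P, hP⟩ := exists_isSyl 3 (Ce1 z)
  have h1 := (h.tA1 hz).2.2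
  have h2 : Nat.card P = 27 := by rw [hP.card_eq, fact_eq (k := 3) (m := 2) h1 (by norm_num)]; rfl
  have h3 := No_of_index_two hP.le (by rw [h1, h2])
  have h4 : ∀ Q ≤ Ce1 z, IsPGroup 3 Q → Q ≤ P := fun Q hQ k => by
    obtain ⟨c, hc, e⟩ := hP.exists_cs_le k hQ
    rwa [cs_le_iff, mem_No.1 (h3 (inv_mem hc))] at e
  exact ⟨P, h2, hP.le, h4 _ (zpowers_le.2 (mem_Ce1.2 rfl)) (isPGroup_zpowers ⟨1, h.ordA hz⟩)
    (mem_zpowers z), h3, h4⟩

theorem le_No (hz : 1 - A z + B z = -2) (hy : orderOf y = 3) (c : Commute z y) :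
    Ce1 z ≤ No (zpowers z ⊔ zpowers y) := by
  obtain ⟨P, h1, h2, h3, h4, h5⟩ := h.sylA hz
  have o := h.ordA hz
  have y1 := h5 _ (zpowers_le.2 (mem_Ce1.2 c.symm)) (isPGroup_zpowers ⟨1, hy⟩) (mem_zpowers y)
  have m1 : ∀ u ∈ zpowers z, u ∈ zpowers z ⊔ zpowers y := fun u hu => mem_sup_left hu
  have m2 : y ∈ zpowers z ⊔ zpowers y := mem_sup_right (mem_zpowers y)
  have m3 : ∀ a ∈ Ce1 z, a * z * a⁻¹ ∈ zpowers z ⊔ zpowers y := fun a ha => by
    rw [mem_Ce1.1 ha, mul_inv_cancel_right]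
    exact m1 _ (mem_zpowers z)
  have k1 : P ≤ No (zpowers z ⊔ zpowers y) := fun a ha => mem_No_sup2 (m3 a (h2 ha)) (by
    simpa using mul_mem (m1 _ (comm_mem_of_card o h3 h2 h1 ha y1)) m2)
  obtain ⟨t, ht, c1⟩ := exists_ord_Ce1 (x := z) (q := 2) (by rw [(h.tA1 hz).2.2]; norm_num)
  have t1 := mem_Ce1.2 c1.symm
  have t2 : t * t = 1 := by rw [← sq, ← ht, pow_orderOf_eq_one]
  have y2 : t * y * t⁻¹ ∈ P := (mem_No.1 (h4 t1)).le (conj_mem_cs.2 y1)
  have k2 : t ∈ No (zpowers z ⊔ zpowers y) := by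
    refine mem_No_sup2 (m3 t t1) ?_
    obtain ⟨i, hi⟩ := mem_zpowers_iff.1 (comm_mem_of_card o h3 h2 h1 y2 y1)
    set u := y * (t * y * t⁻¹) with hu
    have e1 : t * u * t⁻¹ = z ^ i * u := by
      rw [hi, hu, show t * (y * (t * y * t⁻¹)) * t⁻¹ = t * y * t⁻¹ * ((t * t) * y * (t * t)⁻¹) by
        group, t2]
      group
    have e2 : z ^ i * z ^ i = 1 := by
      have : u = t * (t * u * t⁻¹) * t⁻¹ := by
        rw [show t * (t * u * t⁻¹) * t⁻¹ = (t * t) * u * (t * t)⁻¹ by group, t2]; group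
      rw [e1, show t * (z ^ i * u) * t⁻¹ = (t * z ^ i * t⁻¹) * (t * u * t⁻¹) by group, e1,
        (c1.symm.zpow_right i).eq, mul_inv_cancel_right, ← mul_assoc] at this
      simpa using this.symm
    have e3 : z ^ i = 1 := by
      have : (z ^ i) ^ 3 = 1 := by rw [← zpow_natCast, ← zpow_mul, mul_comm, zpow_mul, zpow_natCast,
        ← o, pow_orderOf_eq_one, one_zpow]
      rwa [pow_succ, sq, e2, one_mul] at this
    rw [e3, one_mul, mul_inv_eq_iff_eq_mul] at e1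
    have e4 : zpowers z = P ⊓ Ce1 t := eq_of_le_of_card_ge
      (zpowers_le.2 ⟨h3, mem_Ce1.2 c1⟩) (by
        rw [Nat.card_zpowers, o]
        exact Nat.le_of_dvd (by norm_num) (Nat.dvd_gcd (h1 ▸ card_dvd_of_le inf_le_left)
          ((h.two ht o c1).2 ▸ card_dvd_of_le inf_le_right)))
    simpa [hu] using mul_mem (inv_mem m2) (m1 u (e4 ▸ ⟨mul_mem y1 y2, mem_Ce1.2 e1.symm⟩))
  refine inf_eq_left.1 (eq_of_le_of_card_ge inf_le_left ?_)
  rw [(h.tA1 hz).2.2]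
  exact Nat.le_of_dvd Nat.card_pos (Nat.Coprime.mul_dvd_of_dvd_of_dvd (by norm_num : Nat.Coprime 27 2)
    (h1 ▸ card_dvd_of_le (le_inf h2 k1)) (ht ▸ Nat.card_zpowers t ▸
      card_dvd_of_le (zpowers_le.2 ⟨t1, k2⟩)))

theorem exists_index : ∃ H : Subgroup G, H.index = 13 := by
  obtain ⟨z, hz⟩ := exists_of_cnt_lt (p := fun g => 1 - A g + B g = -2) (q := fun _ => False) (by
    rw [h.counts.1, Transfer.cnt_eq_zero fun _ => id]; norm_num)
  replace hz := hz.1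
  obtain ⟨P, h1, h2, h3, h4, h5⟩ := h.sylA hz
  have o := h.ordA hz
  have c54 := (h.tA1 hz).2.2
  have r := h.cntA h1
  by_cases k : ∀ y ∈ P, 1 - A y + B y = -2 → y ∈ Ce P
  · obtain ⟨S, rfl⟩ := isSyl_top_iff.1 (isSyl_of_card (p := 3) (D := P) le_top (by
      rw [card_top, fact_eq (k := 3) (m := 208) h.card (by norm_num), h1]; rfl))
    have k1 := Transfer.card_class_mul (No S) z
    rw [inf_eq_right.2 h4, c54, Transfer.cnt_congr (q := fun g => g ∈ (S : Subgroup G) ∧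
      1 - A g + B g = -2) fun y => ⟨?_, fun k1 => ?_⟩] at k1
    · have k2 := card_subgroup_dvd_card (No (S : Subgroup G))
      have k3 := Transfer.cnt_mono (p := fun g => g ∈ (S : Subgroup G) ∧ 1 - A g + B g = -2)
        (q := (· ∈ (S : Subgroup G))) fun _ k => k.1
      rw [← k1, h.card] at k2
      rw [show Nat.card {g // g ∈ (S : Subgroup G)} = 27 from h1] at k3
      generalize Nat.card {g // g ∈ (S : Subgroup G) ∧ 1 - A g + B g = -2} = m at *
      interval_cases m <;> omega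
    · rintro ⟨n, hn, rfl⟩
      have := h.cnj (Transfer.isConj_conj n z)
      exact ⟨mem_No.1 hn ▸ conj_mem_cs.2 h3, by rw [← this.1, ← this.2, hz]⟩
    · obtain ⟨c, rfl⟩ := isConj_iff.1 (h.conjA hz k1.2)
      obtain ⟨n, hn, e⟩ := S.conj_eq_normalizer_conj_of_mem_centralizer z c⁻¹ (k z h3 hz)
        (by rw [inv_inv]; exact k _ k1.1 k1.2)
      exact ⟨n⁻¹, inv_mem hn, by simpa using e.symm⟩
  push Not at k
  obtain ⟨y, y1, hy, y2⟩ := k
  have o' := h.ordA hy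
  have c : Commute z y := (mem_Ce1.1 (h2 y1)).symm
  have y3 : y ∉ zpowers z := fun k => y2 (mem_Ce_iff_le.2 (h2.trans (by
    rw [← Ce_zpowers, ← Ce_zpowers]
    exact Ce_anti (zpowers_le.2 k))))
  have e1 := card_sup2 o o' c y3
  have n1 := h.le_No hz o' c
  have n2 := sup_comm (zpowers y) _ ▸ h.le_No hy o c.symm
  have d1 := c54 ▸ card_dvd_of_le (inf_le_left : Ce1 z ⊓ Ce1 y ≤ _)
  have d2 : ¬ 2 ∣ Nat.card (Ce1 z ⊓ Ce1 y : Subgroup G) := fun k => by
    obtain ⟨t, ht⟩ := exists_prime_orderOf_dvd_card' 2 k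
    have k1 := card_dvd_of_le (sup_le (zpowers_le.2 (mem_Ce1.2 (mem_Ce1.1 t.2.1).symm))
      (zpowers_le.2 (mem_Ce1.2 (mem_Ce1.1 t.2.2).symm)))
    rw [e1, (h.two ((orderOf_coe t).trans ht) o (mem_Ce1.1 t.2.1).symm).2] at k1
    omega
  have d3 : Nat.card (Ce1 z ⊓ Ce1 y : Subgroup G) ≠ 27 := fun k => y2 (mem_Ce_iff_le.2
    ((eq_of_le_of_card_ge (h5 _ inf_le_left (IsPGroup.of_card (n := 3) k)) (by rw [h1, k])).ge.trans
      inf_le_right))
  have k1 := Transfer.card_class_mul (Ce1 z) y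
  have k2 := Transfer.card_class_mul (No (zpowers z ⊔ zpowers y)) y
  have k3 := Transfer.cnt_mono (p := fun u => ∃ a ∈ Ce1 z, a * y * a⁻¹ = u)
    (q := fun u => ∃ a ∈ No (zpowers z ⊔ zpowers y), a * y * a⁻¹ = u)
    fun u ⟨a, ha, e⟩ => ⟨a, n1 ha, e⟩
  have k4 := Transfer.cnt_mono (p := fun u => ∃ a ∈ No (zpowers z ⊔ zpowers y), a * y * a⁻¹ = u)
    (q := fun u => u ∈ zpowers z ⊔ zpowers y ∧ u ≠ 1) (by
      rintro _ ⟨a, ha, rfl⟩
      exact ⟨(mem_No.1 ha).le (conj_mem_cs.2 (mem_sup_right (mem_zpowers y))), by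
        simpa using (h.tA1 hy).1⟩)
  have k5 := Transfer.cnt_erase (p := (· ∈ zpowers z ⊔ zpowers y)) (one_mem _)
  have k6 := (No (zpowers z ⊔ zpowers y)).card_mul_index
  rw [show Nat.card {g // g ∈ zpowers z ⊔ zpowers y} = 9 from e1] at k5
  rw [inf_eq_right.2 n2, (h.tA1 hy).2.2] at k2
  rw [← k2, h.card] at k6
  rw [c54] at k1
  refine ⟨No (zpowers z ⊔ zpowers y), ?_⟩
  have d4 := Nat.le_of_dvd (by norm_num) d1
  change _ * Nat.card (Ce1 z ⊓ Ce1 y : Subgroup G) = _ at k1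
  clear k2 r
  generalize Nat.card (Ce1 z ⊓ Ce1 y : Subgroup G) = d at *
  generalize Nat.card {u // ∃ a ∈ No (zpowers z ⊔ zpowers y), a * y * a⁻¹ = u} = m at *
  have : 6 ≤ m := by interval_cases d <;> omega
  have : m ≤ 8 := by omega
  interval_cases m <;> omega

end L33.T33

end Cfsg.Agent.Blk
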