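import Mathlib

/-! The projective plane of order 3 as a cyclic difference set design. -/

set_option autoImplicit false

namespace Cfsg.Agent.Blk.PG3

/-- the difference set -/
def d0 (i : ZMod 13) : Prop := i = 0 ∨ i = 1 ∨ i = 3 ∨ i = 9

instance : DecidablePred d0 := fun _ => inferInstanceAs (Decidable (_ ∨ _))

/-- the lines through a point -/
def tm (i : ZMod 13) : ℕ :=
  (608752587257602007996001614289651520076224292746257 >>> (13 * i.val)) % 8192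

/-- collinearity -/
def col (i j k : ZMod 13) : Prop := tm i &&& tm j &&& tm k ≠ 0

instance (i j k : ZMod 13) : Decidable (col i j k) := inferInstanceAs (Decidable (_ ≠ _))

theorem col_iff : ∀ i j k, col i j k ↔ ∃ c, d0 (i - c) ∧ d0 (j - c) ∧ d0 (k - c) := by
  decide +kernel

theorem col_self : ∀ i k, col i i k ∧ col i k k := by decide +kernel

set_option synthInstance.maxSize 1000 in
theorem ds : ∀ b c d : ZMod 13, b ≠ 0 → c ≠ 0 → d ≠ 0 → b ≠ c → b ≠ d → c ≠ d →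
    (∀ u ∈ [0, b, c, d], ∀ v ∈ [0, b, c, d], u ≠ v → ∀ j, u + j ∈ [0, b, c, d] →
      v + j ∈ [0, b, c, d] → ∀ w, w + j ∈ [0, b, c, d] ↔ w ∈ [0, b, c, d]) →
    ∃ m, m ≠ 0 ∧ ∃ e, ∀ i, i ∈ [0, b, c, d] ↔ d0 (m * i + e) := by decide +kernel

/-- the collineation group -/
def A0 : Subgroup (Equiv.Perm (ZMod 13)) where
  carrier := {σ | ∀ i j k, col (σ i) (σ j) (σ k) ↔ col i j k}
  one_mem' _ _ _ := Iff.rfl
  mul_mem' ha hb _ _ _ := (ha _ _ _).trans (hb _ _ _)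
  inv_mem' {σ} h i j k := by simpa using (h (σ⁻¹ i) (σ⁻¹ j) (σ⁻¹ k)).symm

theorem eq_one {σ : Equiv.Perm (ZMod 13)} (h : σ ∈ A0) (h0 : σ 0 = 0) (h1 : σ 1 = 1) (h2 : σ 2 = 2)
    (h5 : σ 5 = 5) : σ = 1 := by
  have key : ∀ a b c d p, σ a = a → σ b = b → σ c = c → σ d = d → (col a b p ∧ col c d p ∧
      ∀ q, col a b q → col c d q → q = p) → σ p = p := fun a b c d p ha hb hc hd k =>
    k.2.2 _ (by simpa only [ha, hb] using (h a b p).2 k.1) (by simpa only [hc, hd] using (h c d p).2 k.2.1)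
  have h3 := key 0 1 2 5 3 h0 h1 h2 h5 (by decide)
  have h4 := key 1 2 0 5 4 h1 h2 h0 h5 (by decide)
  have h8 := key 0 2 1 5 8 h0 h2 h1 h5 (by decide)
  have h9 := key 0 1 4 8 9 h0 h1 h4 h8 (by decide)
  have h11 := key 2 5 4 8 11 h2 h5 h4 h8 (by decide)
  have h10 := key 1 2 3 8 10 h1 h2 h3 h8 (by decide)
  have h7 := key 0 5 3 8 7 h0 h5 h3 h8 (by decide)
  have h12 := key 0 2 3 4 12 h0 h2 h3 h4 (by decide)
  have h6 := key 1 5 3 4 6 h1 h5 h3 h4 (by decide)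
  ext i
  fin_cases i <;> assumption

theorem card_A0 : Nat.card A0 ≤ 5616 := by
  have : Fintype.card {t : ZMod 13 × ZMod 13 × ZMod 13 × ZMod 13 // ¬ col t.1 t.2.1 t.2.2.1 ∧
    ¬ col t.1 t.2.1 t.2.2.2 ∧ ¬ col t.1 t.2.2.1 t.2.2.2 ∧ ¬ col t.2.1 t.2.2.1 t.2.2.2} = 5616 := by
    decide +kernel
  rw [← this, ← Nat.card_eq_fintype_card]
  refine Nat.card_le_card_of_injective (fun σ => ⟨(σ.1 0, σ.1 1, σ.1 2, σ.1 5), by
    simp only [σ.2 _ _ _]; decide⟩) fun σ τ e => ?_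
  simp only [Subtype.mk.injEq, Prod.mk.injEq] at e
  refine (inv_mul_eq_one.1 (Subtype.ext (eq_one (τ⁻¹ * σ).2 ?_ ?_ ?_ ?_))).symm <;> simp [e]

end Cfsg.Agent.Blk.PG3
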