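import Cfsg.Agent.Lib.Block.L33b
import Cfsg.Agent.Lib.Block.PG3
import Cfsg.Agent.Lib.Perm.Mod3

/-! There is at most one simple group of order 5616. -/

set_option autoImplicit false

namespace Cfsg.Agent.Blk

open MonoidAlgebra Subgroup MulAction
open Cfsg.Agent.Char hiding cj cj_mul cj_inv_cj cj_cj_inv sum_cj_eq
open scoped ComplexConjugate
attribute [local instance] _root_.Classical.propDecidable

theorem exists_const {G : Type*} [Group G] [Finite G] {H : Subgroup G} [Fintype H] (hH : H ≠ ⊤) :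
    ∃ χ : IrrCharacter G, χ ≠ irrOne G ∧ dg χ < H.index ∧
      classInner (fun g : H => χ.1 g) (fun _ => 1) ≠ 0 := by
  have := Fintype.ofFinite G
  have := Fintype.ofFinite (stabilizer G ((1 : G) : G ⧸ H))
  have k2 := classInner_pc_one' (G := G) ((1 : G) : G ⧸ H)
  have k3 := (isCharacter_perm (G := G) (G ⧸ H)).sub_irr isIrrCharacter_one (by
    rw [k2]; exact one_ne_zero)
  obtain ⟨χ, hχ, k4⟩ := k3.exists_irr_constituent fun e => hH (index_eq_one.1 (by
    have := congrFun e 1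
    simp only [Pi.sub_apply, fixedBy_one_eq_univ, Nat.card_univ, Pi.zero_apply, sub_eq_zero] at this
    exact_mod_cast this))
  have k5 : (⟨χ, hχ⟩ : IrrCharacter G) ≠ irrOne G := fun e => k4 (by
    rw [show χ = fun _ => 1 from congrArg Subtype.val e, classInner_sub_left, k2,
      isIrrCharacter_one.classInner_self, sub_self])
  refine ⟨⟨χ, hχ⟩, k5, ?_, ?_⟩
  · have := (k3.sub_irr hχ k4).degree_re_nonneg
    simp only [Pi.sub_apply, fixedBy_one_eq_univ, Nat.card_univ] at this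
    rw [← index, show χ 1 = _ from (cast_deg ⟨χ, hχ⟩).symm] at this
    simp at this
    exact_mod_cast (by linarith : ((charDegree χ + 1 : ℝ)) ≤ H.index)
  · rw [classInner_sub_left, classInner_pc_left ((1 : G) : G ⧸ H) hχ.isClassFunction,
      show classInner (fun _ => 1) χ = 0 from (classInner_irr (irrOne G) ⟨χ, hχ⟩).trans
        (if_neg k5.symm), sub_zero, Ne, classInner_eq_zero_comm] at k4
    have e : ∀ (K : Subgroup G) [Fintype K], K = H →
        classInner (fun g : K => χ g) (fun _ => 1) ≠ 0 →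
        classInner (fun g : H => χ g) (fun _ => 1) ≠ 0 := by
      rintro K _ rfl k
      rwa [classInner_congr_fintype]
    exact e _ (stabilizer_quotient H) k4

theorem card_mul_le_of_le {G : Type*} [Group G] [Finite G] {P Q K : Subgroup G} (h1 : P ≤ K)
    (h2 : Q ≤ K) : Nat.card P * Nat.card Q ≤ Nat.card K * Nat.card (P ⊓ Q : Subgroup G) := by
  rw [← Solv.card_inf_mul_relIndex P Q, ← Solv.card_mul_relIndex h1, mul_assoc, mul_comm (Nat.card
    (P ⊓ Q : Subgroup G))]
  exact Nat.mul_le_mul_left _ (Nat.mul_le_mul_right _ (relIndex_le_of_le_right h2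
    index_ne_zero_of_finite))

theorem cnt_mod_act {G Ω : Type*} [Group G] [Finite Ω] [MulAction G Ω] {p : ℕ} [Fact p.Prime]
    {k : G} (hk : k ^ p = 1) {A : Ω → Prop} (hA : ∀ x, A x → A (k • x)) :
    Nat.card {x // A x} ≡ Nat.card {x // A x ∧ k • x = x} [MOD p] := by
  have := Fintype.ofFinite Ω
  let f : Function.End {x // A x} := fun x => ⟨k • x.1, hA _ x.2⟩
  have h1 : ∀ (n : ℕ) x, ((f ^ n) x).1 = k ^ n • x.1 := fun n => by
    induction n with
    | zero => intro x; simp; rfl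
    | succ n ih =>
      intro x
      rw [pow_succ', show (f * f ^ n) x = f ((f ^ n) x) from rfl]
      simp only [f, ih, pow_succ', mul_smul]
  have := Equiv.Perm.card_fixedPoints_modEq (f := f) (p := p) (n := 1)
    (funext fun x => Subtype.ext (by rw [h1, pow_one, hk]; simp; rfl))
  rw [← Nat.card_eq_fintype_card, ← Nat.card_eq_fintype_card] at this
  convert this using 1
  exact Nat.card_congr ((Equiv.subtypeSubtypeEquivSubtypeInter A (fun x => k • x = x)).symm.trans
    (Equiv.subtypeEquivRight fun x => by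
      rw [Function.mem_fixedPoints, Function.IsFixedPt, Subtype.ext_iff]))

theorem faithful_quot {G : Type*} [Group G] [IsSimpleGroup G] {H : Subgroup G} (hH : H ≠ ⊤) :
    FaithfulSMul G (G ⧸ H) := by
  have h1 : H.normalCore = ⊥ := (H.normalCore_normal.eq_bot_or_eq_top).resolve_right fun h1 =>
    hH (top_le_iff.1 (h1 ▸ H.normalCore_le))
  rw [normalCore_eq_ker, MonoidHom.ker_eq_bot_iff] at h1
  exact ⟨fun k => h1 (Equiv.ext k)⟩

namespace L33.T33

variable {G : Type*} [Group G] [Finite G] [IsSimpleGroup G] {x y g t z : G}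
  {X : Finset (IrrCharacter G)} {α β : IrrCharacter G} {A B : G → ℤ} {H : Subgroup G}
variable (h : T33 α β X A B) (hH : H.index = 13)
include h hH

theorem fix (g : G) : (Nat.card (fixedBy (G ⧸ H) g) : ℤ) = 1 + A g := by
  have := Fintype.ofFinite H
  obtain ⟨χ, h1, h2, h3⟩ := exists_const (H := H) (by rintro rfl; simp at hH)
  have h4 : 0 < dg χ := Nat.pos_of_ne_zero (charDegree_ne_zero χ)
  obtain rfl : χ = α := by
    rcases h.mem χ (fun k => by have := Nat.le_of_dvd h4 k; omega) with k | k | rfl | k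
    · exact (h1 k).elim
    · exact k
    · have := h.dβ; omega
    · have := h.dX _ k; omega
  have := fix_eq h1 (by rw [hH, h.dα]) h3 g
  rw [h.vA] at this
  exact_mod_cast this

theorem tA_of {a b : G ⧸ H} (n : a ≠ b) (ha : g • a = a) (hb : g • b = b) (h1 : g ≠ 1) {m : ℕ}
    (hg : orderOf g = 3 ^ m) : 1 - A g + B g = -2 ∧ Nat.card (fixedBy (G ⧸ H) g) = 4 := by
  have k1 := h.fix hH g
  have : Nontrivial (fixedBy (G ⧸ H) g) := ⟨⟨a, ha⟩, ⟨b, hb⟩, fun e => n (congrArg Subtype.val e)⟩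
  have k2 := Finite.one_lt_card (α := fixedBy (G ⧸ H) g)
  rcases h.three' h1 hg with k | k <;> omega

theorem fix_comm {a b : G ⧸ H} (n : a ≠ b) (ha : g • a = a) (hb : g • b = b) (ha' : z • a = a)
    (hb' : z • b = b) (hg : orderOf g = 3) (hz : orderOf z = 3) (c : Commute z g) {u : G ⧸ H}
    (hu : z • u = u) : g • u = u := by
  have k1 := (h.tA_of hH n ha' hb' (fun e => by simp [e] at hz) (m := 1) hz).2
  have k2 := cnt_mod_act (p := 3) (k := g) (hg ▸ pow_orderOf_eq_one g)
    (A := fun u : G ⧸ H => z • u = u) fun u hu => by rw [← mul_smul, c.eq, mul_smul, hu]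
  have k3 := Transfer.cnt_mono (p := fun u : G ⧸ H => z • u = u ∧ g • u = u)
    (q := fun u => z • u = u) fun _ k => k.1
  have : Nontrivial {u : G ⧸ H // z • u = u ∧ g • u = u} :=
    ⟨⟨a, ha', ha⟩, ⟨b, hb', hb⟩, fun e => n (congrArg Subtype.val e)⟩
  have k4 := Finite.one_lt_card (α := {u : G ⧸ H // z • u = u ∧ g • u = u})
  rw [show Nat.card {u : G ⧸ H // z • u = u} = 4 from k1] at k2 k3
  unfold Nat.ModEq at k2
  exact (of_cnt_le (p := fun u : G ⧸ H => z • u = u ∧ g • u = u) (fun _ k => k.1)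
    (k1.trans_le (by omega)) hu).2

theorem card_stab {a b : G ⧸ H} (n : a ≠ b) :
    Nat.card (stabilizer G a ⊓ stabilizer G b : Subgroup G) = 36 := by
  have := Fintype.ofFinite (G ⧸ H)
  have := faithful_quot (H := H) (by rintro rfl; simp at hH)
  have k := (Perm.Md.two_of_not_solv (G := G) (Ω := G ⧸ H) (p := 13) hH fun k =>
    (Group.IsSolvable.commutator_lt_top_of_nontrivial G).ne (perf h.card)
      ).index_of_fixingSubgroup_mul (Set.ncard_pair n)
  have k1 := (fixingSubgroup G ({a, b} : Set (G ⧸ H))).card_mul_index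
  rw [show Nat.card (G ⧸ H) = 13 from hH] at k
  rw [show stabilizer G a ⊓ stabilizer G b = fixingSubgroup G ({a, b} : Set (G ⧸ H)) from
    Subgroup.ext fun g => by simp [mem_fixingSubgroup_iff]]
  simp [Nat.factorial] at k
  rw [h.card, show (fixingSubgroup G ({a, b} : Set (G ⧸ H))).index = 156 by omega] at k1
  omega

theorem fix_eq' {a b : G ⧸ H} (n : a ≠ b) (ha : g • a = a) (hb : g • b = b) (ha' : z • a = a)
    (hb' : z • b = b) (hg : orderOf g = 3) (hz : orderOf z = 3) {u : G ⧸ H}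
    (hu : z • u = u) : g • u = u := by
  have k := h.card_stab hH n
  obtain ⟨P, hP, p1⟩ := exists_isSyl_ge (K := stabilizer G a ⊓ stabilizer G b)
    (isPGroup_zpowers (p := 3) ⟨1, hz⟩) (zpowers_le.2 ⟨ha', hb'⟩)
  obtain ⟨Q, hQ, q1⟩ := exists_isSyl_ge (K := stabilizer G a ⊓ stabilizer G b)
    (isPGroup_zpowers (p := 3) ⟨1, hg⟩) (zpowers_le.2 ⟨ha, hb⟩)
  have p2 : Nat.card P = 3 ^ 2 := by rw [hP.card_eq, fact_eq (k := 2) (m := 4) k (by norm_num)]
  have q2 : Nat.card Q = 3 ^ 2 := by rw [hQ.card_eq, fact_eq (k := 2) (m := 4) k (by norm_num)]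
  have k1 := card_mul_le_of_le hP.le hQ.le
  rw [p2, q2, k] at k1
  obtain ⟨w, hw, w1⟩ := (bot_or_exists_ne_one (P ⊓ Q)).resolve_left fun e => by simp [e] at k1
  have w2 := hP.le hw.1
  obtain ⟨m, hm⟩ := IsPGroup.iff_orderOf.1 hP.pg ⟨w, hw.1⟩
  have w3 := h.ordA (h.tA_of hH n w2.1 w2.2 w1 ((orderOf_coe _).trans hm)).1
  have := IsPGroup.isMulCommutative_of_card_eq_prime_sq p2
  have := IsPGroup.isMulCommutative_of_card_eq_prime_sq q2
  exact h.fix_comm hH n ha hb w2.1 w2.2 hg w3 (mem_Ce.1 (le_centralizer Q (q1 (mem_zpowers g))) w hw.2)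
    (h.fix_comm hH n w2.1 w2.2 ha' hb' w3 hz (mem_Ce.1 (le_centralizer P hw.1) z
      (p1 (mem_zpowers z))) hu)

omit hH in
theorem equiv : Nonempty (G ≃* PG3.A0) := by
  obtain ⟨H, hH⟩ := h.exists_index
  have := Fintype.ofFinite (G ⧸ H)
  have := faithful_quot (H := H) (by rintro rfl; simp at hH)
  obtain ⟨e, τ, -, he⟩ := Perm.Md.coord_syl (G := G) (Ω := G ⧸ H) (p := 13) hH default
  obtain ⟨z, hz⟩ := exists_of_cnt_lt (p := fun g => 1 - A g + B g = -2) (q := fun _ => False) (by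
    rw [h.counts.1, Transfer.cnt_eq_zero fun _ => id]; norm_num)
  have o := h.ordA hz.1
  have f4 : (fixedBy (G ⧸ H) z).ncard = 4 := by
    have := h.fix hH z
    rcases h.three' (fun e => by simp [e] at o) (n := 1) o with k | k
    · exact (k.2.1 hz.1).elim
    · rw [k.1] at this; exact_mod_cast this
  obtain ⟨a, b, c, d, n1, n2, n3, n4, n5, n6, hF⟩ := Set.ncard_eq_four.1 f4
  have sh : ∀ j : ZMod 13, ∃ s : G, ∀ u, e (s • u) = e u + j := fun j => ⟨τ ^ j.val, fun u => by
    have : ∀ n : ℕ, e (τ ^ n • u) = e u + n := fun n => by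
      induction n with
      | zero => simp
      | succ n ih => rw [pow_succ', mul_smul, he, ih]; push_cast; ring
    simpa using this j.val⟩
  choose s hs using sh
  have oc : ∀ g : G, orderOf (g * z * g⁻¹) = 3 := fun g =>
    (Transfer.IsConj.orderOf_eq' (Transfer.isConj_conj g z)).trans o
  have fc : ∀ (g : G) (u : G ⧸ H), (g * z * g⁻¹) • u = u ↔ z • g⁻¹ • u = g⁻¹ • u := fun g u => by
    rw [mul_smul, mul_smul, smul_eq_iff_eq_inv_smul]
  have hs' : ∀ j u, e ((s j)⁻¹ • u) = e u - j := fun j u => by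
    rw [eq_sub_iff_add_eq, ← hs, smul_inv_smul]
  have m1 : ∀ u, z • u = u ↔ e u - e a ∈ [0, e b - e a, e c - e a, e d - e a] := fun u => by
    rw [← mem_fixedBy, hF]; simp [sub_eq_zero]
  have m2 : ∀ j u, (s j * z * (s j)⁻¹) • u = u ↔
      e u - e a - j ∈ [0, e b - e a, e c - e a, e d - e a] := fun j u => by
    rw [fc, m1, hs', sub_right_comm]
  obtain ⟨m, m0, r, hm⟩ := PG3.ds (e b - e a) (e c - e a) (e d - e a) (by simp [sub_eq_zero, n1.symm])
    (by simp [sub_eq_zero, n2.symm]) (by simp [sub_eq_zero, n3.symm]) (by simp [n4]) (by simp [n5])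
    (by simp [n6]) fun u hu v hv n j k1 k2 w => by
      have n' : e.symm (u + j + e a) ≠ e.symm (v + j + e a) := by simpa using n
      have p1 := (m1 (e.symm (u + j + e a))).2 (by simpa using k1)
      have p2 := (m1 (e.symm (v + j + e a))).2 (by simpa using k2)
      have p3 := (m2 j (e.symm (u + j + e a))).2 (by simpa using hu)
      have p4 := (m2 j (e.symm (v + j + e a))).2 (by simpa using hv)
      have q1 := m1 (e.symm (w + j + e a))
      have q2 := m2 j (e.symm (w + j + e a))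
      simp only [Equiv.apply_symm_apply, add_sub_cancel_right] at q1 q2
      rw [← q1, ← q2]
      exact ⟨h.fix_eq' hH n' p3 p4 p1 p2 (oc _) o, h.fix_eq' hH n' p1 p2 p3 p4 o (oc _)⟩
  let ε : (G ⧸ H) ≃ ZMod 13 := e.trans ((Equiv.subRight (e a)).trans ((Equiv.mulLeft₀ m m0).trans
    (Equiv.addRight r)))
  have m3 : ∀ j u, (s (m⁻¹ * j) * z * (s (m⁻¹ * j))⁻¹) • u = u ↔ PG3.d0 (ε u - j) := fun j u => by
    rw [m2, hm]
    congr! 1
    simp only [ε, Equiv.trans_apply, Equiv.subRight_apply, Equiv.mulLeft₀_apply, Equiv.coe_addRight]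
    field_simp
    ring
  have key : ∀ u v w, PG3.col (ε u) (ε v) (ε w) ↔ u = v ∨ ∃ y : G, orderOf y = 3 ∧ y • u = u ∧
      y • v = v ∧ y • w = w := fun u v w => by
    by_cases n : u = v
    · simp [n, (PG3.col_self _ _).1]
    rw [PG3.col_iff, or_iff_right n]
    refine ⟨fun ⟨j, k1, k2, k3⟩ => ⟨_, oc _, (m3 j _).2 k1, (m3 j _).2 k2, (m3 j _).2 k3⟩,
      fun ⟨y, k0, k1, k2, k3⟩ => ?_⟩
    obtain ⟨j, p1, p2, -⟩ := (PG3.col_iff _ _ _).1 (PG3.col_self (ε u) (ε v)).2
    exact ⟨j, p1, p2, (m3 j _).1 (h.fix_eq' hH n ((m3 j _).2 p1) ((m3 j _).2 p2) k1 k2 (oc _) k0 k3)⟩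
  have inv : ∀ (g : G) u v w, PG3.col (ε u) (ε v) (ε w) →
      PG3.col (ε (g • u)) (ε (g • v)) (ε (g • w)) := fun g u v w k => by
    rw [key] at k ⊢
    refine k.imp (congrArg _) fun ⟨y, k0, k1, k2, k3⟩ => ⟨g * y * g⁻¹,
      (Transfer.IsConj.orderOf_eq' (Transfer.isConj_conj g y)).trans k0, ?_⟩
    simp [mul_smul, k1, k2, k3]
  let φ : G →* PG3.A0 := (ε.permCongrHom.toMonoidHom.comp (toPermHom G (G ⧸ H))).codRestrict _
    fun g i j k => ⟨fun p => by simpa using inv g⁻¹ _ _ _ p, fun p =>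
      inv g (ε.symm i) (ε.symm j) (ε.symm k) (by simpa using p)⟩
  have i1 : Function.Injective φ := fun x y k =>
    toPerm_injective (ε.permCongrHom.injective (congrArg Subtype.val k))
  exact ⟨MulEquiv.ofBijective φ ((Nat.bijective_iff_injective_and_card φ).2 ⟨i1, le_antisymm
    (Nat.card_le_card_of_injective φ i1) (h.card ▸ PG3.card_A0)⟩)⟩

end L33.T33

theorem L33.unique {G G' : Type*} [Group G] [Finite G] [IsSimpleGroup G] [Group G'] [Finite G']
    [IsSimpleGroup G'] (h : Nat.card G = 5616) (h' : Nat.card G' = 5616) : Nonempty (G ≃* G') := by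
  obtain ⟨_, _, _, _, _, k⟩ := L33.exists_T33 h
  obtain ⟨_, _, _, _, _, k'⟩ := L33.exists_T33 h'
  obtain ⟨a⟩ := k.equiv
  obtain ⟨b⟩ := k'.equiv
  exact ⟨a.trans b.symm⟩

end Cfsg.Agent.Blk
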