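import Cfsg.Agent.Lib.Block.Point

set_option autoImplicit false

namespace Cfsg.Agent.Blk

open MonoidAlgebra
open Cfsg.Agent.Char hiding cj cj_mul cj_inv_cj cj_cj_inv sum_cj_eq
open scoped ComplexConjugate

section Poly
open Polynomial
variable {M : Ideal AlgInt} [hM : M.IsMaximal]

theorem exists_common_denom {ι : Type*} (s : Finset ι) (f : ι → ℂ) (hf : ∀ i ∈ s, f i ∈ O M) :
    ∃ b : AlgInt, b ∉ M ∧ ∀ i ∈ s, IsIntegral ℤ ((b : ℂ) * f i) := by
  classical
  induction s using Finset.induction_on with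
  | empty => exact ⟨1, one_notMem M, by simp⟩
  | insert i s hi ih =>
    obtain ⟨b, hb, h⟩ := ih fun j hj => hf j (Finset.mem_insert_of_mem hj)
    obtain ⟨a, c, hc, hac⟩ := hf i (Finset.mem_insert_self _ _)
    refine ⟨b * c, mul_notMem M hb hc, fun j hj => ?_⟩
    rcases Finset.mem_insert.1 hj with rfl | hj
    · have := ne_zero_of_notMem M hc
      rw [← hac, show ((b * c : AlgInt) : ℂ) * (a / c) = (b * a : AlgInt) by push_cast; field_simp]
      exact (b * a).2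
    · rw [show ((b * c : AlgInt) : ℂ) * f j = c * (b * f j) by push_cast; ring]
      exact IsIntegral.mul c.2 (h j hj)

theorem mem_O_of_root {q : (O M)[X]} (hq : q.Monic) {z : ℂ} (hz : aeval z q = 0) : z ∈ O M := by
  obtain ⟨b, hb, h⟩ := exists_common_denom (M := M) (Finset.range q.natDegree)
    (fun i => (q.coeff i : ℂ)) fun i _ => (q.coeff i).2
  have hb0 := ne_zero_of_notMem M hb
  have h1 : IsIntegral AlgInt ((b : ℂ) * z) := by
    let c : ℕ → AlgInt := fun i =>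
      if hi : i ∈ Finset.range q.natDegree then ⟨_, h i hi⟩ * b ^ (q.natDegree - 1 - i) else 0
    refine ⟨X ^ q.natDegree + ∑ i ∈ Finset.range q.natDegree, C (c i) * X ^ i, ?_, ?_⟩
    · exact monic_X_pow_add ((degree_sum_le _ _).trans_lt ((Finset.sup_lt_iff (WithBot.bot_lt_coe _)).2
        fun i hi => (degree_C_mul_X_pow_le _ _).trans_lt (by
          exact_mod_cast Finset.mem_range.1 hi)))
    · rw [aeval_eq_sum_range, Finset.sum_range_succ, hq.coeff_natDegree, one_smul] at hz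
      rw [eval₂_add, eval₂_finset_sum, eval₂_X_pow, ← mul_zero ((b : ℂ) ^ q.natDegree), ← hz,
        mul_add, mul_pow, add_comm, Finset.mul_sum]
      congr 1
      refine Finset.sum_congr rfl fun i hi => ?_
      rw [eval₂_mul, eval₂_C, eval₂_X_pow]
      simp only [c, dif_pos hi]
      have : q.natDegree = q.natDegree - 1 - i + i + 1 := by
        have := Finset.mem_range.1 hi; omega
      conv_rhs => rw [this]
      rw [Subring.smul_def, smul_eq_mul]
      show ((b : ℂ) * q.coeff i * (b : ℂ) ^ _) * _ = _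
      ring
  have h2 : IsIntegral ℤ ((b : ℂ) * z) := isIntegral_trans _ h1
  exact ⟨⟨_, h2⟩, b, hb, by field_simp⟩

theorem isCoprime_X_sub_C {R : Type*} [CommRing R] {h : R[X]} {r : R} (hu : IsUnit (h.eval r)) :
    IsCoprime (X - C r) h := by
  obtain ⟨u, hu⟩ := hu
  refine ⟨-(C (↑u⁻¹ : R) * (h /ₘ (X - C r))), C (↑u⁻¹ : R), ?_⟩
  have := modByMonic_add_div h (X - C r)
  rw [modByMonic_X_sub_C_eq_C_eval, ← hu] at this
  calc _ = C (↑u⁻¹ : R) * (h - (X - C r) * (h /ₘ (X - C r))) := by ring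
    _ = 1 := by
      rw [← eq_sub_iff_add_eq] at this
      rw [← this, ← C_mul, u.inv_mul, C_1]

theorem exists_factor {q : (O M)[X]} (hq : q.Monic) : ∃ g h : (O M)[X], q = g * h ∧
    (∃ m, g.map (res M) = X ^ m) ∧ res M (h.eval 0) ≠ 0 ∧ IsCoprime (X * g) h := by
  induction hn : q.natDegree using Nat.strong_induction_on generalizing q with
  | _ n ih =>
  by_cases h0 : q.natDegree = 0
  · refine ⟨1, 1, by rw [hq.natDegree_eq_zero.1 h0, mul_one], ⟨0, by simp⟩, by simp,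
      isCoprime_one_right⟩
  obtain ⟨z, hz⟩ := IsAlgClosed.exists_aeval_eq_zero ℂ q (by
    rw [degree_eq_natDegree hq.ne_zero]; exact_mod_cast h0)
  obtain ⟨r, rfl⟩ : ∃ r : O M, (r : ℂ) = z := ⟨⟨z, mem_O_of_root hq hz⟩, rfl⟩
  have hr : q.IsRoot r := by
    have : ((q.eval r : O M) : ℂ) = 0 := by
      rw [← hz]; exact (aeval_algebraMap_apply ℂ r q).symm
    exact_mod_cast this
  have h1 := mul_divByMonic_eq_iff_isRoot.2 hr
  have h2 : (q /ₘ (X - C r)).Monic := (monic_X_sub_C r).of_mul_monic_left (by rwa [h1])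
  obtain ⟨g, h, h3, ⟨m, h4⟩, h5, h6⟩ := ih _ (by
    rw [natDegree_divByMonic _ (monic_X_sub_C r), natDegree_X_sub_C]; omega) h2 rfl
  have hu : ∀ x : O M, res M x ≠ 0 → IsUnit x := fun x hx =>
    (isUnit_iff_not_LI x).2 fun h => hx ((res_eq_zero_iff x).2 h)
  by_cases hr0 : res M r = 0
  · refine ⟨(X - C r) * g, h, by rw [mul_assoc, ← h3, h1], ⟨m + 1, by simp [h4, hr0, pow_succ']⟩, h5,
      ?_⟩
    rw [mul_left_comm]
    refine (isCoprime_X_sub_C (hu _ ?_)).mul_left h6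
    rwa [← eval₂_at_apply, hr0, ← map_zero (res M), eval₂_at_apply]
  · refine ⟨g, (X - C r) * h, by rw [mul_left_comm, ← h3, h1], ⟨m, h4⟩, by simp [h5, hr0], ?_⟩
    refine IsCoprime.mul_right (isCoprime_X_sub_C (hu _ ?_)).symm h6
    rw [← eval₂_at_apply, ← eval_map]
    simp [h4, hr0]

variable {G : Type*} [Group G] [Finite G] {S : Subalgebra (O M) (O M)[G]} {a : (O M)[G]}

theorem toK_aeval (a : (O M)[G]) (g : (O M)[X]) :
    toK M (aeval a g) = aeval (toK M a) (g.map (res M)) :=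
  map_aeval_eq_aeval_map (RingHom.ext fun c => by simp [cf_algebraMap]) g a

theorem fittingO (ha : a ∈ S) : ∃ c ∈ S, Commute a c ∧ IsIdempotentElem (a * c) ∧
    IsNilpotent (toK M (a * (1 - a * c))) := by
  obtain ⟨q, hq, h0⟩ : IsIntegral (O M) a := Algebra.IsIntegral.isIntegral a
  obtain ⟨g, h, h1, ⟨m, h2⟩, -, h3⟩ := exists_factor hq
  obtain ⟨c, hc, h4, h5, h6⟩ := fitting_of_coprime ha h3
    (by rw [mul_assoc, ← h1, map_mul, aeval_def a q, h0, mul_zero])
  refine ⟨c, hc, h4, h5, ?_⟩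
  have h7 := congrArg (toK M) h6
  rw [map_mul, map_mul, toK_aeval, h2, map_zero, map_sub, map_one, aeval_X_pow, ← pow_succ'] at h7
  rw [map_mul, map_sub, map_one]
  exact nilpotent_of_pow_mul (((Commute.refl a).mul_right h4).map _) (h5.map _) h7

theorem exists_idem_lift (ha : a ∈ S) (hi : IsIdempotentElem (toK M a)) :
    ∃ c ∈ S, Commute a c ∧ IsIdempotentElem (a * c) ∧ toK M (a * c) = toK M a := by
  obtain ⟨c, hc, h1, h2, h3⟩ := fittingO ha
  refine ⟨c, hc, h1, h2, ?_⟩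
  rw [map_mul, map_sub, map_one] at h3
  have := idem_eq_zero_of_nilpotent (hi.mul_of_commute ((Commute.one_right _).sub_right
    (((Commute.refl a).mul_right h1).map _)) (h2.map (toK M)).one_sub) h3
  rw [mul_sub, mul_one, sub_eq_zero, map_mul, ← mul_assoc, hi.eq] at this
  rw [map_mul, ← this]

theorem exists_idem_lift_of_mem {K L : Subgroup G} {ι : (kk M)[G]} (h1 : ι ∈ sup (kk M) K)
    (h2 : ι ∈ inv (kk M) L) (hi : IsIdempotentElem ι) :
    ∃ e : (O M)[G], e ∈ sup (O M) K ∧ e ∈ inv (O M) L ∧ IsIdempotentElem e ∧ toK M e = ι := by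
  obtain ⟨b, hb, hb', rfl⟩ := exists_cf_eq_of_mem res_surjective h1 h2
  obtain ⟨c, hc, -, h3, h4⟩ := exists_idem_lift (S := sup (O M) K ⊓ inv (O M) L) ⟨hb, hb'⟩ hi
  exact ⟨b * c, mul_mem hb hc.1, mul_mem hb' hc.2, h3, h4⟩

/-- lifting inside a given idempotent -/
theorem exists_idem_lift_le {K L : Subgroup G} {ι : (kk M)[G]} (h1 : ι ∈ sup (kk M) K)
    (h2 : ι ∈ inv (kk M) L) (hi : IsIdempotentElem ι) {f : (O M)[G]} (hf : f ∈ sup (O M) K)
    (hf' : f ∈ inv (O M) L) (hfi : IsIdempotentElem f) (h3 : toK M f * ι = ι)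
    (h4 : ι * toK M f = ι) : ∃ e : (O M)[G], e ∈ sup (O M) K ∧ e ∈ inv (O M) L ∧
      IsIdempotentElem e ∧ toK M e = ι ∧ f * e = e ∧ e * f = e := by
  obtain ⟨b, hb, hb', rfl⟩ := exists_cf_eq_of_mem res_surjective h1 h2
  have h5 : toK M (f * b * f) = toK M b := by rw [map_mul, map_mul, h3, h4]
  obtain ⟨c, hc, h6, h7, h8⟩ := exists_idem_lift (S := sup (O M) K ⊓ inv (O M) L) (a := f * b * f)
    ⟨mul_mem (mul_mem hf hb) hf, mul_mem (mul_mem hf' hb') hf'⟩ (by rwa [h5])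
  refine ⟨f * b * f * c, mul_mem (mul_mem (mul_mem hf hb) hf) hc.1,
    mul_mem (mul_mem (mul_mem hf' hb') hf') hc.2, h7, h8.trans h5, ?_, ?_⟩
  · simp only [← mul_assoc, hfi.eq]
  · rw [h6.eq]; simp only [mul_assoc, hfi.eq]

end Poly

section Rep
variable {G : Type*} [Group G]

theorem ch_character {V : Type*} [AddCommGroup V] [Module ℂ V] [FiniteDimensional ℂ V]
    (ρ : Representation ℂ G V) (a : ℂ[G]) :
    ch ρ.character a = LinearMap.trace ℂ V (ρ.asAlgebraHom a) := by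
  induction a using MonoidAlgebra.induction_linear with
  | zero => simp
  | add a b ha hb => simp only [map_add, ha, hb]
  | single g c => simp [Representation.character]

theorem isCharacter_idem {χ : G → ℂ} (hχ : IsCharacter G χ) {Q : Subgroup G} {e : ℂ[G]}
    (he : e ∈ inv ℂ Q) (hi : IsIdempotentElem e) :
    IsCharacter Q fun u : Q => ch χ (single (u : G) 1 * e) := by
  obtain ⟨n, ρ, rfl⟩ := hχ
  have hP : IsIdempotentElem (ρ.asAlgebraHom e) := hi.map _
  let U : Subrepresentation (ρ.comp Q.subtype) :=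
    ⟨LinearMap.range (ρ.asAlgebraHom e), by
      rintro g _ ⟨v, rfl⟩
      refine ⟨ρ g v, ?_⟩
      have := (cj_eq_iff_commute.1 (mem_inv.1 he g g.2)).map ρ.asAlgebraHom
      rw [Representation.asAlgebraHom_single_one] at this
      exact (LinearMap.congr_fun this.eq v).symm⟩
  convert isCharacter_rep U.toRepresentation using 1
  funext u
  rw [character_sub_eq_trace_comp U _ (LinearMap.IsIdempotentElem.isProj_range _ hP), ch_character, map_mul,
    Representation.asAlgebraHom_single_one]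
  rfl

theorem isGen_idem {χ : G → ℂ} (hχ : IsGeneralizedCharacter G χ) {Q : Subgroup G} {e : ℂ[G]}
    (he : e ∈ inv ℂ Q) (hi : IsIdempotentElem e) :
    IsGeneralizedCharacter Q fun u : Q => ch χ (single (u : G) 1 * e) := by
  obtain ⟨φ, ψ, h1, h2, rfl⟩ := hχ
  refine ⟨_, _, isCharacter_idem h1 he hi, isCharacter_idem h2 he hi, funext fun u => ?_⟩
  rw [sub_eq_add_neg, ch_add_left, ← neg_one_smul ℂ ψ, ch_smul_left]
  simp [sub_eq_add_neg]

theorem exists_nat_ch_idem {χ : G → ℂ} (hχ : IsCharacter G χ) {e : ℂ[G]}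
    (hi : IsIdempotentElem e) : ∃ n : ℕ, ch χ e = n := by
  obtain ⟨n, hn⟩ := (isCharacter_idem hχ (Q := ⊥) (e := e) (mem_inv.2 fun x hx => by
    rw [Subgroup.mem_bot.1 hx, cj_one']) hi).exists_degree
  exact ⟨n, by simpa [← one_def] using hn⟩

end Rep

variable {G : Type*} [Group G] [Finite G] {M : Ideal AlgInt} {p : ℕ} [PMod M p]

theorem mem_inv_zpowers {R : Type*} [CommRing R] {u : G} {a : R[G]} :
    a ∈ inv R (Subgroup.zpowers u) ↔ cj u a = a :=
  ⟨fun h => mem_inv.1 h u (Subgroup.mem_zpowers u), fun h =>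
    (le_stab.1 ((Subgroup.zpowers_le_of_mem (mem_stab.2 ⟨Subgroup.mem_top u, h⟩)) :
      _ ≤ stab ⊤ a)).2⟩

theorem sup_Ce1_le_inv {R : Type*} [CommRing R] (u : G) :
    sup R (Ce1 u) ≤ inv R (Subgroup.zpowers u) := by
  rw [← Ce_zpowers]; exact sup_le_inv_Ce _

/-- vanishing lemma -/
theorem ch_eq_zero_of_Br {e : (O M)[G]} {h x : G} (he : cj h e = e) (hi : IsIdempotentElem e)
    (hx : IsPPart p h x) (h0 : Br (Subgroup.zpowers x) (toK M e) = 0) {τ : G → ℂ}
    (hτ : IsClassFunction G τ) : ch τ (single h 1 * toC M e) = 0 := by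
  haveI : Fact p.Prime := ⟨PMod.prime M⟩
  let σ : Equiv.Perm G := Equiv.mulLeft h⁻¹ * Equiv.mulRight h
  have hσn : ∀ (n : ℤ) g, (σ ^ n) g = (h ^ n)⁻¹ * g * h ^ n := fun n g => by
    have : Commute (Equiv.mulLeft h⁻¹) (Equiv.mulRight h) := by
      ext g; simp [mul_assoc]
    simp only [σ, this.mul_zpow, Equiv.zpow_mulLeft, Equiv.zpow_mulRight]
    simp [mul_assoc]
  obtain ⟨ζ, ρ, h1, h2, h3⟩ := exists_twist M σ
  have h4 : ∀ g, g ∉ Ce1 x → ρ (h⁻¹ * g * h) = ζ * ρ g := fun g hgH => by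
    have := h3 g fun n hn => by_contra fun hd => hgH ?_
    · simpa [σ, mul_assoc] using this
    rw [hσn] at hn
    have := hx.conj_eq_of_zpow hx hd (c := g) (by
      rw [mul_inv_eq_iff_eq_mul, ← inv_mul_eq_iff_eq_mul, ← mul_assoc, hn])
    exact mem_Ce1.2 (mul_inv_eq_iff_eq_mul.1 this)
  have hh : h ∈ Ce1 x := mem_Ce1.2 hx.commute.eq.symm
  set f' := e - tr (Ce1 x : Set G) e with hf'd
  have h6 : cj h (diag ρ f') = ζ • diag ρ f' := ext' fun g => by
    rw [coeff_cj, coeff_smul', coeff_diag, coeff_diag]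
    have h7 : f'.coeff (h⁻¹ * g * h) = f'.coeff g := by
      rw [← coeff_cj, hf'd, map_sub, cj_tr, he, cs_eq_of_mem hh]
    rw [h7]
    by_cases hgH : g ∈ Ce1 x
    · rw [hf'd, coeff_sub', coeff_tr_of_mem _ hgH, sub_self, mul_zero, mul_zero, mul_zero]
    · rw [h4 g hgH, mul_assoc]
  have key := trace_twist (R := O M) (fun a => ch τ (toC M a)) (c := ζ) (c' := ζ) (e := e)
    (s := single h 1) (t := diag ρ f')
    (fun a b => by simp only [map_mul]; exact ch_mul_comm hτ _ _)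
    (fun a => by simp only [toC_smul, map_smul, smul_eq_mul]) h1 hi
    (cj_eq_iff_commute.1 he)
    (by
      rw [← smul_mul_assoc, ← h6, cj_eq, mul_assoc _ (single h⁻¹ 1), single_mul_single,
        inv_mul_cancel, mul_one, ← one_def, mul_one])
    (isUnit_of_toK_eq_one (by
      have h8 : toK M (e * diag ρ f' * e) = toK M e := by
        rw [map_mul, map_mul, toK_diag h2, hf'd, map_sub, cf_tr, tr_Ce1, h0, sub_zero, ← map_mul,
          ← map_mul, hi.eq, hi.eq]
      rw [map_add, h8, ← map_add, add_sub_cancel, map_one]))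
  simpa only [map_mul, cf_single, map_one] using key

theorem Br_toK_mul {Q : Subgroup G} (hQ : IsPGroup p Q) {a b : (O M)[G]} (ha : a ∈ inv (O M) Q)
    (hb : b ∈ inv (O M) Q) : Br Q (toK M (a * b)) = Br Q (toK M a) * Br Q (toK M b) := by
  haveI : Fact p.Prime := ⟨PMod.prime M⟩
  rw [map_mul, Br_mul hQ (cf_mem_inv _ ha) (cf_mem_inv _ hb)]

/-- the value `χ(u i)` only depends on the Brauer image of `i` up to equivalence -/
theorem ch_eq_of_eqv {u : G} (hu : ∃ k : ℕ, orderOf u = p ^ k) {i j : (O M)[G]}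
    (hi : i ∈ inv (O M) (Subgroup.zpowers u)) (hj : j ∈ inv (O M) (Subgroup.zpowers u))
    (hii : IsIdempotentElem i) (hjj : IsIdempotentElem j)
    (h : Eqv (sup (kk M) (Ce1 u)) (Br (Subgroup.zpowers u) (toK M i))
      (Br (Subgroup.zpowers u) (toK M j))) {τ : G → ℂ} (hτ : IsClassFunction G τ) :
    ch τ (single u 1 * toC M i) = ch τ (single u 1 * toC M j) := by
  haveI : Fact p.Prime := ⟨PMod.prime M⟩
  have hU := isPGroup_zpowers hu
  set U := Subgroup.zpowers u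
  have hb : ∀ {a b : (O M)[G]}, a ∈ inv (O M) U → b ∈ inv (O M) U →
      Br U (toK M (a * b)) = Br U (toK M a) * Br U (toK M b) := Br_toK_mul hU
  have bi := Br_idem hU (cf_mem_inv (res M) hi) (hii.map (toK M))
  have bj := Br_idem hU (cf_mem_inv (res M) hj) (hjj.map (toK M))
  obtain ⟨x, hx, y, hy, h1, h2, h3, h4, h5, h6⟩ := h.exists_norm bi bj
  obtain ⟨x, hx', -, rfl⟩ := exists_cf_eq_of_mem (L := U) res_surjective hx (sup_Ce1_le_inv u hx)
  obtain ⟨y, hy', -, rfl⟩ := exists_cf_eq_of_mem (L := U) res_surjective hy (sup_Ce1_le_inv u hy)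
  have hxU := sup_Ce1_le_inv u hx'
  have hyU := sup_Ce1_le_inv u hy'
  have bx : Br U (toK M x) = toK M x := Br_of_mem_sup (by rwa [Ce_zpowers])
  have bY : Br U (toK M y) = toK M y := Br_of_mem_sup (by rwa [Ce_zpowers])
  obtain ⟨a, ha⟩ : ∃ a, a = i * x * j := ⟨_, rfl⟩
  obtain ⟨b, hb'⟩ : ∃ b, b = j * y * i := ⟨_, rfl⟩
  have haU : a ∈ inv (O M) U := ha ▸ mul_mem (mul_mem hi hxU) hj
  have hbU : b ∈ inv (O M) U := hb' ▸ mul_mem (mul_mem hj hyU) hi
  have ba : Br U (toK M a) = toK M x := by rw [ha, hb (mul_mem hi hxU) hj, hb hi hxU, bx, h3, h4]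
  have bb : Br U (toK M b) = toK M y := by rw [hb', hb (mul_mem hj hyU) hi, hb hj hyU, bY, h5, h6]
  have ia : i * a = a := by rw [ha]; simp only [← mul_assoc, hii.eq]
  have aj : a * j = a := by rw [ha]; simp only [mul_assoc, hjj.eq]
  have jb : j * b = b := by rw [hb']; simp only [← mul_assoc, hjj.eq]
  have bi' : b * i = b := by rw [hb']; simp only [mul_assoc, hii.eq]
  obtain ⟨c, hc, h7, h8, h9⟩ := fittingO (S := inv (O M) U) (mul_mem haU hbU)
  obtain ⟨ε, hε⟩ : ∃ ε, ε = a * b * c := ⟨_, rfl⟩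
  rw [← hε] at h8 h9
  have hεU : ε ∈ inv (O M) U := hε ▸ mul_mem (mul_mem haU hbU) hc
  have iε : i * ε = ε := by rw [hε]; simp only [← mul_assoc, ia]
  have εi : ε * i = ε := by rw [hε, h7.eq]; simp only [mul_assoc, bi']
  have sub_idem : ∀ {e f : (O M)[G]}, IsIdempotentElem e → IsIdempotentElem f → e * f = f →
      f * e = f → IsIdempotentElem (e - f) := fun he hf h1 h2 => by
    show _ = _
    rw [sub_mul, mul_sub, mul_sub, he.eq, hf.eq, h1, h2, sub_self, sub_zero]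
  have hbε : Br U (toK M ε) = Br U (toK M i) := by
    have h10 := Br_nilpotent hU (cf_mem_inv (res M) (mul_mem (mul_mem haU hbU)
      (sub_mem (one_mem _) hεU))) h9
    rw [hb (mul_mem haU hbU) (sub_mem (one_mem _) hεU), hb haU hbU, ba, bb, h1,
      ← hb hi (sub_mem (one_mem _) hεU), mul_sub, mul_one, iε] at h10
    have := idem_eq_zero_of_nilpotent (Br_idem hU (cf_mem_inv (res M) (sub_mem hi hεU))
      ((sub_idem hii h8 iε εi).map (toK M))) h10
    rw [map_sub, map_sub, sub_eq_zero] at this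
    exact this.symm
  have hV : ∀ {e f : (O M)[G]}, e ∈ inv (O M) U → f ∈ inv (O M) U → IsIdempotentElem e →
      IsIdempotentElem f → e * f = f → f * e = f → Br U (toK M f) = Br U (toK M e) →
      ch τ (single u 1 * toC M e) = ch τ (single u 1 * toC M f) :=
    fun he hf he' hf' h1 h2 h3 => by
      have := ch_eq_zero_of_Br (M := M) (mem_inv_zpowers.1 (sub_mem he hf))
        (sub_idem he' hf' h1 h2) (isPPart_self hu) (by rw [map_sub, map_sub, h3, sub_self]) hτ
      rwa [map_sub, mul_sub, map_sub, sub_eq_zero] at this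
  have hcε : Commute c ε := by rw [hε]; exact h7.symm.mul_right (Commute.refl c)
  obtain ⟨δ, hδ⟩ : ∃ δ, δ = b * (c * ε) * a := ⟨_, rfl⟩
  have hδU : δ ∈ inv (O M) U := hδ ▸ mul_mem (mul_mem hbU (mul_mem hc hεU)) haU
  have h11 : a * (b * (c * ε)) = ε := by rw [← mul_assoc, ← mul_assoc, ← hε, h8.eq]
  have hδi : IsIdempotentElem δ := by
    show _ = _
    calc δ * δ = b * (c * ε * (a * (b * (c * ε)))) * a := by rw [hδ]; simp only [mul_assoc]
      _ = δ := by rw [h11, mul_assoc c, h8.eq, hδ]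
  have hbc : Br U (toK M i) * Br U (toK M c) = Br U (toK M i) := by
    conv_rhs => rw [← hbε, hε, hb (mul_mem haU hbU) hc, hb haU hbU, ba, bb, h1]
  have hbδ : Br U (toK M δ) = Br U (toK M j) := by
    rw [hδ, hb (mul_mem hbU (mul_mem hc hεU)) haU, hb hbU (mul_mem hc hεU), hcε.eq, hb hεU hc, hbε,
      hbc, ba, bb, h6, h2]
  rw [hV hi hεU hii h8 iε εi hbε, hV hj hδU hjj hδi (by rw [hδ]; simp only [← mul_assoc, jb])
    (by rw [hδ]; simp only [mul_assoc, aj]) hbδ, hδ, map_mul (toC M) _ a, ← mul_assoc,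
    ch_mul_comm hτ _ (toC M a),
    ← mul_assoc, ← (cj_eq_iff_commute.1 (mem_inv_zpowers.1 (cf_mem_inv (O M).subtype haU))).eq,
    mul_assoc, ← map_mul, h11]

/-- a chosen idempotent lift -/
noncomputable def il (K : Subgroup G) (ι : (kk M)[G]) : (O M)[G] :=
  open Classical in
  if h : ∃ e : (O M)[G], e ∈ sup (O M) K ∧ IsIdempotentElem e ∧ toK M e = ι then h.choose else 0

theorem il_spec {K : Subgroup G} {ι : (kk M)[G]} (h1 : ι ∈ sup (kk M) K)
    (hi : IsIdempotentElem ι) :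
    il K ι ∈ sup (O M) K ∧ IsIdempotentElem (il K ι) ∧ toK M (il K ι) = ι := by
  have : ∃ e : (O M)[G], e ∈ sup (O M) K ∧ IsIdempotentElem e ∧ toK M e = ι := by
    obtain ⟨e, h2, -, h3⟩ := exists_idem_lift_of_mem (L := ⊥) h1 (mem_inv.2 fun x hx => by
      rw [Subgroup.mem_bot.1 hx, cj_one']) hi
    exact ⟨e, h2, h3⟩
  rw [il, dif_pos this]
  exact this.choose_spec

theorem il_barS {K : Subgroup G} {b : Set (IrrCharacter K)} (hb : IsUB M b) :
    il K (barS M K b) = fOS M K b := by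
  obtain ⟨h1, h2, h3⟩ := il_spec (barS_mem K b).1 hb.barS_idem
  exact idem_eq_of_toK_eq h2 hb.fOS_idem (commute_of_mem (fOS_mem K b).2 h1).symm
    (by rw [h3, toK_fOS])

/-- `TT τ u ι = τ(u ι̂)` for an idempotent `ι` of `k C(u)` -/
noncomputable def TT (τ : G → ℂ) (u : G) (ι : (kk M)[G]) : ℂ :=
  ch τ (single u 1 * toC M (il (Ce1 u) ι))

variable {u : G} {τ : G → ℂ} {ι ι' : (kk M)[G]}

theorem TT_eq (hu : ∃ k : ℕ, orderOf u = p ^ k) (hτ : IsClassFunction G τ) {e : (O M)[G]}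
    (he : e ∈ inv (O M) (Subgroup.zpowers u)) (hi : IsIdempotentElem e) :
    TT τ u (Br (Subgroup.zpowers u) (toK M e)) = ch τ (single u 1 * toC M e) := by
  haveI : Fact p.Prime := ⟨PMod.prime M⟩
  have h0 : Br (Subgroup.zpowers u) (toK M e) ∈ sup (kk M) (Ce1 u) := by
    rw [← Ce_zpowers]; exact Br_mem_sup _ _
  have hi' := Br_idem (isPGroup_zpowers hu) (cf_mem_inv (res M) he) (hi.map (toK M))
  obtain ⟨h1, h2, h3⟩ := il_spec h0 hi'
  refine ch_eq_of_eqv hu (sup_Ce1_le_inv u h1) he h2 hi ?_ hτ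
  rw [h3, Br_Br, sup_idem]
  exact Eqv.refl h0 hi'

theorem TT_eq' (hu : ∃ k : ℕ, orderOf u = p ^ k) (hτ : IsClassFunction G τ) {e : (O M)[G]}
    (he : e ∈ sup (O M) (Ce1 u)) (hi : IsIdempotentElem e) :
    TT τ u (toK M e) = ch τ (single u 1 * toC M e) := by
  rw [← TT_eq hu hτ (sup_Ce1_le_inv u he) hi, Br_of_mem_sup]
  rw [Ce_zpowers]; exact cf_mem_sup _ he

theorem TT_eqv (hu : ∃ k : ℕ, orderOf u = p ^ k) (hτ : IsClassFunction G τ)
    (h : Eqv (sup (kk M) (Ce1 u)) ι ι') (hi : IsIdempotentElem ι) (hi' : IsIdempotentElem ι') :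
    TT τ u ι = TT τ u ι' := by
  obtain ⟨h1, h2, h3⟩ := il_spec h.mem_left hi
  obtain ⟨h4, h5, h6⟩ := il_spec h.mem_right hi'
  refine ch_eq_of_eqv hu (sup_Ce1_le_inv u h1) (sup_Ce1_le_inv u h4) h2 h5 ?_ hτ
  rwa [h3, h6, Br_of_mem_sup (by rw [Ce_zpowers]; exact h.mem_left),
    Br_of_mem_sup (by rw [Ce_zpowers]; exact h.mem_right)]

theorem TT_zero (τ : G → ℂ) (u : G) : TT τ u (0 : (kk M)[G]) = 0 := by
  obtain ⟨-, h2, h3⟩ := il_spec (M := M) (zero_mem (sup (kk M) (Ce1 u))) IsIdempotentElem.zero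
  rw [TT, idem_eq_zero_of_toK h2 h3, map_zero, mul_zero, map_zero]

theorem TT_add (hu : ∃ k : ℕ, orderOf u = p ^ k) (hτ : IsClassFunction G τ)
    (h : ι ∈ sup (kk M) (Ce1 u)) (h' : ι' ∈ sup (kk M) (Ce1 u)) (hi : IsIdempotentElem ι)
    (hi' : IsIdempotentElem ι') (h1 : ι * ι' = 0) (h2 : ι' * ι = 0) :
    TT τ u (ι + ι') = TT τ u ι + TT τ u ι' := by
  obtain ⟨e, he, -, h3, rfl⟩ := exists_idem_lift_of_mem h (sup_Ce1_le_inv u h) hi
  obtain ⟨f, hf, -, h4, rfl, h5, h6⟩ := exists_idem_lift_le h' (sup_Ce1_le_inv u h') hi'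
    (sub_mem (one_mem _) he) (sub_mem (one_mem _) (sup_Ce1_le_inv u he)) h3.one_sub
    (by rw [map_sub, map_one, sub_mul, one_mul, h1, sub_zero])
    (by rw [map_sub, map_one, mul_sub, mul_one, h2, sub_zero])
  rw [sub_mul, one_mul, sub_eq_self] at h5
  rw [mul_sub, mul_one, sub_eq_self] at h6
  rw [← map_add, TT_eq' hu hτ he h3, TT_eq' hu hτ hf h4, TT_eq' hu hτ (add_mem he hf)
    (h3.add h4 (by rw [h5, h6, add_zero])), map_add, mul_add, map_add]

theorem idem_sum_of_orth {A α : Type*} [Ring A] (s : Finset α) (f : α → A)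
    (hi : ∀ i ∈ s, IsIdempotentElem (f i)) (ho : ∀ i ∈ s, ∀ j ∈ s, i ≠ j → f i * f j = 0) :
    IsIdempotentElem (∑ i ∈ s, f i) := by
  show _ = _
  rw [Finset.sum_mul]
  refine Finset.sum_congr rfl fun i h => ?_
  rw [Finset.mul_sum, Finset.sum_eq_single_of_mem i h fun j hj hne => ho i h j hj hne.symm,
    (hi i h).eq]

theorem TT_sum (hu : ∃ k : ℕ, orderOf u = p ^ k) (hτ : IsClassFunction G τ) {α : Type*}
    (s : Finset α) (f : α → (kk M)[G]) (h : ∀ i ∈ s, f i ∈ sup (kk M) (Ce1 u))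
    (hi : ∀ i ∈ s, IsIdempotentElem (f i)) (ho : ∀ i ∈ s, ∀ j ∈ s, i ≠ j → f i * f j = 0) :
    TT τ u (∑ i ∈ s, f i) = ∑ i ∈ s, TT τ u (f i) := by
  classical
  induction s using Finset.induction_on with
  | empty => simpa using TT_zero τ u
  | insert a s ha ih =>
    have m : ∀ i ∈ s, i ∈ insert a s := fun i => Finset.mem_insert_of_mem
    have m0 := Finset.mem_insert_self a s
    have ne : ∀ i ∈ s, a ≠ i := fun i hi h => ha (h ▸ hi)
    rw [Finset.sum_insert ha, Finset.sum_insert ha, TT_add hu hτ (h a m0)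
      (sum_mem fun i hi => h i (m i hi)) (hi a m0)
      (idem_sum_of_orth s f (fun i h => hi i (m i h)) fun i h j h' => ho i (m i h) j (m j h'))
      (by rw [Finset.mul_sum]; exact Finset.sum_eq_zero fun j hj => ho a m0 j (m j hj) (ne j hj))
      (by rw [Finset.sum_mul]; exact Finset.sum_eq_zero fun j hj => ho j (m j hj) a m0 (ne j hj).symm),
      ih (fun i hi => h i (m i hi)) (fun i h => hi i (m i h)) fun i h j h' => ho i (m i h) j (m j h')]

theorem pelt_conj (hu : ∃ k : ℕ, orderOf u = p ^ k) (x : G) :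
    ∃ k : ℕ, orderOf (x * u * x⁻¹) = p ^ k := by rwa [orderOf_conj']

theorem TT_cj (hu : ∃ k : ℕ, orderOf u = p ^ k) (hτ : IsClassFunction G τ)
    (h : ι ∈ sup (kk M) (Ce1 u)) (hi : IsIdempotentElem ι) (x : G) :
    TT τ (x * u * x⁻¹) (cj x ι) = TT τ u ι := by
  obtain ⟨e, he, -, h3, rfl⟩ := exists_idem_lift_of_mem h (sup_Ce1_le_inv u h) hi
  rw [← cf_cj, TT_eq' hu hτ he h3, TT_eq' (pelt_conj hu x) hτ (by
    rw [← cs_Ce1]; exact cj_mem_sup x he) (h3.map (cj x)), ← ch_cj hτ x (single u 1 * _), map_mul (cj x),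
    cj_single, cf_cj]

theorem TT_add_left (τ τ' : G → ℂ) (u : G) (ι : (kk M)[G]) :
    TT (τ + τ') u ι = TT τ u ι + TT τ' u ι := ch_add_left _ _ _

theorem TT_smul_left (c : ℂ) (τ : G → ℂ) (u : G) (ι : (kk M)[G]) :
    TT (c • τ) u ι = c * TT τ u ι := ch_smul_left _ _ _

theorem TT_sum_left {α : Type*} (s : Finset α) (τ : α → G → ℂ) (u : G) (ι : (kk M)[G]) :
    TT (∑ i ∈ s, τ i) u ι = ∑ i ∈ s, TT (τ i) u ι := ch_sum_left _ _ _

end Cfsg.Agent.Blk
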