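import Cfsg.Agent.Lib.Block.IBr
import Cfsg.Agent.Lib.Block.Free

/-!
Transport of generalized decomposition numbers to centralizers, and gluing for blocks with
cyclic defect groups.
-/

set_option autoImplicit false

namespace Cfsg.Agent.Blk

open MonoidAlgebra
open Cfsg.Agent.Char hiding cj cj_mul cj_inv_cj cj_cj_inv sum_cj_eq om
open scoped ComplexConjugate

section Iso
variable {H H' : Type*} [Group H] [Group H'] [Finite H] [Finite H'] {M : Ideal AlgInt} {p : ℕ}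
  {b : Set (IrrCharacter H)}

omit [Finite H] [Finite H'] in
theorem height_image (ε : H ≃* H') (b : Set (IrrCharacter H)) (χ : IrrCharacter H) :
    blockHeight p (irrMap ε '' b) (irrMap ε χ) = blockHeight p b χ := by
  simp only [blockHeight, Set.image_image, charDegree_irrMap]

omit [Finite H] [Finite H'] in
theorem defect_image (ε : H ≃* H') (b : Set (IrrCharacter H)) :
    blockDefect p (irrMap ε '' b) = blockDefect p b := by
  simp only [blockDefect, Set.image_image, charDegree_irrMap, Nat.card_congr ε.toEquiv]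

variable [PMod M p]

theorem nilp_image_iff (ε : H ≃* H') :
    IsNilpotentBlock p M (irrMap ε '' b) ↔ IsNilpotentBlock p M b := by
  rw [isNilpotentBlock_iff, isNilpotentBlock_iff, isPBlock_image_iff, bar_image,
    ← top_map_equiv ε, isNilp_emb_iff ε.injective]

theorem phi_image (ε : H ≃* H') (hn : IsNilpotentBlock p M b) (s : H) :
    phi p (irrMap ε '' b) (ε s) = phi p b s := by
  rw [← ((nilp_image_iff ε).2 hn).reg_eq_phi ⟨_, hn.hz_mem, rfl⟩
    (by rw [height_image, hn.hz_height]), phi, reg, reg, irrMap_apply', MulEquiv.orderOf_eq]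

end Iso

section Emb
variable {G H : Type*} [Group G] [Group H] [Finite G] [Finite H] {M : Ideal AlgInt} {p : ℕ}
  [PMod M p] {φ : H →* G} {θ : G → ℂ}

omit [Finite G] [Finite H] in
theorem isClassFunction_comp (hθ : IsClassFunction G θ) (φ : H →* G) :
    IsClassFunction H fun h => θ (φ h) := fun g x => by
  simp only [map_mul, map_inv, hθ.apply_conj]

theorem dc_emb (hθ : IsClassFunction G θ) {ι : (kk M)[H]} (hi : IsIdempotentElem ι) :
    dc θ (emb φ ι) = dc (fun h => θ (φ h)) ι := by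
  obtain ⟨h1, h2⟩ := il_top hi
  conv_lhs => rw [← h2, ← cf_emb]
  rw [dc_eq hθ (h1.map _), cf_emb, ch_emb, dc]

omit [Finite G] [Finite H] in
theorem map_Ce1_le (φ : H →* G) (u : H) : (Ce1 u).map φ ≤ Ce1 (φ u) := by
  rintro _ ⟨x, hx, rfl⟩
  rw [mem_Ce1, ← map_mul, ← map_mul, mem_Ce1.1 hx]

theorem TT_emb (hθ : IsClassFunction G θ) {u : H} (hu : ∃ k : ℕ, orderOf u = p ^ k)
    {ι : (kk M)[H]} (h1 : ι ∈ sup (kk M) (Ce1 u)) (hi : IsIdempotentElem ι) :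
    TT θ (φ u) (emb φ ι) = TT (fun h => θ (φ h)) u ι := by
  haveI : Fact p.Prime := ⟨PMod.prime M⟩
  obtain ⟨h2, h3, h4⟩ := il_spec h1 hi
  conv_lhs => rw [← h4, ← cf_emb]
  rw [TT_eq' (pelt_of_dvd hu (orderOf_map_dvd φ u)) hθ
    (sup_mono (map_Ce1_le φ u) (emb_mem_sup φ h2)) (h3.map _), cf_emb, ← emb_single, ← map_mul,
    ch_emb, TT]

omit [Finite G] [Finite H] in
theorem es_emb_of {R : Type*} [CommRing R] {L : Subgroup G} {L' : Subgroup H} (ε : L' →* L)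
    (hε : ∀ x, (ε x : G) = φ x) (a : R[L']) : es L (emb ε a) = emb φ (es L' a) := by
  rw [es, es, emb_emb, emb_emb]
  congr 2
  ext x
  exact hε x

omit [Finite G] [Finite H] in
theorem exists_iso_map (hφ : Function.Injective φ) {L : Subgroup G} {L' : Subgroup H}
    (hL : L'.map φ = L) : ∃ ε : L' ≃* L, ∀ x, (ε x : G) = φ x := by
  subst hL
  exact ⟨L'.equivMapOfInjective φ hφ, fun _ => rfl⟩

theorem cb_emb (hφ : Function.Injective φ) {L : Subgroup G} {L' : Subgroup H} (hL : L'.map φ = L)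
    (ε : L' ≃* L) (hε : ∀ x, (ε x : G) = φ x) {f : (kk M)[H]} (hf : IsBlock L' f) :
    cb M L (emb φ f) = irrMap ε '' cb M L' f := by
  have h1 : IsBlock L (emb φ f) := hL ▸ (isBlock_emb_iff hφ).2 hf
  refine h1.isPBlock_cb.1.isUB.barS_inj ((isUB_image_iff ε).2 hf.isPBlock_cb.1.isUB) ?_
  rw [h1.isPBlock_cb.2, barS, bar_image, es_emb_of _ hε, ← barS, hf.isPBlock_cb.2]

variable (p) in
/-- multiplicity of the simple module of a nilpotent block in an idempotent -/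
noncomputable def nb (L : Subgroup G) (f ι : (kk M)[G]) : ℂ := dc (phi p (cb M L f)) (rs L ι)

theorem IsNilp.nilp_cb {L : Subgroup G} {f : (kk M)[G]} (h : IsNilp p L f) :
    IsNilpotentBlock p M (cb M L f) :=
  isNilpotentBlock_iffS.2 ⟨h.1.isPBlock_cb.1, by rwa [h.1.isPBlock_cb.2]⟩

omit [Finite G] in
theorem idem_rs {R : Type*} [CommRing R] {L : Subgroup G} {ι : R[G]} (h : ι ∈ sup R L)
    (hi : IsIdempotentElem ι) : IsIdempotentElem (rs L ι) := by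
  rw [IsIdempotentElem, ← rs_mul_left h, hi.eq]

theorem nb_emb (hφ : Function.Injective φ) {L : Subgroup G} {L' : Subgroup H} (hL : L'.map φ = L)
    {f ι : (kk M)[H]} (hf : IsNilp p L' f) (h1 : ι ∈ sup (kk M) L') (hi : IsIdempotentElem ι) :
    nb p L (emb φ f) (emb φ ι) = nb p L' f ι := by
  obtain ⟨ε, hε⟩ := exists_iso_map hφ hL
  have h2 : rs L (emb φ ι) = emb ε.toMonoidHom (rs L' ι) := es_injective L (by
    rw [es_rs_of_mem (hL ▸ emb_mem_sup φ h1), es_emb_of ε.toMonoidHom hε, es_rs_of_mem h1])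
  rw [nb, nb, h2, dc_emb (isClassFunction_phi _ _) (idem_rs h1 hi), cb_emb hφ hL ε hε hf.1]
  congr 1
  funext s
  exact phi_image ε hf.nilp_cb s

theorem phi_mem {b : Set (IrrCharacter G)} (hn : IsNilpotentBlock p M b) :
    phi p b ∈ regSpan p b := reg_mem_regSpan hn.hz_mem

theorem nb_self {L : Subgroup G} {f : (kk M)[G]} (hf : IsNilp p L f) :
    nb p L f f = charDegree (hz p (cb M L f)).1 := by
  haveI : Fact p.Prime := ⟨PMod.prime M⟩
  have hb := hf.1.isPBlock_cb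
  have h1 : rs L f = bar M (cb M L f) * 1 := by
    conv_lhs => rw [← hb.2, barS, rs_es]
    rw [mul_one]
  rw [nb, h1, hb.1.isUB.dc_bar_mul (isClassFunction_phi _ _) IsIdempotentElem.one,
    hb.1.isUB.blockPart_of_mem (phi_mem hf.nilp_cb), dc_one (isClassFunction_phi _ _), phi_one]

theorem nb_self_ne_zero {L : Subgroup G} {f : (kk M)[G]} (hf : IsNilp p L f) : nb p L f f ≠ 0 := by
  rw [nb_self hf]
  exact Nat.cast_ne_zero.2 (charDegree_ne_zero _)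

theorem TT_nilp (hθ : IsClassFunction G θ) {u : G} {b : Set (IrrCharacter (Ce1 u))}
    (hn : IsNilpotentBlock p M b) {ι : (kk M)[G]} (h1 : ι ∈ sup (kk M) (Ce1 u))
    (hi : IsIdempotentElem ι) (h2 : barS M (Ce1 u) b * ι = ι) :
    TT θ u ι = dn p u b θ * nb p (Ce1 u) (barS M (Ce1 u) b) ι := by
  have := Fintype.ofFinite (Ce1 u)
  obtain ⟨h3, h4, h5⟩ := il_spec h1 hi
  have hR := isClassFunction_Ru u hθ
  have h6 : TT θ u ι = dc (Ru u θ) (rs (Ce1 u) ι) := by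
    conv_rhs => rw [← h5, ← cf_rs]
    rw [dc_eq hR (idem_rs h3 h4), TT, ← es_rs_of_mem h3, rs_es, cf_emb,
      show single u (1 : ℂ) = es (Ce1 u) (single (uC u) 1) by rw [es_single]; rfl, ← map_mul,
      ch_es, ch_single_mul, ch_eq_sum]
    rfl
  have h7 : bar M b * rs (Ce1 u) ι = rs (Ce1 u) ι := by
    conv_rhs => rw [← h2, rs_mul_right _ h1, barS, rs_es]
  rw [h6, ← h7, hn.blk.isUB.dc_bar_mul hR (idem_rs h1 hi),
    ← dc_reg (isClassFunction_blockPart _ _) (idem_rs h1 hi), ← loc, hn.loc_eq, dc_smul_left, nb,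
    hn.blk.cb_barS]

end Emb

section Sub
variable {G H : Type*} [Group G] [Group H] {k : Type*} [Field k] {p : ℕ} {φ : H →* G}

theorem nsub_emb_iff (hφ : Function.Injective φ) {K Q P : Subgroup H} {f e : k[H]} :
    NSub p (K.map φ) (Q.map φ) (emb φ f) (P.map φ) (emb φ e) ↔ NSub p K Q f P e := by
  have h1 : P.map φ ≤ No (Q.map φ) ↔ P ≤ No Q := by
    rw [Subgroup.map_le_iff_le_comap, comap_No_map hφ]
  constructor
  · intro h
    have h2 := (isBP_emb_iff hφ).1 h.right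
    exact ⟨h2.pg, h2.le, ((isBP_emb_iff hφ).1 h.left).blk, h2.blk,
      (Subgroup.map_le_map_iff_of_injective hφ).1 h.le, h1.1 h.no, (emb_mem_inv_iff hφ).1 h.inv,
      (Br_mul_emb_iff hφ).1 h.eq⟩
  · intro h
    have h2 := (isBP_emb_iff hφ).2 h.right
    exact ⟨h2.pg, h2.le, ((isBP_emb_iff hφ).2 h.left).blk, h2.blk, Subgroup.map_mono h.le,
      h1.2 h.no, emb_mem_inv φ h.inv, (Br_mul_emb_iff hφ).2 h.eq⟩

theorem isMP_emb_iff (hφ : Function.Injective φ) {K P : Subgroup H} {B e : k[H]} :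
    IsMP p (K.map φ) (emb φ B) (P.map φ) (emb φ e) ↔ IsMP p K B P e :=
  ⟨fun h => ⟨(isBP_emb_iff hφ).1 h.bp, (isBlock_emb_iff hφ).1 h.blkB, (Br_mul_emb_iff hφ).1 h.eq,
    (isDef_emb_iff hφ).1 h.isDef⟩, fun h => ⟨(isBP_emb_iff hφ).2 h.bp,
    (isBlock_emb_iff hφ).2 h.blkB, (Br_mul_emb_iff hφ).2 h.eq, (isDef_emb_iff hφ).2 h.isDef⟩⟩

theorem map_Ce1_subtype {K : Subgroup G} (u : K) :
    (Ce1 u).map K.subtype = K ⊓ Ce1 (u : G) := by
  rw [← top_inf_eq (Ce1 u), map_inf_Ce1 K.subtype_injective, top_map_subtype]; rfl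

end Sub

/-- a cocycle of linear characters is a coboundary -/
theorem exists_stabilize {W : Type*} [Group W] [Finite W] {E : Subgroup (MulAut W)}
    (hc : (Nat.card E).Coprime (Nat.card W)) {ε : W → ℂ} (h0 : ∀ u, u ≠ 1 → ε u ≠ 0)
    (h : ∀ σ ∈ E, ∃ l : W →* ℂˣ, ∀ u, u ≠ 1 → ε (σ u) = l u * ε u) :
    ∃ l : W →* ℂˣ, ∀ σ ∈ E, ∀ u, u ≠ 1 → l (σ u) * ε (σ u) = l u * ε u := by
  have := Fintype.ofFinite E
  choose c hc' using h
  obtain ⟨α, hα⟩ : ∃ α : ℕ, Nat.card E * α ≡ 1 [MOD Nat.card W] := by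
    obtain ⟨α, -, h1⟩ := Nat.exists_mul_mod_eq_of_coprime 1 hc Nat.card_pos.ne'
    exact ⟨α, h1⟩
  let C : W →* ℂˣ := ∏ σ : E, c σ σ.2
  have h1 : ∀ u, u ≠ 1 → ∏ σ : E, ε (σ.1 u) = C u * ε u ^ Nat.card E := fun u hu => by
    rw [Finset.prod_congr rfl fun (σ : E) _ => hc' σ σ.2 u hu, Finset.prod_mul_distrib,
      Finset.prod_const, Finset.card_univ, ← Nat.card_eq_fintype_card]
    simp [C]
  refine ⟨C ^ α, fun τ hτ u hu => ?_⟩
  have hu' : τ u ≠ 1 := by simpa using hu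
  have h2 : C (τ u) * ε (τ u) ^ Nat.card E = C u * ε u ^ Nat.card E := by
    rw [← h1 u hu, ← h1 _ hu']
    exact Fintype.prod_equiv (Equiv.mulRight ⟨τ, hτ⟩) _ _ fun σ => rfl
  rw [hc' τ hτ u hu, mul_pow, ← mul_assoc, mul_left_inj' (pow_ne_zero _ (h0 u hu))] at h2
  have h3 : (c τ hτ u : ℂ) ^ (Nat.card E * α) = c τ hτ u := by
    have h4 : c τ hτ u ^ (Nat.card E * α) = c τ hτ u ^ 1 :=
      pow_eq_pow_iff_modEq.2 (hα.of_dvd (orderOf_dvd_of_pow_eq_one (by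
        rw [← map_pow, pow_card_eq_one', map_one])))
    rw [← Units.val_pow_eq_pow_val, h4, pow_one]
  rw [hc' τ hτ u hu, ← mul_assoc, MonoidHom.pow_apply, MonoidHom.pow_apply,
    Units.val_pow_eq_pow_val, Units.val_pow_eq_pow_val, ← h2, mul_pow, ← pow_mul, h3]

variable {G : Type*} [Group G] [Finite G] {M : Ideal AlgInt} {p : ℕ} [PMod M p]
  {B : Set (IrrCharacter G)} {P Q R : Subgroup G} {e f g : (kk M)[G]} {θ : G → ℂ}
  {χ ψ : IrrCharacter G}

open Classical in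
variable (p) in
/-- the block of `C(R)` below a Brauer pair -/
noncomputable def lb (P : Subgroup G) (e : (kk M)[G]) (R : Subgroup G) : (kk M)[G] :=
  if h : ∃ f, PLe p ⊤ R f P e then h.choose else 0

theorem IsBP.lb_ple (he : IsBP p ⊤ P e) (h : R ≤ P) : PLe p ⊤ R (lb p P e R) P e := by
  haveI : Fact p.Prime := ⟨PMod.prime M⟩
  have := he.exists_PLe h
  rw [lb, dif_pos this]
  exact this.choose_spec

theorem IsBP.lb_eq (he : IsBP p ⊤ P e) (h : PLe p ⊤ R f P e) : lb p P e R = f :=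
  haveI : Fact p.Prime := ⟨PMod.prime M⟩
  PLe.unique he (he.lb_ple h.le) h

theorem IsBP.isBlock_lb (he : IsBP p ⊤ P e) (h : R ≤ P) : IsBlock (Ce R) (lb p P e R) :=
  (isBP_top_iff.1 ((he.lb_ple h).left he)).2

theorem IsBP.cj_lb (he : IsBP p ⊤ P e) (h : R ≤ P) {t : G} (ht : t ∈ stab (⊤ ⊓ No P) e) :
    cj t (lb p P e R) = lb p P e (Blk.cs t R) := by
  have := (he.lb_ple h).cs (Subgroup.mem_top t)
  rw [mem_No.1 ht.1.2, ht.2] at this
  exact (he.lb_eq this).symm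

theorem MP.barS_sb (h : MP p B P e) {u : G} (hu : u ∈ P) :
    barS M (Ce1 u) (sb p P e u) = lb p P e (Subgroup.zpowers u) := (h.bp.lb_eq (h.sb_ple hu)).symm

theorem MP.sub (h : MP p B P e) (hf : PLe p ⊤ Q f P e) (hc : P ≤ Ce Q) :
    MP p (cb M (Ce Q) f) (P.subgroupOf (Ce Q)) (rs (Ce Q) e) := by
  haveI : Fact p.Prime := ⟨PMod.prime M⟩
  have h1 := h.mp.local_Ce hf hc
  rw [top_inf_eq] at h1
  have h2 := h1.blkB.isPBlock_cb
  refine ⟨h2.1, (isMP_emb_iff (Ce Q).subtype_injective).1 ?_⟩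
  rw [top_map_subtype, Subgroup.map_subgroupOf_eq_of_le hc, ← es, ← barS, h2.2,
    es_rs_of_mem (sup_mono inf_le_left h1.bp.blk.sup)]
  exact h1

theorem map_Ce1_Ce (u : Ce Q) :
    (Ce1 u).map (Ce Q).subtype = Ce (Q ⊔ Subgroup.zpowers (u : G)) := by
  rw [map_Ce1_subtype, Ce_sup, Ce_zpowers]

theorem MP.es_sb (h : MP p B P e) (hf : PLe p ⊤ Q f P e) (hc : P ≤ Ce P) {u : Ce Q}
    (hu : (u : G) ∈ P) : es (Ce Q) (barS M (Ce1 u) (sb p (P.subgroupOf (Ce Q)) (rs (Ce Q) e) u)) =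
      lb p P e (Q ⊔ Subgroup.zpowers (u : G)) := by
  haveI : Fact p.Prime := ⟨PMod.prime M⟩
  have hc' := hc.trans (Ce_anti hf.le)
  have h1 := h.sub hf hc'
  have h2 := (h1.sb_ple (u := u) hu).nsub h1.bp ((show _ ≤ Ce _ from fun x hx => by
    rw [Ce_zpowers, mem_Ce1]; exact Subtype.ext (mem_Ce.1 (hc hu) _ hx)).trans (Ce_le_No _))
  rw [← nsub_emb_iff (Ce Q).subtype_injective, top_map_subtype,
    Subgroup.map_subgroupOf_eq_of_le hc', ← es, es_rs_of_mem (sup_mono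
      (inf_le_right.trans (Ce_anti hf.le)) h.bp.blk.sup), MonoidHom.map_zpowers] at h2
  have h3 : Q ⊔ Subgroup.zpowers (u : G) ≤ P := sup_le hf.le (zpowers_le' hu)
  refine (h.bp.lb_eq (NSub.ple ⟨h2.pg, le_top, ?_, h.bp.blk, h3,
    (hc.trans (Ce_anti h3)).trans (Ce_le_No _), h2.inv, h2.eq⟩)).symm
  rw [top_inf_eq, Ce_sup]
  exact h2.blkf

theorem FA.nilp_lb (h : FA p B P e) (h1 : R ≠ ⊥) (h2 : R ≤ P) : IsNilp p (Ce R) (lb p P e R) :=
  h.nilp h1 (h.bp.lb_ple h2)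

/-- local data attached to a nontrivial subgroup of the defect group -/
theorem FA.exists_local [Fintype (Ce Q)] (h : FA p B P e) (hQ : Q ≠ ⊥) (hQP : Q ≤ P) :
    ∃ (ξ : (P →* ℂˣ) → IrrCharacter (Ce Q)) (ε : P → ℂ),
      (∀ l, ξ l ∈ cb M (Ce Q) (lb p P e Q)) ∧ (∀ ψ ∈ cb M (Ce Q) (lb p P e Q), ∃! l, ξ l = ψ) ∧
      (∀ u, ε u * conj (ε u) = 1) ∧ (∀ u : P, (u : G) ∈ Q → ε u ^ Nat.card P = 1) ∧
      ∀ θ, IsClassFunction (Ce Q) θ → ∀ (u : P) (u' : Ce Q), (u' : G) = u →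
        ∀ ι ∈ sup (kk M) (Ce1 u'), IsIdempotentElem ι →
        lb p P e (Q ⊔ Subgroup.zpowers (u : G)) * es (Ce Q) ι = es (Ce Q) ι →
        TT θ u' ι = (∑ l, classInner θ (ξ l).1 * l u) * ε u *
          nb p (Ce (Q ⊔ Subgroup.zpowers (u : G))) (lb p P e (Q ⊔ Subgroup.zpowers (u : G)))
            (es (Ce Q) ι) := by
  classical
  haveI : Fact p.Prime := ⟨PMod.prime M⟩
  have inst : ∀ u : Ce Q, Fintype (Ce1 u) := fun _ => Fintype.ofFinite _
  have hf := h.bp.lb_ple hQP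
  have hc := h.comm.trans (Ce_anti hQP)
  have h1 := h.sub hf hc
  have hn := (h.nilp_lb hQ hQP).nilp_cb
  have hn' := (isNilpotentBlock_iff.1 hn).2
  obtain ⟨Φ, hΦ⟩ := h1.exists_equiv_nilp hn' hn.hz_mem hn.hz_height
  let j : P ≃* P.subgroupOf (Ce Q) := (Subgroup.subgroupOfEquivOfLe hc).symm
  let Ψ : (P →* ℂˣ) ≃ cb M (Ce Q) (lb p P e Q) := ((lcEquiv h.comm').trans (irrMap j)).trans Φ
  have h2 : ∀ u : Ce Q, (u : G) ∈ P →
      IsNilpotentBlock p M (sb p (P.subgroupOf (Ce Q)) (rs (Ce Q) e) u) := fun u hu => by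
    refine isNilpotentBlock_iffS.2 ⟨h1.sb_blk hu, (isNilp_emb_iff (Ce Q).subtype_injective).1 ?_⟩
    rw [map_Ce1_Ce, ← es, h.es_sb hf h.comm hu]
    exact h.nilp_lb (fun h3 => hQ (le_bot_iff.1 (h3 ▸ le_sup_left))) (sup_le hQP (zpowers_le' hu))
  have c0 := (hz p (cb M (Ce Q) (lb p P e Q))).2.isClassFunction
  have h3 : ∀ (θ : Ce Q → ℂ), IsClassFunction _ θ → ∀ (u' : Ce Q), (u' : G) ∈ P →
      ∀ ι ∈ sup (kk M) (Ce1 u'), IsIdempotentElem ι →
        lb p P e (Q ⊔ Subgroup.zpowers (u' : G)) * es (Ce Q) ι = es (Ce Q) ι →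
        TT θ u' ι = dn p u' (sb p (P.subgroupOf (Ce Q)) (rs (Ce Q) e) u') θ *
          nb p (Ce (Q ⊔ Subgroup.zpowers (u' : G)))
          (lb p P e (Q ⊔ Subgroup.zpowers (u' : G))) (es (Ce Q) ι) := fun θ hθ u hu ι h4 h5 h6 => by
    rw [← h.es_sb hf h.comm hu] at h6 ⊢
    rw [TT_nilp hθ (h2 u hu) h4 h5 (es_injective _ (by rw [map_mul, h6])),
      nb_emb (Ce Q).subtype_injective (map_Ce1_Ce u) (isNilpotentBlock_iffS.1 (h2 u hu)).2 h4 h5]
  have h7 : ∀ u : P, dn p (j u : Ce Q) (sb p (P.subgroupOf (Ce Q)) (rs (Ce Q) e) (j u))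
      (hz p (cb M (Ce Q) (lb p P e Q))).1 * conj (dn p (j u : Ce Q)
        (sb p (P.subgroupOf (Ce Q)) (rs (Ce Q) e) (j u)) (hz p (cb M (Ce Q) (lb p P e Q))).1) = 1 :=
    fun u => by rw [← (h2 _ u.2).cm_eq, h1.cm_eq_one hn' (j u).2 hn.hz_mem hn.hz_height]
  refine ⟨fun l => Ψ l, fun u => dn p (j u : Ce Q) (sb p (P.subgroupOf (Ce Q)) (rs (Ce Q) e) (j u))
    (hz p (cb M (Ce Q) (lb p P e Q))).1, fun l => (Ψ l).2, fun ψ hψ => ⟨Ψ.symm ⟨ψ, hψ⟩, by simp,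
      fun l hl => by rw [Equiv.eq_symm_apply]; exact Subtype.ext hl⟩, fun u => ?_, fun u hu => ?_,
    fun θ hθ u u' hu ι h4 h5 h6 => ?_⟩
  · exact h7 u
  · have h4 := (h1.sb_blk (j u).2).isUB
    have h5 := h3 _ c0 (j u) u.2 _ (barS_mem _ _).1 h4.barS_idem (by
      rw [← h.es_sb hf h.comm u.2, ← map_mul, h4.barS_idem.eq])
    have h6 : IsNilp p _ (lb p P e (Q ⊔ Subgroup.zpowers (j u : G))) :=
      h.nilp_lb (fun h3 => hQ (le_bot_iff.1 (h3 ▸ le_sup_left))) (sup_le hQP (zpowers_le' u.2))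
    obtain ⟨ω, h8, h9⟩ := exists_root_mul (hz p (cb M (Ce Q) (lb p P e Q))).2 (z := j u)
      (Subgroup.mem_center_iff.2 fun x => Subtype.ext (mem_Ce.1 x.2 _ hu).symm)
    obtain ⟨n, h10⟩ := exists_nat_ch_idem (hz p (cb M (Ce Q) (lb p P e Q))).2.isCharacter
      ((il_spec (barS_mem _ _).1 h4.barS_idem).2.1.map (toC M))
    rw [h.es_sb hf h.comm u.2, nb_self h6, TT, ch_single_mul, Finset.sum_congr rfl fun x _ => by
      rw [h9, mul_left_comm], ← Finset.mul_sum, ← ch_eq_sum, h10] at h5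
    have h11 : ω ^ Nat.card P = 1 := by
      obtain ⟨m, hm⟩ : orderOf (j u : Ce Q) ∣ Nat.card P := by
        rw [Subgroup.orderOf_coe, MulEquiv.orderOf_eq]; exact orderOf_dvd_natCard _
      rw [hm, pow_mul, h8, one_pow]
    have h12 := congrArg (fun z => z * conj z) h5
    simp only [map_mul, Complex.conj_natCast] at h12
    rw [mul_mul_mul_comm, mul_mul_mul_comm (dn _ _ _ _), h7, conj_eq_inv_of_pow Nat.card_pos.ne' h11,
      mul_inv_cancel₀ (fun h0 => by simp [h0, Nat.card_pos.ne'] at h11), one_mul, one_mul] at h12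
    rw [(Nat.mul_self_inj.1 (by exact_mod_cast h12) : n = _),
      mul_left_inj' (Nat.cast_ne_zero.2 (charDegree_ne_zero _))] at h5
    exact (congrArg (· ^ Nat.card P) h5).symm.trans h11
  · obtain rfl : u' = j u := Subtype.ext hu
    rw [h3 _ hθ _ u.2 ι h4 h5 h6, (h2 _ u.2).dn_eq (c := (∑ l, classInner θ (Ψ l).1.1 * l u) *
      dn p (j u : Ce Q) (sb p (P.subgroupOf (Ce Q)) (rs (Ce Q) e) (j u))
        (hz p (cb M (Ce Q) (lb p P e Q))).1)]
    · rfl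
    · rw [← h1.loc_blockPart (j u).2 hθ, blockPart_fs, loc_sum, Finset.sum_mul, Finset.sum_smul]
      refine (Finset.sum_bij (fun l _ => (Ψ l).1) (fun l _ => mem_fs.2 (Ψ l).2)
        (fun _ _ _ _ h => Ψ.injective (Subtype.ext h))
        (fun ψ hψ => ⟨Ψ.symm ⟨ψ, mem_fs.1 hψ⟩, Finset.mem_univ _, by simp⟩) fun l _ => ?_).symm
      rw [loc_smul, mul_assoc, mul_smul]
      congr 1
      rw [show (Ψ l).1.1 = _ from hΦ _, h1.loc_st
        (h1.stable_nilp hn' (IsIrrCharacter.isClassFunction (Subtype.prop _)))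
        c0, (h2 _ u.2).loc_eq, smul_smul, Equiv.trans_apply, irrMap_apply', lcEquiv_apply]

theorem sum_classInner_of_unique {K W : Type*} [Group K] [Fintype K] [Group W] [Finite W]
    {b : Set (IrrCharacter K)} {ξ : (W →* ℂˣ) → IrrCharacter K} (h1 : ∀ l, ξ l ∈ b)
    (h2 : ∀ ψ ∈ b, ∃! l, ξ l = ψ) (l : W →* ℂˣ) (F : (W →* ℂˣ) → ℂ) :
    ∑ m, classInner (ξ l).1 (ξ m).1 * F m = F l := by
  classical
  rw [Finset.sum_eq_single l, (ξ l).2.classInner_self, one_mul]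
  · intro m _ hm
    rw [classInner_irr, if_neg fun h => hm ((h2 _ (h1 l)).unique h.symm rfl), zero_mul]
  · simp

theorem rs_mem_sup_Ce1 {R : Type*} [CommRing R] {K : Subgroup G} {u : K} {a : R[G]}
    (ha : a ∈ sup R (Ce1 (u : G))) : rs K a ∈ sup R (Ce1 u) := mem_sup.2 fun g hg => by
  rw [coeff_rs]
  exact mem_sup.1 ha _ fun h => hg (mem_Ce1.2 (Subtype.ext (mem_Ce1.1 h)))

/-- gluing when every nontrivial subgroup of `P` contains `Q` -/
theorem FA.exists_exd_of_le [Fintype P] (h : FA p B P e) (hQ : Q ≠ ⊥) (hQP : Q ≤ P)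
    (hu : ∀ u ∈ P, u ≠ 1 → Q ≤ Subgroup.zpowers u)
    (hN : stab (⊤ ⊓ No P) e ≤ No Q) : ∃ (D : (G → ℂ) → P → ℂ) (ε : P → ℂ),
      (∀ θ, IsClassFunction G θ → ∀ u : P, u ≠ 1 → D θ u = ε u * dn p (u : G) (sb p P e u) θ) ∧
      (∀ u, ε u * conj (ε u) = 1) ∧ (∀ u : P, (u : G) ∈ Q → ε u ^ Nat.card P = 1) ∧
      (∀ θ, IsCharacter G θ → IsCharacter P (D θ)) ∧
      (∀ σ ∈ autE P e, ∀ u, u ≠ 1 → ε (σ u) = ε u) ∧ EXd p B (autE P e) fun χ => D χ.1 := by
  classical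
  haveI : Fact p.Prime := ⟨PMod.prime M⟩
  have := Fintype.ofFinite (Ce Q)
  obtain ⟨ξ, ε, h1, h2, h3, h4, h5⟩ := h.exists_local hQ hQP
  have hc := h.comm.trans (Ce_anti hQP)
  have k0 : ∀ u : P, u ≠ 1 → Q ⊔ Subgroup.zpowers (u : G) = Subgroup.zpowers (u : G) :=
    fun u h1 => sup_eq_right.2 (hu u u.2 fun h2 => h1 (Subtype.ext h2))
  have k1 : ∀ u : P, IsBlock (Ce1 (u : G)) (lb p P e (Subgroup.zpowers (u : G))) := fun u =>
    Ce_zpowers (u : G) ▸ h.bp.isBlock_lb (zpowers_le' u.2)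
  have k2 : ∀ u : P, u ≠ 1 → Ce1 (u : G) ≤ Ce Q := fun u h1 =>
    Ce_zpowers (u : G) ▸ Ce_anti (hu u u.2 fun h2 => h1 (Subtype.ext h2))
  have k3 : ∀ u : P, u ≠ 1 → IsNilp p (Ce1 (u : G)) (lb p P e (Subgroup.zpowers (u : G))) :=
    fun u h1 => Ce_zpowers (u : G) ▸ h.nilp_lb (Subgroup.zpowers_ne_bot.2 fun h2 =>
      h1 (Subtype.ext h2)) (zpowers_le' u.2)
  have k4 : ∀ u : P, u ≠ 1 → es (Ce Q) (rs (Ce Q) (lb p P e (Subgroup.zpowers (u : G)))) =
      lb p P e (Subgroup.zpowers (u : G)) := fun u h1 => es_rs_of_mem (sup_mono (k2 u h1) (k1 u).sup)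
  have k5 : ∀ u : P, u ≠ 1 → IsIdempotentElem (rs (Ce Q) (lb p P e (Subgroup.zpowers (u : G)))) :=
    fun u h1 => idem_rs (sup_mono (k2 u h1) (k1 u).sup) (k1 u).idem
  have k6 : ∀ θ, IsClassFunction (Ce Q) θ → ∀ u : P, u ≠ 1 →
      TT θ ⟨u, hc u.2⟩ (rs (Ce Q) (lb p P e (Subgroup.zpowers (u : G)))) =
        (∑ l, classInner θ (ξ l).1 * l u) * ε u * nb p (Ce1 (u : G))
          (lb p P e (Subgroup.zpowers (u : G))) (lb p P e (Subgroup.zpowers (u : G))) :=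
    fun θ hθ u h1 => by
      rw [h5 θ hθ u _ rfl _ (rs_mem_sup_Ce1 (k1 u).sup) (k5 u h1)
        (by rw [k0 u h1, k4 u h1, (k1 u).mul_self]), k0 u h1, k4 u h1, Ce_zpowers]
  have k7 : ∀ u : P, ∃ k, orderOf (⟨u, hc u.2⟩ : Ce Q) = p ^ k := fun u => by
    rw [← Subgroup.orderOf_coe]; exact h.pelt u.2
  have k8 : ∀ θ, IsClassFunction G θ → ∀ u : P, u ≠ 1 → dn p (u : G) (sb p P e u) θ =
      (∑ l, classInner (fun c : Ce Q => θ c) (ξ l).1 * l u) * ε u := fun θ hθ u h1 => by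
    have h6 := k6 _ (isClassFunction_comp hθ (Ce Q).subtype) u h1
    rw [← TT_emb hθ (k7 u) (rs_mem_sup_Ce1 (k1 u).sup) (k5 u h1), ← es, k4 u h1,
      show (Ce Q).subtype ⟨u, hc u.2⟩ = u from rfl, TT_nilp hθ (h.nilp_sb' h1) (k1 u).sup (k1 u).idem (by rw [h.barS_sb u.2, (k1 u).mul_self]),
      h.barS_sb u.2] at h6
    exact mul_right_cancel₀ (nb_self_ne_zero (k3 u h1)) h6
  have k9 : ∀ u, ε u ≠ 0 := fun u => left_ne_zero_of_mul_eq_one (h3 u)
  obtain ⟨l₀, hl⟩ := exists_stabilize (E := autE P e) (ε := fun u => conj (ε u)) (by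
      rw [h.card_eq]
      exact Nat.Coprime.pow_right _ ((Nat.Prime.coprime_iff_not_dvd Fact.out).2
        (h.not_dvd_autE h.comm)).symm) (fun u _ => (map_ne_zero _).2 (k9 u)) fun σ hσ => by
    obtain ⟨t, ht, h6⟩ := mem_autE.1 hσ
    have h7 : cs t (Ce Q) = Ce Q := by rw [cs_Ce, mem_No.1 (hN ht)]
    obtain ⟨l, h8, -⟩ := h2 (irrMap (conjIso h7) (ξ 1)) (by
      have hb := (h.bp.isBlock_lb hQP).isPBlock_cb
      exact (((isPBlock_image_iff (conjIso h7)).2 hb.1).isUB.barS_inj hb.1.isUB (by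
        rw [barS_image_conj, hb.2, h.bp.cj_lb hQP ht, mem_No.1 (hN ht)])).le ⟨_, h1 1, rfl⟩)
    refine ⟨lcomp l σ, fun u hu1 => ?_⟩
    have hu2 : σ u ≠ 1 := by simpa using hu1
    have h9 := k6 _ (ξ l).2.isClassFunction _ hu2
    have h10 : lb p P e (Subgroup.zpowers (σ u : G)) = cj t (lb p P e (Subgroup.zpowers (u : G))) := by
      rw [h.bp.cj_lb (zpowers_le' u.2) ht, cs_zpowers, h6]
    have h11 : rs (Ce Q) (lb p P e (Subgroup.zpowers (σ u : G))) = emb (conjIso h7).toMonoidHom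
        (rs (Ce Q) (lb p P e (Subgroup.zpowers (u : G)))) := es_injective _ (by
      rw [k4 _ hu2, es_emb_conjIso, k4 _ hu1, h10])
    have h12 : ∀ a : (kk M)[G], cj t a = emb (MulAut.conj t).toMonoidHom a := fun a => rfl
    rw [h11, show (⟨σ u, hc (σ u).2⟩ : Ce Q) = (conjIso h7).toMonoidHom ⟨u, hc u.2⟩ from
      Subtype.ext (h6 u), TT_emb (ξ l).2.isClassFunction (k7 u) (rs_mem_sup_Ce1 (k1 u).sup)
      (k5 u hu1), h8, show (fun c => (irrMap (conjIso h7) (ξ 1)).1 ((conjIso h7).toMonoidHom c)) =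
        (ξ 1).1 from funext fun c => irrMap_apply' _ _ _, k6 _ (ξ 1).2.isClassFunction _ hu1,
      ← h8, sum_classInner_of_unique h1 h2, sum_classInner_of_unique h1 h2, h10, h12,
      nb_emb (MulAut.conj t).injective (L' := Ce1 (u : G)) (by rw [h6]; exact cs_Ce1 _ _)
        (k3 u hu1) (k1 u).sup (k1 u).idem, mul_left_inj' (nb_self_ne_zero (k3 u hu1))] at h9
    simp only [MonoidHom.one_apply, Units.val_one, one_mul] at h9
    rw [h9, map_mul, ← mul_assoc, lcomp_apply, lc_mul_conj, one_mul]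
  have k10 : ∀ θ, IsCharacter G θ → IsCharacter P
      fun u => l₀ u * ∑ l, classInner (fun c : Ce Q => θ c) (ξ l).1 * l u := fun θ hθ => by
    choose n hn using fun l => (hθ.comp (Ce Q).subtype).classInner_eq_nat (ξ l).2.isCharacter
    have := (isIrr_lc l₀).isCharacter.mul
      (IsCharacter.sum (s := Finset.univ) fun l _ => (isIrr_lc l).isCharacter.nsmul (n l))
    convert this using 2 with u
    simp [← hn]
  have k11 : ∀ θ, IsClassFunction G θ → ∀ u : P, u ≠ 1 →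
      l₀ u * ∑ l, classInner (fun c : Ce Q => θ c) (ξ l).1 * l u =
        l₀ u * conj (ε u) * dn p (u : G) (sb p P e u) θ := fun θ hθ u h1 => by
    rw [k8 θ hθ u h1]
    linear_combination (-(l₀ u * ∑ l, classInner (fun c : Ce Q => θ c) (ξ l).1 * l u)) * h3 u
  have k12 : ∀ u, l₀ u * conj (ε u) * conj (l₀ u * conj (ε u)) = 1 := fun u => by
    rw [map_mul, Complex.conj_conj, mul_mul_mul_comm, lc_mul_conj, mul_comm (conj _), h3, one_mul]
  refine ⟨fun θ u => l₀ u * ∑ l, classInner (fun c : Ce Q => θ c) (ξ l).1 * l u,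
    fun u => l₀ u * conj (ε u), k11, k12, fun u hu => ?_, k10, hl,
    h.exd (fun χ _ => k11 _ χ.2.isClassFunction) (fun u _ => k12 u)
      (fun χ _ => (k10 _ χ.2.isCharacter).isGen) hl⟩
  rw [mul_pow, ← map_pow, h4 u hu, map_one, mul_one, ← Units.val_pow_eq_pow_val, ← map_pow,
    pow_card_eq_one', map_one, Units.val_one]

omit [PMod M p] in
theorem No_le_No_of_cyclic [hp : Fact p.Prime] (hc : IsCyclic P) (hP : IsPGroup p P)
    {Z : Subgroup G} (hZ : Z ≤ P) (h1 : Nat.card Z = p) : No P ≤ No Z := fun x hx => by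
  have h2 : cs x Z ≤ P := mem_No.1 hx ▸ cs_mono x hZ
  have h3 : Z ≤ cs x Z := le_of_isCyclic_of_card_prime hc hP hZ (h1.symm ▸ hp.out) h2 fun h4 => by
    have := card_cs x Z
    rw [h4, h1, Subgroup.card_bot] at this
    exact hp.out.one_lt.ne this
  exact mem_No.2 (Subgroup.eq_of_le_of_card_ge h3 (card_cs x Z).le).symm

omit [PMod M p] in
theorem exists_card_eq_prime [hp : Fact p.Prime] (hP : IsPGroup p P) (h1 : P ≠ ⊥) :
    ∃ Z ≤ P, Nat.card Z = p := by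
  obtain ⟨n, hn⟩ := hP.exists_card_eq
  obtain ⟨x, hx⟩ := exists_prime_orderOf_dvd_card' (G := P) p (by
    rw [hn]
    exact dvd_pow_self _ fun h2 => h1 (Subgroup.card_eq_one.1 (by rw [hn, h2, pow_zero])))
  exact ⟨Subgroup.zpowers (x : G), zpowers_le' x.2, by
    rw [Nat.card_zpowers, Subgroup.orderOf_coe, hx]⟩

theorem MP.exists_exd [Fintype P] (h : MP p B P e) (hc : IsCyclic P) (h1 : P ≠ ⊥) :
    ∃ (D : (G → ℂ) → P → ℂ) (ε : P → ℂ),
      (∀ θ, IsClassFunction G θ → ∀ u : P, u ≠ 1 → D θ u = ε u * dn p (u : G) (sb p P e u) θ) ∧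
      (∀ u, ε u * conj (ε u) = 1) ∧ (∀ u : P, u ^ p = 1 → ε u ^ Nat.card P = 1) ∧
      (∀ θ, IsCharacter G θ → IsCharacter P (D θ)) ∧
      (∀ σ ∈ autE P e, ∀ u, u ≠ 1 → ε (σ u) = ε u) ∧ EXd p B (autE P e) fun χ => D χ.1 := by
  haveI hp : Fact p.Prime := ⟨PMod.prime M⟩
  obtain ⟨Z, h2, h3⟩ := exists_card_eq_prime h.bp.pg h1
  have h4 : Z ≠ ⊥ := fun h4 => hp.out.one_lt.ne (by rw [← h3, h4, Subgroup.card_bot])
  obtain ⟨D, ε, h5, h6, h7, h8⟩ := (h.fa_of_isCyclic hc).exists_exd_of_le h4 h2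
    (fun u hu hu1 => le_of_isCyclic_of_card_prime hc h.bp.pg h2 (h3.symm ▸ hp.out)
      (zpowers_le' hu) (Subgroup.zpowers_ne_bot.2 hu1))
    fun t ht => No_le_No_of_cyclic hc h.bp.pg h2 h3 ht.1.2
  refine ⟨D, ε, h5, h6, fun u hu => h7 u ?_, h8⟩
  by_cases hu1 : u = 1
  · rw [hu1]; exact one_mem _
  refine le_of_isCyclic_of_card_prime hc h.bp.pg (zpowers_le' u.2) ?_ h2 h4 (Subgroup.mem_zpowers _)
  rw [Nat.card_zpowers, Subgroup.orderOf_coe, orderOf_eq_prime hu hu1]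
  exact hp.out

end Cfsg.Agent.Blk
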