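import Cfsg.Agent.Lib.Block.Ord2

/-! Simple groups of order 7920: the character degrees. -/

set_option autoImplicit false

namespace Cfsg.Agent.Blk.M11

open MonoidAlgebra Subgroup
open Cfsg.Agent.Char hiding cj cj_mul cj_inv_cj cj_cj_inv sum_cj_eq
open scoped ComplexConjugate
attribute [local instance] _root_.Classical.propDecidable

variable {G : Type*} [Group G] [Finite G] [IsSimpleGroup G] {x y g t : G} {χ ψ : IrrCharacter G}
  {N X : Finset (IrrCharacter G)} {δ : ℤ} {a : IrrCharacter G → ℤ}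
  {α₁ α₂ α₃ β θ θ' γ ρ σ : IrrCharacter G}

instance : Fact (Nat.Prime 11) := ⟨by norm_num⟩
instance : Fact (Nat.Prime 5) := ⟨by norm_num⟩

theorem perf (hG : Nat.card G = 7920) : _root_.commutator G = ⊤ := perfect_of (by rw [hG]; norm_num)

omit [IsSimpleGroup G] in
theorem dg_bd (hG : Nat.card G = 7920) (χ : IrrCharacter G) : dg χ < 89 ∧ 7920 % dg χ = 0 := by
  refine ⟨?_, Nat.mod_eq_zero_of_dvd (hG ▸ deg_dvd_card χ)⟩
  have := sum_sq_sub {χ}
  rw [Finset.sum_singleton, hG] at this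
  nlinarith

theorem nexc (hG : Nat.card G = 7920) (h : PB 11 x N X δ a) (hχ : χ ∈ N) : χ = irrOne G ∨
    (dg χ = 10 ∧ a χ = -1) ∨ (dg χ = 12 ∧ a χ = 1) ∨ (dg χ = 45 ∧ a χ = 1) := by
  have h1 := dg_bd hG χ
  have h2 := h.cong χ hχ
  have key : ∀ d < 89, 7920 % d = 0 → (d % 11 = 1 → d = 1 ∨ d = 12 ∨ d = 45) ∧
    (d % 11 = 10 → d = 10) := by decide
  have h3 := key _ h1.1 h1.2
  rcases h.sgn χ hχ with k | k <;> rw [k] at h2 ⊢
  · rcases h3.1 (by omega) with k | k | k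
    · exact Or.inl (dg_eq_one (perf hG) k)
    all_goals simp [k]
  · simp [h3.2 (by omega)]

theorem counts (hG : Nat.card G = 7920) (h : PB 11 x N X δ a) (hψ : ψ ∈ X) :
    ∃ i j k : ℕ, i = (N.filter fun χ => dg χ = 12).card ∧ j = (N.filter fun χ => dg χ = 45).card ∧
      k = (N.filter fun χ => dg χ = 10).card ∧ N.card = 1 + k + i + j ∧
      δ * dg ψ = 1 - 10 * k + 12 * i + 45 * j ∧
      1 + 100 * k + 144 * i + 2025 * j + X.card * dg ψ ^ 2 ≤ 7920 := by
  have key := fun {M : Type} [AddCommMonoid M] (f : IrrCharacter G → M) =>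
    sum_fib (D := {10, 12, 45}) (perf hG) h.one (by simp) (fun χ hχ => by
      rcases nexc hG h hχ with k | k | k | k <;> simp [k]) f
  have e : ∀ {M : Type} [AddCommMonoid M] (f : IrrCharacter G → M) (d : ℕ) (c : M),
      (∀ χ ∈ N, dg χ = d → f χ = c) → ∑ χ ∈ N with dg χ = d, f χ =
        (N.filter fun χ => dg χ = d).card • c := fun f d c k => by
    rw [← Finset.sum_const]
    exact Finset.sum_congr rfl fun χ hχ => k χ (Finset.mem_filter.1 hχ).1 (Finset.mem_filter.1 hχ).2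
  refine ⟨_, _, _, rfl, rfl, rfl, ?_, ?_, ?_⟩
  · have := key (fun _ => 1)
    simp at this
    omega
  · have := key (fun χ => a χ * dg χ)
    rw [Finset.sum_insert (by simp), Finset.sum_pair (by simp), e _ 10 (-10), e _ 12 12, e _ 45 45,
      ← h.rel_one hψ, h.a_one, dg_one] at this
    · simp at this; linarith
    all_goals
      intro χ hχ k
      rcases nexc hG h hχ with rfl | k' | k' | k' <;> simp_all [dg_one]
  · have := key (fun χ => dg χ ^ 2)
    have h2 := h.sum_sq hψ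
    rw [Finset.sum_insert (by simp), Finset.sum_pair (by simp), e _ 10 100, e _ 12 144, e _ 45 2025,
      dg_one] at this
    · simp at this; omega
    all_goals
      intro χ hχ k
      simp [k]

theorem sc11 (hG : Nat.card G = 7920) (hx : orderOf x = 11) : SC 11 x := by
  refine ⟨by norm_num, hx, ?_⟩
  have h2 : ¬ 11 ^ 2 ∣ Nat.card G := by rw [hG]; norm_num
  obtain ⟨N, X, δ, a, h⟩ := exists_PB hx h2
  obtain ⟨ψ, hψ⟩ := h.X_ne
  obtain ⟨i, j, k, -, -, hk, h3, h4, -⟩ := counts hG h hψ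
  rcases k.eq_zero_or_pos with rfl | k0
  · exfalso
    have h5 := h.cX
    have h6 := dg_bd hG ψ
    have h7 : dg ψ ≠ 1 := fun k => h.ne_one hψ (dg_eq_one (perf hG) k)
    have h8 : dg ψ = 1 + 12 * i + 45 * j := by rcases h.sd with rfl | rfl <;> omega
    rw [h3] at h5
    rw [h8] at h6 h7
    have : i ≤ 7 := by omega
    have : j ≤ 1 := by omega
    interval_cases i <;> interval_cases j <;> omega
  · obtain ⟨χ, hχ⟩ := Finset.card_pos.1 (hk ▸ k0)
    rw [Finset.mem_filter] at hχ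
    refine h.sc_of hx h2 hχ.1 ?_ (by rw [hχ.2])
    rcases nexc hG h hχ.1 with rfl | k' | k' | k' <;> simp_all [dg_one]

/-- the principal `11`-block -/
structure B11 (α₁ α₂ α₃ θ θ' ρ : IrrCharacter G) : Prop where
  d1 : dg α₁ = 10
  d2 : dg α₂ = 10
  d3 : dg α₃ = 10
  dθ : dg θ = 16
  dθ' : dg θ' = 16
  dρ : dg ρ = 45
  n12 : α₁ ≠ α₂
  n13 : α₁ ≠ α₃
  n23 : α₂ ≠ α₃
  nθ : θ ≠ θ'
  mem : ∀ χ, ¬ 11 ∣ dg χ → χ = irrOne G ∨ χ = α₁ ∨ χ = α₂ ∨ χ = α₃ ∨ χ = θ ∨ χ = θ' ∨ χ = ρ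
  v11 : ∀ g, 11 ∣ orderOf g → α₁.1 g = -1 ∧ α₂.1 g = -1 ∧ α₃.1 g = -1
  r11 : ∀ g, ¬ 11 ∣ orderOf g → θ'.1 g = θ.1 g ∧ θ.1 g = 1 + ρ.1 g - α₁.1 g - α₂.1 g - α₃.1 g

theorem no_five (hG : Nat.card G = 7920) (h1 : dg ψ = 5) (h2 : dg χ = 12) : False := by
  obtain ⟨y, hy⟩ := exists_prime_orderOf_dvd_card' (G := G) 5 (by rw [hG]; norm_num)
  have h3 : ¬ 5 ^ 2 ∣ Nat.card G := by rw [hG]; norm_num
  have h4 := sc_of_dg (perf hG) hy h3 h1
  obtain ⟨N, X, δ, a, h⟩ := exists_PB hy h3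
  obtain ⟨n, h5, h6⟩ := card_No_modEq (m := 1584) (by norm_num) hy hG (by norm_num)
  have h7 := h.cN
  have h8 := h.cX
  rw [h4, Nat.card_zpowers, hy, h5] at h7
  have h9 : N.card = 4 := by
    have := Nat.le_of_dvd (by norm_num) (Dvd.intro _ (by omega : N.card * X.card = 4))
    unfold Nat.ModEq at h6
    omega
  rcases h.sc h4 χ (by rw [h2]; norm_num) with k | k
  · have := h.cong χ k
    rcases h.sgn χ k with k' | k' <;> rw [h2, k'] at this <;> norm_num at this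
  · have := h.xcong χ k
    rcases h.sd with k' | k' <;> rw [h2, h9, k'] at this <;> norm_num at this

theorem exists_B11 (hG : Nat.card G = 7920) : ∃ α₁ α₂ α₃ θ θ' ρ : IrrCharacter G,
    B11 α₁ α₂ α₃ θ θ' ρ := by
  obtain ⟨x, hx⟩ := exists_prime_orderOf_dvd_card' (G := G) 11 (by rw [hG]; norm_num)
  have h4 := (sc11 hG hx).cen
  obtain ⟨N, X, δ, a, h⟩ := exists_PB hx (by rw [hG]; norm_num)
  obtain ⟨n, h5, h6⟩ := card_No_modEq (m := 720) (by norm_num) hx hG (by norm_num)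
  have h7 := h.cN
  have h8 := h.cX
  rw [h4, Nat.card_zpowers, hx, h5] at h7
  have h9 : N.card = 5 := by
    have := Nat.le_of_dvd (by norm_num) (Dvd.intro _ (by omega : N.card * X.card = 10))
    unfold Nat.ModEq at h6
    omega
  have hX : X.card = 2 := by rw [h9] at h8; omega
  obtain ⟨θ, θ', nθ, rfl⟩ := Finset.card_eq_two.1 hX
  have m : θ ∈ ({θ, θ'} : Finset _) := by simp
  have m' : θ' ∈ ({θ, θ'} : Finset _) := by simp
  obtain ⟨i, j, k, hi, hj, hk, k1, k2, k3⟩ := counts hG h m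
  have k4 := dg_bd hG θ
  rw [hX] at k3
  have : (i = 0 ∧ j = 1 ∧ k = 3 ∧ δ = 1 ∧ dg θ = 16) ∨ (i = 2 ∧ dg θ = 5) := by
    have : i ≤ 4 := by omega
    have : j ≤ 4 := by omega
    obtain rfl : k = 4 - i - j := by omega
    generalize dg θ = d at *
    rcases h.sd with rfl | rfl
    · obtain rfl : d = 1 + 12 * i + 45 * j - 10 * (4 - i - j) := by omega
      interval_cases i <;> interval_cases j <;> omega
    · obtain rfl : d = 10 * (4 - i - j) - 1 - 12 * i - 45 * j := by omega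
      interval_cases i <;> interval_cases j <;> omega
  rcases this with ⟨rfl, rfl, rfl, rfl, dθ⟩ | ⟨rfl, dθ⟩
  swap
  · obtain ⟨χ, hχ⟩ := Finset.card_pos.1 (hi ▸ two_pos)
    exact (no_five hG dθ (Finset.mem_filter.1 hχ).2).elim
  obtain ⟨ρ, hρ⟩ := Finset.card_eq_one.1 hj.symm
  obtain ⟨α₁, α₂, α₃, n12, n13, n23, hα⟩ := Finset.card_eq_three.1 hk.symm
  have h12 := Finset.card_eq_zero.1 hi.symm
  have e1 : ∀ χ, (χ ∈ N ∧ dg χ = 10) ↔ χ = α₁ ∨ χ = α₂ ∨ χ = α₃ := fun χ => by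
    rw [← Finset.mem_filter (p := fun χ => dg χ = 10), hα]; simp
  have e2 : ∀ χ, (χ ∈ N ∧ dg χ = 45) ↔ χ = ρ := fun χ => by
    rw [← Finset.mem_filter (p := fun χ => dg χ = 45), hρ]; simp
  have e3 : ∀ χ, ¬ (χ ∈ N ∧ dg χ = 12) := fun χ => by
    rw [← Finset.mem_filter (p := fun χ => dg χ = 12), h12]; simp
  have a1 := (e1 α₁).2 (by simp)
  have a2 := (e1 α₂).2 (by simp)
  have a3 := (e1 α₃).2 (by simp)
  have a4 := (e2 ρ).2 rfl
  have b : ∀ χ, χ ∈ N ∧ dg χ = 10 → a χ = -1 := fun χ hχ => by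
    have := dg_one (G := G)
    rcases nexc hG h hχ.1 with rfl | k' | k' | k' <;> omega
  have b4 : a ρ = 1 := by
    have := dg_one (G := G)
    rcases nexc hG h a4.1 with rfl | k' | k' | k' <;> omega
  refine ⟨α₁, α₂, α₃, θ, θ', ρ, a1.2, a2.2, a3.2, dθ, (h.dg_exc m' m).trans dθ, a4.2, n12, n13, n23,
    nθ, fun χ hχ => ?_, fun g hg => by simp [h.val _ a1.1 g hg, h.val _ a2.1 g hg,
      h.val _ a3.1 g hg, b _ a1, b _ a2, b _ a3], fun g hg => ⟨h.exc _ m' _ m g hg, ?_⟩⟩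
  · rcases h.sc h4 χ hχ with k | k
    · rcases nexc hG h k with k' | k' | k' | k'
      · simp [k']
      · rcases (e1 χ).1 ⟨k, k'.1⟩ with k | k | k <;> simp [k]
      · exact (e3 χ ⟨k, k'.1⟩).elim
      · simp [(e2 χ).1 ⟨k, k'.1⟩]
    · rw [Finset.mem_insert, Finset.mem_singleton] at k
      rcases k with k | k <;> simp [k]
  · have := h.rel θ m g hg
    rw [sum_fib (D := {10, 12, 45}) (perf hG) h.one (by simp) (fun χ hχ => by
      rcases nexc hG h hχ with k | k | k | k <;> simp [k]), Finset.sum_insert (by simp),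
      Finset.sum_pair (by simp), hα, hρ, h12, Finset.sum_insert (by simp [n12, n13]),
      Finset.sum_pair n23, b _ a1, b _ a2, b _ a3, h.a_one, Finset.sum_singleton, b4] at this
    simp at this
    linear_combination this

end Cfsg.Agent.Blk.M11
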