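import Cfsg.Agent.Lib.Block.M11a

/-! Simple groups of order 7920: the principal 5-block and the list of characters. -/

set_option autoImplicit false

namespace Cfsg.Agent.Blk.M11

open MonoidAlgebra Subgroup
open Cfsg.Agent.Char hiding cj cj_mul cj_inv_cj cj_cj_inv sum_cj_eq
open scoped ComplexConjugate
attribute [local instance] _root_.Classical.propDecidable

variable {G : Type*} [Group G] [Finite G] [IsSimpleGroup G] {x y g t : G} {χ ψ : IrrCharacter G}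
  {α₁ α₂ α₃ β θ θ' γ ρ σ : IrrCharacter G}

theorem sc11' (hG : Nat.card G = 7920) : ∃ x : G, SC 11 x := by
  obtain ⟨x, hx⟩ := exists_prime_orderOf_dvd_card' (G := G) 11 (by rw [hG]; norm_num)
  exact ⟨x, sc11 hG hx⟩

theorem not11 (hG : Nat.card G = 7920) {q : ℕ} (hq : q ∣ orderOf g) (h : ¬ q ∣ 11) :
    ¬ 11 ∣ orderOf g := fun k => by
  obtain ⟨x, hx⟩ := sc11' hG
  exact h (hx.ord_eq k ▸ hq)

omit [IsSimpleGroup G] in
theorem dz' (hG : Nat.card G = 7920) (p : ℕ) [Fact p.Prime] {d : ℕ} (h : dg χ = d)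
    (hg : p ∣ orderOf g) (h1 : 7920 % d = 0 ∧ 7920 / d % p ≠ 0 := by norm_num) : χ.1 g = 0 :=
  dz (m := 7920 / d) (by rw [hG, h, Nat.mul_div_cancel' (Nat.dvd_of_mod_eq_zero h1.1)])
    (fun k => h1.2 (Nat.mod_eq_zero_of_dvd k)) hg

theorem B11.v5 (hG : Nat.card G = 7920) (h : B11 α₁ α₂ α₃ θ θ' ρ) (hg : 5 ∣ orderOf g) :
    θ.1 g = 1 ∧ θ'.1 g = 1 := by
  obtain ⟨h1, h2⟩ := h.r11 g (not11 hG hg (by norm_num))
  rw [h1, h2, dz' hG 5 h.d1 hg, dz' hG 5 h.d2 hg, dz' hG 5 h.d3 hg, dz' hG 5 h.dρ hg]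
  simp

theorem exists_B5 (hG : Nat.card G = 7920) (h : B11 α₁ α₂ α₃ θ θ' ρ) (hy : orderOf y = 5) :
    ∃ β γ : IrrCharacter G, dg β = 11 ∧ dg γ = 44 ∧ Ce1 y = zpowers y ∧
      (∀ χ, ¬ 5 ∣ dg χ → χ = irrOne G ∨ χ = θ ∨ χ = θ' ∨ χ = β ∨ χ = γ) ∧
      ∀ g, ¬ 5 ∣ orderOf g → γ.1 g = 1 + θ.1 g + θ'.1 g + β.1 g := by
  obtain ⟨N, X, δ, a, k⟩ := exists_PB hy (by rw [hG]; norm_num)
  have m : ∀ χ : IrrCharacter G, (∀ g, 5 ∣ orderOf g → χ.1 g = 1) → χ ∈ N ∨ χ ∈ X := fun χ e =>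
    by_contra fun k' => one_ne_zero (k.out χ (fun k => k' (.inl k)) (fun k => k' (.inr k)) 1 e)
  have m1 := m θ fun g hg => (h.v5 hG hg).1
  have m2 := m θ' fun g hg => (h.v5 hG hg).2
  have n1 : irrOne G ≠ θ := (ne_one_of_dg (by rw [h.dθ]; norm_num)).symm
  have n2 : irrOne G ≠ θ' := (ne_one_of_dg (by rw [h.dθ']; norm_num)).symm
  have c3 : ({irrOne G, θ, θ'} : Finset _).card = 3 :=
    Finset.card_eq_three.2 ⟨_, _, _, n1, n2, h.nθ, rfl⟩
  have cX := k.cX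
  have hX : X.card = 1 := le_antisymm (not_lt.1 fun hX => by
    have : 3 ≤ N.card := c3 ▸ Finset.card_le_card fun χ hχ => by
      simp only [Finset.mem_insert, Finset.mem_singleton] at hχ
      rcases hχ with rfl | rfl | rfl
      · exact k.one
      · exact m1.resolve_right fun e => k.xnc hX _ e 1 fun g hg => (h.v5 hG hg).1
      · exact m2.resolve_right fun e => k.xnc hX _ e 1 fun g hg => (h.v5 hG hg).2
    nlinarith) k.X_ne.card_pos
  obtain ⟨S, ε, s1, s2, s3, s4, s5, s6⟩ := k.full hX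
  have sub : {irrOne G, θ, θ'} ⊆ S := fun χ hχ => by
    simp only [Finset.mem_insert, Finset.mem_singleton] at hχ
    rcases hχ with rfl | rfl | rfl
    exacts [(s2 _).2 (.inl k.one), (s2 _).2 m1, (s2 _).2 m2]
  have e0 : ∀ χ ∈ S, χ.1 y = 1 → ε χ = 1 := fun χ hχ e => by
    have := s4 χ hχ y (hy ▸ dvd_rfl)
    rw [e] at this
    exact_mod_cast this.symm
  have e1 := e0 _ (sub (by simp)) (irrOne_apply y)
  have e2 := e0 _ (sub (by simp)) (h.v5 hG (hy ▸ dvd_rfl)).1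
  have e3 := e0 _ (sub (by simp)) (h.v5 hG (hy ▸ dvd_rfl)).2
  have key : ∀ β γ, β ≠ γ → S \ {irrOne G, θ, θ'} = {β, γ} → (∀ g, ¬ 5 ∣ orderOf g →
      1 + θ.1 g + θ'.1 g + ε β * β.1 g + ε γ * γ.1 g = 0) ∧ β ∈ S ∧ (dg β = 11 ∧ ε β = 1 ∨
        dg β = 44 ∧ ε β = -1 ∨ dg β = 66 ∧ ε β = 1) := fun β γ n e => by
    have : β ∈ S \ {irrOne G, θ, θ'} := by simp [e]
    simp only [Finset.mem_sdiff, Finset.mem_insert, Finset.mem_singleton, not_or] at this
    refine ⟨fun g hg => ?_, this.1, ?_⟩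
    · have := s6 g hg
      rw [← Finset.sum_sdiff sub, e, Finset.sum_pair n, Finset.sum_insert (by simp [n1, n2]),
        Finset.sum_pair h.nθ, e1, e2, e3] at this
      simp only [irrOne_apply] at this
      push_cast at this
      linear_combination this
    · have k1 := s5 β this.1
      have k2 := dg_bd hG β
      have k3 : 11 ∣ dg β := by_contra fun k => by
        have := h.d1; have := h.d2; have := h.d3; have := h.dρ
        rcases s3 β (by tauto) with e | e <;> rw [e] at k1 <;>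
        rcases h.mem β k with rfl | rfl | rfl | rfl | rfl | rfl | rfl <;> first | omega | tauto
      obtain ⟨m, hm⟩ := k3
      have m8 : m ≤ 8 := by omega
      rcases s3 β this.1 with e | e <;> rw [e, hm] at k1 ⊢ <;> rw [hm] at k2 <;>
        interval_cases m <;> omega
  obtain ⟨β, γ, n, e, dβ, eβ, dγ, eγ⟩ : ∃ β γ, β ≠ γ ∧ S \ {irrOne G, θ, θ'} = {β, γ} ∧
      dg β = 11 ∧ ε β = 1 ∧ dg γ = 44 ∧ ε γ = -1 := by
    obtain ⟨β, γ, n, e⟩ := Finset.card_eq_two.1 (show (S \ {irrOne G, θ, θ'}).card = 2 by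
      rw [Finset.card_sdiff_of_subset sub, s1, c3])
    obtain ⟨k1, -, k2⟩ := key β γ n e
    obtain ⟨-, -, k3⟩ := key γ β n.symm (e.trans (Finset.pair_comm _ _))
    have k4 := k1 1 (by simp)
    simp only [← cast_deg] at k4
    have k5 : (1 + dg θ + dg θ' + ε β * dg β + ε γ * dg γ : ℤ) = 0 := by exact_mod_cast k4
    rw [h.dθ, h.dθ'] at k5
    rcases k2 with ⟨a1, a2⟩ | ⟨a1, a2⟩ | ⟨a1, a2⟩ <;> rcases k3 with ⟨b1, b2⟩ | ⟨b1, b2⟩ | ⟨b1, b2⟩ <;>
      rw [a1, a2, b1, b2] at k5 <;> norm_num at k5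
    · exact ⟨β, γ, n, e, a1, a2, b1, b2⟩
    · exact ⟨γ, β, n.symm, e.trans (Finset.pair_comm _ _), b1, b2, a1, a2⟩
  obtain ⟨r, mβ, -⟩ := key β γ n e
  have r5 : ∀ g, ¬ 5 ∣ orderOf g → γ.1 g = 1 + θ.1 g + θ'.1 g + β.1 g := fun g hg => by
    have := r g hg
    rw [eβ, eγ] at this
    push_cast at this
    linear_combination -this
  have sc : Ce1 y = zpowers y := by
    obtain ⟨n', h5, h6⟩ := card_No_modEq (m := 1584) (by norm_num) hy hG (by norm_num)
    have h7 := k.cN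
    have h8 := card_subgroup_dvd_card (No (zpowers y))
    obtain ⟨x, hx⟩ := sc11' hG
    have h9 := hx.not_dvd (g := y) (fun e => by simp [e] at hy) (by rw [hy]; norm_num)
    by_contra k'
    have h2 : 2 ∣ Nat.card (Ce1 y) := by
      have h10 : Nat.card (Ce1 y) ≠ 5 := fun e => k' (Ce1_eq_of_card (e.trans hy.symm))
      rw [hX, mul_one] at cX
      rw [← h7, hG, show N.card = 4 by omega] at h8
      rw [show N.card = 4 by omega, h5] at h7
      unfold Nat.ModEq at h6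
      generalize Nat.card (Ce1 y) = c at *
      obtain ⟨m, rfl⟩ : 5 ∣ c := by omega
      have h11 : m ∣ 36 := Nat.Coprime.dvd_of_dvd_mul_right (n := 11)
        (((Nat.Prime.coprime_iff_not_dvd (by norm_num)).2 fun k => h9 (k.mul_left 5)).symm)
        (Nat.dvd_of_mul_dvd_mul_left (k := 20) (by norm_num) (by convert h8 using 1 <;> ring))
      have := Nat.le_of_dvd (by norm_num) h11
      interval_cases m <;> omega
    obtain ⟨t, ht, c⟩ := exists_ord_Ce1 h2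
    have t1 : t ≠ 1 := fun e => by simp [e] at ht
    have o : 5 ∣ orderOf (y * t) := by
      rw [c.orderOf_mul_eq_mul_orderOf_of_coprime (by rw [hy, ht]; norm_num), hy]; simp
    obtain ⟨n₁, a1, a2⟩ := inv_val (perf hG) ht θ
    obtain ⟨n₂, b1, b2⟩ := inv_val (perf hG) ht β
    have a3 := cong_int (p := 5) (k := 1) (a := 1) θ.2.isCharacter hy c (by simp [(h.v5 hG o).1]) a1
    have b3 := cong_int (p := 5) (k := 1) β.2.isCharacter hy c (s4 β mβ _ o) b1
    have a4 := abs_lt.1 (abs_lt_dg (perf hG) n1.symm t1 a1)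
    have b4 := abs_lt.1 (abs_lt_dg (perf hG) (ne_one_of_dg (by rw [dβ]; norm_num)) t1 b1)
    have a5 := cen_int a1
    have b5 := cen_int b1
    rw [h.dθ] at a2 a4 a5
    rw [dβ] at b2 b4 b5
    obtain rfl : n₁ = -4 := by omega
    obtain rfl : n₂ = -9 := by omega
    have a6 := ((h.r11 t (by rw [ht]; norm_num)).1).trans a1
    have a7 : γ.1 t = (-16 : ℤ) := by rw [r5 t (by rw [ht]; norm_num), a6, a1, b1]; norm_num
    have := col_sub {β, γ} t
    rw [Finset.sum_pair n, norm_sq_int a7, norm_sq_int b1] at this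
    have h10 : 337 ≤ Nat.card (Ce1 t) := by
      have : ((337 : ℕ) : ℝ) ≤ Nat.card (Ce1 t) := le_trans (by norm_num) this
      exact_mod_cast this
    have h11 := (Ce1 t).card_mul_index
    have h12 : 44 ≤ (Ce1 t).index := Nat.le_of_dvd (Nat.pos_of_ne_zero FiniteIndex.index_ne_zero)
      (by omega)
    rw [hG] at h11
    nlinarith
  refine ⟨β, γ, dβ, dγ, sc, fun χ hχ => ?_, r5⟩
  have := (s2 χ).2 (k.sc sc χ hχ)
  by_cases k' : χ ∈ ({irrOne G, θ, θ'} : Finset _)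
  · simp only [Finset.mem_insert, Finset.mem_singleton] at k'
    tauto
  · have : χ ∈ ({β, γ} : Finset _) := e ▸ Finset.mem_sdiff.2 ⟨this, k'⟩
    simp only [Finset.mem_insert, Finset.mem_singleton] at this
    tauto

/-- the irreducible characters -/
structure T11 (α₁ α₂ α₃ β θ θ' γ ρ σ : IrrCharacter G) : Prop extends B11 α₁ α₂ α₃ θ θ' ρ where
  card : Nat.card G = 7920
  dβ : dg β = 11
  dγ : dg γ = 44
  dσ : dg σ = 55
  all : ∀ χ, χ = irrOne G ∨ χ = α₁ ∨ χ = α₂ ∨ χ = α₃ ∨ χ = β ∨ χ = θ ∨ χ = θ' ∨ χ = γ ∨ χ = ρ ∨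
    χ = σ
  sum : ∀ {M : Type} [AddCommMonoid M] (f : IrrCharacter G → M), ∑ χ, f χ =
    f (irrOne G) + f α₁ + f α₂ + f α₃ + f β + f θ + f θ' + f γ + f ρ + f σ
  sc5 : ∀ y : G, orderOf y = 5 → SC 5 y
  r5 : ∀ g, ¬ 5 ∣ orderOf g → γ.1 g = 1 + θ.1 g + θ'.1 g + β.1 g

theorem exists_T11 (hG : Nat.card G = 7920) : ∃ α₁ α₂ α₃ β θ θ' γ ρ σ : IrrCharacter G,
    T11 α₁ α₂ α₃ β θ θ' γ ρ σ := by
  obtain ⟨α₁, α₂, α₃, θ, θ', ρ, h⟩ := exists_B11 hG
  obtain ⟨y, hy⟩ := exists_prime_orderOf_dvd_card' (G := G) 5 (by rw [hG]; norm_num)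
  obtain ⟨β, γ, dβ, dγ, sc, m5, r5⟩ := exists_B5 hG h hy
  let T : Finset (IrrCharacter G) := {irrOne G, α₁, α₂, α₃, β, θ, θ', γ, ρ}
  have sT : ∀ {M : Type} [AddCommMonoid M] (f : IrrCharacter G → M), ∑ χ ∈ T, f χ =
      f (irrOne G) + f α₁ + f α₂ + f α₃ + f β + f θ + f θ' + f γ + f ρ := fun f => by
    have d := dg_one (G := G)
    obtain ⟨d1, d2, d3, d4, d5, d6, n1, n2, n3, n4, -⟩ := h
    repeat rw [Finset.sum_insert]
    · simp only [Finset.sum_singleton, add_assoc]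
    all_goals
      simp only [Finset.mem_insert, Finset.mem_singleton, not_or]
      repeat' apply And.intro
      all_goals first | assumption | exact ne_of_dg (by omega)
  have out : ∀ χ ∈ Tᶜ, dg χ = 55 := fun χ hχ => by
    simp only [T, Finset.mem_compl, Finset.mem_insert, Finset.mem_singleton, not_or] at hχ
    have h1 : 11 ∣ dg χ := by_contra fun k => by have := h.mem χ k; tauto
    have h2 : 5 ∣ dg χ := by_contra fun k => by have := m5 χ k; tauto
    have := dg_bd hG χ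
    have : dg χ ≠ 0 := charDegree_ne_zero χ
    omega
  have h1 := sum_charDegree_sq (G := G)
  rw [← Finset.sum_add_sum_compl T, sT (fun χ => dg χ ^ 2), Finset.sum_congr rfl
    (g := fun _ => 3025) fun χ hχ => by rw [show charDegree χ.1 = 55 from out χ hχ]; rfl, dg_one, h.d1,
    h.d2, h.d3, dβ, h.dθ, h.dθ', dγ, h.dρ, hG, Finset.sum_const, smul_eq_mul] at h1
  obtain ⟨σ, hσ⟩ := Finset.card_eq_one.1 (show Tᶜ.card = 1 by omega)
  refine ⟨α₁, α₂, α₃, β, θ, θ', γ, ρ, σ, h, hG, dβ, dγ, out σ (by simp [hσ]), fun χ => ?_,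
    fun f => by rw [← Finset.sum_add_sum_compl T, sT, hσ, Finset.sum_singleton],
    fun z hz => SC.of_ord ⟨by norm_num, hy, sc⟩ hz, r5⟩
  by_cases k : χ ∈ T
  · simp only [T, Finset.mem_insert, Finset.mem_singleton] at k
    tauto
  · have : χ ∈ ({σ} : Finset _) := hσ ▸ Finset.mem_compl.2 k
    simp [Finset.mem_singleton.1 this]

end Cfsg.Agent.Blk.M11
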