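import Cfsg.Agent.Lib.Block.Ord3
import Cfsg.Agent.Lib.Transfer.ElemC
import Cfsg.Agent.Lib.Transfer.Sharp

/-! Small group-theoretic counting tools. -/

set_option autoImplicit false

namespace Cfsg.Agent.Blk

open MonoidAlgebra Subgroup
open Cfsg.Agent.Char hiding cj cj_mul cj_inv_cj cj_cj_inv sum_cj_eq
open scoped ComplexConjugate
attribute [local instance] _root_.Classical.propDecidable

variable {G : Type*} [Group G] [Finite G] {p : ℕ} {x y g t k : G} {P D H S : Subgroup G}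

omit [Finite G] in
theorem Ce1_le_pow (g : G) (n : ℕ) : Ce1 g ≤ Ce1 (g ^ n) := fun _ h =>
  mem_Ce1.2 (Commute.pow_right (mem_Ce1.1 h) n)

theorem cnt_mod [Fact p.Prime] (hk : k ^ p = 1) {A : G → Prop} (hA : ∀ x, A x → A (k * x * k⁻¹)) :
    Nat.card {x // A x} ≡ Nat.card {x // A x ∧ Commute k x} [MOD p] := by
  have := Fintype.ofFinite G
  let f : Function.End {x // A x} := fun x => ⟨k * x * k⁻¹, hA _ x.2⟩
  have h1 : ∀ (n : ℕ) x, ((f ^ n) x : G) = k ^ n * x * (k ^ n)⁻¹ := fun n => by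
    induction n with
    | zero => intro x; simp; rfl
    | succ n ih =>
      intro x
      rw [pow_succ', show (f * f ^ n) x = f ((f ^ n) x) from rfl]
      simp only [f, ih]
      group
  have := Equiv.Perm.card_fixedPoints_modEq (f := f) (p := p) (n := 1)
    (funext fun x => Subtype.ext (by rw [h1, pow_one, hk]; simp; rfl))
  rw [← Nat.card_eq_fintype_card, ← Nat.card_eq_fintype_card] at this
  convert this using 1
  exact Nat.card_congr ((Equiv.subtypeSubtypeEquivSubtypeInter A (Commute k)).symm.trans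
    (Equiv.subtypeEquivRight fun x => by
      rw [Function.mem_fixedPoints, Function.IsFixedPt, Subtype.ext_iff]
      exact ⟨fun h => mul_inv_eq_iff_eq_mul.2 h, fun h => mul_inv_eq_iff_eq_mul.1 h⟩))

theorem dvd_cnt [Fact p.Prime] (hk : k ^ p = 1) {A : G → Prop} (hA : ∀ x, A x → A (k * x * k⁻¹))
    (h : ∀ x, A x → ¬ Commute k x) : p ∣ Nat.card {x // A x} := by
  have := cnt_mod hk hA
  rw [Transfer.cnt_eq_zero (p := fun x => A x ∧ Commute k x) fun x k => h x k.1 k.2] at this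
  exact Nat.modEq_zero_iff_dvd.1 this

theorem isConj_mul_of_fpf (hg : g ∈ No P) (h : ∀ v ∈ P, Commute g v → v = 1) (hx : x ∈ P) :
    IsConj g (x * g) := by
  let f : P → P := fun v => ⟨(v : G)⁻¹ * (g * v * g⁻¹), mul_mem (inv_mem v.2)
    ((mem_No.1 hg).le (conj_mem_cs.2 v.2))⟩
  obtain ⟨v, hv⟩ := Finite.surjective_of_injective (f := f) (fun v w e => by
    have e1 : (v : G)⁻¹ * (g * v * g⁻¹) = (w : G)⁻¹ * (g * w * g⁻¹) := congrArg Subtype.val e
    have := h (w * (v : G)⁻¹) (mul_mem w.2 (inv_mem v.2)) (by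
      show _ = _
      calc g * (w * (v : G)⁻¹) = w * ((w : G)⁻¹ * (g * w * g⁻¹)) * g * (v : G)⁻¹ := by group
        _ = _ := by rw [← e1]; group)
    exact Subtype.ext (mul_inv_eq_one.1 this).symm) ⟨x, hx⟩
  have e : (v : G)⁻¹ * (g * v * g⁻¹) = x := congrArg Subtype.val hv
  exact isConj_iff.2 ⟨(v : G)⁻¹, by rw [← e]; group⟩

omit [Finite G] in
theorem sum_sup_eq {M : Type*} [AddCommMonoid M] [Fintype P] [Fintype D] [Fintype (P ⊔ D : Subgroup G)]
    (h1 : D ≤ No P) (h2 : P ⊓ D = ⊥) (f : G → M) :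
    ∑ g : (P ⊔ D : Subgroup G), f g = ∑ d : D, ∑ u : P, f (u * d) := by
  rw [← Fintype.sum_prod_type' fun (d : D) (u : P) => f (u * d)]
  refine (Fintype.sum_bijective (fun x : D × P => (⟨x.2 * x.1, mul_mem_sup x.2.2 x.1.2⟩ :
    (P ⊔ D : Subgroup G))) ⟨fun x y e => ?_, fun g => ?_⟩ _ _ fun _ => rfl).symm
  · have e1 : (x.2 : G) * x.1 = y.2 * y.1 := congrArg Subtype.val e
    have e2 : (y.2 : G)⁻¹ * x.2 = y.1 * (x.1 : G)⁻¹ := by
      rw [inv_mul_eq_iff_eq_mul, ← mul_assoc, ← e1, mul_inv_cancel_right]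
    have e3 : (y.2 : G)⁻¹ * x.2 ∈ P ⊓ D := mem_inf.2 ⟨mul_mem (inv_mem y.2.2) x.2.2, e2 ▸
      mul_mem y.1.2 (inv_mem x.1.2)⟩
    rw [h2, mem_bot] at e3
    exact Prod.ext (Subtype.ext (mul_inv_eq_one.1 (e2 ▸ e3)).symm)
      (Subtype.ext (inv_mul_eq_one.1 e3).symm)
  · have := g.2
    rw [← SetLike.mem_coe, coe_mul_of_right_le_normalizer_left P D h1] at this
    obtain ⟨u, hu, d, hd, e⟩ := this
    exact ⟨(⟨d, hd⟩, ⟨u, hu⟩), Subtype.ext e⟩

theorem IsSyl.relIndex_No [Fact p.Prime] (h : IsSyl p P H) : (No P).relIndex H ≡ 1 [MOD p] := by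
  obtain ⟨S, hS⟩ := h.exists_sylow
  have h1 := card_sylow_modEq_one p H
  rw [S.card_eq_index_normalizer] at h1
  have h2 : (S : Subgroup H) = P.subgroupOf H := by
    rw [← hS, subgroupOf, comap_map_eq_self_of_injective H.subtype_injective]
  rwa [relIndex, subgroupOf_normalizer_eq h.le, ← h2]

/-- the core of `S` in `H` -/
theorem exists_core (h : S ≤ H) : ∃ D, D ≤ S ∧ H ≤ No D ∧ (∀ z ∈ S, H ≤ Ce1 z → z ∈ D) ∧
    Nat.card H ∣ Nat.card D * (S.relIndex H).factorial := by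
  refine ⟨(S.subgroupOf H).normalCore.map H.subtype, ?_, ?_, fun z hz k => ⟨⟨z, h hz⟩, fun c => ?_, rfl⟩,
    ?_⟩
  · rintro _ ⟨x, hx, rfl⟩
    exact (S.subgroupOf H).normalCore_le hx
  · exact (normal_subgroupOf_iff_le_normalizer (map_subtype_le _)).1 (by
      rw [subgroupOf, comap_map_eq_self_of_injective H.subtype_injective]; infer_instance)
  · show (c : G) * z * (c : G)⁻¹ ∈ S
    rwa [mem_Ce1.1 (k c.2), mul_inv_cancel_right]
  · rw [card_map_of_injective H.subtype_injective, ← (S.subgroupOf H).normalCore.card_mul_index]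
    refine Nat.mul_dvd_mul_left _ ?_
    rw [normalCore_eq_ker, index_ker]
    exact (card_subgroup_dvd_card _).trans (by rw [Nat.card_perm]; rfl)

theorem shT_of_fix {α : Type*} [MulAction G α] [Finite α] {n : ℕ} (h1 : n ≤ Nat.card α)
    (h2 : Nat.card G = (Nat.card α).descFactorial n)
    (h : ∀ g : G, g ≠ 1 → Nat.card (MulAction.fixedBy α g) < n) : Transfer.ShT G α n := by
  have := Fintype.ofFinite α
  have k : ∀ x : Fin n ↪ α, MulAction.stabilizer G x = ⊥ := Perm.sharp_iff.2 fun x hx g hg =>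
    by_contra fun k => (h g k).not_ge (by
      simpa only [Nat.card_fin] using Nat.card_le_card_of_injective
        (fun i => (⟨x i, hg i⟩ : MulAction.fixedBy α g)) fun i j e => hx (congrArg Subtype.val e))
  refine ⟨⟨fun x y => ?_⟩, k, h1⟩
  exact ((Nat.bijective_iff_injective_and_card fun g : G => g • x).2 ⟨fun a b e => by
    have : b⁻¹ * a ∈ MulAction.stabilizer G x := by
      rw [MulAction.mem_stabilizer_iff, mul_smul, show a • x = b • x from e, inv_smul_smul]
    rw [k, mem_bot] at this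
    exact (inv_mul_eq_one.1 this).symm, by
      rw [h2, Nat.card_eq_fintype_card (α := Fin n ↪ α), Fintype.card_embedding_eq]; simp⟩).2 y

end Cfsg.Agent.Blk
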