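import Cfsg.Agent.Lib.Block.M11c
import Cfsg.Agent.Lib.Block.Ord4

/-! Simple groups of order 7920: conjugacy classes. -/

set_option autoImplicit false

namespace Cfsg.Agent.Blk.M11

open MonoidAlgebra Subgroup
open Cfsg.Agent.Char hiding cj cj_mul cj_inv_cj cj_cj_inv sum_cj_eq
open scoped ComplexConjugate
attribute [local instance] _root_.Classical.propDecidable

variable {G : Type*} [Group G] [Finite G] [IsSimpleGroup G] {x y g t k z : G} {χ ψ : IrrCharacter G}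
  {α₁ α₂ α₃ β θ θ' γ ρ σ : IrrCharacter G} {P : Subgroup G}

namespace T11
variable (h : T11 α₁ α₂ α₃ β θ θ' γ ρ σ)
include h

theorem c18 (hk : orderOf k = 3) : Nat.card (Ce1 k) = 18 :=
  (h.three (fun e => by simp [e] at hk) (n := 1) hk).1

theorem cls (g : G) : g = 1 ∨ (11 ∣ orderOf g ∧ Nat.card (Ce1 g) = 11) ∨ Nat.card (Ce1 g) = 5 ∨
    (g ≠ 1 ∧ ∃ n, orderOf g = 3 ^ n) ∨ orderOf g = 2 ∨ Nat.card (Ce1 g) = 6 ∨
    (4 ∣ orderOf g ∧ Nat.card (Ce1 g) ∣ 16) := by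
  by_cases h1 : g = 1
  · simp [h1]
  by_cases h11 : 11 ∣ orderOf g
  · obtain ⟨x, hx⟩ := sc11' h.card
    simp [h11, hx.card_Ce1 h11]
  by_cases h5 : 5 ∣ orderOf g
  · obtain ⟨y, hy⟩ := exists_prime_orderOf_dvd_card' (G := G) 5 (by rw [h.card]; norm_num)
    simp [(h.sc5 y hy).card_Ce1 h5]
  have c1 := h.dvd144 h1 h5 h11
  have c2 := dvd_Ce1 (Commute.refl g)
  have c3 := c2.trans c1
  refine .inr (.inr (.inr ?_))
  by_cases h2 : 2 ∣ orderOf g
  swap
  · obtain ⟨n, -, hn⟩ := (Nat.dvd_prime_pow Nat.prime_three (m := 2)).1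
      (Nat.Coprime.dvd_of_dvd_mul_left (m := 2 ^ 4) (Nat.Coprime.pow_right _
        ((Nat.Prime.coprime_iff_not_dvd Nat.prime_two).2 h2).symm) c3)
    exact .inl ⟨h1, n, hn⟩
  by_cases h3 : 3 ∣ orderOf g
  · have k1 := card_dvd_of_le (Ce1_le_pow g (orderOf g / 3))
    have k2 := card_dvd_of_le (Ce1_le_pow g (orderOf g / 2))
    rw [h.c18 (orderOf_pow_orderOf_div (orderOf_pos g).ne' h3)] at k1
    have k3 : Nat.card (Ce1 g) ∣ 48 := by
      rcases h.two (orderOf_pow_orderOf_div (orderOf_pos g).ne' h2) with e | ⟨e, -⟩ <;> rw [e] at k2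
      exacts [k2.trans (by norm_num), k2]
    exact .inr (.inr (.inl (Nat.dvd_antisymm (Nat.dvd_gcd k1 k3)
      ((Nat.Coprime.mul_dvd_of_dvd_of_dvd (by norm_num) h2 h3).trans c2))))
  by_cases h4 : 4 ∣ orderOf g
  · refine .inr (.inr (.inr ⟨h4, Nat.Coprime.dvd_of_dvd_mul_left (m := 3 ^ 2) (Nat.Coprime.pow_right _
      ((Nat.Prime.coprime_iff_not_dvd Nat.prime_three).2 fun k => ?_).symm) c1⟩))
    obtain ⟨k, k1, k2⟩ := exists_ord_Ce1 k
    have := h4.trans (dvd_Ce1 k2.symm)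
    rw [h.c18 k1] at this
    omega
  · have := Nat.le_of_dvd (by norm_num) c3
    refine .inr (.inl ?_)
    generalize orderOf g = n at *
    interval_cases n <;> omega

theorem exists_inv : ∃ z k : G, orderOf z = 2 ∧ orderOf k = 3 ∧ Commute k z ∧
    Nat.card (Ce1 z) = 48 := by
  obtain ⟨k, hk⟩ := exists_prime_orderOf_dvd_card' (G := G) 3 (by rw [h.card]; norm_num)
  obtain ⟨z, hz, c⟩ := exists_ord_Ce1 (x := k) (q := 2) (by rw [h.c18 hk]; norm_num)
  refine ⟨z, k, hz, hk, c, ((h.two hz).resolve_left fun e => ?_).1⟩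
  have := dvd_Ce1 c.symm
  rw [e, hk] at this
  omega

theorem classes : mcl G 48 = 1 ∧ mcl G 16 = 0 ∧ mcl G 4 = 0 := by
  have key : ∀ g : G, g ≠ 1 → Nat.card (Ce1 g) ∈ ({11, 5, 18, 6, 48, 16, 8, 4} : Finset ℕ) :=
    fun g hg => by
    rcases h.cls g with k | k | k | ⟨k, n, hn⟩ | k | k | ⟨k, k'⟩
    · exact (hg k).elim
    · simp [k.2]
    · simp [k]
    · simp [(h.three k hn).1]
    · rcases h.two k with k | k <;> simp [k]
    · simp [k]
    · have := k.trans (dvd_Ce1 (Commute.refl g))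
      have := Nat.le_of_dvd (by norm_num) k'
      generalize Nat.card (Ce1 g) = c at *
      interval_cases c <;> first | omega | simp
  have c1 : Nat.card (Ce1 (1 : G)) = 7920 := by
    rw [show Ce1 (1 : G) = ⊤ from eq_top_iff.2 fun x _ => mem_Ce1.2 (Commute.one_right x), card_top,
      h.card]
  obtain ⟨s1, s2⟩ := mcl_sum (G := G) (D := {7920, 11, 5, 18, 6, 48, 16, 8, 4}) fun g => by
    by_cases hg : g = 1
    · simp [hg, c1]
    · exact Finset.mem_insert_of_mem (key g hg)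
  have m1 : mcl G 7920 = 1 := le_antisymm (mcl_le_one fun x y hx hy => by
    obtain rfl : x = 1 := by_contra fun k => by simpa [hx] using key x k
    obtain rfl : y = 1 := by_contra fun k => by simpa [hy] using key y k
    rfl) (c1 ▸ mcl_pos (1 : G))
  rw [Nat.card_eq_fintype_card, Fintype.card_eq_sum_ones, h.sum] at s1
  rw [h.card] at s2
  simp [m1] at s1 s2
  obtain ⟨z, k, hz, hk, c, e⟩ := h.exists_inv
  have m6 : 0 < mcl G 6 := by
    have o : orderOf (k * z) = 6 := by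
      rw [c.orderOf_mul_eq_mul_orderOf_of_coprime (by rw [hz, hk]; norm_num), hz, hk]
    have := dvd_Ce1 (Commute.refl (k * z))
    clear s1 s2
    rw [o] at this
    rcases h.cls (k * z) with k | k | k | ⟨-, n, hn⟩ | k | k | k
    · simp [k] at o
    · omega
    · omega
    · have := (Nat.prime_two.dvd_of_dvd_pow (hn ▸ o ▸ by norm_num : 2 ∣ 3 ^ n))
      omega
    · omega
    · exact k ▸ mcl_pos _
    · omega
  obtain ⟨r1, r2 | r2⟩ := arc _ _ _ _ _ _ _ _ m6 (e ▸ mcl_pos z) s1 (by linarith)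
  · exact ⟨r1, r2⟩
  exfalso
  obtain ⟨b, b', hb, hb', n⟩ := exists_two_of_mcl r2.1
  obtain ⟨a, ha⟩ := exists_of_mcl r2.2
  have pa : IsPGroup 2 (zpowers a) := isPGroup_le (IsPGroup.of_card (n := 2) ha)
    (zpowers_le.2 (mem_Ce1.2 rfl))
  have t : ¬ 2 ^ (4 + 1) ∣ Nat.card G := by rw [h.card]; norm_num
  obtain ⟨c₁, k1, k2⟩ := exists_conj_commute (y := b) pa (by rw [hb]; norm_num) t
  obtain ⟨c₂, k3, k4⟩ := exists_conj_commute (y := b') pa (by rw [hb']; norm_num) t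
  obtain ⟨c₃, k5, k6⟩ := exists_conj_commute (y := z) pa (by rw [e]; norm_num) t
  rw [card_Ce1_conj k1] at hb
  rw [card_Ce1_conj k3] at hb'
  rw [card_Ce1_conj k5] at e
  have n' : c₁ ≠ c₂ := fun k => n (k1.trans (k ▸ k3.symm))
  have d : ∀ x y : G, Nat.card (Ce1 x) ≠ Nat.card (Ce1 y) → x ≠ y := fun x y k e => k (e ▸ rfl)
  have := card_le_of_mem (H := Ce1 a) {1, a, c₃, c₁, c₂} (by
    simp [mem_Ce1, k2.eq, k4.eq, k6.eq])
  rw [ha, Finset.card_insert_of_notMem, Finset.card_insert_of_notMem, Finset.card_insert_of_notMem,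
    Finset.card_pair n'] at this
  · omega
  all_goals
    simp only [Finset.mem_insert, Finset.mem_singleton, not_or]
    repeat' apply And.intro
    all_goals exact d _ _ (by omega)

theorem c48 (ht : orderOf t = 2) : Nat.card (Ce1 t) = 48 :=
  ((h.two ht).resolve_left fun e => (e ▸ mcl_pos t).ne' h.classes.2.1).1

theorem c8 (hg : 4 ∣ orderOf g) : Nat.card (Ce1 g) = 8 := by
  have c := hg.trans (dvd_Ce1 (Commute.refl g))
  have := mcl_pos g
  obtain ⟨-, m1, m2⟩ := h.classes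
  rcases h.cls g with k | k | k | ⟨k, n, hn⟩ | k | k | ⟨-, k⟩
  · simp [k] at hg
  · omega
  · omega
  · have := (h.three k hn).1
    omega
  · omega
  · omega
  · have := Nat.le_of_dvd (by norm_num) k
    generalize Nat.card (Ce1 g) = n at *
    interval_cases n <;> omega

theorem card_No3 (hP : IsSyl 3 P ⊤) : Nat.card (No P) = 144 := by
  obtain ⟨h1, h2⟩ := h.syl3 hP
  obtain ⟨k, hk⟩ := exists_prime_orderOf_dvd_card' (G := P) 3 (by rw [h1]; norm_num)
  rw [← orderOf_coe] at hk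
  have k1 : (k : G) ≠ 1 := fun e => by simp [e] at hk
  have := card_No_fusion hP h2 k.2 k1 (No_of_index_two (mem_Ce_iff_le.1 (h2 k.2))
    (by rw [h.c18 hk, h1])) fun y hy y1 => (isConj_iff_forall_irr _ _).2 fun χ => by
      obtain ⟨n, hn⟩ := pelt_of_mem hP.pg hy
      rw [(h.three k1 (n := 1) hk).2.2, (h.three y1 hn).2.2]
  rw [h.c18 hk, h1] at this
  omega

end T11

theorem exists_T11' (hG : Nat.card G = 7920) : ∃ α₁ α₂ α₃ β θ θ' γ ρ σ : IrrCharacter G,
    T11 α₁ α₂ α₃ β θ θ' γ ρ σ ∧ ∀ t, orderOf t = 2 → α₁.1 t = 2 ∧ α₂.1 t = -2 ∧ α₃.1 t = -2 := by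
  obtain ⟨α₁, α₂, α₃, β, θ, θ', γ, ρ, σ, h⟩ := exists_T11 hG
  obtain ⟨z, -, hz, -⟩ := h.exists_inv
  have key : ∀ t, orderOf t = 2 → ∀ χ : IrrCharacter G, χ.1 t = χ.1 z := fun t ht =>
    (isConj_iff_forall_irr _ _).1 (conj_of_mcl h.classes.1.le (h.c48 ht) (h.c48 hz))
  rcases h.two hz with k | ⟨-, k | k | k⟩
  · have := h.c48 hz
    omega
  · exact ⟨_, _, _, _, _, _, _, _, _, h, fun t ht => by simp [key t ht, k]⟩
  · exact ⟨_, _, _, _, _, _, _, _, _, h.swap12, fun t ht => by simp [key t ht, k]⟩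
  · exact ⟨_, _, _, _, _, _, _, _, _, h.swap13, fun t ht => by simp [key t ht, k]⟩

end Cfsg.Agent.Blk.M11
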