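import Cfsg.Agent.Lib.Block.M11d

/-! Simple groups of order 7920: a subgroup of index 11. -/

set_option autoImplicit false

namespace Cfsg.Agent.Blk.M11

open MonoidAlgebra Subgroup
open Cfsg.Agent.Char hiding cj cj_mul cj_inv_cj cj_cj_inv sum_cj_eq
open scoped ComplexConjugate
attribute [local instance] _root_.Classical.propDecidable

variable {G : Type*} [Group G] [Finite G] [IsSimpleGroup G] {x y g t k z : G} {χ ψ : IrrCharacter G}
  {α₁ α₂ α₃ β θ θ' γ ρ σ : IrrCharacter G} {P D S : Subgroup G}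

theorem ar4 : ∀ a ∈ Finset.Icc (-2 : ℤ) 2, 2 ∣ a - 10 → ∀ b ∈ Finset.Icc (-2 : ℤ) 2, 2 ∣ b - 11 →
    ∀ r ∈ Finset.Icc (-2 : ℤ) 2, 2 ∣ r - 45 →
    a ^ 2 ≤ 8 - (1 + b ^ 2 + (1 + b) ^ 2 + r ^ 2 + (1 + b + r) ^ 2) →
    a = 0 ∨ (a ^ 2 = 8 - (1 + b ^ 2 + (1 + b) ^ 2 + r ^ 2 + (1 + b + r) ^ 2) ∧ (a = 1 + r → a = 2)) := by
  decide +kernel

namespace T11
variable (h : T11 α₁ α₂ α₃ β θ θ' γ ρ σ)
  (hz : ∀ t, orderOf t = 2 → α₁.1 t = 2 ∧ α₂.1 t = -2 ∧ α₃.1 t = -2)
include h hz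

theorem int1 (g : G) : ∃ n : ℤ, α₁.1 g = n := int_of_gal fun s => by
  obtain ⟨z, -, k, -⟩ := h.exists_inv
  have h1 := gal_apply s α₁ z
  rw [(hz z k).1, map_ofNat] at h1
  rcases (h.by_dg _).1 ((charDegree_gal s α₁).trans h.d1) with e | e | e <;> rw [e] at h1 ⊢
  · rw [(hz z k).2.1] at h1; norm_num at h1
  · rw [(hz z k).2.2] at h1; norm_num at h1

theorem bd1 (hg : g ≠ 1) : ∃ n : ℤ, α₁.1 g = n ∧ -2 ≤ n ∧ n ≤ 2 := by
  obtain ⟨n, hn⟩ := h.int1 hz g
  have h1 := col_sub {irrOne G, α₁} g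
  rw [Finset.sum_pair (ne_one_of_dg (by rw [h.d1]; norm_num)).symm, norm_sq_int hn, irrOne_apply] at h1
  have h2 : Nat.card (Ce1 g) ≤ 9 → -2 ≤ n ∧ n ≤ 2 := fun k => by
    have : (1 + n ^ 2 : ℤ) ≤ Nat.card (Ce1 g) := by simp at h1; exact_mod_cast h1
    exact Finset.mem_Icc.1 (mem_Icc_of_sq (n := 2) (by norm_num) (by omega))
  rcases h.cls g with k | k | k | ⟨k, n, hn⟩ | k | k | ⟨k, -⟩
  · exact (hg k).elim
  · exact ⟨-1, by simp [(h.v11 g k.1).1], by simp⟩
  · exact ⟨n, hn, h2 (by omega)⟩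
  · exact ⟨1, by simp [(h.three k hn).2.1], by simp⟩
  · exact ⟨2, by simp [(hz g k).1], by simp⟩
  · exact ⟨n, hn, h2 (by omega)⟩
  · exact ⟨n, hn, h2 (by rw [h.c8 k]; omega)⟩

theorem four (hg : 4 ∣ orderOf g) : α₁.1 g = 0 ∨ α₁.1 g = 2 ∧ α₂.1 g = 0 := by
  have c := h.c8 hg
  have o := dvd_Ce1 (Commute.refl g)
  rw [c] at o
  obtain ⟨n, -, hn⟩ := (Nat.dvd_prime_pow Nat.prime_two (m := 3)).1 o
  obtain ⟨b, s, r, k1, k2, k3, k4, k5, k6, k7, k8⟩ := h.vals (g := g) (fun e => by simp [e] at hg)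
    (fun k => by have := k.trans o; omega) fun k => by have := k.trans o; omega
  obtain rfl : s = 0 := by
    exact_mod_cast k2.symm.trans (dz' h.card 2 h.dθ (dvd_trans (by norm_num) hg))
  obtain ⟨a, ha⟩ := h.int1 hz g
  have c1 := cong_dg hn ha
  have c2 := cong_dg hn k1
  have c3 := cong_dg hn k4
  rw [h.d1] at c1
  rw [h.dβ] at c2
  rw [h.dρ] at c3
  rw [norm_sq_int ha, c] at k8
  have c4 : a ^ 2 ≤ 8 - (1 + b ^ 2 + (1 + b) ^ 2 + r ^ 2 + (1 + b + r) ^ 2) := by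
    have : ((a ^ 2 : ℤ) : ℝ) ≤ (8 - (1 + b ^ 2 + (1 + b) ^ 2 + r ^ 2 + (1 + b + r) ^ 2) : ℤ) := by
      push_cast at k8 ⊢
      nlinarith [sq_nonneg ‖α₂.1 g‖, sq_nonneg ‖α₃.1 g‖]
    exact_mod_cast this
  have := sq_nonneg a; have := sq_nonneg b; have := sq_nonneg (1 + b); have := sq_nonneg r
  have := sq_nonneg (1 + b + r)
  rcases ar4 a (mem_Icc_of_sq (by norm_num) (by omega)) c1 b (mem_Icc_of_sq (by norm_num) (by omega))
    c2 r (mem_Icc_of_sq (by norm_num) (by omega)) c3 c4 with rfl | ⟨e1, e2⟩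
  · exact .inl (by simpa using ha)
  · have e3 : ‖α₂.1 g‖ ^ 2 + ‖α₃.1 g‖ ^ 2 = 0 := by
      have : ((a ^ 2 : ℤ) : ℝ) = (8 - (1 + b ^ 2 + (1 + b) ^ 2 + r ^ 2 + (1 + b + r) ^ 2) : ℤ) :=
        congrArg _ e1
      push_cast at k8 this
      linarith
    have e4 : α₂.1 g = 0 := by
      simpa using le_antisymm (by nlinarith [sq_nonneg ‖α₃.1 g‖]) (sq_nonneg ‖α₂.1 g‖)
    have e5 : α₃.1 g = 0 := by
      simpa using le_antisymm (by nlinarith [sq_nonneg ‖α₂.1 g‖]) (sq_nonneg ‖α₃.1 g‖)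
    rw [e4, e5, ha] at k7
    obtain rfl := e2 (by exact_mod_cast (by simpa using k7 : (a : ℂ) = 1 + r))
    exact .inr ⟨by simpa using ha, e4⟩

theorem quat (z2 : orderOf z = 2) (k3 : orderOf k = 3) (c : Commute k z) (hS : Nat.card S = 16)
    (zS : z ∈ S) (Sz : S ≤ Ce1 z) : ∃ D, D ≤ S ∧ k ∈ No D ∧ z ∈ D ∧ Nat.card D = 8 ∧
      ∀ d ∈ D, d ≠ 1 → α₁.1 d = 2 ∧ (d ≠ z → 4 ∣ orderOf d) := by
  obtain ⟨D, h1, h2, h3, h4⟩ := exists_core Sz
  have := Fintype.ofFinite D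
  have zD := h3 z zS le_rfl
  have kD := h2 (mem_Ce1.2 c)
  have k1 : k ^ 3 = 1 := k3 ▸ pow_orderOf_eq_one k
  have z1 : z ≠ 1 := fun e => by simp [e] at z2
  have st : ∀ x ∈ D, k * x * k⁻¹ ∈ D := fun x hx => (mem_No.1 kD).le (conj_mem_cs.2 hx)
  have cD := card_dvd_of_le h1
  have fx : ∀ x ∈ D, Commute k x → x = 1 ∨ x = z := fun x hx e => by
    have a1 := card_dvd_of_le (inf_le_left : D ⊓ Ce1 k ≤ D)
    have a2 := card_dvd_of_le (inf_le_right : D ⊓ Ce1 k ≤ Ce1 k)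
    rw [h.c18 k3] at a2
    have a3 := Nat.le_of_dvd two_pos (Nat.dvd_gcd (a1.trans (hS ▸ cD)) a2)
    by_contra! n
    have := card_le_of_mem (H := D ⊓ Ce1 k) {x, 1, z} (by simp [mem_Ce1, hx, zD, e.eq, c.eq])
    rw [Finset.card_insert_of_notMem (by simp [n]), Finset.card_pair z1.symm] at this
    omega
  have c8 : Nat.card D = 8 := by
    have a1 := cnt_mod k1 st
    rw [Transfer.cnt_eq_two z1.symm (p := fun x => x ∈ D ∧ Commute k x) fun x => ⟨fun e => fx x e.1 e.2,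
      by rintro (rfl | rfl); exacts [⟨one_mem _, Commute.one_right k⟩, ⟨zD, c⟩]⟩] at a1
    have a2 := Transfer.card_mul_relIndex Sz
    rw [hS, h.c48 z2] at a2
    rw [show S.relIndex (Ce1 z) = 3 by omega, h.c48 z2] at h4
    rw [hS] at cD
    have := Nat.le_of_dvd (by norm_num) cD
    change Nat.card D ≡ 2 [MOD 3] at a1
    unfold Nat.ModEq at a1
    generalize Nat.card D = n at *
    interval_cases n <;> first | omega | exact absurd h4 (by decide)
  have od : ∀ d ∈ D, d = 1 ∨ orderOf d = 2 ∨ 4 ∣ orderOf d := fun d hd => by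
    have a1 : orderOf d ∣ 8 := c8 ▸ Nat.card_zpowers d ▸ card_dvd_of_le (zpowers_le.2 hd)
    have := Nat.le_of_dvd (by norm_num) a1
    rw [← orderOf_eq_one_iff]
    generalize orderOf d = n at *
    interval_cases n <;> omega
  have cn : ∀ (q : G → Prop) [DecidablePred q], ∑ d : D, (if q d then (1 : ℂ) else 0) = Nat.card {x // x ∈ D ∧ q x} ∧
      Nat.card {x // x ∈ D ∧ q x} ≤ 8 := fun q _ => ⟨by
    rw [← Nat.card_congr (Equiv.subtypeSubtypeEquivSubtypeInter (· ∈ D) q), Transfer.cnt_eq_sum]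
    simp, c8 ▸ Transfer.cnt_mono fun _ k => k.1⟩
  have c1 : ∀ x ∈ D, Nat.card {y // y ∈ D ∧ y = x} = 1 := fun x hx =>
    (Transfer.cnt_congr fun y => ⟨fun k => k.2, fun k => ⟨k ▸ hx, k⟩⟩).trans (Transfer.cnt_eq_one x)
  have v1 : ∀ d ∈ D, d ≠ 1 → α₁.1 d = 2 := by
    obtain ⟨m, hm⟩ := sum_int D α₁.2.isCharacter
    rw [Finset.sum_congr rfl (g := fun d : D => 2 + 8 * (if (d : G) = 1 then 1 else 0) -
      2 * if α₁.1 d = 0 then 1 else 0) fun d _ => by
        rcases od d d.2 with e | e | e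
        · simp [e, val_one h.d1]; norm_num
        · simp [(hz _ e).1, show (d : G) ≠ 1 from fun k => by simp [k] at e]
        · have : (d : G) ≠ 1 := fun k => by simp [k] at e
          rcases h.four hz e with e | e <;> simp [e, this], Finset.sum_sub_distrib,
      Finset.sum_add_distrib, ← Finset.mul_sum, ← Finset.mul_sum, (cn (· = 1)).1,
      (cn fun d => α₁.1 d = 0).1, c1 1 (one_mem _), Finset.sum_const, Finset.card_univ,
      ← Nat.card_eq_fintype_card, c8] at hm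
    have a1 := dvd_cnt (A := fun x => x ∈ D ∧ α₁.1 x = 0) k1 (fun x hx => ⟨st x hx.1, by
      rw [α₁.2.isClassFunction.apply_conj, hx.2]⟩) fun x hx e => by
        rcases fx x hx.1 e with rfl | rfl
        · simpa [val_one h.d1] using hx.2
        · simpa [(hz _ z2).1] using hx.2
    have a2 := (cn fun d => α₁.1 d = 0).2
    have a3 : (24 : ℤ) - 2 * Nat.card {x // x ∈ D ∧ α₁.1 x = 0} = 8 * m := by
      have : (24 : ℂ) - 2 * Nat.card {x // x ∈ D ∧ α₁.1 x = 0} = 8 * m := by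
        simp at hm; linear_combination hm
      exact_mod_cast this
    intro d hd d1
    rcases od d hd with e | e | e
    · exact (d1 e).elim
    · exact (hz _ e).1
    · refine ((h.four hz e).resolve_left fun e' => ?_).1
      have := Transfer.cnt_pos (p := fun x => x ∈ D ∧ α₁.1 x = 0) ⟨hd, e'⟩
      omega
  refine ⟨D, h1, kD, zD, c8, fun d hd d1 => ⟨v1 d hd d1, fun dz => ?_⟩⟩
  obtain ⟨m, hm⟩ := sum_int D α₂.2.isCharacter
  rw [Finset.sum_congr rfl (g := fun d : D => 10 * (if (d : G) = 1 then 1 else 0) -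
    2 * (if (d : G) = z then 1 else 0) - 2 * if orderOf (d : G) = 2 ∧ d ≠ z then 1 else 0)
      fun d _ => by
      rcases od d d.2 with e | e | e
      · simp [e, val_one h.d2, z1.symm]
      · have : (d : G) ≠ 1 := fun k => by simp [k] at e
        by_cases e' : (d : G) = z <;> simp [(hz _ e).2.1, this, e, e', z1]
        simpa [e'] using (hz _ e).2.1
      · have a1 : (d : G) ≠ 1 := fun k => by simp [k] at e
        have a2 : orderOf (d : G) ≠ 2 := by omega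
        have a3 : (d : G) ≠ z := fun k => a2 (k ▸ z2)
        rw [((h.four hz e).resolve_left (by rw [v1 d d.2 a1]; norm_num)).2]
        simp only [a1, a2, a3]
        simp, Finset.sum_sub_distrib, Finset.sum_sub_distrib, ← Finset.mul_sum, ← Finset.mul_sum,
    ← Finset.mul_sum, (cn (· = 1)).1, (cn (· = z)).1, (cn fun d => orderOf d = 2 ∧ d ≠ z).1,
    c1 1 (one_mem _), c1 z zD, c8] at hm
  have a1 := dvd_cnt (A := fun x => x ∈ D ∧ orderOf x = 2 ∧ x ≠ z) k1 (fun x hx => ⟨st x hx.1, by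
    rw [orderOf_conj', hx.2.1], fun e => hx.2.2 (by
      rw [mul_inv_eq_iff_eq_mul, ← c.eq] at e; exact mul_left_cancel e)⟩) fun x hx e => by
      rcases fx x hx.1 e with rfl | rfl
      · simpa using hx.2.1
      · exact hx.2.2 rfl
  have a2 := (cn fun d => orderOf d = 2 ∧ d ≠ z).2
  have a3 : (8 : ℤ) - 2 * Nat.card {x // x ∈ D ∧ orderOf x = 2 ∧ x ≠ z} = 8 * m := by
    have : (8 : ℂ) - 2 * Nat.card {x // x ∈ D ∧ orderOf x = 2 ∧ x ≠ z} = 8 * m := by
      simp at hm; linear_combination hm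
    exact_mod_cast this
  rcases od d hd with e | e | e
  · exact (d1 e).elim
  · have := Transfer.cnt_pos (p := fun x => x ∈ D ∧ orderOf x = 2 ∧ x ≠ z) ⟨hd, e, dz⟩
    omega
  · exact e

omit hz in
theorem fpf (hP : IsSyl 3 P ⊤) (hg : 4 ∣ orderOf g) : ∀ v ∈ P, Commute g v → v = 1 := fun v hv c =>
  by_contra fun k => by
    obtain ⟨n, hn⟩ := pelt_of_mem hP.pg hv
    have := hg.trans (dvd_Ce1 c.symm)
    rw [(h.three k hn).1] at this
    omega

omit hz [IsSimpleGroup G] in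
theorem inf_bot (hP : IsSyl 3 P ⊤) (c8 : Nat.card D = 8) : P ⊓ D = ⊥ :=
  inf_eq_bot_of_coprime (by rw [(h.syl3 hP).1, c8]; norm_num)

theorem dimA (hP : IsSyl 3 P ⊤) (hD : D ≤ No P) (zD : z ∈ D) (c8 : Nat.card D = 8)
    (v : ∀ d ∈ D, d ≠ 1 → α₁.1 d = 2 ∧ (d ≠ z → 4 ∣ orderOf d)) [Fintype (P ⊔ D : Subgroup G)] :
    Nat.card (P ⊔ D : Subgroup G) = 72 ∧
      ∃ a : ℕ, 2 ≤ a ∧ ∑ g : (P ⊔ D : Subgroup G), α₁.1 g = Nat.card (P ⊔ D : Subgroup G) * a := by
  have := Fintype.ofFinite D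
  have := Fintype.ofFinite P
  have c9 := (h.syl3 hP).1
  have i := h.inf_bot hP c8
  have c72 : Nat.card (P ⊔ D : Subgroup G) = 72 := by
    have := Transfer.card_sup_mul_card_inf hD
    rwa [sup_comm, inf_comm, i, card_bot, mul_one, c8, c9] at this
  obtain ⟨a, ha⟩ := sum_int (P ⊔ D) α₁.2.isCharacter
  refine ⟨c72, a, ?_, ha⟩
  rw [sum_sup_eq hD i, c72] at ha
  have h1 := congrArg Complex.re ha
  have h2 : ∑ d : D, (18 - 36 * if d = ⟨z, zD⟩ then 1 else 0 : ℝ) ≤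
      ∑ d : D, (∑ u : P, α₁.1 (u * d)).re := Finset.sum_le_sum fun d _ => by
    by_cases d1 : (d : G) = 1
    · rw [Finset.sum_congr rfl (g := fun u : P => 1 + 9 * if u = 1 then 1 else 0) fun u _ => by
        by_cases u1 : u = 1
        · simp [u1, d1, val_one h.d1]; norm_num
        · obtain ⟨n, hn⟩ := pelt_of_mem hP.pg u.2
          simp [u1, d1, (h.three (coe_ne_one u1) hn).2.1], Finset.sum_add_distrib, ← Finset.mul_sum,
        Finset.sum_const, Finset.card_univ, ← Nat.card_eq_fintype_card, c9]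
      simp
      split_ifs <;> norm_num
    by_cases dz : d = ⟨z, zD⟩
    · rw [if_pos dz, Complex.re_sum]
      refine le_trans ?_ (Finset.sum_le_sum (f := fun _ => -2) fun u _ => ?_)
      · rw [Finset.sum_const, Finset.card_univ, ← Nat.card_eq_fintype_card, c9]; norm_num
      · obtain ⟨n, hn, n1, -⟩ := h.bd1 hz (g := (u : G) * d) fun e => d1 (mem_bot.1 (i ▸ mem_inf.2
          ⟨eq_inv_of_mul_eq_one_right e ▸ inv_mem u.2, d.2⟩))
        rw [hn]
        exact_mod_cast n1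
    · obtain ⟨v1, v2⟩ := v d d.2 d1
      rw [Finset.sum_congr rfl (g := fun _ => 2) fun u _ => (α₁.2.isClassFunction.eq_of_isConj
        (isConj_mul_of_fpf (hD d.2) (h.fpf hP (v2 fun e => dz (Subtype.ext e))) u.2)).symm.trans v1,
        Finset.sum_const, Finset.card_univ, ← Nat.card_eq_fintype_card, c9, if_neg dz]
      norm_num
  rw [← Complex.re_sum, h1, Finset.sum_sub_distrib, ← Finset.mul_sum, Finset.sum_const,
    Finset.card_univ, ← Nat.card_eq_fintype_card, c8] at h2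
  simp at h2
  have : (1 : ℝ) < a := by linarith
  exact_mod_cast this

theorem exists_index : ∃ (H : Subgroup G) (_ : Fintype H), H.index = 11 ∧
    classInner (fun g : H => α₁.1 g) (fun _ => 1) ≠ 0 := by
  obtain ⟨P, hP⟩ := exists_isSyl 3 (⊤ : Subgroup G)
  obtain ⟨S, hS⟩ := exists_isSyl 2 (No P)
  have cN := h.card_No3 hP
  have cS : Nat.card S = 16 := by
    rw [hS.card_eq, cN, fact_eq (k := 4) (m := 9) (by norm_num) (by norm_num)]; norm_num
  obtain ⟨z, zS, z2, Sz⟩ := Transfer.exists_central_invol hS.pg (by rintro rfl; simp at cS)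
  obtain ⟨k, k3, c⟩ := exists_ord_Ce1 (x := z) (q := 3) (by rw [h.c48 z2]; norm_num)
  obtain ⟨D, h1, kD, zD, c8, v⟩ := h.quat hz z2 k3 c.symm cS zS Sz
  have hP' : IsSyl 3 (cs k P) ⊤ := cs_top k ▸ hP.cs k
  have hD := h1.trans hS.le
  have hD' : D ≤ No (cs k P) := by rw [← cs_No, ← mem_No.1 kD]; exact cs_mono k hD
  have := Fintype.ofFinite D
  have := Fintype.ofFinite (P ⊔ D : Subgroup G)
  have := Fintype.ofFinite (cs k P ⊔ D : Subgroup G)
  have inst := Fintype.ofFinite (P ⊔ D ⊔ (cs k P ⊔ D) : Subgroup G)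
  obtain ⟨c72, a, a1, a2⟩ := h.dimA hz hP hD zD c8 v
  obtain ⟨-, b, b1, b2⟩ := h.dimA hz hP' hD' zD c8 v
  have key := sum_sup_ne_zero α₁.2.isCharacter le_sup_right le_sup_right a2 b2 (d := 3) (by
    rw [Finset.sum_congr rfl (g := fun d : D => 2 + 8 * if d = 1 then 1 else 0) fun d _ => by
      by_cases d1 : d = 1
      · simp [d1, val_one h.d1]; norm_num
      · simp [d1, (v d d.2 (coe_ne_one d1)).1], Finset.sum_add_distrib, ← Finset.mul_sum,
      Finset.sum_const, Finset.card_univ, ← Nat.card_eq_fintype_card, c8]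
    simp; norm_num) (by omega)
  refine ⟨_, inst, ?_, key⟩
  have i1 := le_index (p := 11) (by rw [h.card]; norm_num)
    (ne_top_of_inner (ne_one_of_dg (by rw [h.d1]; norm_num)) key)
  clear key inst
  set H := P ⊔ D ⊔ (cs k P ⊔ D)
  have i2 := H.card_mul_index
  have i3 := (hP.of_le (le_sup_left.trans le_sup_left : P ≤ H) le_top).relIndex_No
  have i4 := Transfer.card_inf_mul_relIndex (No P) H
  obtain ⟨j, hj⟩ : 72 ∣ Nat.card (No P ⊓ H : Subgroup G) :=
    c72 ▸ card_dvd_of_le (le_inf (sup_le (le_No P) hD) le_sup_left)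
  have i5 : (No P).relIndex H ≠ 1 := fun e => by
    have e1 : cs k P ≤ No P := (le_sup_left.trans le_sup_right).trans (relIndex_eq_one.1 e)
    have e2 : k ∈ No P := mem_No.2 (hP'.max _ le_top (isPGroup_sup hP'.pg hP.pg e1) le_sup_left ▸
      (hP.max _ le_top (isPGroup_sup hP'.pg hP.pg e1) le_sup_right))
    have e3 : k ∈ P := hP.max _ le_top (isPGroup_sup (isPGroup_zpowers ⟨1, k3⟩) hP.pg
      (zpowers_le.2 e2)) le_sup_right ▸ mem_sup_left (mem_zpowers k)
    obtain ⟨d, hd, d1⟩ : ∃ d ∈ D, d ∉ ({1, z} : Finset G) := by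
      by_contra! n
      have := Set.ncard_le_ncard (s := (D : Set G)) (t := ({1, z} : Finset G)) n
      rw [Set.ncard_coe_finset] at this
      have := this.trans Finset.card_le_two
      change Nat.card D ≤ 2 at this
      omega
    simp only [Finset.mem_insert, Finset.mem_singleton, not_or] at d1
    have e4 : k * d * k⁻¹ * d⁻¹ ∈ P ⊓ D := mem_inf.2 ⟨by
      have := mul_mem e3 ((mem_No.1 (hD hd)).le (conj_mem_cs.2 (inv_mem e3)))
      rwa [← mul_assoc, ← mul_assoc] at this,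
      mul_mem ((mem_No.1 kD).le (conj_mem_cs.2 hd)) (inv_mem hd)⟩
    rw [h.inf_bot hP c8, mem_bot, mul_inv_eq_one, mul_inv_eq_iff_eq_mul] at e4
    have := h.fpf hP ((v d hd d1.1).2 d1.2) k e3 e4.symm
    simp [this] at k3
  rw [← i4, hj, h.card] at i2
  unfold Nat.ModEq at i3
  generalize (No P).relIndex H = r at *
  generalize H.index = n at *
  have e1 : j * r * n = 110 := by linarith
  have e2 : j * r ≤ 10 := by nlinarith
  have e3 : 0 < j := Nat.pos_of_ne_zero (by rintro rfl; simp at e1)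
  have e4 : r ≤ 10 := by nlinarith
  have e5 : j ≤ 10 := by
    rcases r with _ | r
    · omega
    · nlinarith
  interval_cases r <;> interval_cases j <;> omega

end T11

theorem exists_shT (hG : Nat.card G = 7920) : ∃ H : Subgroup G, Nat.card (G ⧸ H) = 11 ∧
    Transfer.ShT G (G ⧸ H) 4 := by
  obtain ⟨α₁, α₂, α₃, β, θ, θ', γ, ρ, σ, h, hz⟩ := exists_T11' hG
  obtain ⟨H, _, h1, h2⟩ := h.exists_index hz
  have e : Nat.card (G ⧸ H) = 11 := h1
  refine ⟨H, e, shT_of_fix (by omega) (by rw [hG, e]; rfl) fun g hg => ?_⟩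
  obtain ⟨n, hn, -, n2⟩ := h.bd1 hz hg
  have := fix_eq (ne_one_of_dg (by rw [h.d1]; norm_num)) (by rw [h1, h.d1]) h2 g
  rw [hn] at this
  have : (Nat.card (MulAction.fixedBy (G ⧸ H) g) : ℤ) = 1 + n := by exact_mod_cast this
  omega

end Cfsg.Agent.Blk.M11
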