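import Cfsg.Agent.Lib.Steiner.S11

/-! Uniqueness of the sharply 4-transitive group of degree 11 and of the sharply 5-transitive
group of degree 12. -/

set_option autoImplicit false

namespace Cfsg.Agent.Blk.Shp

open Subgroup MulAction Equiv Equiv.Perm Transfer
open scoped Pointwise

variable {G α : Type*} [Group G] [Finite G] [MulAction G α] [Fintype α] [DecidableEq α] {k : ℕ}
  {T : Finset α} {e q : α} {g : G}

variable (G) in
/-- `e` is a point outside `T` fixed by the set stabilizer of `T` -/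
def Pt (T : Finset α) (e : α) : Prop := e ∉ T ∧ ∀ g : G, (∀ a ∈ T, g • a ∈ T) → g • e = e

variable (h : ShT G α k) (hT : T.card = k)
include h hT

omit [Finite G] [Fintype α] [DecidableEq α] in
theorem uq (h1 : ∀ a ∈ T, g • a = a) : g = 1 :=
  Perm.sharp_iff.1 h.sharp (fun i => (T.equivFinOfCardEq hT).symm i)
    (Subtype.val_injective.comp (Equiv.injective _)) g fun _ => h1 _ (Subtype.prop _)

omit [Finite G] [Fintype α] [DecidableEq α] in
theorem exists_hom : ∃ φ : Perm T →* G, ∀ f (a : T), φ f • (a : α) = f a := by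
  have : ∀ f : Perm T, ∃ g : G, ∀ a : T, g • (a : α) = f a := fun f => by
    obtain ⟨g, hg⟩ := Perm.multTrans_iff.1 h.trans (fun i => ((T.equivFinOfCardEq hT).symm i : α))
      (fun i => (f ((T.equivFinOfCardEq hT).symm i) : α))
      (Subtype.val_injective.comp (Equiv.injective _))
      (Subtype.val_injective.comp (f.injective.comp (Equiv.injective _)))
    exact ⟨g, fun a => by simpa using hg (T.equivFinOfCardEq hT a)⟩
  choose φ hφ using this
  refine ⟨MonoidHom.mk' φ fun f f' => (inv_mul_eq_one.1 (uq h hT fun a ha => ?_)), hφ⟩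
  rw [mul_smul, inv_smul_eq_iff, mul_smul, hφ f' ⟨a, ha⟩, hφ, hφ _ ⟨a, ha⟩, Perm.mul_apply]

variable (hα : Nat.card α + 2 ≡ k [MOD 3])
include hα

theorem ext3 {f : Perm T} (hf : f.IsThreeCycle) (hg : ∀ a : T, g • (a : α) = f a) :
    ∃ e, ∀ x, (x ∉ T ∧ g • x = x) ↔ x = e := by
  have h1 : ∀ (n : ℕ) (a : T), g ^ n • (a : α) = (f ^ n) a := fun n => by
    induction n with
    | zero => simp
    | succ n ih => intro a; rw [pow_succ', mul_smul, ih, hg, pow_succ', Perm.mul_apply]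
  have h2 : g ^ 3 = 1 := uq h hT fun a ha => by
    rw [h1 3 ⟨a, ha⟩, ← hf.orderOf, pow_orderOf_eq_one]; rfl
  have h3 : g ≠ 1 := fun e => hf.ne_one (Equiv.ext fun a => Subtype.ext (by rw [← hg, e]; simp))
  have h4 := h.fix_lt h3
  have h5 := card_fixedPoints_modEq (f := (fun x : α => g • x)) (p := 3) (n := 1) (funext fun x => by
    have := congrArg (· • x) h2
    simp only [pow_succ, mul_smul, pow_zero, one_smul] at this
    exact this)
  have h6 : Nat.card {x // g • x = x ∧ x ∈ T} + 3 = k := by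
    rw [← hf.card_support, ← hT, ← Fintype.card_coe T, ← Finset.card_compl_add_card f.support]
    congr 1
    rw [← Nat.card_eq_finsetCard]
    exact (cnt_eq_of_bij (fun a : T => (a : α)) (fun a ha => ⟨by
      rw [hg]; simpa using ha, a.2⟩) (fun _ _ _ _ e => Subtype.ext e) fun x hx =>
        ⟨⟨x, hx.2⟩, by simpa [Subtype.ext_iff, ← hg] using hx.1, rfl⟩).symm
  have h7 := cnt_split (fun x => g • x = x) (· ∈ T)
  rw [← Nat.card_eq_fintype_card, ← Nat.card_eq_fintype_card] at h5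
  change _ ≡ Nat.card {x // g • x = x} [MOD 3] at h5
  change Nat.card {x // g • x = x} < k at h4
  unfold Nat.ModEq at h5 hα
  obtain ⟨⟨e, he⟩, h8⟩ := Nat.card_eq_one_iff_exists.1
    (show Nat.card {x // g • x = x ∧ x ∉ T} = 1 by omega)
  exact ⟨e, fun x => ⟨fun hx => congrArg Subtype.val (h8 ⟨x, hx.symm⟩), fun hx => hx ▸ he.symm⟩⟩

omit h hα [Fintype α] in
theorem exists_cyc (hk : 4 ≤ k) (hq : q ∈ T) : ∃ f : Perm T, f.IsThreeCycle ∧ f ⟨q, hq⟩ = ⟨q, hq⟩ := by
  obtain ⟨a, ha, b, hb, c, hc, h1, h2, h3⟩ := Finset.two_lt_card.1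
    (show 2 < (Finset.univ.erase (⟨q, hq⟩ : T)).card by simp; omega)
  refine ⟨_, isThreeCycle_swap_mul_swap_same h1 h2 h3, ?_⟩
  rw [Perm.mul_apply, swap_apply_of_ne_of_ne (Finset.ne_of_mem_erase ha).symm
    (Finset.ne_of_mem_erase hc).symm, swap_apply_of_ne_of_ne (Finset.ne_of_mem_erase ha).symm
    (Finset.ne_of_mem_erase hb).symm]

theorem exists_Pt (hk : 4 ≤ k) : ∃ e, Pt G T e := by
  obtain ⟨φ, hφ⟩ := exists_hom h hT
  obtain ⟨a, -, b, -, c, -, ab, ac, bc⟩ := Finset.two_lt_card.1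
    (show 2 < (Finset.univ : Finset T).card by simp; omega)
  have out : ∀ f x, x ∉ T → φ f • x ∉ T := fun f x hx k => hx (by
    have := hφ f⁻¹ ⟨_, k⟩
    rw [map_inv, inv_smul_smul] at this
    exact this ▸ Subtype.prop _)
  have key : ∀ c, a ≠ c → b ≠ c → ∃ e, e ∉ T ∧ φ (swap a b) • e = e ∧ φ (swap a c) • e = e :=
    fun c ac bc => by
    obtain ⟨e, he⟩ := ext3 h hT hα (isThreeCycle_swap_mul_swap_same ac ab bc.symm) (hφ _)
    obtain ⟨e1, e2⟩ := (he e).2 rfl
    rw [map_mul, mul_smul] at e2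
    have i : ∀ u v : T, ∀ x : α, φ (swap u v) • φ (swap u v) • x = x := fun u v x => by
      rw [← mul_smul, ← map_mul, swap_mul_self, map_one, one_smul]
    have e3 : φ (swap a c) • e = φ (swap a b) • e := by rw [← i a c (φ (swap a b) • e), e2]
    have e4 := (he _).1 ⟨out (swap a b) e e1, by rw [map_mul, mul_smul, i, e3]⟩
    exact ⟨e, e1, e4, e3.trans e4⟩
  obtain ⟨e, e1, e2, -⟩ := key c ac bc
  have u : ∀ x, x ∉ T → φ (swap a b) • x = x → x = e := fun x hx k => by_contra fun n => by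
    have m : (b : α) ∈ T.erase a := Finset.mem_erase.2 ⟨fun e => ab (Subtype.ext e).symm, b.2⟩
    have := uq (g := φ (swap a b)) (T := insert x (insert e ((T.erase a).erase b))) h (by
      rw [Finset.card_insert_of_notMem (by simp [n, hx]), Finset.card_insert_of_notMem (by simp [e1]),
        Finset.card_erase_of_mem m, Finset.card_erase_of_mem a.2]; omega) fun y hy => by
        simp only [Finset.mem_insert, Finset.mem_erase] at hy
        rcases hy with rfl | rfl | ⟨y1, y2, y3⟩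
        exacts [k, e2, by
          rw [hφ _ ⟨y, y3⟩, swap_apply_of_ne_of_ne (fun e => y2 (congrArg Subtype.val e))
            fun e => y1 (congrArg Subtype.val e)]]
    have h1 := hφ (swap a b) a
    rw [this, one_smul, swap_apply_left] at h1
    exact ab (Subtype.ext h1)
  have s1 : ∀ c, swap a c ∈ (stabilizer G e).comap φ := fun c => by
    by_cases k1 : a = c
    · rw [k1, swap_self]; exact one_mem _
    by_cases k2 : b = c
    · exact k2 ▸ e2
    obtain ⟨x, x1, x2, x3⟩ := key c k1 k2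
    exact u x x1 x2 ▸ x3
  have s2 : ∀ f, f ∈ (stabilizer G e).comap φ := fun f => by
    induction f using swap_induction_on with
    | one => exact one_mem _
    | swap_mul f u v uv ih =>
      refine mul_mem ?_ ih
      by_cases k1 : a = v
      · rw [← k1, swap_comm]; exact s1 u
      · rw [← swap_mul_swap_mul_swap (x := v) (y := a) (z := u) (Ne.symm k1) uv.symm,
          swap_comm v a]
        exact mul_mem (mul_mem (s1 u) (s1 v)) (s1 u)
  refine ⟨e, e1, fun g hg => ?_⟩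
  let f : Perm T := Equiv.ofBijective (fun a => ⟨g • (a : α), hg a a.2⟩)
    (Finite.injective_iff_bijective.1 fun x y e =>
      Subtype.ext (MulAction.injective g (congrArg Subtype.val e)))
  rw [← inv_mul_eq_one.1 (uq (g := (φ f)⁻¹ * g) h hT fun a ha => by
    rw [mul_smul, inv_smul_eq_iff, hφ f ⟨a, ha⟩]; rfl)]
  exact s2 f

theorem Pt.fix (hk : 4 ≤ k) (he : Pt G T e) (hq : q ∈ T) : ∃ g : G, (∀ a ∈ T, g • a ∈ T) ∧
    g • q = q ∧ ∀ x, x ∉ T → g • x = x → x = e := by
  obtain ⟨φ, hφ⟩ := exists_hom h hT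
  obtain ⟨f, h1, h2⟩ := exists_cyc hT hk hq
  obtain ⟨x, hx⟩ := ext3 h hT hα h1 (hφ f)
  have h3 : ∀ a ∈ T, φ f • a ∈ T := fun a ha => hφ f ⟨a, ha⟩ ▸ Subtype.prop _
  exact ⟨φ f, h3, by rw [hφ f ⟨q, hq⟩, h2], fun y y1 y2 =>
    ((hx y).1 ⟨y1, y2⟩).trans ((hx e).1 ⟨he.1, he.2 _ h3⟩).symm⟩

theorem Pt.unique (hk : 4 ≤ k) (he : Pt G T e) (hq : Pt G T q) : q = e := by
  obtain ⟨a, ha⟩ := Finset.card_pos.1 (show 0 < T.card by omega)
  obtain ⟨g, h1, -, h2⟩ := he.fix h hT hα hk ha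
  exact h2 q hq.1 (hq.2 g h1)

theorem Pt.symm (hk : 4 ≤ k) (he : Pt G T e) (hq : q ∈ T) : Pt G (insert e (T.erase q)) q := by
  obtain ⟨g, h1, h2, h3⟩ := he.fix h hT hα hk hq
  obtain ⟨x, hx⟩ := exists_Pt (T := insert e (T.erase q)) h (by
    rw [Finset.card_insert_of_notMem (by simp [he.1]), Finset.card_erase_of_mem hq]; omega) hα hk
  have h4 := hx.2 g fun a ha => by
    simp only [Finset.mem_insert, Finset.mem_erase] at ha ⊢
    rcases ha with rfl | ⟨a1, a2⟩
    · exact .inl (he.2 g h1)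
    · exact .inr ⟨fun k => a1 (MulAction.injective g (k.trans h2.symm)), h1 a a2⟩
  have h5 := hx.1
  simp only [Finset.mem_insert, Finset.mem_erase, not_or, not_and] at h5
  obtain rfl : x = q := by_contra fun n => h5.1 (h3 x (h5.2 n) h4)
  exact hx

omit hT in
theorem exists_steiner (hk : 4 ≤ k) : ∃ B : Set (Finset α), IsSteinerSystem k (k + 1) B ∧
    ∀ g : G, ∀ b ∈ B, (toPerm g : Perm α) • b ∈ B := by
  refine ⟨{b | ∃ T e, T.card = k ∧ Pt G T e ∧ b = insert e T}, ⟨?_, fun s hs => ?_⟩, ?_⟩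
  · rintro _ ⟨T, e, h1, h2, rfl⟩
    rw [Finset.card_insert_of_notMem h2.1, h1]
  · obtain ⟨e, he⟩ := exists_Pt h hs hα hk
    refine ⟨insert e s, ⟨⟨s, e, hs, he, rfl⟩, Finset.subset_insert _ _⟩, ?_⟩
    rintro _ ⟨⟨T, x, h1, h2, rfl⟩, h3⟩
    obtain ⟨q, q1, q2⟩ := Finset.exists_eq_insert_iff.2
      ⟨h3, by rw [Finset.card_insert_of_notMem h2.1, h1, hs]⟩
    have h4 : s = (insert x T).erase q := by rw [← q2, Finset.erase_insert q1]
    rw [← q2, he.unique h hs hα hk (q := q)]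
    by_cases k : q = x
    · rwa [h4, k, Finset.erase_insert h2.1]
    · rw [h4, Finset.erase_insert_of_ne (Ne.symm k)]
      exact h2.symm h h1 hα hk
        ((Finset.mem_insert.1 (q2 ▸ Finset.mem_insert_self q s)).resolve_left k)
  · rintro g _ ⟨T, e, h1, h2, rfl⟩
    refine ⟨(toPerm g : Perm α) • T, g • e, by rw [Finset.card_smul_finset, h1], ⟨fun k => h2.1
      ((Finset.smul_mem_smul_finset_iff (toPerm g : Perm α)).1 k), fun c hc => ?_⟩, Finset.smul_finset_insert _ _ _⟩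
    have := h2.2 (g⁻¹ * c * g) fun a ha => by
      obtain ⟨b, hb, e⟩ := Finset.mem_smul_finset.1 (hc _ (Finset.smul_mem_smul_finset (a := (toPerm g : Perm α)) ha))
      rwa [mul_smul, mul_smul, show c • g • a = g • b from e.symm, inv_smul_smul]
    rwa [mul_smul, mul_smul, inv_smul_eq_iff] at this

omit hT hα in
theorem equiv_aut {β : Type*} [Fintype β] [DecidableEq β] {B : Set (Finset α)} {B' : Set (Finset β)}
    (h1 : ∀ g : G, ∀ b ∈ B, (toPerm g : Perm α) • b ∈ B) (e : α ≃ β) (h2 : ∀ b, b ∈ B ↔ b.image e ∈ B')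
    (h3 : ShT (setSystemAut B') β k) : Nonempty (G ≃* setSystemAut B') := by
  refine ⟨MulEquiv.ofBijective ((e.permCongrHom.toMonoidHom.comp (toPermHom G α)).codRestrict _
    fun g => Steiner.mem_aut_of fun b hb => ?_) ((Nat.bijective_iff_injective_and_card _).2
      ⟨fun a b k => ?_, by rw [h.card, h3.card, Nat.card_congr e]⟩)⟩
  · have := (h2 _).1 (h1 g (b.image e.symm) ((h2 _).2 (by simpa [Finset.image_image] using hb)))
    convert this using 1
    simp only [← Finset.image_smul, Finset.image_image]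
    rfl
  · have k1 : toPerm a = (toPerm b : Perm α) := e.permCongrHom.injective (congrArg Subtype.val k)
    exact (inv_mul_eq_one.1 (by_contra fun n => (h.fix_lt n).not_ge (h.le.trans (le_of_eq (by
      rw [show fixedBy α (b⁻¹ * a) = Set.univ from Set.eq_univ_of_forall fun x => by
        rw [mem_fixedBy, mul_smul, inv_smul_eq_iff]; exact congrArg (· x) k1, Nat.card_univ]))))).symm

omit hT hα h

variable {G' β : Type*} [Group G'] [Finite G'] [MulAction G' β] [Fintype β] [DecidableEq β]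

theorem unique11 (h : ShT G α 4) (h' : ShT G' β 4) (hα : Nat.card α = 11) (hβ : Nat.card β = 11) :
    Nonempty (G ≃* G') := by
  obtain ⟨B, h1, h2⟩ := exists_steiner h (by rw [hα]; rfl) le_rfl
  obtain ⟨B', h3, h4⟩ := exists_steiner h' (by rw [hβ]; rfl) le_rfl
  rw [Nat.card_eq_fintype_card] at hα hβ
  obtain ⟨x⟩ := Function.Embedding.nonempty_of_card_le (α := Fin 4) (β := α) (by simp [hα])
  obtain ⟨y⟩ := Function.Embedding.nonempty_of_card_le (α := Fin 4) (β := β) (by simp [hβ])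
  obtain ⟨e, -, he⟩ := Steiner.iso11 hα hβ h1 h3 x y
  obtain ⟨a⟩ := equiv_aut h h2 e he (Steiner.sht11 hβ h3)
  obtain ⟨b⟩ := equiv_aut h' h4 (Equiv.refl β) (by simp) (Steiner.sht11 hβ h3)
  exact ⟨a.trans b.symm⟩

theorem unique12 (h : ShT G α 5) (h' : ShT G' β 5) (hα : Nat.card α = 12) (hβ : Nat.card β = 12) :
    Nonempty (G ≃* G') := by
  obtain ⟨B, h1, h2⟩ := exists_steiner h (by rw [hα]; rfl) (by norm_num)
  obtain ⟨B', h3, h4⟩ := exists_steiner h' (by rw [hβ]; rfl) (by norm_num)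
  rw [Nat.card_eq_fintype_card] at hα hβ
  obtain ⟨x⟩ := Function.Embedding.nonempty_of_card_le (α := Fin 5) (β := α) (by simp [hα])
  obtain ⟨y⟩ := Function.Embedding.nonempty_of_card_le (α := Fin 5) (β := β) (by simp [hβ])
  obtain ⟨e, -, he⟩ := Steiner.iso12 hα hβ h1 h3 x y
  obtain ⟨a⟩ := equiv_aut h h2 e he (Steiner.sht12 hβ h3)
  obtain ⟨b⟩ := equiv_aut h' h4 (Equiv.refl β) (by simp) (Steiner.sht12 hβ h3)
  exact ⟨a.trans b.symm⟩

end Cfsg.Agent.Blk.Shp
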