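import Cfsg.Agent.Lib.Block.M11e
import Cfsg.Agent.Lib.Block.Ord5

/-! There is at most one simple group of order 7920. -/

set_option autoImplicit false

namespace Cfsg.Agent.Blk.M11

theorem unique {G G' : Type*} [Group G] [Finite G] [Group G'] [Finite G'] (h : IsM11 G)
    (h' : IsM11 G') : Nonempty (G ≃* G') := by
  classical
  have := h.1
  have := h'.1
  obtain ⟨H, h1, h2⟩ := exists_shT h.2
  obtain ⟨H', h3, h4⟩ := exists_shT h'.2
  have := Fintype.ofFinite (G ⧸ H)
  have := Fintype.ofFinite (G' ⧸ H')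
  exact Shp.unique11 h2 h4 h1 h3

end Cfsg.Agent.Blk.M11
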