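import Cfsg.Agent.Lib.Block.Rec1
import Cfsg.Agent.Lib.Block.M11f

/-! Criteria for a group of order 7920 to be simple. -/

set_option autoImplicit false

namespace Cfsg.Agent.Blk.M11

open MonoidAlgebra Subgroup
open Cfsg.Agent.Char hiding cj cj_mul cj_inv_cj cj_cj_inv sum_cj_eq

variable {G : Type*} [Group G] [Finite G] {x y : G}

theorem No11 (hG : Nat.card G = 7920) (hx : SC 11 x) : Nat.card (No (zpowers x)) = 55 := by
  have h : S1 11 x := ⟨hx.prime, hx.ord, by rw [hG]; norm_num⟩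
  obtain ⟨e, h1, h2⟩ := h.No_eq
  have h3 := h.index_modEq
  have h4 := (No (zpowers x)).card_mul_index
  rw [hx.cen, hx.card] at h2
  rw [hG, h2] at h4
  have := Nat.le_of_dvd (by norm_num) h1
  unfold Nat.ModEq at h3
  interval_cases e <;> omega

theorem simple_of (hG : Nat.card G = 7920) (hx : SC 11 x)
    (h5 : ∀ a : G, orderOf a = 5 → ¬ 3 ∣ Nat.card (Ce1 a)) : IsSimpleGroup G := by
  have h : S1 11 x := ⟨hx.prime, hx.ord, by rw [hG]; norm_num⟩
  have : Nontrivial G := ⟨x, 1, hx.ne_one⟩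
  refine ⟨fun N hN => ?_⟩
  have h1 := N.card_mul_index
  rw [hG] at h1
  by_cases k : 11 ∣ Nat.card N
  · have h2 := h.frat k
    rw [No11 hG hx] at h2
    have h3 : N.index ∣ 5 := Nat.dvd_of_mul_dvd_mul_right (by norm_num : 0 < 11) h2
    rcases (Nat.dvd_prime Nat.prime_five).1 h3 with h3 | h3
    · exact Or.inr (index_eq_one.1 h3)
    have h4 : Nat.card N = 1584 := by rw [h3] at h1; omega
    have := lemL (N := N) Nat.prime_five Nat.prime_three (by rw [hG]; norm_num)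
      (by rw [h4]; norm_num) h5
    rw [fact_eq (k := 2) (m := 176) h4 (by norm_num)] at this
    exact absurd this (by decide)
  have h2 := hx.modEq k
  have h3 := lemL (N := N) hx.prime Nat.prime_three (by rw [hG]; norm_num) k fun a ha => by
    rw [hx.card_Ce1 ha.symm.dvd]; norm_num
  have h4 : ∀ n ∈ Nat.divisors 7920, n % 11 = 1 % 11 → n = 1 ∨ n = 3 ^ 1 * 4 ∨ n = 3 ^ 2 * 5 ∨
    n = 3 ^ 2 * 16 := by decide +kernel
  rcases h4 _ (Nat.mem_divisors.2 ⟨⟨_, h1.symm⟩, by norm_num⟩) h2 with h4 | h4 | h4 | h4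
  · exact Or.inl (card_eq_one.1 h4)
  all_goals
    rw [fact_eq h4 (by norm_num)] at h3
    exact absurd h3 (by decide)

theorem sc5 [IsSimpleGroup G] (hG : Nat.card G = 7920) : ∃ y : G, SC 5 y := by
  obtain ⟨α₁, α₂, α₃, β, θ, θ', γ, ρ, σ, h⟩ := exists_T11 hG
  obtain ⟨y, hy⟩ := exists_prime_orderOf_dvd_card' (G := G) 5 (by rw [hG]; norm_num)
  obtain ⟨-, -, -, -, k, -⟩ := exists_B5 hG h.toB11 hy
  exact ⟨y, Nat.prime_five, hy, k⟩

end Cfsg.Agent.Blk.M11
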