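import Mathlib

/-! Arithmetic for simple groups of order 95040. -/

set_option autoImplicit false
set_option synthInstance.maxSize 4096
set_option synthInstance.maxHeartbeats 200000

namespace Cfsg.Agent.Blk.M12

theorem ar0 : (∀ d < 309, 95040 % d = 0 → d % 11 = 1 ∨ d % 11 = 10 → d ≠ 1 →
    d ∈ [10, 12, 32, 45, 54, 120, 144]) ∧ (∀ d ∈ [13, 31, 46, 53, 119, 145], 95040 % d ≠ 0) ∧
    ∀ e ∈ Nat.divisors 10, ∀ c ∈ Nat.divisors 8640, e * c ∣ 8640 → e ≠ 1 → e ≠ 2 → c ≠ 1 →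
      e * c % 11 = 8640 % 11 → (e = 5 ∨ e = 10) ∧ 2 ∣ 11 * c ∧ 3 ∣ 11 * c := by decide +kernel

theorem ar1 : ∀ i < 10, ∀ j < 10 - i, ∀ k < 10 - i - j, ∀ l < 10 - i - j - k,
    i + j + k + l = 4 ∨ i + j + k + l = 9 → ∀ d,
    d = (1 + ((i : ℕ) * -32 + (j : ℕ) * 45 + (k : ℕ) * -120 + (l : ℕ) * 144) : ℤ).natAbs →
    22 < d → 95040 % d = 0 → 1 + (i * 1024 + j * 2025 + k * 14400 + l * 20736) + d ^ 2 ≤ 95040 →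
    0 < i ∧ 0 < j ∧ 2 ≤ i + k + l := by
  simp only [forall_eq]
  decide +kernel

theorem ar2 : ∀ a ∈ [10, 12, 32, 45, 54, 120, 144], ∀ b ∈ [10, 12, 32, 45, 54, 120, 144], a ≤ b →
    ∀ c ∈ [10, 12, 32, 45, 54, 120, 144], b ≤ c → ∀ d ∈ [10, 12, 32, 45, 54, 120, 144], c ≤ d →
    ∀ δ ∈ [1, -1], ∀ s, s = 1 + ([a, b, c, d].map fun n : ℕ =>
      (if n % 11 = 1 then 1 else -1 : ℤ) * n).sum → ∀ e, e = s.natAbs → δ * e = s → 95040 % e = 0 → e ≠ 1 → e ≠ 5 →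
      1 + ([a, b, c, d].map (· ^ 2)).sum + 2 * e ^ 2 ≤ 95040 → 27 ∣ ([a, b, c, d].map fun n : ℕ =>
      (if n % 11 = 1 then 1 else -1 : ℤ) * if 9 ∣ n then n else 0).sum - δ * (if 9 ∣ e then e else 0) →
      δ = 1 ∧ ([a, b, c, d, e] = [10, 12, 12, 12, 27] ∨ [a, b, c, d, e] = [10, 45, 120, 144, 60] ∨
      [a, b, c, d, e] = [45, 45, 45, 120, 16] ∨ [a, b, c, d, e] = [45, 54, 120, 144, 16]) := by
  simp only [forall_eq]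
  decide +kernel

theorem ar3 : ∀ c ∈ Nat.divisors 135, ∀ a ∈ Finset.Icc (-44 : ℤ) 44, 4 ∣ a - 45 → 45 ∣ (95040 / (64 * c) : ℕ) * a →
    ∀ b ∈ Finset.Icc (-44 : ℤ) 44, 4 ∣ b - 45 → 45 ∣ (95040 / (64 * c) : ℕ) * b →
    ∀ d ∈ Finset.Icc (-44 : ℤ) 44, 4 ∣ d - 45 → 45 ∣ (95040 / (64 * c) : ℕ) * d →
    720 + 16 * (a ^ 2 + b ^ 2 + d ^ 2) = 6 * (1 + a + b + d) ^ 2 →
    64 * c < a ^ 2 + b ^ 2 + d ^ 2 + (1 + a + b + d) ^ 2 := by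
  decide +kernel

theorem ar4 : ∀ e ∈ Nat.divisors 4, ∀ c ∈ Nat.divisors 19008, e * c ∣ 19008 → e ≠ 1 → ¬ 11 ∣ 5 * c →
    e * c % 5 = 19008 % 5 → e = 2 ∧ c ∈ [4, 9, 24, 54, 144, 864] ∨ e = 4 ∧ c ∈ [2, 12, 27, 72, 432] := by
  decide +kernel

end Cfsg.Agent.Blk.M12

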