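import Cfsg.Agent.Lib.Block.Ord6
import Cfsg.Agent.Lib.Block.M11g
import Cfsg.Agent.Lib.Block.M12r

/-! Simple groups of order 95040: the principal 11-block. -/

set_option autoImplicit false

namespace Cfsg.Agent.Blk

open MonoidAlgebra Subgroup
open Cfsg.Agent.Char hiding cj cj_mul cj_inv_cj cj_cj_inv sum_cj_eq
open scoped ComplexConjugate

attribute [local instance] _root_.Classical.propDecidable

variable {G : Type*} [Group G] [Finite G] {p : ℕ} {x y g t : G} {χ ψ : IrrCharacter G}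
  {N X : Finset (IrrCharacter G)} {δ : ℤ} {a : IrrCharacter G → ℤ}
  {α β γ ε θ θ' : IrrCharacter G}

theorem sq_le_sq'' {c n : ℤ} (h : 0 ≤ c ∧ (c ≤ n ∨ n ≤ -c)) : c ^ 2 ≤ n ^ 2 := by
  rcases h with ⟨h, k | k⟩ <;> nlinarith

theorem col_int (s : Finset (IrrCharacter G)) {v : IrrCharacter G → ℤ} (h : ∀ χ ∈ s, χ.1 g = v χ) :
    ∑ χ ∈ s, v χ ^ 2 ≤ Nat.card (Ce1 g) := by
  have := col_sub s g
  rw [Finset.sum_congr rfl fun χ k => norm_sq_int (h χ k)] at this
  exact_mod_cast this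

theorem exists_sorted' (h : irrOne G ∈ N) : ∃ l : List (IrrCharacter G), l.length + 1 = N.card ∧
    l.Pairwise (fun a b => dg a ≤ dg b) ∧ (∀ χ, χ ∈ l ↔ χ ∈ N ∧ χ ≠ irrOne G) ∧
      ∀ {M : Type} [AddCommMonoid M] (g : IrrCharacter G → M),
        ∑ χ ∈ N, g χ = g (irrOne G) + (l.map g).sum := by
  obtain ⟨l, h1, h2, h3, h4⟩ := exists_sorted (N.erase (irrOne G)) dg
  exact ⟨l, by rw [h1, Finset.card_erase_add_one h], h2, fun χ => by rw [← h3]; simp [and_comm],
    fun g => by rw [← h4, Finset.add_sum_erase _ _ h]⟩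

theorem PB.card_ne_one [Fact p.Prime] (hc : _root_.commutator G = ⊤) (h : PB p x N X δ a) :
    N.card ≠ 1 := fun k => by
  obtain ⟨ψ, hψ⟩ := h.X_ne
  obtain ⟨χ, rfl⟩ := Finset.card_eq_one.1 k
  have := h.rel_one hψ
  rw [Finset.sum_singleton, ← Finset.mem_singleton.1 h.one, h.a_one, dg_one] at this
  exact h.ne_one hψ (dg_eq_one hc (by rcases h.sd with rfl | rfl <;> omega))

theorem mem_No_zp {n : ℕ} (h : g * x * g⁻¹ = x ^ n) : g ∈ No (zpowers x) :=
  mem_No.2 (eq_of_le_of_card_ge (by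
    rintro _ ⟨_, ⟨k, rfl⟩, rfl⟩
    exact ⟨n * k, by simp [← conj_zpow, h, zpow_mul]⟩) (by rw [card_cs]))

theorem not_real (h : Odd (Nat.card (No (zpowers x)))) (h1 : x ≠ x⁻¹) : ¬ IsConj x x⁻¹ := fun k => by
  obtain ⟨g, hg⟩ := isConj_iff.1 k
  obtain ⟨m, hm⟩ := h
  have e : g ^ (2 * m + 1) = 1 := hm ▸ congrArg Subtype.val (pow_card_eq_one' (x := (⟨g, mem_No_zp
    (n := orderOf x - 1) (hg.trans (inv_eq_of_mul_eq_one_left (by
      rw [pow_sub_one_mul (orderOf_pos x).ne', pow_orderOf_eq_one])))⟩ : No (zpowers x))))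
  have c : Commute (g ^ 2) x := by
    show _ = _
    calc g ^ 2 * x = g * (g * x * g⁻¹) * g⁻¹ * g ^ 2 := by simp [sq, mul_assoc]
      _ = (g * x * g⁻¹)⁻¹ * g ^ 2 := by conv_lhs => rw [hg]
                                        simp [mul_assoc]
      _ = _ := by rw [hg, inv_inv]
  rw [pow_succ, pow_mul, ← eq_inv_iff_mul_eq_one] at e
  have c' := (e ▸ c.pow_left m).inv_left
  rw [inv_inv] at c'
  exact h1 (by rw [← hg, c'.eq, mul_inv_cancel_right])

namespace M12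
variable [IsSimpleGroup G] (hG : Nat.card G = 95040)
include hG

theorem perf : _root_.commutator G = ⊤ := perfect_of (by rw [hG]; norm_num)

omit [IsSimpleGroup G] in
theorem dg_bd (χ : IrrCharacter G) : dg χ < 309 ∧ 95040 % dg χ = 0 := by
  refine ⟨?_, Nat.mod_eq_zero_of_dvd (hG ▸ deg_dvd_card χ)⟩
  have := sum_sq_sub {χ}
  rw [Finset.sum_singleton, hG] at this
  nlinarith

omit [IsSimpleGroup G] in
theorem index_eq (g : G) : (Ce1 g).index = 95040 / Nat.card (Ce1 g) := by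
  rw [← hG, ← (Ce1 g).card_mul_index, Nat.mul_div_cancel_left _ Nat.card_pos]

theorem nexc (h : PB 11 x N X δ a) (hχ : χ ∈ N) (h1 : χ ≠ irrOne G) :
    dg χ ∈ [10, 12, 32, 45, 54, 120, 144] ∧ a χ = if dg χ % 11 = 1 then 1 else -1 := by
  have h2 := h.cong χ hχ
  have h3 := ar0.1 _ (dg_bd hG χ).1 (dg_bd hG χ).2
  have h4 := mt (dg_eq_one (perf hG)) h1
  rcases h.sgn χ hχ with k | k <;> rw [k] at h2 ⊢ <;> refine ⟨h3 (by omega) h4, ?_⟩ <;>
    split_ifs <;> omega

theorem sc11 (hx : orderOf x = 11) : SC 11 x := by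
  refine ⟨by norm_num, hx, by_contra fun k => ?_⟩
  have hc := perf hG
  have h2 : ¬ 11 ^ 2 ∣ Nat.card G := by rw [hG]; norm_num
  obtain ⟨N, X, δ, a, h⟩ := exists_PB hx h2
  obtain ⟨ψ, hψ⟩ := h.X_ne
  have n10 : ∀ χ ∈ N, χ ≠ irrOne G → dg χ ≠ 10 := fun χ hχ k' e =>
    k (h.sc_of hx h2 hχ (by rw [(nexc hG h hχ k').2, e]; rfl) (by rw [e]))
  obtain ⟨n, h5, h6⟩ := card_No_modEq (m := 8640) (by norm_num) hx hG (by norm_num)
  obtain ⟨c, cx⟩ : 11 ∣ Nat.card (Ce1 x) := hx ▸ dvd_Ce1 (Commute.refl x)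
  have c1 : c ≠ 1 := fun e => k (Ce1_eq_of_card (by rw [cx, e, hx]))
  have h7 := h.cN
  have h8 := h.cX
  have h9 := card_subgroup_dvd_card (No (zpowers x))
  rw [h5, cx] at h7
  rw [h5, hG] at h9
  obtain rfl : n = N.card * c := by linarith
  have r1 := h.rel_one hψ
  have b := dg_bd hG ψ
  have e2 : N.card ≠ 2 := fun e => by
    obtain ⟨l, l1, -, l3, l4⟩ := exists_sorted' h.one
    obtain ⟨χ, rfl⟩ := List.length_eq_one_iff.1 (show l.length = 1 by omega)
    obtain ⟨k1, k2⟩ := (l3 χ).1 (by simp)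
    obtain ⟨k3, k4⟩ := nexc hG h k1 k2
    have := n10 χ k1 k2
    rw [l4, h.a_one, dg_one] at r1
    simp only [List.mem_cons, List.not_mem_nil, or_false] at k3
    simp only [List.map_cons, List.map_nil, List.sum_cons, List.sum_nil, k4] at r1
    refine ar0.2.1 _ ?_ b.2
    simp only [List.mem_cons, List.not_mem_nil, or_false]
    rcases h.sd with rfl | rfl <;> split_ifs at r1 <;> omega
  replace h9 : N.card * c ∣ 8640 := Nat.dvd_of_mul_dvd_mul_left (by norm_num : 0 < 11) h9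
  obtain ⟨e5, c2, c3⟩ := ar0.2.2 _ (Nat.mem_divisors.2 ⟨⟨X.card, by omega⟩, by norm_num⟩) c
    (Nat.mem_divisors.2 ⟨(Dvd.intro_left _ rfl).trans h9, by norm_num⟩) h9 (h.card_ne_one hc) e2 c1 h6
  obtain ⟨s, hs, cs⟩ := exists_ord_Ce1 (cx ▸ c2)
  obtain ⟨z, hz, cz⟩ := exists_ord_Ce1 (cx ▸ c3)
  have s1 : s ≠ 1 := fun e => by simp [e] at hs
  choose v hv hv4 using inv_val hc hs
  have v44 : ∀ χ ∈ N, 44 ∣ v χ - dg χ := fun χ hχ => by
    have k1 := cong_int (p := 11) χ.2.isCharacter (k := 1) hx cs (h.val χ hχ _ (by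
      rw [cs.orderOf_mul_eq_mul_orderOf_of_coprime (by rw [hx, hs]; norm_num), hx]; simp)) (hv χ)
    have k2 := h.cong χ hχ
    have k3 := hv4 χ
    rcases h.sgn χ hχ with e | e <;> rw [e] at k1 k2 <;> omega
  have D : ∀ χ ∈ N, χ = irrOne G ∨ dg χ ∈ ({32, 45, 120, 144} : Finset ℕ) := fun χ hχ =>
    or_iff_not_imp_left.2 fun k1 => by
      have k2 := (nexc hG h hχ k1).1
      have k3 := abs_lt.1 (abs_lt_dg hc k1 s1 (hv χ))
      have k4 := v44 χ hχ
      have k5 : dg χ ≠ 54 := fun e => by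
        have o := cz.orderOf_mul_eq_mul_orderOf_of_coprime (by rw [hx, hz]; norm_num)
        have k6 := h.val χ hχ (x * z) (by rw [o, hx]; simp)
        rw [dz (p := 3) (m := 1760) (by rw [hG, e]) (by norm_num) (by rw [o, hz]; simp)] at k6
        rcases h.sgn χ hχ with e | e <;> simp [e] at k6
      simp only [List.mem_cons, List.not_mem_nil, or_false, Finset.mem_insert,
        Finset.mem_singleton] at k2 ⊢
      omega
  obtain ⟨m, hm⟩ : ∃ m : ℕ → ℕ, ∀ d, (N.filter fun χ => dg χ = d).card = m d := ⟨_, fun _ => rfl⟩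
  have cnt : ∀ F : ℕ → ℤ, ∑ χ ∈ N, F (dg χ) =
      F 1 + (m 32 * F 32 + m 45 * F 45 + m 120 * F 120 + m 144 * F 144) := fun F => by
    rw [sum_fib hc h.one (by simp) D, dg_one, Finset.sum_congr rfl fun d _ => by
      rw [Finset.sum_congr rfl fun χ k => congrArg F (Finset.mem_filter.1 k).2, Finset.sum_const, hm]]
    simp [add_assoc]
  have q1 := cnt fun _ => 1
  have q2 := cnt fun d => if d % 11 = 1 then d else -d
  have q3 := cnt fun d => d ^ 2
  have q4 := cnt fun d => if d = 1 ∨ d = 45 then 0 else 144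
  rw [← Finset.sum_congr rfl (f := fun χ => a χ * dg χ) fun χ hχ => by
    by_cases e : χ = irrOne G
    · simp [e, h.a_one, dg_one]
    · simp [(nexc hG h hχ e).2], ← r1] at q2
  have q5 := h.sum_sq hψ
  have q6 : 1 * dg ψ ^ 2 ≤ X.card * dg ψ ^ 2 := Nat.mul_le_mul_right _ h.X_ne.card_pos
  have q7 : 22 < dg ψ := by
    have k1 := h.rel ψ hψ s (by rw [hs]; norm_num)
    simp only [hv] at k1
    have k2 : δ * v ψ = ∑ χ ∈ N, a χ * v χ := by exact_mod_cast k1
    have k3 : 44 ∣ δ * v ψ - δ * dg ψ := by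
      rw [k2, r1, ← Finset.sum_sub_distrib]
      exact Finset.dvd_sum fun χ hχ => mul_sub (a χ) _ _ ▸ (v44 χ hχ).mul_left _
    have k4 := abs_lt.1 (abs_lt_dg hc (h.ne_one hψ) s1 (hv ψ))
    rcases h.sd with rfl | rfl <;> omega
  simp only [Finset.sum_const, nsmul_eq_mul, mul_one] at q1
  rw [hG] at q5
  zify at q5 q6
  norm_num at q2 q3 q4
  obtain ⟨k1, k2, k3⟩ := ar1 (m 32) (by omega) (m 45) (by omega) (m 120) (by omega) (m 144) (by omega)
    (by omega) (dg ψ) (by rcases h.sd with rfl | rfl <;> omega) q7 b.2 (by zify; linarith)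
  obtain ⟨χ, k1⟩ := Finset.card_pos.1 (hm _ ▸ k1)
  obtain ⟨φ, k2⟩ := Finset.card_pos.1 (hm _ ▸ k2)
  rw [Finset.mem_filter] at k1 k2
  have w1 := cen_int (hv χ)
  have w2 := cen_int (hv φ)
  have w3 := v44 χ k1.1
  have w4 := v44 φ k2.1
  have w5 := abs_lt.1 (abs_lt_dg hc (ne_one_of_dg (by omega)) s1 (hv χ))
  have w6 := abs_lt.1 (abs_lt_dg hc (ne_one_of_dg (by omega)) s1 (hv φ))
  rw [k1.2] at w1 w3 w5
  rw [k2.2] at w2 w4 w6
  rw [show v χ = -12 by omega] at w1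
  have w7 : 360 ∣ (Ce1 s).index := by
    rcases (by omega : v φ = 1 ∨ v φ = -43) with e | e <;> rw [e] at w2 <;> omega
  have w8 := (Finset.sum_le_sum fun χ hχ => show (if dg χ = 1 ∨ dg χ = 45 then 0 else 144 : ℤ) ≤
    v χ ^ 2 by
      split_ifs with e
      · positivity
      · have := (D χ hχ).resolve_left fun k => e (.inl (k ▸ dg_one))
        have := v44 χ hχ
        simp only [Finset.mem_insert, Finset.mem_singleton] at *
        exact sq_le_sq'' (c := 12) (by omega)).trans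
      (col_int N fun χ _ => hv χ)
  have w9 := (Ce1 s).card_mul_index
  have := Nat.le_of_dvd (Nat.pos_of_ne_zero index_ne_zero_of_finite) w7
  rw [q4] at w8
  rw [hG] at w9
  have := Nat.mul_le_mul (show 288 ≤ Nat.card (Ce1 s) by omega) this
  omega

theorem sc11' : ∃ x : G, SC 11 x := by
  obtain ⟨x, hx⟩ := exists_prime_orderOf_dvd_card' (G := G) 11 (by rw [hG]; norm_num)
  exact ⟨x, sc11 hG hx⟩

theorem not11 {q : ℕ} (hq : q ∣ orderOf g) (h : ¬ q ∣ 11) : ¬ 11 ∣ orderOf g := fun k => by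
  obtain ⟨x, hx⟩ := sc11' hG
  exact h (hx.ord_eq k ▸ hq)

omit [IsSimpleGroup G] in
theorem dz' (p : ℕ) [Fact p.Prime] {d : ℕ} (h : dg χ = d)
    (hg : p ∣ orderOf g) (h1 : 95040 % d = 0 ∧ 95040 / d % p ≠ 0 := by norm_num) : χ.1 g = 0 :=
  dz (m := 95040 / d) (by rw [hG, h, Nat.mul_div_cancel' (Nat.dvd_of_mod_eq_zero h1.1)])
    (fun k => h1.2 (Nat.mod_eq_zero_of_dvd k)) hg

omit [IsSimpleGroup G] in
theorem No11 (hx : SC 11 x) : Nat.card (No (zpowers x)) = 55 := by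
  have h : S1 11 x := ⟨hx.prime, hx.ord, by rw [hG]; norm_num⟩
  obtain ⟨e, h1, h2⟩ := h.No_eq
  have h3 := h.index_modEq
  have h4 := (No (zpowers x)).card_mul_index
  rw [hx.cen, hx.card] at h2
  rw [hG, h2] at h4
  have := Nat.le_of_dvd (by norm_num) h1
  unfold Nat.ModEq at h3
  interval_cases e <;> omega

theorem nr (hx : orderOf x = 11) (ht : orderOf t = 2) :
    ∑ χ : IrrCharacter G, χ.1 x * (χ.1 t * χ.1 t / χ.1 1) = 0 :=
  nonreal_sum ht (not_real (by rw [No11 hG (sc11 hG hx)]; decide) fun e => by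
    have := orderOf_dvd_of_pow_eq_one (show x ^ 2 = 1 by rw [sq, ← eq_inv_iff_mul_eq_one]; exact e)
    rw [hx] at this
    omega)

theorem five (hy : orderOf y = 5) (h : PB 5 y N X δ a) : ∃ c, Nat.card (Ce1 y) = 5 * c ∧
    (N.card = 2 ∧ c ∈ [4, 9, 24, 54, 144, 864] ∨ N.card = 4 ∧ c ∈ [2, 12, 27, 72, 432]) := by
  obtain ⟨n, h5, h6⟩ := card_No_modEq (m := 19008) (by norm_num) hy hG (by norm_num)
  obtain ⟨c, cy⟩ : 5 ∣ Nat.card (Ce1 y) := hy ▸ dvd_Ce1 (Commute.refl y)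
  obtain ⟨x, hx⟩ := sc11' hG
  have h7 := h.cN
  have h8 := h.cX
  have h9 := card_subgroup_dvd_card (No (zpowers y))
  rw [h5, cy] at h7
  rw [h5, hG] at h9
  obtain rfl : n = N.card * c := by linarith
  replace h9 : N.card * c ∣ 19008 := Nat.dvd_of_mul_dvd_mul_left (by norm_num : 0 < 5) h9
  exact ⟨c, cy, ar4 _ (Nat.mem_divisors.2 ⟨⟨X.card, by omega⟩, by norm_num⟩) c (Nat.mem_divisors.2
    ⟨(Dvd.intro_left _ rfl).trans h9, by norm_num⟩) h9 (h.card_ne_one (perf hG)) (cy ▸ hx.not_dvd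
      (fun e => by simp [e] at hy) (by rw [hy]; norm_num)) h6⟩

omit [IsSimpleGroup G] in
theorem exists_central : ∃ (t : G) (c : ℕ), orderOf t = 2 ∧ Nat.card (Ce1 t) = 64 * c := by
  obtain ⟨P, hP⟩ := exists_isSyl 2 (⊤ : Subgroup G)
  have c : Nat.card P = 64 := by
    rw [hP.card_eq, card_top, fact_eq (k := 6) (m := 1485) hG (by norm_num)]; norm_num
  obtain ⟨t, -, h1, h2⟩ := Transfer.exists_central_invol hP.pg (by rintro rfl; simp at c)
  obtain ⟨c, hc⟩ := c ▸ card_dvd_of_le h2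
  exact ⟨t, c, h1, hc⟩

omit hG in
/-- the principal `11`-block -/
structure B11 (α β γ ε θ θ' : IrrCharacter G) : Prop where
  card : Nat.card G = 95040
  dα : dg α = 45
  dβ : dg β = 54
  dγ : dg γ = 120
  dε : dg ε = 144
  dθ : dg θ = 16
  dθ' : dg θ' = 16
  nθ : θ ≠ θ'
  mem : ∀ χ, ¬ 11 ∣ dg χ → χ = irrOne G ∨ χ = α ∨ χ = β ∨ χ = γ ∨ χ = ε ∨ χ = θ ∨ χ = θ'
  r11 : ∀ g, ¬ 11 ∣ orderOf g → θ'.1 g = θ.1 g ∧ θ.1 g = 1 + α.1 g - β.1 g - γ.1 g + ε.1 g
  sx : ∀ g, 11 ∣ orderOf g → ∀ f : IrrCharacter G → ℂ, f θ' = f θ →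
    ∑ χ, χ.1 g * f χ = f (irrOne G) + f α - f β - f γ + f ε - f θ
  vx : ∀ g, 11 ∣ orderOf g → α.1 g = 1 ∧ β.1 g = -1 ∧ γ.1 g = -1 ∧ ε.1 g = 1 ∧ θ.1 g + θ'.1 g = -1

theorem exists_B11 : ∃ α β γ ε θ θ' : IrrCharacter G, B11 α β γ ε θ θ' := by
  have hc := perf hG
  obtain ⟨x, hx⟩ := sc11' hG
  have h2 : ¬ 11 ^ 2 ∣ Nat.card G := by rw [hG]; norm_num
  obtain ⟨N, X, δ, a, h⟩ := exists_PB hx.ord h2
  have h7 := h.cN
  have h8 := h.cX
  rw [hx.cen, hx.card, No11 hG hx] at h7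
  have h9 : N.card = 5 := by omega
  have hX : X.card = 2 := by rw [h9] at h8; omega
  obtain ⟨θ, θ', nθ, rfl⟩ := Finset.card_eq_two.1 hX
  have m : θ ∈ ({θ, θ'} : Finset _) := by simp
  have m' : θ' ∈ ({θ, θ'} : Finset _) := by simp
  obtain ⟨l, l1, l2, l3, l4⟩ := exists_sorted' h.one
  obtain ⟨α, β, γ, ε, rfl⟩ := List.length_eq_four.1 (show l.length = 4 by omega)
  have n := fun χ k => nexc hG h ((l3 χ).1 k).1 ((l3 χ).1 k).2
  obtain ⟨a1, b1⟩ := n α (by simp)
  obtain ⟨a2, b2⟩ := n β (by simp)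
  obtain ⟨a3, b3⟩ := n γ (by simp)
  obtain ⟨a4, b4⟩ := n ε (by simp)
  obtain ⟨y, hy⟩ := exists_prime_orderOf_dvd_card' (G := G) 5 (by rw [hG]; norm_num)
  have h5 : ¬ 5 ^ 2 ∣ Nat.card G := by rw [hG]; norm_num
  obtain ⟨_, _, _, _, k⟩ := exists_PB hy h5
  obtain ⟨c, cy, k1⟩ := five hG hy k
  simp only [List.pairwise_cons, List.mem_cons, forall_eq_or_imp] at l2
  have r := h.rel θ m
  have sx := fun g hg f => h.sum_x hx h2 m (g := g) hg (f := f)
  have mem := h.sc hx.cen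
  simp only [l4, List.map_cons, List.map_nil, List.sum_cons, List.sum_nil, h.a_one, irrOne_apply] at r sx
  obtain ⟨rfl, k2⟩ := ar2 _ a1 _ a2 l2.1.1 _ a3 l2.2.1.1 _ a4 l2.2.2.1.1 δ (by simpa using h.sd) (δ * dg θ)
    (by rw [h.rel_one m, l4]; simp [b1, b2, b3, b4, h.a_one, dg_one]) (dg θ)
    (by rcases h.sd with rfl | rfl <;> simp) rfl (dg_bd hG θ).2
    (fun e => h.ne_one m (dg_eq_one hc e)) (fun e => by
      rw [sc_of_dg hc hy h5 e, Nat.card_zpowers, hy] at cy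
      simp [show c = 1 by omega] at k1) (by simpa [l4, hX, hG, dg_one] using h.sum_sq m) (by
      simpa [l4, b1, b2, b3, b4, dg_one] using h.bt_dvd (q := 3) (k := 2) (m := 3520) hx h2 m hG
        (by norm_num) (by norm_num))
  have y11 : ¬ 11 ∣ orderOf y := by rw [hy]; norm_num
  have k3 : dg α = 10 → c = 9 ∨ c = 27 := fun e => by
    have : ¬ 2 ∣ c := fun k => by
      obtain ⟨s, hs, cs⟩ := exists_ord_Ce1 (cy ▸ k.mul_left 5)
      obtain ⟨v, v1, v2⟩ := inv_val hc hs α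
      have v3 := cong_int (p := 5) α.2.isCharacter (k := 1) hy cs (a := 0) (by
        rw [dz' hG 5 e (by
          rw [cs.orderOf_mul_eq_mul_orderOf_of_coprime (by rw [hy, hs]; norm_num), hy]; simp)]
        simp) v1
      have v4 := abs_lt.1 (abs_lt_dg hc (ne_one_of_dg (by omega)) (fun e => by simp [e] at hs) v1)
      omega
    simp only [List.mem_cons, List.not_mem_nil, or_false] at k1
    omega
  have iy := index_eq hG y
  simp only [List.cons.injEq, and_true] at k2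
  rcases k2 with ⟨d1, d2, d3, d4, d5⟩ | ⟨d1, d2, d3, d4, d5⟩ | ⟨d1, d2, d3, d4, d5⟩ |
    ⟨d1, d2, d3, d4, d5⟩ <;> simp only [d1, d2, d3, d4] at b1 b2 b3 b4 <;>
    norm_num [b1, b2, b3, b4] at r sx
  · obtain ⟨v, hv⟩ := int_of_gal (χ := θ) (g := y) fun s => by
      have e : dg _ = _ := (charDegree_gal s θ).trans d5
      refine h.exc _ ((mem _ (by rw [e]; norm_num)).resolve_left fun k => ?_) _ m y y11
      have := (l3 _).2 ⟨k, ne_one_of_dg (by rw [e]; norm_num)⟩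
      simp only [List.mem_cons, List.not_mem_nil, or_false] at this
      rcases this with k | k | k | k <;> rw [k] at e <;> omega
    have v1 := cong_dg (p := 5) (k := 1) hy hv
    have v2 := cen_int hv
    have v3 := col_int {θ} (v := fun _ => v) (by simpa using hv)
    rw [Finset.sum_singleton, cy] at v3
    have := Finset.mem_Icc.1 (mem_Icc_of_sq (a := v) (n := 11) (by norm_num) (by omega))
    rw [iy, cy, d5] at v2
    rcases k3 d1 with rfl | rfl <;> norm_num at v2 v3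
    · have := Finset.mem_Icc.1 (mem_Icc_of_sq (a := v) (n := 6) (by norm_num) (by omega))
      omega
    · omega
  · have v := r y y11
    rw [dz' hG 5 d1 hy.symm.dvd, dz' hG 5 d2 hy.symm.dvd, dz' hG 5 d3 hy.symm.dvd,
      dz' hG 5 d5 hy.symm.dvd] at v
    have v2 := cen_int (χ := ε) (g := y) (n := -1) (by push_cast; linear_combination -v)
    rw [iy, cy, d4] at v2
    rcases k3 d1 with rfl | rfl <;> norm_num at v2
  · obtain ⟨t, c, ht, ct⟩ := exists_central hG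
    have t1 : t ≠ 1 := fun e => by simp [e] at ht
    have t11 : ¬ 11 ∣ orderOf t := by rw [ht]; norm_num
    choose v hv hv4 using inv_val hc ht
    have w := fun χ => And.intro (cen_int (hv χ)) (hv4 χ)
    have b := fun χ (k : dg χ ≠ 1) => abs_lt.1 (abs_lt_dg hc (ne_one_of_dg k) t1 (hv χ))
    have c1 : c ∣ 135 := by
      have := card_subgroup_dvd_card (Ce1 t)
      rw [ct, hG] at this
      exact Nat.Coprime.dvd_of_dvd_mul_right (n := 11) ((Nat.Prime.coprime_iff_not_dvd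
        (by norm_num)).2 fun k => hx.not_dvd t1 t11 (ct ▸ k.mul_left 64)).symm
        (Nat.dvd_of_mul_dvd_mul_left (by norm_num : 0 < 64) this)
    have it := index_eq hG t
    have v0 : v θ = 0 := by
      have := (w θ).1
      have := b θ (by omega)
      have := Nat.le_of_dvd (by norm_num) c1
      rw [it, ct, d5] at *
      interval_cases c <;> omega
    have e1 := r t t11
    have e2 := sx x hx.ord.symm.dvd (fun χ => χ.1 t * χ.1 t / χ.1 1) (by
      rw [h.exc _ m' _ m t t11, h.exc _ m' _ m 1 (by simp)])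
    rw [nr hG hx.ord ht] at e2
    simp only [irrOne_apply] at e2
    simp only [hv, v0, val_one d1, val_one d2, val_one d3, val_one d4] at e1 e2
    have e3 : v ε = 1 + v α + v β + v γ := by
      exact_mod_cast (show (v ε : ℂ) = 1 + v α + v β + v γ by push_cast at e1; linear_combination e1)
    have e4 := col_int N fun χ _ => hv χ
    rw [l4, ct] at e4
    have w1 := w α; have w2 := w β; have w3 := w γ
    have := b α (by omega); have := b β (by omega); have := b γ (by omega)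
    rw [it, ct] at w1 w2 w3
    rw [d1] at *; rw [d2] at *; rw [d3] at *
    have := ar3 c (by simp [c1]) (v α) (by simp; omega) w1.2 w1.1 (v β) (by simp; omega) w2.2 w2.1
      (v γ) (by simp; omega) w3.2 w3.1 (by
        rw [← e3]
        exact_mod_cast (show (720 : ℂ) + 16 * (v α ^ 2 + v β ^ 2 + v γ ^ 2) = 6 * v ε ^ 2 by
          push_cast at e2; linear_combination -720 * e2))
    simp [e3] at e4
    nlinarith
  · refine ⟨α, β, γ, ε, θ, θ', hG, d1, d2, d3, d4, d5, (h.dg_exc m' m).trans d5, nθ, fun χ k => ?_,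
      fun g hg => ⟨h.exc _ m' _ m g hg, by linear_combination r g hg⟩, fun g hg f k => by
        linear_combination sx g hg f k, fun g hg => ?_⟩
    swap
    · have v := fun χ k => h.val χ ((l3 χ).1 k).1 g hg
      simpa [v α, v β, v γ, v ε, b1, b2, b3, b4, Finset.sum_pair nθ] using h.sum_exc hx h2 hg
    refine or_iff_not_imp_left.2 fun k1 => ?_
    simpa [or_assoc] using (mem χ k).imp_left fun k2 => (l3 χ).2 ⟨k2, k1⟩

end M12

end Cfsg.Agent.Blk
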