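import Mathlib

/-! More arithmetic for simple groups of order 95040. -/

set_option autoImplicit false
set_option synthInstance.maxSize 4096
set_option synthInstance.maxHeartbeats 200000

namespace Cfsg.Agent.Blk.M12

theorem ar5 : ∀ c ∈ [4, 9, 24, 54, 144, 864, 2, 12, 27, 72, 432], ∀ b ∈ Finset.Icc (-66 : ℤ) 66,
    5 ∣ b - 54 → 54 ∣ (95040 / (5 * c) : ℕ) * b → ∀ e ∈ Finset.Icc (-66 : ℤ) 66, 5 ∣ e - 144 →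
    144 ∣ (95040 / (5 * c) : ℕ) * e → 16 ∣ (95040 / (5 * c) : ℕ) * (1 - b + e) →
    1 + b ^ 2 + e ^ 2 + 2 * (1 - b + e) ^ 2 ≤ (5 * c : ℕ) → (c = 4 ∨ c = 2) ∧ b = -1 ∧ e = -1 := by
  decide +kernel

theorem ar6 : ∀ i ∈ Finset.Icc (-11 : ℤ) 10, ∀ h ∈ Finset.Icc (-3 : ℤ) 3, ∀ b ∈ Finset.Icc (-4 : ℤ) 3,
    ∀ e ∈ Finset.Icc (-23 : ℤ) 23, 360 + 8 * (4 * i + 1) ^ 2 + 40 * e ^ 2 = 60 * (4 * b + 2) ^ 2 +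
      3 * (4 * (i - 3 * b - 1 + e - h)) ^ 2 + 360 * h ^ 2 → ∀ c ∈ Nat.divisors 8640,
    1 + (4 * i + 1) ^ 2 + (12 * b + 6) ^ 2 + (4 * (i - 3 * b - 1 + e - h)) ^ 2 + (4 * e) ^ 2 +
      2 * (4 * h) ^ 2 ≤ c → 45 ∣ (95040 / c : ℕ) * (4 * i + 1) → 54 ∣ (95040 / c : ℕ) * (12 * b + 6) →
    120 ∣ (95040 / c : ℕ) * (4 * (i - 3 * b - 1 + e - h)) → 144 ∣ (95040 / c : ℕ) * (4 * e) →
    16 ∣ (95040 / c : ℕ) * (4 * h) → i = -4 ∧ b = 1 ∧ e = 6 ∧ h = -2 ∧ c = 1440 ∨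
      i = -1 ∧ b = 0 ∧ e = 0 ∧ h = 0 ∧ c = 192 ∨
      i = 1 ∧ b = 0 ∧ (e = 1 ∨ e = -1) ∧ h = e ∧ (c = 120 ∨ c = 240) := by
  decide +kernel

theorem ar7 : ∀ a ∈ [11, 16, 44, 66, 99, 144, 176, 264], ∀ b ∈ [11, 16, 44, 66, 99, 144, 176, 264],
    a ≤ b → ∀ c ∈ [11, 16, 44, 66, 99, 144, 176, 264], b ≤ c →
    ∀ d ∈ [11, 16, 44, 66, 99, 144, 176, 264], c ≤ d → 1 + ([a, b, c, d].map fun n : ℕ =>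
      (if n % 5 = 1 then 1 else -1 : ℤ) * n).sum = 0 → ∀ i ∈ Finset.Icc (-15 : ℤ) 15, 20 ∣ i - a →
    i < a → ∀ j ∈ Finset.Icc (-15 : ℤ) 15, 20 ∣ j - b → j < b → ∀ k ∈ Finset.Icc (-15 : ℤ) 15,
    20 ∣ k - c → ∀ l ∈ Finset.Icc (-15 : ℤ) 15, 20 ∣ l - d → 1 + ([(a, i), (b, j), (c, k), (d, l)].map
      fun n : ℕ × ℤ => (if n.1 % 5 = 1 then 1 else -1 : ℤ) * n.2).sum = 0 →
    480 ∣ 1584 + ([(a, i), (b, j), (c, k), (d, l)].map fun n : ℕ × ℤ =>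
      (if n.1 % 5 = 1 then 1 else -1 : ℤ) * (n.2 ^ 2 * (1584 / n.1 : ℕ))).sum →
    [a, b, c, d] = [66, 99, 144, 176] ∧ [i, j, k, l] = [6, -1, 4, -4] := by
  decide +kernel

theorem ar8 : (∀ d < 309, 95040 % d = 0 → (11 ∣ d ∨ d ∈ [45, 54, 120, 144, 16]) → d % 5 = 1 ∨ d % 5 = 4 →
    d ≠ 54 → d ∈ [11, 16, 44, 66, 99, 144, 176, 264]) ∧
    ∀ d ∈ [11, 16, 44, 66, 99, 144, 176, 264, 54], ∀ e, e = (if d % 5 = 1 then d + 1 else d - 1) →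
      95040 % e = 0 → ¬ (11 ∣ e ∨ e ∈ [45, 54, 120, 144, 16]) := by
  simp only [forall_eq]
  decide +kernel

end Cfsg.Agent.Blk.M12
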