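import Cfsg.Agent.Lib.Block.M12a
import Cfsg.Agent.Lib.Block.M12s
import Cfsg.Agent.Lib.Block.L33b

/-! Simple groups of order 95040: involutions and elements of order 5. -/

set_option autoImplicit false

namespace Cfsg.Agent.Blk

open MonoidAlgebra Subgroup
open Cfsg.Agent.Char hiding cj cj_mul cj_inv_cj cj_cj_inv sum_cj_eq
open scoped ComplexConjugate
attribute [local instance] _root_.Classical.propDecidable

variable {G : Type*} [Group G] [Finite G] {p : ℕ} {x y g s t u : G} {χ ψ : IrrCharacter G}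
  {N X : Finset (IrrCharacter G)} {δ : ℤ} {a : IrrCharacter G → ℤ}
  {α β γ ε θ θ' : IrrCharacter G}

theorem int_of_rat (h : ∀ k, k.Coprime (orderOf g) → IsConj g (g ^ k)) (χ : IrrCharacter G) :
    ∃ n : ℤ, χ.1 g = n :=
  exists_int_of_forall_ringEquiv (χ.2.isCharacter.isIntegral g) fun σ => by
    obtain ⟨k, hk, hσ⟩ := exists_pow_of_ringHom (orderOf_pos g).ne' σ.toRingHom
    exact (χ.2.isCharacter.ringHom_apply σ.toRingHom g hσ).trans
      (χ.2.isClassFunction.eq_of_isConj (h k hk)).symm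

namespace M12

/-- the centralizer of an element of order five -/
structure F5 (y s : G) : Prop where
  card : Nat.card G = 95040
  oy : orderOf y = 5
  os : orderOf s = 2
  com : Commute y s
  cen : Nat.card (Ce1 y) = 10
  no : Nat.card (No (zpowers y)) = 40

namespace F5
variable (h : F5 y s)
include h

omit [Finite G] in
theorem o10 : orderOf (y * s) = 10 := by
  rw [h.com.orderOf_mul_eq_mul_orderOf_of_coprime (by rw [h.oy, h.os]; norm_num), h.oy, h.os]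

omit [Finite G] in
theorem pw (i : ℕ) : (y * s) ^ i = y ^ (i % 5) * s ^ (i % 2) := by
  rw [h.com.mul_pow, ← h.oy, ← h.os, pow_mod_orderOf, pow_mod_orderOf]

theorem Ce_eq : Ce1 y = zpowers (y * s) :=
  (eq_of_le_of_card_ge (zpowers_le.2 (mem_Ce1.2 ((Commute.refl y).mul_left h.com.symm)))
    (by rw [h.cen, Nat.card_zpowers, h.o10])).symm

theorem mem (c : Commute y g) : ∃ i, g = (y * s) ^ i := by
  obtain ⟨i, hi⟩ := (mem_powers_iff_mem_zpowers.2 (h.Ce_eq.le (mem_Ce1.2 c.symm)))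
  exact ⟨i, hi.symm⟩

theorem uniq (c : Commute y u) (hu : orderOf u = 2) : u = s := by
  obtain ⟨i, rfl⟩ := h.mem c
  have k1 := orderOf_dvd_iff_pow_eq_one.2 ((pow_mul _ _ _).trans (hu ▸ pow_orderOf_eq_one _))
  have k2 : ¬ 10 ∣ i := fun k => by simp [orderOf_dvd_iff_pow_eq_one.1 (h.o10 ▸ k)] at hu
  rw [h.o10] at k1
  rw [h.pw, show i % 5 = 0 by omega, show i % 2 = 1 by omega]
  simp

theorem c10 : Nat.card (Ce1 (y * s)) = 10 := by
  refine le_antisymm (h.cen ▸ card_le_of_le ?_) (Nat.le_of_dvd Nat.card_pos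
    (h.o10 ▸ dvd_Ce1 (Commute.refl _)))
  simpa [h.pw] using Ce1_le_pow (y * s) 6

theorem conj5 (hg : orderOf g = 5) : IsConj y g := by
  have k : S1 5 y := ⟨by norm_num, h.oy, by rw [h.card]; norm_num⟩
  refine of_cnt_le (p := IsConj y) (q := fun g => orderOf g = 5)
    (fun g e => (Transfer.IsConj.orderOf_eq' e).trans h.oy) ?_ hg
  have := (No (zpowers y)).card_mul_index
  rw [k.cnt, card_isConj_eq_index, index_eq h.card, h.cen]
  rw [h.no, h.card] at this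
  omega

theorem No_le : No (zpowers y) ≤ Ce1 s := fun g hg => by
  obtain ⟨k, hk⟩ := (mem_No.1 (inv_mem hg)).le (conj_mem_cs.2 (mem_zpowers y))
  refine mem_Ce1.2 (mul_inv_eq_iff_eq_mul.1 (h.uniq ?_ ((orderOf_conj' _ _).trans h.os)))
  have := (h.com.zpow_left k).conj g
  simpa [hk, mul_assoc] using this

theorem sing (hg : 5 ∣ orderOf g) : IsConj y g ∨ IsConj (y * s) g := by
  obtain ⟨k, hk⟩ := isConj_iff.1 (h.conj5 (orderOf_pow_orderOf_div (orderOf_pos g).ne' hg)).symm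
  obtain ⟨i, hi⟩ := h.mem (g := k * g * k⁻¹) (hk ▸ ((Commute.refl g).pow_left _).conj k)
  have c := (isConj_iff.2 ⟨k, hi⟩).symm
  have o : ¬ 5 ∣ i := fun ⟨j, e⟩ => by
    have := orderOf_dvd_of_pow_eq_one (show ((y * s) ^ i) ^ 2 = 1 by
      rw [← pow_mul, ← orderOf_dvd_iff_pow_eq_one, h.o10]; omega)
    rw [← Transfer.IsConj.orderOf_eq' c] at this
    exact absurd (hg.trans this) (by norm_num)
  have o5 : orderOf (y ^ (i % 5)) = 5 := by
    rw [Nat.Coprime.orderOf_pow (by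
      rw [h.oy]; exact (Nat.Prime.coprime_iff_not_dvd Nat.prime_five).2 (by omega)), h.oy]
  rw [h.pw] at c
  rcases Nat.mod_two_eq_zero_or_one i with e | e <;> rw [e] at c
  · exact .inl ((h.conj5 o5).trans (by simpa using c))
  · obtain ⟨n, hn⟩ := isConj_iff.1 (h.conj5 o5)
    refine .inr (IsConj.trans (isConj_iff.2 ⟨n, ?_⟩) c)
    rw [← hn, pow_one, ← mul_assoc, mul_assoc _ s, ((mem_Ce1.1 (inv_mem (h.No_le (mem_No_zp hn))))).symm]
    group

theorem invs (hu : orderOf u = 2) (k : 5 ∣ Nat.card (Ce1 u)) : IsConj s u := by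
  obtain ⟨z, hz, c⟩ := exists_ord_Ce1 k
  obtain ⟨n, rfl⟩ := isConj_iff.1 (h.conj5 hz)
  refine (isConj_iff.2 ⟨n⁻¹, h.uniq ?_ ((orderOf_conj' _ _).trans hu)⟩).symm
  simpa [mul_assoc] using c.symm.conj n⁻¹

theorem nconj : ¬ IsConj y (y * s) := fun k => by
  have := Transfer.IsConj.orderOf_eq' k
  rw [h.o10, h.oy] at this
  omega

theorem ints (χ : IrrCharacter G) : (∃ n : ℤ, χ.1 y = n) ∧ ∃ n : ℤ, χ.1 (y * s) = n :=
  ⟨int_of_rat (fun k hk => h.conj5 (by rw [hk.symm.orderOf_pow, h.oy])) χ, int_of_rat (fun k hk =>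
    (h.sing (by rw [hk.symm.orderOf_pow, h.o10]; norm_num)).resolve_left fun e => by
      have := Transfer.IsConj.orderOf_eq' e
      rw [hk.symm.orderOf_pow, h.o10, h.oy] at this
      omega) χ⟩

theorem val (h1 : χ.1 (y * s) = χ.1 y) (hg : 5 ∣ orderOf g) : χ.1 g = χ.1 y := by
  rcases h.sing hg with k | k <;> rw [← χ.2.isClassFunction.eq_of_isConj k]
  exact h1

end F5

namespace B11
variable (h : B11 α β γ ε θ θ')
include h

theorem by_dg (χ : IrrCharacter G) : (dg χ = 45 → χ = α) ∧ (dg χ = 54 → χ = β) ∧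
    (dg χ = 120 → χ = γ) ∧ (dg χ = 144 → χ = ε) ∧ (dg χ = 16 → χ = θ ∨ χ = θ') := by
  have := h.dα; have := h.dβ; have := h.dγ; have := h.dε; have := h.dθ; have := h.dθ'
  have := dg_one (G := G)
  refine ⟨fun e => ?_, fun e => ?_, fun e => ?_, fun e => ?_, fun e => ?_⟩ <;>
    rcases h.mem χ (by rw [e]; norm_num) with rfl | rfl | rfl | rfl | rfl | rfl | rfl <;>
    first | omega | simp

theorem dgs (h1 : χ ≠ irrOne G) : 11 ∣ dg χ ∨ dg χ ∈ [45, 54, 120, 144, 16] :=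
  or_iff_not_imp_left.2 fun k => by
    rcases (h.mem χ k).resolve_left h1 with rfl | rfl | rfl | rfl | rfl | rfl <;>
      simp [h.dα, h.dβ, h.dγ, h.dε, h.dθ, h.dθ']

theorem sumB {M : Type} [AddCommMonoid M] (f : IrrCharacter G → M) :
    ∑ χ ∈ {irrOne G, α, β, γ, ε, θ, θ'}, f χ =
      f (irrOne G) + f α + f β + f γ + f ε + f θ + f θ' := by
  have d := dg_one (G := G)
  obtain ⟨-, d1, d2, d3, d4, d5, d6, n1, -⟩ := h
  repeat rw [Finset.sum_insert]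
  · simp only [Finset.sum_singleton, add_assoc]
  all_goals
    simp only [Finset.mem_insert, Finset.mem_singleton, not_or]
    repeat' apply And.intro
    all_goals first | assumption | exact ne_of_dg (by omega)

theorem ints (h11 : ¬ 11 ∣ orderOf g) : ∃ a b c e : ℤ, α.1 g = a ∧ β.1 g = b ∧ γ.1 g = c ∧
    ε.1 g = e ∧ θ.1 g = (1 + a - b - c + e : ℤ) ∧ θ'.1 g = (1 + a - b - c + e : ℤ) ∧
    1 + a ^ 2 + b ^ 2 + c ^ 2 + e ^ 2 + 2 * (1 + a - b - c + e) ^ 2 ≤ Nat.card (Ce1 g) := by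
  obtain ⟨k1, k2⟩ := h.r11 g h11
  obtain ⟨a, ha⟩ := int_of_gal (χ := α) (g := g) fun s => by
    rw [(h.by_dg _).1 ((charDegree_gal s α).trans h.dα)]
  obtain ⟨b, hb⟩ := int_of_gal (χ := β) (g := g) fun s => by
    rw [(h.by_dg _).2.1 ((charDegree_gal s β).trans h.dβ)]
  obtain ⟨c, hc⟩ := int_of_gal (χ := γ) (g := g) fun s => by
    rw [(h.by_dg _).2.2.1 ((charDegree_gal s γ).trans h.dγ)]
  obtain ⟨e, he⟩ := int_of_gal (χ := ε) (g := g) fun s => by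
    rw [(h.by_dg _).2.2.2.1 ((charDegree_gal s ε).trans h.dε)]
  have k3 : θ.1 g = (1 + a - b - c + e : ℤ) := by rw [k2, ha, hb, hc, he]; push_cast; ring
  refine ⟨a, b, c, e, ha, hb, hc, he, k3, k1.trans k3, ?_⟩
  have := col_sub {irrOne G, α, β, γ, ε, θ, θ'} g
  rw [h.sumB, norm_sq_int ha, norm_sq_int hb, norm_sq_int hc, norm_sq_int he, norm_sq_int k3,
    norm_sq_int (k1.trans k3), irrOne_apply, norm_one] at this
  exact_mod_cast (show (1 : ℝ) + a ^ 2 + b ^ 2 + c ^ 2 + e ^ 2 + 2 * ((1 + a - b - c + e : ℤ) : ℝ) ^ 2 ≤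
    Nat.card (Ce1 g) by linarith)

variable [IsSimpleGroup G]

theorem invol (ht : orderOf t = 2) : ∃ a b c e : ℤ, α.1 t = a ∧ β.1 t = b ∧ γ.1 t = c ∧
    ε.1 t = e ∧ θ.1 t = (1 + a - b - c + e : ℤ) ∧ θ'.1 t = (1 + a - b - c + e : ℤ) ∧
    (a = -15 ∧ b = 18 ∧ c = 0 ∧ e = 24 ∧ Nat.card (Ce1 t) = 1440 ∨
      a = -3 ∧ b = 6 ∧ c = -8 ∧ e = 0 ∧ Nat.card (Ce1 t) = 192 ∨
      a = 5 ∧ b = 6 ∧ c = 0 ∧ (e = 4 ∨ e = -4) ∧ (Nat.card (Ce1 t) = 120 ∨ Nat.card (Ce1 t) = 240)) := by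
  have hG := h.card
  have hc := perf hG
  have t1 : t ≠ 1 := fun e => by simp [e] at ht
  have t11 : ¬ 11 ∣ orderOf t := by rw [ht]; norm_num
  obtain ⟨x, hx⟩ := sc11' hG
  obtain ⟨a, b, c, e, h1, h2, h3, h4, h5, h6, h7⟩ := h.ints t11
  refine ⟨a, b, c, e, h1, h2, h3, h4, h5, h6, ?_⟩
  have w : ∀ (χ : IrrCharacter G) (n : ℤ) (d : ℕ), dg χ = d → d ≠ 1 → χ.1 t = n → 4 ∣ n - d ∧ |n| < d ∧
      (d : ℤ) ∣ (95040 / Nat.card (Ce1 t) : ℕ) * n := by
    rintro χ n _ rfl k1 k2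
    obtain ⟨m, k3, k4⟩ := inv_val hc ht χ
    obtain rfl : n = m := by exact_mod_cast k2.symm.trans k3
    exact ⟨k4, abs_lt_dg hc (ne_one_of_dg k1) t1 k2, index_eq hG t ▸ cen_int k2⟩
  obtain ⟨a1, a2, a3⟩ := w _ _ _ h.dα (by norm_num) h1
  obtain ⟨b1, b2, b3⟩ := w _ _ _ h.dβ (by norm_num) h2
  obtain ⟨c1, c2, c3⟩ := w _ _ _ h.dγ (by norm_num) h3
  obtain ⟨e1, e2, e3⟩ := w _ _ _ h.dε (by norm_num) h4
  obtain ⟨t1', t2, t3⟩ := w _ _ _ h.dθ (by norm_num) h5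
  have nr := h.sx x hx.ord.symm.dvd (fun χ => χ.1 t * χ.1 t / χ.1 1) (by
    simp only [h5, h6, val_one h.dθ, val_one h.dθ'])
  rw [M12.nr hG hx.ord ht] at nr
  simp only [h1, h2, h3, h4, h5, val_one h.dα, val_one h.dβ, val_one h.dγ, val_one h.dε, val_one h.dθ,
    irrOne_apply] at nr
  replace nr : 2160 + 48 * a ^ 2 + 15 * e ^ 2 = 40 * b ^ 2 + 18 * c ^ 2 + 135 * (1 + a - b - c + e) ^ 2 := by
    exact_mod_cast (show (2160 : ℂ) + 48 * a ^ 2 + 15 * e ^ 2 = 40 * b ^ 2 + 18 * c ^ 2 +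
      135 * ((1 + a - b - c + e : ℤ) : ℂ) ^ 2 by push_cast at nr ⊢; linear_combination -2160 * nr)
  have b4 : 3 ∣ b := Int.prime_three.dvd_of_dvd_pow (n := 2) (by omega)
  have cd : Nat.card (Ce1 t) ∣ 8640 := Nat.Coprime.dvd_of_dvd_mul_right (n := 11)
    ((Nat.Prime.coprime_iff_not_dvd (by norm_num)).2 (hx.not_dvd t1 t11)).symm
    ((card_subgroup_dvd_card _).trans hG.dvd)
  have cl := Nat.le_of_dvd (by norm_num) cd
  rw [abs_lt] at a2 b2 t2
  obtain ⟨i, rfl⟩ : ∃ i, a = 4 * i + 1 := ⟨a / 4, by omega⟩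
  obtain ⟨j, rfl⟩ : ∃ j, b = 12 * j + 6 := ⟨b / 12, by omega⟩
  obtain ⟨k, rfl⟩ : ∃ k, e = 4 * k := ⟨e / 4, by omega⟩
  obtain ⟨l, hl⟩ : ∃ l, 1 + (4 * i + 1) - (12 * j + 6) - c + 4 * k = 4 * l := by
    exact ⟨(1 + (4 * i + 1) - (12 * j + 6) - c + 4 * k) / 4, by omega⟩
  rw [hl] at h7 nr t2 t3
  obtain rfl : c = 4 * (i - 3 * j - 1 + k - l) := by omega
  zify at cl
  have := ar6 i (Finset.mem_Icc.2 (by omega)) l (Finset.mem_Icc.2 (by omega)) j
    (Finset.mem_Icc.2 (by omega)) k (mem_Icc_of_sq (by norm_num)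
    (by linarith [sq_nonneg (4 * i + 1), sq_nonneg (12 * j + 6), sq_nonneg (4 * l),
      sq_nonneg (4 * (i - 3 * j - 1 + k - l))])) (by linarith) _
    (Nat.mem_divisors.2 ⟨cd, by norm_num⟩) h7 a3 b3 c3 e3 t3
  clear * - this
  omega

theorem exists_F5 : ∃ (y s : G) (N X : Finset (IrrCharacter G)) (δ : ℤ) (a : IrrCharacter G → ℤ),
    F5 y s ∧ PB 5 y N X δ a ∧ X.card = 1 ∧ β.1 y = -1 ∧ ε.1 y = -1 ∧ θ.1 y = 1 ∧ θ'.1 y = 1 := by
  have hG := h.card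
  obtain ⟨y, hy⟩ := exists_prime_orderOf_dvd_card' (G := G) 5 (by rw [hG]; norm_num)
  obtain ⟨N, X, δ, a, k⟩ := exists_PB hy (by rw [hG]; norm_num)
  obtain ⟨c, cy, k1⟩ := five hG hy k
  obtain ⟨a', b, c', e, h1, h2, h3, h4, h5, h6, h7⟩ := h.ints (g := y) (by rw [hy]; norm_num)
  obtain rfl : a' = 0 := by exact_mod_cast h1.symm.trans (dz' hG 5 h.dα hy.symm.dvd)
  obtain rfl : c' = 0 := by exact_mod_cast h3.symm.trans (dz' hG 5 h.dγ hy.symm.dvd)
  have v1 := cong_dg (p := 5) (k := 1) hy h2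
  have v2 := cong_dg (p := 5) (k := 1) hy h4
  have v3 := cen_int h2
  have v4 := cen_int h4
  have v5 := cen_int h5
  rw [index_eq hG, cy] at v3 v4 v5
  rw [h.dβ] at v1 v3
  rw [h.dε] at v2 v4
  rw [h.dθ] at v5
  rw [cy] at h7
  simp only [add_zero, sub_zero] at h5 h6 h7 v5
  have c1 : ((5 * c : ℕ) : ℤ) ≤ 4320 := by simp at k1; omega
  obtain ⟨c2, rfl, rfl⟩ := ar5 c (by simp at k1 ⊢; omega) b (mem_Icc_of_sq (by norm_num) (by
    linarith [sq_nonneg e, sq_nonneg (1 - b + e)])) v1 v3 e (mem_Icc_of_sq (by norm_num) (by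
    linarith [sq_nonneg b, sq_nonneg (1 - b + e)])) v2 v4 v5 (by linarith)
  have e2 : N.card ≠ 2 := fun e => by
    obtain ⟨l, l1, -, l3, l4⟩ := exists_sorted' k.one
    obtain ⟨χ, rfl⟩ := List.length_eq_one_iff.1 (show l.length = 1 by omega)
    obtain ⟨k1, k2⟩ := (l3 χ).1 (by simp)
    obtain ⟨ψ, hψ⟩ := k.X_ne
    have r1 := k.rel_one hψ
    have r2 := k.cong χ k1
    have r3 := k.sgn χ k1
    have r4 := k.sd
    have r5 : dg χ ≠ 0 := charDegree_ne_zero χ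
    rw [l4, k.a_one, dg_one] at r1
    simp only [List.map_cons, List.map_nil, List.sum_cons, List.sum_nil] at r1
    refine ar8.2 (dg χ) ?_ (dg ψ) ?_ (dg_bd hG ψ).2 (h.dgs (k.ne_one hψ))
    · by_cases e : dg χ = 54
      · simp [e]
      · exact List.mem_append_left [54] (ar8.1 _ (dg_bd hG χ).1 (dg_bd hG χ).2 (h.dgs k2)
          (by rcases r3 with r3 | r3 <;> rw [r3] at r2 <;> omega) e)
    · rcases r3 with r3 | r3 <;> rcases r4 with rfl | rfl <;> rw [r3] at r1 r2 <;> split_ifs <;> omega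
  obtain ⟨e4, rfl⟩ : N.card = 4 ∧ c = 2 := by simp at k1; omega
  obtain ⟨s, hs, cs⟩ := exists_ord_Ce1 (q := 2) (x := y) (by rw [cy]; norm_num)
  have := k.cX
  exact ⟨y, s, N, X, δ, a, ⟨hG, hy, hs, cs, cy, by rw [← k.cN, cy, e4]⟩, k, by rw [e4] at this; omega,
    by simpa using h2, by simpa using h4, by simpa using h5, by simpa using h6⟩

end B11

end M12

end Cfsg.Agent.Blk
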