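import Cfsg.Agent.Lib.Block.M12b
import Cfsg.Agent.Lib.Char.Codeg
import Cfsg.Agent.Lib.Char.PermCh

/-! Simple groups of order 95040: the list of characters. -/

set_option autoImplicit false

namespace Cfsg.Agent.Blk

open MonoidAlgebra Subgroup
open Cfsg.Agent.Char hiding cj cj_mul cj_inv_cj cj_cj_inv sum_cj_eq
open scoped ComplexConjugate
attribute [local instance] _root_.Classical.propDecidable

variable {G : Type*} [Group G] [Finite G] {p : ℕ} {x y g s t u : G} {χ ψ : IrrCharacter G}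
  {N X : Finset (IrrCharacter G)} {δ : ℤ} {a : IrrCharacter G → ℤ}
  {α β γ ε θ θ' μ ν π : IrrCharacter G}

theorem orth_int {u v : IrrCharacter G → ℤ} (hu : ∀ χ, χ.1 x = u χ) (hv : ∀ χ, χ.1 g = v χ) :
    ∑ χ, u χ * v χ = if IsConj x g then (Nat.card (Ce1 x) : ℤ) else 0 := by
  have := column_orthogonality x g
  simp only [hu, hv, map_intCast] at this
  split_ifs at this ⊢ <;> exact_mod_cast this

theorem div_dg {L : ℕ} (h : dg χ ∣ L) (hL : L ≠ 0) (z : ℂ) : z / χ.1 1 = z * (L / dg χ : ℕ) / L := by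
  obtain ⟨m, rfl⟩ := h
  have n : dg χ ≠ 0 := charDegree_ne_zero χ
  rw [Nat.mul_div_cancel_left _ n.pos, ← cast_deg]
  have : (m : ℂ) ≠ 0 := by rintro k; simp_all
  push_cast
  field_simp

namespace M12.B11
variable [IsSimpleGroup G] (h : B11 α β γ ε θ θ')
include h

theorem sval (f : F5 y s) : α.1 s = 5 ∧ β.1 s = 6 ∧ γ.1 s = 0 ∧ θ.1 s = ε.1 s ∧ θ'.1 s = ε.1 s ∧
    Nat.card (Ce1 s) = 240 ∧ β.1 (y * s) = 1 := by
  obtain ⟨a, b, c, e, h1, h2, h3, h4, h5, h6, h7⟩ := h.invol f.os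
  have o : 5 ∣ orderOf (y * s) := by rw [f.o10]; norm_num
  obtain ⟨a', b', c', e', k1, k2, k3, k4, -, -, k7⟩ := h.ints (not11 h.card o (by norm_num))
  obtain rfl : a' = 0 := by exact_mod_cast k1.symm.trans (dz' h.card 5 h.dα o)
  obtain rfl : c' = 0 := by exact_mod_cast k3.symm.trans (dz' h.card 5 h.dγ o)
  have v1 := cong_int (p := 5) β.2.isCharacter (k := 1) f.oy f.com k2 h2
  have v2 := cong_int (p := 5) ε.2.isCharacter (k := 1) f.oy f.com k4 h4
  rw [f.c10] at k7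
  have v3 := Finset.mem_Icc.1 (mem_Icc_of_sq (a := b') (n := 3) (by norm_num) (by
    push_cast at k7; linarith [sq_nonneg e', sq_nonneg (1 + 0 - b' - 0 + e')]))
  have v4 := Finset.mem_Icc.1 (mem_Icc_of_sq (a := e') (n := 3) (by norm_num) (by
    push_cast at k7; linarith [sq_nonneg b', sq_nonneg (1 + 0 - b' - 0 + e')]))
  have c1 := Solv.card_mul_relIndex f.No_le
  have c2 := ((S1.isSyl ⟨Nat.prime_five, f.oy, by rw [h.card]; norm_num⟩).of_le
    ((le_No _).trans f.No_le) le_top).relIndex_No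
  rw [f.no] at c1
  unfold Nat.ModEq at c2
  rcases h7 with ⟨rfl, rfl, rfl, rfl, -⟩ | ⟨-, -, -, -, k⟩ | ⟨rfl, rfl, rfl, -, k⟩
  · obtain rfl : e' = -1 := by omega
    rcases (by omega : b' = -2 ∨ b' = 3) with rfl | rfl <;> norm_num at k7
  · omega
  · obtain rfl : b' = 1 := by omega
    exact ⟨by simpa using h1, by simpa using h2, by simpa using h3, by rw [h4, h5]; simp,
      by rw [h4, h6]; simp, by omega, by simpa using k2⟩

theorem exists_B5 : ∃ (y s : G) (μ ν π : IrrCharacter G), F5 y s ∧ dg μ = 66 ∧ dg ν = 99 ∧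
    dg π = 176 ∧ β.1 y = -1 ∧ ε.1 y = -1 ∧ θ.1 y = 1 ∧ θ'.1 y = 1 ∧ μ.1 y = 1 ∧ ν.1 y = -1 ∧
    π.1 y = 1 ∧ μ.1 s = 6 ∧ ν.1 s = -1 ∧ ε.1 s = 4 ∧ π.1 s = -4 ∧
    ∀ g, ¬ 5 ∣ orderOf g → 1 + μ.1 g + π.1 g = ν.1 g + ε.1 g := by
  have hG := h.card
  have hc := perf hG
  obtain ⟨y, s, N, X, δ, a, f, k, hX, y1, y2, y3, y4⟩ := h.exists_F5
  obtain ⟨S, η, s1, s2, s3, s4, s5, s6⟩ := k.full hX
  obtain ⟨-, -, -, -, -, cs, bs⟩ := h.sval f
  have o : 5 ∣ orderOf (y * s) := by rw [f.o10]; norm_num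
  choose u hu using fun χ => (f.ints χ).1
  choose v hv using fun χ => (f.ints χ).2
  choose n hn hn4 using inv_val hc f.os
  have e1 := orth_int hu hu
  have e2 := orth_int hv hv
  have e3 := orth_int hu hv
  rw [if_pos (IsConj.refl _), f.cen] at e1
  rw [if_pos (IsConj.refl _), f.c10] at e2
  rw [if_neg f.nconj] at e3
  have uS : ∀ χ ∈ S, u χ = η χ ∧ v χ = η χ := fun χ k =>
    ⟨by exact_mod_cast (hu χ).symm.trans (s4 χ k y f.oy.symm.dvd),
      by exact_mod_cast (hv χ).symm.trans (s4 χ k _ o)⟩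
  have e4 : ∑ χ ∈ Sᶜ, (u χ + v χ) ^ 2 = 0 := by
    have : ∑ χ, (u χ + v χ) ^ 2 = ∑ χ, (u χ * u χ + 2 * (u χ * v χ) + v χ * v χ) :=
      Finset.sum_congr rfl fun χ _ => by ring
    rw [Finset.sum_add_distrib, Finset.sum_add_distrib, ← Finset.mul_sum, e1, e2, e3,
      ← Finset.sum_add_sum_compl S, Finset.sum_congr rfl (g := fun _ => 4) fun χ k => by
        rw [(uS χ k).1, (uS χ k).2]
        rcases s3 χ k with e | e <;> simp [e], Finset.sum_const, s1] at this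
    simpa using this
  rw [Finset.sum_eq_zero_iff_of_nonneg fun _ _ => sq_nonneg _] at e4
  have p1 := pair_cnt s s y
  have p2 := pair_cnt s s (y * s)
  have p3 : ∑ χ : IrrCharacter G, (χ.1 y + χ.1 (y * s)) * (χ.1 s * χ.1 s / χ.1 1) =
      ∑ χ ∈ S, 2 * η χ * (χ.1 s * χ.1 s / χ.1 1) := by
    rw [← Finset.sum_subset (Finset.subset_univ S) fun χ _ k => by
      rw [hu, hv, ← Int.cast_add, pow_eq_zero_iff two_ne_zero |>.1 (e4 χ (Finset.mem_compl.2 k))]; simp]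
    exact Finset.sum_congr rfl fun χ k => by rw [hu, hv, (uS χ k).1, (uS χ k).2, two_mul]
  have m1 := (s2 _).2 (.inl k.one)
  have η1 : η (irrOne G) = 1 := by
    exact_mod_cast (s4 _ m1 y f.oy.symm.dvd).symm.trans (irrOne_apply y)
  obtain ⟨l, l1, l2, l3, l4⟩ := exists_sorted' m1
  obtain ⟨μ, ν, ε', π, rfl⟩ := List.length_eq_four.1 (show l.length = 4 by omega)
  have key : ∀ χ ∈ [μ, ν, ε', π], dg χ ∈ [11, 16, 44, 66, 99, 144, 176, 264] ∧ η χ =
      (if dg χ % 5 = 1 then 1 else -1) ∧ n χ ∈ Finset.Icc (-15 : ℤ) 15 ∧ 20 ∣ n χ - dg χ ∧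
      n χ < dg χ ∧ χ.1 s * χ.1 s / χ.1 1 = (n χ ^ 2 * (1584 / dg χ : ℕ) : ℤ) / 1584 := fun χ k => by
    obtain ⟨k1, k2⟩ := (l3 χ).1 k
    have k3 := s5 χ k1
    have k4 := cong_int (p := 5) χ.2.isCharacter (k := 1) f.oy f.com (s4 χ k1 _ o) (hn χ)
    have k5 := hn4 χ
    have k6 := col_int {χ} fun χ _ => hn χ
    have k7 := ar8.1 _ (dg_bd hG χ).1 (dg_bd hG χ).2 (h.dgs k2) (by
      rcases s3 χ k1 with e | e <;> rw [e] at k3 <;> omega) fun e => by
        rw [(h.by_dg χ).2.1 e] at k1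
        have := (s4 β k1 y f.oy.symm.dvd).trans (s4 β k1 _ o).symm
        rw [y1, bs] at this
        norm_num at this
    rw [Finset.sum_singleton, cs] at k6
    refine ⟨k7, ?_, mem_Icc_of_sq (by norm_num) (by omega), ?_, (abs_lt.1 (abs_lt_dg hc k2
      (fun e => by simpa [e] using f.os) (hn χ))).2, ?_⟩
    · rcases s3 χ k1 with e | e <;> rw [e] at k3 ⊢ <;> split_ifs <;> omega
    · rcases s3 χ k1 with e | e <;> rw [e] at k3 k4 <;> omega
    · rw [div_dg (L := 1584) ((by decide : ∀ d ∈ [11, 16, 44, 66, 99, 144, 176, 264], d ∣ 1584) _ k7)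
        (by norm_num), hn, Int.cast_mul, Int.cast_pow, Int.cast_natCast, sq, Nat.cast_ofNat]
  obtain ⟨a1, b1, c1, d1, f1, g1⟩ := key μ (by simp)
  obtain ⟨a2, b2, c2, d2, f2, g2⟩ := key ν (by simp)
  obtain ⟨a3, b3, c3, d3, -, g3⟩ := key ε' (by simp)
  obtain ⟨a4, b4, c4, d4, -, g4⟩ := key π (by simp)
  simp only [List.pairwise_cons, List.mem_cons, forall_eq_or_imp] at l2
  simp only [l4, List.map_cons, List.map_nil, List.sum_cons, List.sum_nil, η1, irrOne_apply,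
    g1, g2, g3, g4] at s6 p3
  have q1 := s6 1 (by simp)
  have q2 := s6 s (by rw [f.os]; norm_num)
  simp only [← cast_deg, hn] at q1 q2
  obtain ⟨r1, r2⟩ := ar7 _ a1 _ a2 l2.1.1 _ a3 l2.2.1.1 _ a4 l2.2.2.1.1 (by
      simp only [List.map_cons, List.map_nil, List.sum_cons, List.sum_nil, ← b1, ← b2, ← b3, ← b4]
      exact_mod_cast q1) _ c1 d1 f1 _ c2 d2 f2 _ c3 d3 _ c4 d4 (by
      simp only [List.map_cons, List.map_nil, List.sum_cons, List.sum_nil, ← b1, ← b2, ← b3, ← b4]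
      exact_mod_cast q2) (by
      simp only [List.map_cons, List.map_nil, List.sum_cons, List.sum_nil, ← b1, ← b2, ← b3, ← b4]
      simp only [add_mul, Finset.sum_add_distrib] at p3
      rw [cs, hG] at p1 p2
      generalize Nat.card _ = i at p1
      generalize Nat.card _ = j at p2
      refine ⟨i + j, Int.cast_injective (α := ℂ) ?_⟩
      push_cast at p1 p2 p3 ⊢
      linear_combination -(p1 + p2) / 120 - 792 * p3)
  simp only [List.cons.injEq, and_true] at r1 r2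
  obtain ⟨r1, r3, r4, r5⟩ := r1
  obtain rfl := (h.by_dg ε').2.2.2.1 r4
  simp only [r1, r3, r4, r5] at b1 b2 b3 b4
  have v := fun χ k => s4 χ ((l3 χ).1 k).1 y f.oy.symm.dvd
  refine ⟨y, s, μ, ν, π, f, r1, r3, r5, y1, y2, y3, y4, by simp [v μ, b1], by simp [v ν, b2],
    by simp [v π, b4], by simp [hn, r2], by simp [hn, r2], by simp [hn, r2], by simp [hn, r2],
    fun g hg => ?_⟩
  have := s6 g hg
  norm_num [b1, b2, b3, b4] at this
  linear_combination this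

theorem fs0 [Fintype G] (k : dg χ = 16) : fsInd χ.1 = 0 := χ.2.fsInd_eq_zero fun e => by
  obtain ⟨x, hx⟩ := sc11' h.card
  have o := hx.ord.symm.dvd
  have o' : 11 ∣ orderOf x⁻¹ := by rwa [orderOf_inv]
  obtain ⟨a1, a2, a3, a4, a5⟩ := h.vx x o
  obtain ⟨b1, b2, b3, b4, b5⟩ := h.vx _ o'
  have k1 : χ.1 x⁻¹ = χ.1 x := (χ.2.isCharacter.apply_inv x).trans (congrFun e x)
  have k2 : θ.1 x⁻¹ = θ.1 x ∧ θ'.1 x⁻¹ = θ'.1 x := by
    rcases (h.by_dg χ).2.2.2.2 k with rfl | rfl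
    · exact ⟨k1, by linear_combination b5 - a5 - k1⟩
    · exact ⟨by linear_combination b5 - a5 - k1, k1⟩
  have k3 : ∀ ψ : IrrCharacter G, ψ.1 x⁻¹ = ψ.1 x := fun ψ => by
    by_cases k : 11 ∣ dg ψ
    · obtain ⟨m, hm⟩ := deg_dvd_card ψ
      have : ¬ 11 ∣ m := fun k' => absurd (h.card ▸ hm ▸ mul_dvd_mul k k') (by norm_num)
      rw [dz hm this o, dz hm this o']
    · rcases h.mem ψ k with rfl | rfl | rfl | rfl | rfl | rfl | rfl <;> simp [*]
  have c1 := column_orthogonality x x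
  have c2 := column_orthogonality x x⁻¹
  simp only [k3] at c2
  rw [c2, if_pos (IsConj.refl x), if_neg (not_real (by rw [No11 h.card hx]; decide) fun e => by
    have := orderOf_dvd_of_pow_eq_one (show x ^ 2 = 1 by rw [sq, ← eq_inv_iff_mul_eq_one]; exact e)
    rw [hx.ord] at this
    omega)] at c1
  exact card_ne_zero' _ c1.symm

theorem fs_le [Fintype G] (f : F5 y s) : ∃ r : IrrCharacter G → ℤ, (∀ χ, fsInd χ.1 = r χ) ∧
    (∀ χ, r χ * dg χ ≤ if dg χ = 16 then 0 else (dg χ : ℤ)) ∧ 892 ≤ ∑ χ, r χ * dg χ := by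
  have : ∀ χ : IrrCharacter G, ∃ r : ℤ, fsInd χ.1 = r ∧
      r * dg χ ≤ if dg χ = 16 then 0 else (dg χ : ℤ) :=
    fun χ => by
      split_ifs with k
      · exact ⟨0, by simp [h.fs0 k], by simp⟩
      · rcases norm_fsInd_le χ.2 with e | e | e
        exacts [⟨1, by simp [e], by simp⟩, ⟨0, by simp [e], by simp⟩, ⟨-1, by simp [e], by simp⟩]
  choose r h1 h2 using this
  refine ⟨r, h1, h2, ?_⟩
  have k := sum_fsInd_mul (G := G)
  simp only [h1, ← cast_deg] at k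
  obtain ⟨t, c, ht, ct⟩ := exists_central h.card
  obtain ⟨_, _, _, _, -, -, -, -, -, -, k1⟩ := h.invol ht
  have c1 : Nat.card (Ce1 t) = 192 := by omega
  have c2 := (h.sval f).2.2.2.2.2.1
  have k2 := Transfer.cnt_mono (p := fun u => IsConj s u ∨ IsConj t u) (q := fun u => orderOf u = 2)
    fun u k => k.elim (fun k => (Transfer.IsConj.orderOf_eq' k).trans f.os)
      fun k => (Transfer.IsConj.orderOf_eq' k).trans ht
  rw [Transfer.cnt_or fun u k k' => by have := card_Ce1_conj (k.trans k'.symm); omega,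
    card_isConj_eq_index, card_isConj_eq_index, index_eq h.card, index_eq h.card, c1, c2] at k2
  have : ∑ χ, r χ * dg χ = Nat.card {x : G // orderOf x = 2} + 1 := by exact_mod_cast k
  omega

end M12.B11

namespace M12

/-- the irreducible characters -/
structure T12 (α β γ ε θ θ' μ ν π κ κ' : IrrCharacter G) (R : Finset (IrrCharacter G)) (y s : G) :
    Prop extends B11 α β γ ε θ θ' where
  f5 : F5 y s
  dμ : dg μ = 66
  dν : dg ν = 99
  dπ : dg π = 176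
  dκ : dg κ = 11
  dκ' : dg κ' = 11
  dR : ∀ χ ∈ R, dg χ = 55
  cR : R.card = 3
  sum : ∀ {M : Type} [AddCommMonoid M] (f : IrrCharacter G → M), ∑ χ, f χ = f (irrOne G) + f α +
    f β + f γ + f ε + f θ + f θ' + f μ + f ν + f π + (f κ + f κ' + ∑ χ ∈ R, f χ)
  vy : β.1 y = -1 ∧ ε.1 y = -1 ∧ θ.1 y = 1 ∧ θ'.1 y = 1 ∧ μ.1 y = 1 ∧ ν.1 y = -1 ∧ π.1 y = 1 ∧
    κ.1 y = 1 ∧ κ'.1 y = 1
  vs : μ.1 s = 6 ∧ ν.1 s = -1 ∧ ε.1 s = 4 ∧ π.1 s = -4
  r5 : ∀ g, ¬ 5 ∣ orderOf g → 1 + μ.1 g + π.1 g = ν.1 g + ε.1 g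
  fs : ∀ [Fintype G] (χ : IrrCharacter G), dg χ ≠ 16 → fsInd χ.1 = 1

set_option maxHeartbeats 400000 in
theorem exists_T12 [IsSimpleGroup G] (hG : Nat.card G = 95040) :
    ∃ (α β γ ε θ θ' μ ν π κ κ' : IrrCharacter G) (R : _) (y s : G),
      T12 α β γ ε θ θ' μ ν π κ κ' R y s := by
  obtain ⟨α, β, γ, ε, θ, θ', h⟩ := exists_B11 hG
  obtain ⟨y, s, μ, ν, π, f, d7, d8, d9, y1, y2, y3, y4, y5, y6, y7, s1, s2, s3, s4, r5⟩ := h.exists_B5
  have d0 := dg_one (G := G)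
  have d1 := h.dα; have d2 := h.dβ; have d3 := h.dγ; have d4 := h.dε; have d5 := h.dθ; have d6 := h.dθ'
  let T : Finset (IrrCharacter G) := {irrOne G, α, β, γ, ε, θ, θ', μ, ν, π}
  choose u hu using fun χ => (f.ints χ).1
  have sT : ∀ {M : Type} [AddCommMonoid M] (f : IrrCharacter G → M), ∑ χ, f χ =
      f (irrOne G) + f α + f β + f γ + f ε + f θ + f θ' + f μ + f ν + f π +
        (∑ χ ∈ Tᶜ with u χ ≠ 0, f χ + ∑ χ ∈ Tᶜ with ¬ u χ ≠ 0, f χ) := fun f => by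
    have n := h.nθ
    rw [Finset.sum_filter_add_sum_filter_not, ← Finset.sum_add_sum_compl T]
    refine congrArg (· + _) ?_
    repeat rw [Finset.sum_insert]
    · simp only [Finset.sum_singleton, add_assoc]
    all_goals
      simp only [Finset.mem_insert, Finset.mem_singleton, not_or]
      repeat' apply And.intro
      all_goals first | exact ne_of_dg (by omega) | exact n
  have out : ∀ χ ∈ Tᶜ, 11 ∣ dg χ ∧ 5 ∣ u χ - dg χ ∧ dg χ ≠ 0 := fun χ hχ => by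
    simp only [T, Finset.mem_compl, Finset.mem_insert, Finset.mem_singleton, not_or] at hχ
    exact ⟨by_contra fun k => by simpa [hχ] using h.mem χ k, cong_dg (p := 5) (k := 1) f.oy (hu χ),
      charDegree_ne_zero χ⟩
  have u0 : u (irrOne G) = 1 ∧ u α = 0 ∧ u β = -1 ∧ u γ = 0 ∧ u ε = -1 ∧ u θ = 1 ∧ u θ' = 1 ∧ u μ = 1 ∧
      u ν = -1 ∧ u π = 1 := by
    have a := dz' hG 5 d1 f.oy.symm.dvd
    have b := dz' hG 5 d3 f.oy.symm.dvd
    have c := irrOne_apply y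
    rw [hu] at a b c y1 y2 y3 y4 y5 y6 y7
    exact_mod_cast (⟨c, a, y1, b, y2, y3, y4, y5, y6, y7⟩ : _ ∧ _ ∧ _ ∧ _ ∧ _ ∧ _ ∧ _ ∧ _ ∧ _ ∧ _)
  set V := Tᶜ.filter fun χ => u χ ≠ 0
  set R := Tᶜ.filter fun χ => ¬ u χ ≠ 0
  have uR : ∀ χ ∈ R, u χ = 0 := fun χ k => not_not.1 (Finset.mem_filter.1 k).2
  have e1 := orth_int hu hu
  have e2 := orth_int hu fun χ => (val_one rfl).trans (Int.cast_natCast _).symm
  have e3 := sum_charDegree_sq (G := G)
  rw [if_pos (IsConj.refl _), f.cen, sT, Finset.sum_eq_zero (s := R) fun χ k => by simp [uR χ k]] at e1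
  rw [if_neg (fun k => by simpa [isConj_one_left.1 k] using f.oy), sT,
    Finset.sum_eq_zero (s := R) fun χ k => by simp [uR χ k]] at e2
  rw [sT (fun χ => dg χ ^ 2), hG] at e3
  simp only [u0, d0, d1, d2, d3, d4, d5, d6, d7, d8, d9] at e1 e2 e3
  have uV : ∀ χ ∈ V, u χ = 1 ∨ u χ = -1 := fun χ k => by
    have := Finset.single_le_sum (f := fun χ => u χ * u χ) (fun _ _ => mul_self_nonneg _) k
    have := (Finset.mem_filter.1 k).2
    have := Finset.mem_Icc.1 (mem_Icc_of_sq (a := u χ) (n := 1) (by norm_num) (by rw [sq]; omega))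
    omega
  rw [Finset.sum_congr rfl (g := fun _ => 1) fun χ k => by rcases uV χ k with e | e <;> simp [e],
    Finset.sum_const, nsmul_one] at e1
  obtain ⟨κ, κ', nκ, hV⟩ := Finset.card_eq_two.1 (show V.card = 2 by omega)
  have dR : ∀ χ ∈ R, dg χ = 55 := fun χ k => by
    have := Finset.single_le_sum (f := fun χ => dg χ ^ 2) (fun _ _ => Nat.zero_le _) k
    obtain ⟨k1, k2, k3⟩ := out χ (Finset.mem_filter.1 k).1
    rw [uR χ k] at k2
    have : dg χ < 100 := lt_of_pow_lt_pow_left₀ 2 (by norm_num) (by omega)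
    omega
  have sV : ∀ {M : Type} [AddCommMonoid M] (f : IrrCharacter G → M), ∑ χ ∈ V, f χ = f κ + f κ' :=
    fun f => by rw [hV, Finset.sum_pair nκ]
  have m1 : κ ∈ V := by simp [hV]
  have m2 : κ' ∈ V := by simp [hV]
  obtain ⟨⟨i, a1⟩, b1, c1⟩ := out κ (Finset.mem_filter.1 m1).1
  obtain ⟨⟨j, a2⟩, b2, c2⟩ := out κ' (Finset.mem_filter.1 m2).1
  have fs : ∀ [Fintype G], (i = 1 ∧ j = 1 ∧ R.card = 3 ∧ u κ = 1 ∧ u κ' = 1) ∧
      ∀ χ : IrrCharacter G, dg χ ≠ 16 → fsInd χ.1 = 1 := by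
    intro _
    obtain ⟨r, r1, r2, r3⟩ := h.fs_le f
    have r4 := sT fun χ => (if dg χ = 16 then 0 else dg χ : ℤ)
    rw [Finset.sum_congr rfl (s₁ := R) (g := fun _ => 55) fun χ k => by simp [dR χ k]] at r4
    rw [Finset.sum_congr rfl (s₁ := R) (g := fun _ => 3025) fun χ k => by simp [dR χ k]] at e3
    have r5 := Finset.sum_le_sum fun χ (_ : χ ∈ Finset.univ) => r2 χ
    rw [sV] at e2 e3 r4
    simp only [d0, d1, d2, d3, d4, d5, d6, d7, d8, d9, a1, a2,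
      if_neg (show 11 * i ≠ 16 by omega), if_neg (show 11 * j ≠ 16 by omega), Finset.sum_const,
      smul_eq_mul, nsmul_eq_mul] at e2 e3 r4
    norm_num at r4
    have k : i = 1 ∧ j = 1 ∧ R.card = 3 ∧ u κ = 1 ∧ u κ' = 1 := by
      have : 11 * i < 99 := lt_of_pow_lt_pow_left₀ 2 (by norm_num) (by omega)
      have : 11 * j < 99 := lt_of_pow_lt_pow_left₀ 2 (by norm_num) (by omega)
      have : i < 9 := by omega
      have : j < 9 := by omega
      rw [a1] at b1 c1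
      rw [a2] at b2 c2
      rcases uV κ m1 with e | e <;> rcases uV κ' m2 with e' | e' <;> rw [e, e'] at e2 ⊢ <;>
        rw [e] at b1 <;> rw [e'] at b2 <;> interval_cases i <;> interval_cases j <;> omega
    refine ⟨k, fun χ e => ?_⟩
    have := (Finset.sum_eq_sum_iff_of_le fun χ (_ : χ ∈ Finset.univ) => r2 χ).1 (by omega) χ (by simp)
    rw [if_neg e, mul_left_eq_self₀, Nat.cast_eq_zero] at this
    rw [r1, this.resolve_right (charDegree_ne_zero χ), Int.cast_one]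
  obtain ⟨rfl, rfl, k1, k2, k3⟩ := (@fs (Fintype.ofFinite G)).1
  exact ⟨α, β, γ, ε, θ, θ', μ, ν, π, κ, κ', R, y, s, h, f, d7, d8, d9, a1, a2, dR, k1,
    fun f => by rw [sT, sV], ⟨y1, y2, y3, y4, y5, y6, y7, by simp [hu, k2],
    by simp [hu, k3]⟩, ⟨s1, s2, s3, s4⟩, r5, fs.2⟩

end M12

end Cfsg.Agent.Blk
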