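import Cfsg.Agent.Lib.Block.M12c

/-! Simple groups of order 95040: values on 2-elements. -/

set_option autoImplicit false

namespace Cfsg.Agent.Blk

theorem conj_pow_pow {G : Type*} [Group G] {g y : G} {m : ℕ} (h : g * y * g⁻¹ = y ^ m) (n : ℕ) :
    g ^ n * y * (g ^ n)⁻¹ = y ^ m ^ n := by
  induction n with
  | zero => simp
  | succ n ih => rw [pow_succ' g, mul_inv_rev, show g * g ^ n * y * ((g ^ n)⁻¹ * g⁻¹) =
      g * (g ^ n * y * (g ^ n)⁻¹) * g⁻¹ by group, ih, ← conj_pow, h, ← pow_mul, pow_succ']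

namespace M12.T12

open MonoidAlgebra Subgroup
open Cfsg.Agent.Char hiding cj cj_mul cj_inv_cj cj_cj_inv sum_cj_eq
open scoped ComplexConjugate
attribute [local instance] _root_.Classical.propDecidable

variable {G : Type*} [Group G] [Finite G] [IsSimpleGroup G] {x y g s t w : G} {χ ψ : IrrCharacter G}
  {α β γ ε θ θ' μ ν π κ κ' : IrrCharacter G} {R : Finset (IrrCharacter G)}
  (h : T12 α β γ ε θ θ' μ ν π κ κ' R y s)
include h

omit [IsSimpleGroup G] in
theorem real (k : dg χ ≠ 16) (g : G) : conj (χ.1 g) = χ.1 g := by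
  have := Fintype.ofFinite G
  refine congrFun (by_contra fun e => ?_ : (fun g => conj (χ.1 g)) = χ.1) g
  simpa [χ.2.fsInd_eq_zero e] using h.fs χ k

theorem sqrt (g : G) : (Nat.card {u : G // u * u = g} : ℂ) = 1 + α.1 g + β.1 g + γ.1 g + ε.1 g +
    μ.1 g + ν.1 g + π.1 g + (κ.1 g + κ'.1 g + ∑ χ ∈ R, χ.1 g) := by
  have e := h.sum fun χ => if dg χ = 16 then 0 else χ.1 g
  rw [Finset.sum_congr (s₁ := R) rfl (g := fun χ => χ.1 g) fun χ k =>
    if_neg (by rw [h.dR χ k]; norm_num)] at e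
  simp only [dg_one, h.dα, h.dβ, h.dγ, h.dε, h.dθ, h.dθ', h.dμ, h.dν, h.dπ, h.dκ, h.dκ',
    irrOne_apply] at e
  have := Fintype.ofFinite G
  rw [card_sqrt_eq_sum, Finset.sum_congr rfl (g := fun χ => if dg χ = 16 then 0 else χ.1 g) fun χ _ => by
    split_ifs with k
    · rw [h.fs0 k, zero_mul]
    · rw [h.fs χ k, h.real k, one_mul], e]
  simp

theorem vs' : κ.1 s = -1 ∧ κ'.1 s = -1 ∧ ∀ χ ∈ R, χ.1 s = -5 := by
  obtain ⟨s1, s2, s3, s4, s5, s6, -⟩ := h.sval h.f5
  obtain ⟨s7, s8, s9, s10⟩ := h.vs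
  choose n hn hn4 using inv_val (perf h.card) h.f5.os
  have e := orth_int hn hn
  rw [if_pos (IsConj.refl _), s6, h.sum] at e
  rw [s9] at s4 s5
  have c : ∀ {χ : IrrCharacter G} {m : ℤ}, χ.1 s = m → n χ = m := fun k => by
    exact_mod_cast (hn _).symm.trans k
  rw [c (m := 1) (by simp), c (m := 5) s1, c (m := 6) s2, c (m := 0) (by simpa using s3),
    c (m := 4) s4, c (m := 4) s5, c (m := 6) s7, c (m := 4) s9, c (m := -1) (by simpa using s8),
    c (m := -4) (by simpa using s10)] at e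
  have r : ∀ χ ∈ R, 20 ∣ n χ + 5 := fun χ k => by
    have k1 := cen_int (hn χ)
    have k2 := hn4 χ
    rw [index_eq h.card, s6, h.dR χ k] at k1
    rw [h.dR χ k] at k2
    omega
  have k1 := hn4 κ
  have k2 := hn4 κ'
  rw [h.dκ] at k1
  rw [h.dκ'] at k2
  have b : ∀ {a c : ℤ}, 0 ≤ c → c ≤ a ∨ a ≤ -c → c ^ 2 ≤ a * a := fun {a _} k k' =>
    sq a ▸ sq_le_sq'' ⟨k, k'⟩
  have e1 := Finset.card_nsmul_le_sum R (fun χ => n χ * n χ) 25 fun χ k =>
    b (c := 5) (by norm_num) (by have := r χ k; omega)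
  have e2 := b (a := n κ) (c := 1) (by norm_num) (by omega)
  have e3 := b (a := n κ') (c := 1) (by norm_num) (by omega)
  rw [h.cR] at e1
  simp only [nsmul_eq_mul] at e1
  refine ⟨?_, ?_, fun χ k => ?_⟩
  · have : n κ = -1 := by_contra fun k => by
      have := b (a := n κ) (c := 3) (by norm_num) (by omega)
      push_cast at *
      omega
    simp [hn, this]
  · have : n κ' = -1 := by_contra fun k => by
      have := b (a := n κ') (c := 3) (by norm_num) (by omega)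
      push_cast at *
      omega
    simp [hn, this]
  · have : n χ = -5 := by_contra fun k' => by
      have := b (a := n χ) (c := 15) (by norm_num) (by have := r χ k; omega)
      have := Finset.single_le_sum (f := fun χ => n χ * n χ) (fun _ _ => mul_self_nonneg _) k
      push_cast at *
      omega
    simp [hn, this]

theorem nsq (u : G) : ¬ IsConj s (u * u) := fun k => by
  obtain ⟨s1, s2, s3, -⟩ := h.sval h.f5
  obtain ⟨s7, s8, s9, s10⟩ := h.vs
  obtain ⟨s4, s5, s6⟩ := h.vs'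
  obtain ⟨c, hc⟩ := isConj_iff.1 k.symm
  have e := h.sqrt s
  rw [s1, s2, s3, s4, s5, s7, s8, s9, s10, Finset.sum_congr rfl s6, Finset.sum_const, h.cR] at e
  have := Transfer.cnt_pos (p := fun u => u * u = s) (x := c * u * c⁻¹) (by rw [← hc]; group)
  norm_num at e
  omega

theorem r5' (hg : ¬ 5 ∣ orderOf g) : κ.1 g + κ'.1 g = β.1 g - θ.1 g - θ'.1 g := by
  obtain ⟨y1, y2, y3, y4, y5, y6, y7, y8, y9⟩ := h.vy
  have o := h.f5.oy.symm.dvd
  have e := column_orthogonality g y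
  rw [if_neg fun k : IsConj g y => hg (Transfer.IsConj.orderOf_eq' k ▸ o), h.sum,
    Finset.sum_eq_zero fun χ k => by rw [dz' h.card 5 (h.dR χ k) o]; simp] at e
  simp only [y1, y2, y3, y4, y5, y6, y7, y8, y9, dz' h.card 5 h.dα o, dz' h.card 5 h.dγ o,
    irrOne_apply, map_one, map_neg, map_zero] at e
  linear_combination e - h.r5 g hg

theorem two {k : ℕ} (hw : orderOf w = 2 ^ k) (h1 : w ≠ 1) (h2 : ¬ IsConj s w) :
    θ.1 w = 0 ∧ θ'.1 w = 0 ∧ ε.1 w = 0 ∧ π.1 w = 0 := by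
  obtain ⟨s1, s2, s3, s4, s5, s6, -⟩ := h.sval h.f5
  obtain ⟨s7, s8, s9, s10⟩ := h.vs
  obtain ⟨s11, s12, s13⟩ := h.vs'
  obtain ⟨y1, y2, y3, y4, y5, y6, y7, y8, y9⟩ := h.vy
  rw [s9] at s4 s5
  choose n hn hn4 using inv_val (perf h.card) h.f5.os
  choose m hm using fun χ => cen_int (hn χ)
  have c : ∀ χ : IrrCharacter G, centralChar χ.1 s = m χ := fun χ => by
    rw [centralChar, hn, ← cast_deg, div_eq_iff (Nat.cast_ne_zero.2 (charDegree_ne_zero χ)), mul_comm (m χ : ℂ)]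
    exact_mod_cast hm χ
  have c' : ∀ {χ : IrrCharacter G} {d : ℕ} (a b : ℤ), dg χ = d → χ.1 s = a → 396 * a = d * b → d ≠ 0 →
      m χ = b := fun {χ d} a b k1 k2 k3 k4 => by
    have := hm χ
    rw [index_eq h.card, s6, k1, show n χ = a by exact_mod_cast (hn χ).symm.trans k2] at this
    exact mul_left_cancel₀ (Nat.cast_ne_zero.2 k4) (this.symm.trans k3)
  have key : ∀ g v, IsPPart 2 g v → ¬ IsConj w v → θ.1 w * conj (θ.1 g) + θ'.1 w * conj (θ'.1 g) +
      ε.1 w * conj (ε.1 g) + π.1 w * conj (π.1 g) = 0 := fun g v k1 k2 => by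
    have e := ub_orth c (isPPart_self ⟨k, hw⟩) k1 k2
    rw [h.sum, Finset.sum_eq_zero fun χ k => by
      rw [c' (-5) (-36) (h.dR χ k) (by simpa using s13 χ k) (by norm_num) (by norm_num)]; simp,
      c' 1 396 dg_one (by simp) (by norm_num) (by norm_num),
      c' 5 44 h.dα s1 (by norm_num) (by norm_num), c' 6 44 h.dβ s2 (by norm_num) (by norm_num),
      c' 0 0 h.dγ (by simpa using s3) (by norm_num) (by norm_num),
      c' 4 11 h.dε s9 (by norm_num) (by norm_num), c' 4 99 h.dθ s4 (by norm_num) (by norm_num),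
      c' 4 99 h.dθ' s5 (by norm_num) (by norm_num), c' 6 36 h.dμ s7 (by norm_num) (by norm_num),
      c' (-1) (-4) h.dν (by simpa using s8) (by norm_num) (by norm_num),
      c' (-4) (-9) h.dπ (by simpa using s10) (by norm_num) (by norm_num),
      c' (-1) (-36) h.dκ (by simpa using s11) (by norm_num) (by norm_num),
      c' (-1) (-36) h.dκ' (by simpa using s12) (by norm_num) (by norm_num)] at e
    norm_num at e
    linear_combination e
  have n1 : ¬ IsConj w 1 := by simpa using h1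
  have e1 := key 1 1 (isPPart_one_iff.2 (by simp)) n1
  have e2 := key y 1 (isPPart_one_iff.2 (by rw [h.f5.oy]; norm_num)) n1
  have e3 := key s s (isPPart_self ⟨1, h.f5.os⟩) fun k => h2 k.symm
  have e4 := (h.r11 w fun k => by
    have := (by norm_num : Nat.Prime 11).dvd_of_dvd_pow (hw ▸ k)
    omega).1
  simp only [val_one h.dθ, val_one h.dθ', val_one h.dε, val_one h.dπ, y2, y3, y4, y7, s4, s5, s9, s10,
    map_natCast, map_one, map_neg, map_ofNat, e4] at e1 e2 e3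
  have a : θ.1 w = 0 := by linear_combination e2 / 4 + e3 / 16
  have b : ε.1 w = π.1 w := by linear_combination 2 * a - e2
  have d : π.1 w = 0 := by push_cast at e1; linear_combination e1 / 320 - a / 10 - 9 / 20 * b
  exact ⟨a, e4.trans a, b.trans d, d⟩

theorem two' {k : ℕ} (hw : orderOf w = 2 ^ k) (h1 : w ≠ 1) (h2 : ¬ IsConj s w) :
    (Nat.card {u : G // u * u = w} : ℂ) = 2 * (κ.1 w + κ'.1 w) ∧ κ.1 w + κ'.1 w = β.1 w := by
  obtain ⟨s1, s2, s3, s4, s5, -⟩ := h.sval h.f5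
  obtain ⟨s7, s8, s9, s10⟩ := h.vs
  obtain ⟨s11, s12, s13⟩ := h.vs'
  obtain ⟨a1, a2, a3, a4⟩ := h.two hw h1 h2
  have o : ∀ p, p.Prime → p ≠ 2 → ¬ p ∣ orderOf w := fun p hp n k =>
    n ((Nat.prime_dvd_prime_iff_eq hp Nat.prime_two).1 (hp.dvd_of_dvd_pow (hw ▸ k)))
  have e1 := column_orthogonality w 1
  have e2 := column_orthogonality w s
  have e3 := (h.r11 w (o _ (by norm_num) (by norm_num))).2
  have e4 := h.r5 w (o _ (by norm_num) (by norm_num))
  have e5 := h.r5' (o _ (by norm_num) (by norm_num))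
  rw [if_neg (by simpa using h1), h.sum, Finset.sum_congr rfl (g := fun χ => χ.1 w * 55) fun χ k => by
    rw [val_one (h.dR χ k), map_natCast]; simp, ← Finset.sum_mul] at e1
  rw [if_neg fun k => h2 k.symm, h.sum, Finset.sum_congr rfl (g := fun χ => χ.1 w * -5) fun χ k => by
    rw [s13 χ k, map_neg, map_ofNat], ← Finset.sum_mul] at e2
  rw [h.sqrt]
  simp only [a1, a2, a3, a4, s1, s2, s3, s7, s8, s11, s12, val_one h.dα, val_one h.dβ, val_one h.dγ,
    val_one h.dμ, val_one h.dν, val_one h.dκ, val_one h.dκ', irrOne_apply, map_natCast, map_one,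
    map_neg, map_ofNat, map_zero, zero_mul, Nat.cast_ofNat] at e1 e2 e3 e4 e5 ⊢
  refine ⟨?_, by linear_combination e5⟩
  rw [show γ.1 w = 1 + α.1 w - β.1 w by linear_combination e3, show ν.1 w = 1 + μ.1 w by
    linear_combination -e4, show κ.1 w = β.1 w - κ'.1 w by linear_combination e5] at e1 e2 ⊢
  linear_combination 3 / 220 * e1 - e2 / 20

theorem exists_w : ∃ w : G, w * y * w⁻¹ = y ^ 2 ∧ orderOf w = 4 ∧ ∃ k k' : ℕ,
    11 + κ.1 (w ^ 2) + 2 * κ.1 w = 4 * k ∧ 11 + κ'.1 (w ^ 2) + 2 * κ'.1 w = 4 * k' ∧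
      (5 ≤ k ∨ 5 ≤ k') := by
  have f := h.f5
  obtain ⟨g, hg⟩ := isConj_iff.1 (f.conj5 (g := y ^ 2) (by
    rw [Nat.Coprime.orderOf_pow (by rw [f.oy]; norm_num), f.oy]))
  have cp : ∀ {g : G}, g * y * g⁻¹ = y ^ 2 → ∀ n, g ^ n * y * (g ^ n)⁻¹ = y ^ (2 ^ n % 5) :=
    fun k n => by rw [← f.oy, pow_mod_orderOf, conj_pow_pow k]
  have g40 : g ^ 40 = 1 := orderOf_dvd_iff_pow_eq_one.1
    (f.no ▸ Nat.card_zpowers g ▸ card_dvd_of_le (zpowers_le.2 (mem_No_zp hg)))
  obtain ⟨w, hw, w8⟩ : ∃ w : G, w * y * w⁻¹ = y ^ 2 ∧ w ^ 8 = 1 :=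
    ⟨g ^ 5, cp hg 5, by rw [← pow_mul, g40]⟩
  have w4 : w ^ 4 = 1 := by_contra fun k => h.nsq (w ^ 2) (by
    rw [← pow_add, f.uniq (u := w ^ (2 + 2)) (mul_inv_eq_iff_eq_mul.1 (by simpa using cp hw 4)).symm
      (orderOf_eq_prime (by rw [← pow_mul, w8]) k)])
  have w2 : w ^ 2 ≠ 1 := fun k => by
    have := cp hw 2
    rw [k] at this
    have := orderOf_dvd_of_pow_eq_one (show y ^ 3 = 1 from mul_left_cancel (a := y) (by
      rw [← pow_succ']; simpa using this.symm))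
    rw [f.oy] at this
    omega
  have o4 : orderOf w = 2 ^ 2 := orderOf_eq_prime_pow (n := 1) w2 w4
  have o2 : orderOf (w ^ 2) = 2 := orderOf_eq_prime (by rw [← pow_mul, w4]) w2
  have n2 : ¬ IsConj s (w ^ 2) := sq w ▸ h.nsq w
  obtain ⟨k, k1, k2⟩ := ord_four (χ := κ) (perf h.card) w4 (h.real (by rw [h.dκ]; norm_num) w)
  obtain ⟨k', k3, k4⟩ := ord_four (χ := κ') (perf h.card) w4 (h.real (by rw [h.dκ']; norm_num) w)
  rw [val_one h.dκ] at k1
  rw [val_one h.dκ'] at k3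
  rw [h.dκ] at k2
  rw [h.dκ'] at k4
  refine ⟨w, hw, o4, k, k', k1, k3, ?_⟩
  have e1 := (h.two' o4 (fun e => w2 (by simp [e])) fun e => by
    have := Transfer.IsConj.orderOf_eq' e
    rw [o4, f.os] at this
    omega).1
  have e2 := (h.two' (k := 1) o2 w2 n2).2
  obtain ⟨a, b, c, e, -, b1, -, -, -, -, b2⟩ := h.invol o2
  obtain rfl : b = 6 := by
    have := mt (f.invs o2) n2
    omega
  have : 28 + Nat.card {u : G // u * u = w} = 4 * (k + k') := by
    have : (28 : ℂ) + Nat.card {u : G // u * u = w} = 4 * (k + k') := by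
      push_cast at k1 k3 b1
      linear_combination e1 + k1 + k3 - e2 - b1
    exact_mod_cast this
  omega

end M12.T12

end Cfsg.Agent.Blk
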