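import Cfsg.Agent.Lib.Block.M12d
import Cfsg.Agent.Lib.Block.M11g

/-! There is at most one simple group of order 95040. -/

set_option autoImplicit false

namespace Cfsg.Agent.Blk

open MonoidAlgebra Subgroup
open Cfsg.Agent.Char hiding cj cj_mul cj_inv_cj cj_cj_inv sum_cj_eq
open scoped ComplexConjugate
attribute [local instance] _root_.Classical.propDecidable

variable {G : Type*} [Group G] [Finite G] {x y g s t w : G} {χ ψ : IrrCharacter G}

theorem card_Ce1_sub {H : Subgroup G} (a : H) : Nat.card (Ce1 a) ∣ Nat.card (Ce1 (a : G)) :=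
  card_dvd_of_injective ((H.subtype.comp (Ce1 a).subtype).codRestrict (Ce1 (a : G)) fun b =>
    mem_Ce1.2 (congrArg Subtype.val (mem_Ce1.1 b.2))) fun _ _ e =>
      Subtype.ext (Subtype.ext (Subtype.ext_iff.1 e :))

theorem M11.perm_bd [IsSimpleGroup G] [Fintype G] (hG : Nat.card G = 7920) {φ : G → ℂ}
    (hφ : IsCharacter G φ) (h1 : φ 1 = 11) (h2 : classInner φ (fun _ => 1) ≠ 0) (h3 : φ x ≠ 11)
    (h4 : ∀ t, φ t ≠ -1) (hg : g ≠ 1) : ∃ n : ℤ, φ g = n ∧ n ≤ 3 := by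
  obtain ⟨α₁, α₂, α₃, β, θ, θ', γ, ρ, σ, h, hz⟩ := M11.exists_T11' hG
  obtain ⟨z, -, z2, -⟩ := h.exists_inv
  choose n hn using fun χ : IrrCharacter G => hφ.classInner_eq_nat χ.2.isCharacter
  have e := fun g => (hφ.isClassFunction.apply_eq_sum g).trans (h.sum _)
  simp only [hn, irrOne_apply] at e
  have e1 := e 1
  have n0 : n (irrOne G) ≠ 0 := fun k => h2 ((hn (irrOne G)).trans (by simp [k]))
  rw [h1, val_one h.d1, val_one h.d2, val_one h.d3, val_one h.dβ, val_one h.dθ, val_one h.dθ',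
    val_one h.dγ, val_one h.dρ, val_one h.dσ] at e1
  replace e1 : 11 = n (irrOne G) * 1 + n α₁ * 10 + n α₂ * 10 + n α₃ * 10 + n β * 11 + n θ * 16 +
    n θ' * 16 + n γ * 44 + n ρ * 45 + n σ * 55 := by exact_mod_cast e1
  simp only [show n β = 0 by omega, show n θ = 0 by omega, show n θ' = 0 by omega,
    show n γ = 0 by omega, show n ρ = 0 by omega, show n σ = 0 by omega] at e
  obtain ⟨m, hm, -, m2⟩ := h.bd1 hz hg
  obtain ⟨-, z3, z4⟩ := hz z z2
  have : n β = 0 ∧ n θ = 0 ∧ n θ' = 0 ∧ n γ = 0 ∧ n ρ = 0 ∧ n σ = 0 := by omega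
  rcases (by omega : n (irrOne G) = 11 ∧ n α₁ = 0 ∧ n α₂ = 0 ∧ n α₃ = 0 ∨ n (irrOne G) = 1 ∧
    (n α₁ = 1 ∧ n α₂ = 0 ∧ n α₃ = 0 ∨ n α₁ = 0 ∧ n α₂ = 1 ∧ n α₃ = 0 ∨
      n α₁ = 0 ∧ n α₂ = 0 ∧ n α₃ = 1)) with ⟨a, b, c, d⟩ | ⟨a, ⟨b, c, d⟩ | ⟨b, c, d⟩ | ⟨b, c, d⟩⟩ <;>
    simp only [a, b, c, d] at e
  · exact (h3 (by simpa using e x)).elim
  · exact ⟨1 + m, by simpa [hm] using e g, by omega⟩
  · exact (h4 z (by rw [e, z3]; norm_num)).elim
  · exact (h4 z (by rw [e, z4]; norm_num)).elim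

namespace M12
variable [IsSimpleGroup G]

theorem F5.exists_x (f : F5 y s) : ∃ x, SC 11 x ∧ y ∈ No (zpowers x) := by
  obtain ⟨x, hx⟩ := sc11' f.card
  obtain ⟨z, hz⟩ := exists_prime_orderOf_dvd_card' (G := No (zpowers x)) 5
    (by rw [No11 f.card hx]; norm_num)
  obtain ⟨c, hc⟩ := isConj_iff.1 (f.conj5 ((orderOf_coe z).trans hz)).symm
  obtain ⟨n, hn⟩ := mem_powers_iff_mem_zpowers.2
    ((mem_No.1 z.2).le (conj_mem_cs.2 (mem_zpowers x)))
  refine ⟨c * x * c⁻¹, hx.of_ord ((orderOf_conj' _ _).trans hx.ord), mem_No_zp (n := n) ?_⟩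
  rw [conj_pow, ← hc, show x ^ n = _ from hn]
  group

theorem F5.exists_index (f : F5 y s) (d : dg χ = 11) (r : ∀ g, conj (χ.1 g) = χ.1 g)
    (hy : χ.1 y = 1) (hw : w * y * w⁻¹ = y ^ 2) (w4 : orderOf w = 4) {k : ℕ}
    (hk : 11 + χ.1 (w ^ 2) + 2 * χ.1 w = 4 * k) (k5 : 5 ≤ k) : ∃ (H : Subgroup G) (_ : Fintype H),
      H.index = 12 ∧ classInner (fun g : H => χ.1 g) (fun _ => 1) ≠ 0 := by
  obtain ⟨x, hx, yx⟩ := f.exists_x
  have := Fintype.ofFinite (zpowers x)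
  have := Fintype.ofFinite (zpowers y)
  have := Fintype.ofFinite (zpowers w)
  have := Fintype.ofFinite (zpowers x ⊔ zpowers y : Subgroup G)
  have := Fintype.ofFinite (zpowers y ⊔ zpowers w : Subgroup G)
  have inst := Fintype.ofFinite (zpowers x ⊔ zpowers y ⊔ (zpowers y ⊔ zpowers w) : Subgroup G)
  have cy : Nat.card (zpowers y) = 5 := (Nat.card_zpowers y).trans f.oy
  have cw : Nat.card (zpowers w) = 4 := (Nat.card_zpowers w).trans w4
  have sy : S1 5 y := ⟨Nat.prime_five, f.oy, by rw [f.card]; norm_num⟩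
  have oy : ∀ v ∈ zpowers y, v ≠ 1 → orderOf v = 5 := fun v hv v1 => by
    have := (Nat.dvd_prime Nat.prime_five).1 (f.oy ▸ orderOf_dvd_of_mem_zpowers hv)
    simpa [v1] using this
  have i1 : zpowers x ⊓ zpowers y = ⊥ := inf_eq_bot_of_coprime (by rw [hx.card, cy]; norm_num)
  have i2 : zpowers y ⊓ zpowers w = ⊥ := inf_eq_bot_of_coprime (by rw [cw, cy]; norm_num)
  have wy := zpowers_le.2 (mem_No_zp hw)
  obtain ⟨a1, a2⟩ := sum_frob χ.2.isClassFunction (zpowers_le.2 yx) i1 fun d hd d1 v hv c =>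
    by_contra fun v1 => d1 (mem_bot.1 (i1 ▸ mem_inf.2 ⟨hx.Ce1_eq hv v1 ▸ mem_Ce1.2 c, hd⟩))
  obtain ⟨b1, b2⟩ := sum_frob χ.2.isClassFunction wy i2 fun d hd d1 v hv c => by_contra fun v1 => by
    obtain ⟨n, hn, rfl⟩ := Finset.mem_image.1 (mem_zpowers_iff_mem_range_orderOf.1 hd)
    obtain ⟨m, hm⟩ := (eq_of_le_of_card_ge (zpowers_le.2 hv) (by
      rw [cy, Nat.card_zpowers, oy v hv v1])).ge (mem_zpowers y)
    have c1 := ((mul_inv_eq_iff_eq_mul.2 (hm ▸ c.zpow_right m : Commute _ y)).symm.trans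
      (conj_pow_pow hw n)).symm.trans (pow_one y).symm
    rw [pow_eq_pow_iff_modEq, f.oy] at c1
    rw [w4, Finset.mem_range] at hn
    interval_cases n <;> simp_all [Nat.ModEq]
  have s1 : ∑ u : zpowers y, χ.1 u = 15 := by
    have : ∀ j, j % 5 ≠ 0 → χ.1 (y ^ j) = 1 := fun j hj => by
      rw [← χ.2.isClassFunction.eq_of_isConj (f.conj5 (oy _ (npow_mem_zpowers y j) fun e => by
        have := orderOf_dvd_of_pow_eq_one e
        rw [f.oy] at this
        omega)), hy]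
    simp [sum_zp f.oy, Finset.sum_range_succ, this, val_one d, hy]
    norm_num
  have s2 : ∑ u : zpowers x, χ.1 u = 11 := by
    have : ∀ j, j % 11 ≠ 0 → χ.1 (x ^ j) = 0 := fun j hj => dz' f.card 11 d (by
      rw [Nat.Coprime.orderOf_pow (by
        rw [hx.ord]; exact ((Nat.Prime.coprime_iff_not_dvd hx.prime).2 (by omega))), hx.ord])
    simp [sum_zp hx.ord, Finset.sum_range_succ, this, val_one d, pow_one x ▸ this 1]
  have s3 : ∑ u : zpowers w, χ.1 u = 4 * k := by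
    have : χ.1 (w ^ 3) = χ.1 w := by
      rw [← r w, ← χ.2.isCharacter.apply_inv, eq_inv_of_mul_eq_one_left (show w ^ 3 * w = 1 by
        rw [← pow_succ]; exact orderOf_dvd_iff_pow_eq_one.1 w4.dvd)]
    simp [sum_zp w4, Finset.sum_range_succ, this, val_one d]
    linear_combination hk
  rw [cy, hx.card] at a1
  rw [cy, cw] at b1
  obtain ⟨j, rfl⟩ := Nat.exists_eq_add_of_le k5
  have key := sum_sup_ne_zero χ.2.isCharacter le_sup_right le_sup_left (a := 1) (b := 3 + j) (d := 3)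
    (by rw [a1, a2, s1, s2, hx.card, val_one d]; norm_num)
    (by rw [b1, b2, s1, s3, cy, val_one d]; push_cast; ring) (by rw [s1, cy]; norm_num) (by omega)
  refine ⟨_, inst, ?_, key⟩
  have n := ne_top_of_inner (ne_one_of_dg (by rw [d]; norm_num)) key
  clear key inst a2 b2
  set H := zpowers x ⊔ zpowers y ⊔ (zpowers y ⊔ zpowers w)
  have c1 := H.card_mul_index
  have c2 := (hx.isSyl.of_le (le_sup_left.trans le_sup_left : _ ≤ H) le_top).relIndex_No
  have c3 := (sy.isSyl.of_le (le_sup_left.trans le_sup_right : _ ≤ H) le_top).relIndex_No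
  have c4 := Solv.card_inf_mul_relIndex (No (zpowers x)) H
  have c5 := Solv.card_inf_mul_relIndex (No (zpowers y)) H
  have c6 : Nat.card (No (zpowers x) ⊓ H : Subgroup G) = 55 := Nat.dvd_antisymm
    (No11 f.card hx ▸ card_dvd_of_le inf_le_left)
    (a1.symm.dvd.trans (card_dvd_of_le (le_inf (sup_le (le_No _) (zpowers_le.2 yx)) le_sup_left)))
  have c7 := card_dvd_of_le (inf_le_left : No (zpowers y) ⊓ H ≤ _)
  have c8 := card_dvd_of_le (le_inf (sup_le (le_No _) wy) le_sup_right : _ ≤ No (zpowers y) ⊓ H)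
  rw [f.no] at c7
  rw [b1] at c8
  rw [← c4, c6, f.card] at c1
  rw [← c4, c6] at c5
  rw [Ne, ← index_eq_one] at n
  unfold Nat.ModEq at c2 c3
  generalize (No (zpowers x)).relIndex H = m at *
  generalize (No (zpowers y)).relIndex H = l at *
  generalize Nat.card (No (zpowers y) ⊓ H : Subgroup G) = c at *
  generalize H.index = i at *
  have e1 : m * i = 1728 := by linarith
  have e2 : ∀ m ∈ Nat.divisors 1728, m % 11 = 1 % 11 → m = 1 ∨ m = 12 ∨ m = 144 ∨ m = 1728 := by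
    decide +kernel
  have := Nat.le_of_dvd (by norm_num) c7
  have e3 := e2 m (Nat.mem_divisors.2 ⟨Dvd.intro _ e1, by norm_num⟩) c2
  have e4 : c = 20 ∨ c = 40 := by
    clear * - c7 c8 this
    interval_cases c <;> omega
  clear * - e1 e3 e4 c3 c5 n
  rcases e4 with rfl | rfl <;> rcases e3 with rfl | rfl | rfl | rfl <;> omega

theorem F5.shT (f : F5 y s) (d : dg χ = 11) {H : Subgroup G} [Fintype H] (h1 : H.index = 12)
    (h2 : classInner (fun g : H => χ.1 g) (fun _ => 1) ≠ 0) : Transfer.ShT G (G ⧸ H) 5 := by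
  have e : Nat.card (G ⧸ H) = 12 := h1
  have n := ne_one_of_dg (χ := χ) (by rw [d]; norm_num)
  have fx := fix_eq n (by rw [h1, d]) h2
  have cH : Nat.card H = 7920 := by
    have := H.card_mul_index
    rw [h1, f.card] at this
    omega
  obtain ⟨x, hx⟩ := exists_prime_orderOf_dvd_card' (G := H) 11 (by rw [cH]; norm_num)
  rw [← orderOf_coe] at hx
  have := M11.simple_of cH ((sc11 f.card hx).sub x.2) fun a ha k => by
    have := k.trans (card_Ce1_sub a)
    rw [← card_Ce1_conj (f.conj5 ((orderOf_coe a).trans ha)), f.cen] at this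
    omega
  refine shT_of_fix (by omega) (by rw [f.card, e]; rfl) fun g hg => by_contra fun k => ?_
  obtain ⟨q, hq⟩ : Nonempty (MulAction.fixedBy (G ⧸ H) g) := (Nat.card_pos_iff.1 (by omega)).1
  obtain ⟨c, rfl⟩ := QuotientGroup.mk_surjective q
  have m : c⁻¹ * g * c⁻¹⁻¹ ∈ H := by simpa [mul_assoc] using inv_mem (QuotientGroup.eq.1 hq)
  obtain ⟨j, j1, j2⟩ := M11.perm_bd (x := x) (g := ⟨_, m⟩) cH (χ.2.isCharacter.res H) (val_one d) h2
    (by rw [dz' f.card 11 d hx.symm.dvd]; norm_num) (fun t k => by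
      have := fx t
      rw [k, add_neg_cancel, Nat.cast_eq_zero, Nat.card_eq_zero] at this
      exact this.elim (fun k => k.elim ⟨((1 : G) : G ⧸ H), QuotientGroup.eq.2 (by simp)⟩)
        fun _ => not_finite (MulAction.fixedBy (G ⧸ H) (t : G))) fun e => hg (by
      simpa [mul_assoc, inv_mul_eq_one] using congrArg Subtype.val e)
  have := fx g
  rw [χ.2.isClassFunction.eq_of_isConj (isConj_iff.2 ⟨c⁻¹, rfl⟩), j1] at this
  have : (Nat.card (MulAction.fixedBy (G ⧸ H) g) : ℤ) = 1 + j := by exact_mod_cast this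
  omega

theorem exists_shT (hG : Nat.card G = 95040) : ∃ H : Subgroup G, Nat.card (G ⧸ H) = 12 ∧
    Transfer.ShT G (G ⧸ H) 5 := by
  obtain ⟨α, β, γ, ε, θ, θ', μ, ν, π, κ, κ', R, y, s, h⟩ := exists_T12 hG
  obtain ⟨w, hw, w4, k, k', k1, k2, k3 | k3⟩ := h.exists_w
  · obtain ⟨H, _, h1, h2⟩ := h.f5.exists_index h.dκ (h.real (by rw [h.dκ]; norm_num))
      h.vy.2.2.2.2.2.2.2.1 hw w4 k1 k3
    exact ⟨H, h1, h.f5.shT h.dκ h1 h2⟩
  · obtain ⟨H, _, h1, h2⟩ := h.f5.exists_index h.dκ' (h.real (by rw [h.dκ']; norm_num))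
      h.vy.2.2.2.2.2.2.2.2 hw w4 k2 k3
    exact ⟨H, h1, h.f5.shT h.dκ' h1 h2⟩

omit [IsSimpleGroup G] in
theorem unique {G' : Type*} [Group G'] [Finite G'] (h : IsM12 G) (h' : IsM12 G') :
    Nonempty (G ≃* G') := by
  have := h.1
  have := h'.1
  obtain ⟨H, h1, h2⟩ := exists_shT h.2
  obtain ⟨H', h3, h4⟩ := exists_shT h'.2
  have := Fintype.ofFinite (G ⧸ H)
  have := Fintype.ofFinite (G' ⧸ H')
  exact Shp.unique12 h2 h4 h1 h3

end M12

end Cfsg.Agent.Blk
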