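import Cfsg.Agent.Lib.Block.Rec1

/-! Commuting graphs and same-order counts. -/

set_option autoImplicit false

namespace Cfsg.Agent.Blk

open MonoidAlgebra Subgroup
open Cfsg.Agent.Char hiding cj cj_mul cj_inv_cj cj_cj_inv sum_cj_eq

variable {G H : Type*} [Group G] [Finite G] [Group H] [Finite H] {p n : ℕ} {x y g : G}

theorem card_eq_of_ne_one (f : {h : H // h ≠ 1} ≃ {g : G // g ≠ 1}) : Nat.card H = Nat.card G := by
  have h1 := Transfer.cnt_erase (p := fun _ : H => True) (a := 1) trivial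
  have h2 := Transfer.cnt_erase (p := fun _ : G => True) (a := 1) trivial
  simp only [true_and, Transfer.cnt_true] at h1 h2
  rw [← h1, ← h2, Nat.card_congr f]

theorem card_Ce1_of_graph (f : {h : H // h ≠ 1} ≃ {g : G // g ≠ 1})
    (hf : ∀ x y : {h : H // h ≠ 1}, (x : H) * y = y * x ↔ (f x : G) * f y = f y * f x)
    (x : {h : H // h ≠ 1}) : Nat.card (Ce1 (x : H)) = Nat.card (Ce1 (f x : G)) := by
  have h1 := Transfer.cnt_erase (p := fun h : H => h ∈ Ce1 (x : H)) (one_mem _)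
  have h2 := Transfer.cnt_erase (p := fun h : G => h ∈ Ce1 (f x : G)) (one_mem _)
  refine h1.symm.trans (Eq.trans (congrArg (· + 1) (Nat.card_congr ⟨fun y => ⟨(f ⟨y.1, y.2.2⟩).1,
    mem_Ce1.2 ((hf _ _).1 (mem_Ce1.1 y.2.1)), (f _).2⟩, fun y => ⟨(f.symm ⟨y.1, y.2.2⟩).1,
    mem_Ce1.2 ((hf _ _).2 (by simpa using mem_Ce1.1 y.2.1)), (f.symm _).2⟩, fun y => ?_,
    fun y => ?_⟩)) h2) <;> simp

theorem sc_of_card (hp : p.Prime) (h1 : x ≠ 1) (h : Nat.card (Ce1 x) = p) : SC p x := by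
  have h2 : orderOf x = p := ((Nat.dvd_prime hp).1 (h ▸ dvd_Ce1 (Commute.refl x))).resolve_left
    (mt orderOf_eq_one_iff.1 h1)
  exact ⟨hp, h2, Ce1_eq_of_card (h.trans h2.symm)⟩

theorem SC.of_graph (h : SC p x) (f : {h : H // h ≠ 1} ≃ {g : G // g ≠ 1})
    (hf : ∀ x y : {h : H // h ≠ 1}, (x : H) * y = y * x ↔ (f x : G) * f y = f y * f x) :
    ∃ y : H, SC p y :=
  ⟨_, sc_of_card h.prime (f.symm ⟨x, h.ne_one⟩).2 (by
    rw [card_Ce1_of_graph f hf, f.apply_symm_apply, h.cen, h.card])⟩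

theorem SC.dvd_cnt (h : SC p x) (h1 : n ≠ 1) (h2 : n ≠ p) :
    p ∣ Nat.card {g : G // orderOf g = n} := by
  have := Fact.mk h.prime
  refine Blk.dvd_cnt (k := x) (h.ord ▸ pow_orderOf_eq_one x) (fun g hg => ?_) fun g hg k => ?_
  · rw [← hg]
    exact (Transfer.IsConj.orderOf_eq' (Transfer.isConj_conj _ _))
  · have h3 := orderOf_dvd_of_mem_zpowers (h.cen ▸ mem_Ce1.2 k.symm)
    rw [hg, h.ord, Nat.dvd_prime h.prime] at h3
    exact h3.elim h1 h2

omit [Finite G] in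
theorem cnt_ord_one : Nat.card {g : G // orderOf g = 1} = 1 := by
  simp only [orderOf_eq_one_iff, Transfer.cnt_eq_one]

end Cfsg.Agent.Blk
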