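import Cfsg.Agent.Lib.Block.M12e
import Cfsg.Agent.Lib.Block.Rec2

/-! Criteria for a group of order 95040 to be simple; element counts. -/

set_option autoImplicit false

namespace Cfsg.Agent.Blk.M12

open MonoidAlgebra Subgroup
open Cfsg.Agent.Char hiding cj cj_mul cj_inv_cj cj_cj_inv sum_cj_eq

variable {G : Type*} [Group G] [Finite G] {x y : G}

theorem simple_of (hG : Nat.card G = 95040) (hx : SC 11 x) (hN : Nat.card (No (zpowers x)) = 55)
    (h5 : ∀ a : G, orderOf a = 5 → ¬ 3 ∣ Nat.card (Ce1 a)) : IsSimpleGroup G := by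
  have h : S1 11 x := ⟨hx.prime, hx.ord, by rw [hG]; norm_num⟩
  have : Nontrivial G := ⟨x, 1, hx.ne_one⟩
  refine ⟨fun N hN' => ?_⟩
  have h1 := N.card_mul_index
  rw [hG] at h1
  by_cases k : 11 ∣ Nat.card N
  · have h2 := h.frat k
    rw [hN] at h2
    have h3 : N.index ∣ 5 := Nat.dvd_of_mul_dvd_mul_right (by norm_num : 0 < 11) h2
    rcases (Nat.dvd_prime Nat.prime_five).1 h3 with h3 | h3
    · exact Or.inr (index_eq_one.1 h3)
    have h4 : Nat.card N = 19008 := by rw [h3] at h1; omega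
    have := lemL (N := N) Nat.prime_five Nat.prime_three (by rw [hG]; norm_num)
      (by rw [h4]; norm_num) h5
    rw [fact_eq (k := 3) (m := 704) h4 (by norm_num)] at this
    exact absurd this (by decide)
  have h2 := hx.modEq k
  have h3 := lemL (N := N) hx.prime Nat.prime_two (by rw [hG]; norm_num) k fun a ha => by
    rw [hx.card_Ce1 ha.symm.dvd]; norm_num
  have h5 := lemL (N := N) hx.prime Nat.prime_three (by rw [hG]; norm_num) k fun a ha => by
    rw [hx.card_Ce1 ha.symm.dvd]; norm_num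
  have h4 : ∀ n ∈ Nat.divisors 8640, n % 11 = 1 % 11 → n = 1 ∨ n = 2 ^ 2 * 3 ∨ n = 3 ^ 2 * 5 ∨
    n = 2 ^ 4 * 9 ∨ n = 2 ^ 6 * 5 ∨ n = 2 ^ 2 * 135 ∨ n = 2 ^ 6 * 27 := by decide +kernel
  rcases h4 _ (Nat.mem_divisors.2 ⟨Nat.Coprime.dvd_of_dvd_mul_right (n := 11)
    ((Nat.Prime.coprime_iff_not_dvd hx.prime).2 k).symm ⟨_, h1.symm⟩, by norm_num⟩) h2 with h4 | h4 | h4 | h4 | h4 | h4 | h4
  · exact Or.inl (card_eq_one.1 h4)
  on_goal 2 =>
    rw [fact_eq h4 (by norm_num)] at h5
    exact absurd h5 (by decide)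
  all_goals
    rw [fact_eq h4 (by norm_num)] at h3
    exact absurd h3 (by decide)

theorem counts [IsSimpleGroup G] (hG : Nat.card G = 95040) (n : ℕ) {c : ℕ}
    (hc : c = Nat.card {g : G // orderOf g = n}) :
    c = 1 ∨ c = 9504 ∨ c = 17280 ∨ 11 ∣ c ∧ c % 5 ≤ 1 := by
  obtain ⟨x, hx⟩ := sc11' hG
  obtain ⟨α, β, γ, ε, θ, θ', h⟩ := exists_B11 hG
  obtain ⟨y, s, -, -, -, -, f, -⟩ := h.exists_F5
  subst hc
  by_cases h1 : n = 1
  · subst h1
    exact Or.inl cnt_ord_one
  by_cases h2 : n = 11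
  · have h3 := (⟨hx.prime, hx.ord, by rw [hG]; norm_num⟩ : S1 11 x).cnt
    have h4 := (No (Subgroup.zpowers x)).card_mul_index
    rw [No11 hG hx, hG] at h4
    subst h2
    omega
  by_cases h3 : n = 5
  · refine .inr (.inl ?_)
    rw [← Transfer.cnt_congr (p := IsConj y) fun g => ⟨fun e => by
      rw [Transfer.IsConj.orderOf_eq' e, f.oy, h3], fun e => f.conj5 (e.trans h3)⟩,
      card_isConj_eq_index, index_eq hG, f.cen]
  by_cases h4 : n = 10
  · refine .inr (.inl ?_)
    rw [← Transfer.cnt_congr (p := IsConj (y * s)) fun g => ⟨fun e => by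
      rw [Transfer.IsConj.orderOf_eq' e, f.o10, h4], fun e => (f.sing (by
        rw [e, h4]; norm_num)).resolve_left fun k => by
          have := Transfer.IsConj.orderOf_eq' k
          rw [e, f.oy] at this
          omega⟩, card_isConj_eq_index, index_eq hG, f.c10]
  refine .inr (.inr (.inr ⟨hx.dvd_cnt h1 h2, ?_⟩))
  have k1 := cnt_mod (p := 5) (k := y) (A := fun g => orderOf g = n) (f.oy ▸ pow_orderOf_eq_one y)
    fun g k => (orderOf_conj' _ _).trans k
  have k2 := Transfer.cnt_mono (p := fun g => orderOf g = n ∧ Commute y g) (q := fun g => g = s)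
    fun g k => f.uniq k.2 (by
      have := dvd_Ce1 k.2
      rw [f.cen, k.1] at this
      have := Nat.le_of_dvd (by norm_num) this
      rw [k.1]
      interval_cases n <;> omega)
  rw [Transfer.cnt_eq_one] at k2
  unfold Nat.ModEq at k1
  omega

end Cfsg.Agent.Blk.M12
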