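import Mathlib

/-! Arithmetic for simple groups of order dividing 95040. -/

set_option autoImplicit false
set_option synthInstance.maxSize 4096
set_option synthInstance.maxHeartbeats 200000

namespace Cfsg.Agent.Blk.M12

theorem ar9 : (∀ n ∈ Nat.divisors 1728, n % 11 = 1 → n = 1 ∨ n = 12 ∨ n = 144 ∨ n = 1728) ∧
    ∀ b < 10, ∀ c < 10 - b, ∀ d < 10 - b - c, ∀ e < 10 - b - c - d, ∀ n ∈ [12, 32, 45, 120], ∀ δ ∈ [1, -1],
      b + c + d + e = 9 → (1 + ((b : ℕ) * 12 + (c : ℕ) * -32 + (d : ℕ) * 45 + (e : ℕ) * -120) : ℤ) =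
        δ * (n : ℕ) → 1 + (b * 144 + c * 1024 + d * 2025 + e * 14400) + n ^ 2 ≤ 15840 →
      ¬ 9 ∣ ((b : ℕ) * 12 + (d : ℕ) * 45 + (e : ℕ) * -120 : ℤ) - δ * (if 3 ∣ n then n else 0) := by
  decide +kernel

theorem perm_card {α : Type*} [Fintype α] [DecidableEq α] {σ : Equiv.Perm α} {q : ℕ} (hq : q.Prime)
    (h : q ≠ 11) (h1 : 11 ∣ orderOf σ) (h2 : q ∣ orderOf σ) : 13 ≤ Fintype.card α := by
  have k : ∀ p : ℕ, p.Prime → p ∣ orderOf σ → ∃ l ∈ σ.cycleType, p ∣ l := fun p hp e =>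
    hp.prime.exists_mem_multiset_dvd (e.trans (Equiv.Perm.lcm_cycleType σ ▸
      Multiset.lcm_dvd.2 fun _ k => Multiset.dvd_prod k))
  obtain ⟨a, a1, a2⟩ := k 11 (by norm_num) h1
  obtain ⟨b, b1, b2⟩ := k q hq h2
  have s := σ.sum_cycleType.le.trans σ.support.card_le_univ
  have a3 := Equiv.Perm.two_le_of_mem_cycleType a1
  have b3 := Equiv.Perm.two_le_of_mem_cycleType b1
  have a4 := Nat.le_of_dvd (by omega) a2
  obtain ⟨t, ht⟩ := Multiset.exists_cons_of_mem a1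
  rw [ht, Multiset.mem_cons] at b1
  rw [ht, Multiset.sum_cons] at s
  rcases b1 with rfl | b1
  · have := Nat.le_of_dvd (by omega) (Nat.Coprime.mul_dvd_of_dvd_of_dvd
      ((Nat.coprime_primes hq (by norm_num)).2 h) b2 a2)
    have := hq.two_le
    omega
  · have := Multiset.le_sum_of_mem b1
    omega

end Cfsg.Agent.Blk.M12
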