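import Cfsg.Agent.Lib.Block.M12f
import Cfsg.Agent.Lib.Block.M12t

/-! Simple groups whose order divides 95040 and is divisible by 11. -/

set_option autoImplicit false

namespace Cfsg.Agent.Blk.M12.Dv

open MonoidAlgebra Subgroup
open Cfsg.Agent.Char hiding cj cj_mul cj_inv_cj cj_cj_inv sum_cj_eq
open scoped ComplexConjugate
attribute [local instance] _root_.Classical.propDecidable

variable {G : Type*} [Group G] [Finite G] [IsSimpleGroup G] {q : ℕ} {x y g s t z : G}
  {χ ψ : IrrCharacter G} {N X : Finset (IrrCharacter G)} {δ : ℤ} {a : IrrCharacter G → ℤ}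

theorem big (hx : orderOf x = 11) (hq : q.Prime) (h : q ≠ 11) (hs : orderOf s = q) (c : Commute x s)
    {H : Subgroup G} (hH : H ≠ ⊤) : 13 ≤ H.index := by
  have h1 : H.normalCore = ⊥ := (H.normalCore_normal.eq_bot_or_eq_top).resolve_right fun h1 =>
    hH (top_le_iff.1 (h1 ▸ H.normalCore_le))
  rw [normalCore_eq_ker, MonoidHom.ker_eq_bot_iff] at h1
  have := Fintype.ofFinite (G ⧸ H)
  have o := (orderOf_injective _ h1 (x * s)).trans (c.orderOf_mul_eq_mul_orderOf_of_coprime (by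
    rw [hx, hs]; exact (Nat.coprime_primes (by norm_num) hq).2 h.symm))
  rw [index, Nat.card_eq_fintype_card]
  exact perm_card hq h (by rw [o, hx]; simp) (by rw [o, hs]; simp)

theorem no10 (hc : _root_.commutator G = ⊤) (hx : SC 11 x) (h : 2 ∣ Nat.card (No (zpowers x)))
    (h1 : dg χ = 10) (h2 : ∀ g, 11 ∣ orderOf g → χ.1 g = -1) : False := by
  obtain ⟨t, ht⟩ := exists_prime_orderOf_dvd_card' 2 h
  rw [← orderOf_coe] at ht
  have := Fintype.ofFinite (zpowers x)
  have := Fintype.ofFinite (zpowers (t : G))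
  have := Fintype.ofFinite (zpowers x ⊔ zpowers (t : G) : Subgroup G)
  have i : zpowers x ⊓ zpowers (t : G) = ⊥ :=
    inf_eq_bot_of_coprime (by rw [hx.card, Nat.card_zpowers, ht]; norm_num)
  obtain ⟨a1, a2⟩ := sum_frob χ.2.isClassFunction (zpowers_le.2 t.2) i fun d hd d1 v hv c =>
    by_contra fun v1 => d1 (mem_bot.1 (i ▸ mem_inf.2 ⟨hx.Ce1_eq hv v1 ▸ mem_Ce1.2 c, hd⟩))
  have s1 : ∑ u : zpowers x, χ.1 u = Nat.card (zpowers x) * (0 : ℕ) := by
    have : ∀ j, j % 11 ≠ 0 → χ.1 (x ^ j) = -1 := fun j hj => h2 _ (by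
      rw [Nat.Coprime.orderOf_pow (by
        rw [hx.ord]; exact ((Nat.Prime.coprime_iff_not_dvd hx.prime).2 (by omega))), hx.ord])
    simp [sum_zp hx.ord, Finset.sum_range_succ, this, val_one h1, pow_one x ▸ this 1]
    norm_num
  obtain ⟨m, hm⟩ := sum_int (zpowers x ⊔ zpowers (t : G)) χ.2.isCharacter
  obtain rfl := Nat.le_zero.1 (sum_mono χ.2.isCharacter le_sup_left hm s1)
  obtain ⟨v, v1, v2⟩ := inv_val hc ht χ
  rw [hm, s1, sum_zp ht, hx.card] at a2
  simp [Finset.sum_range_succ, v1] at a2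
  omega

variable (hG : Nat.card G ∣ 95040) (hc : _root_.commutator G = ⊤)
include hG

omit [IsSimpleGroup G] in
theorem dg_bd (χ : IrrCharacter G) : dg χ < 309 ∧ 95040 % dg χ = 0 := by
  refine ⟨?_, Nat.mod_eq_zero_of_dvd ((deg_dvd_card χ).trans hG)⟩
  have := sum_sq_sub {χ}
  have := Nat.le_of_dvd (by norm_num) hG
  rw [Finset.sum_singleton] at *
  nlinarith

include hc

theorem nexc (h : PB 11 x N X δ a) (hχ : χ ∈ N) (h1 : χ ≠ irrOne G) :
    dg χ ∈ [10, 12, 32, 45, 54, 120, 144] ∧ a χ = if dg χ % 11 = 1 then 1 else -1 := by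
  have h2 := h.cong χ hχ
  have h3 := ar0.1 _ (dg_bd hG χ).1 (dg_bd hG χ).2
  have h4 := mt (dg_eq_one hc) h1
  rcases h.sgn χ hχ with k | k <;> rw [k] at h2 ⊢ <;> refine ⟨h3 (by omega) h4, ?_⟩ <;>
    split_ifs <;> omega

theorem ne_two (h : PB 11 x N X δ a) (n10 : ∀ χ ∈ N, χ ≠ irrOne G → dg χ ≠ 10) : N.card ≠ 2 := fun e => by
  obtain ⟨ψ, hψ⟩ := h.X_ne
  have r1 := h.rel_one hψ
  obtain ⟨l, l1, -, l3, l4⟩ := exists_sorted' h.one
  obtain ⟨χ, rfl⟩ := List.length_eq_one_iff.1 (show l.length = 1 by omega)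
  obtain ⟨k1, k2⟩ := (l3 χ).1 (by simp)
  obtain ⟨k3, k4⟩ := nexc hG hc h k1 k2
  have := n10 χ k1 k2
  rw [l4, h.a_one, dg_one] at r1
  simp only [List.mem_cons, List.not_mem_nil, or_false] at k3
  simp only [List.map_cons, List.map_nil, List.sum_cons, List.sum_nil, k4] at r1
  refine ar0.2.1 _ ?_ (dg_bd hG ψ).2
  simp only [List.mem_cons, List.not_mem_nil, or_false]
  rcases h.sd with rfl | rfl <;> split_ifs at r1 <;> omega

theorem no_inv (hx : orderOf x = 11) (h : PB 11 x N X δ a) (e5 : N.card = 5 ∨ N.card = 10)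
    (hs : orderOf s = 2) (cs : Commute x s) (h54 : ∀ χ ∈ N, dg χ ≠ 54) : False := by
  obtain ⟨ψ, hψ⟩ := h.X_ne
  have r1 := h.rel_one hψ
  have b := dg_bd hG ψ
  have s1 : s ≠ 1 := fun e => by simp [e] at hs
  choose v hv hv4 using inv_val hc hs
  have v44 : ∀ χ ∈ N, 44 ∣ v χ - dg χ := fun χ hχ => by
    have k1 := cong_int (p := 11) χ.2.isCharacter (k := 1) hx cs (h.val χ hχ _ (by
      rw [cs.orderOf_mul_eq_mul_orderOf_of_coprime (by rw [hx, hs]; norm_num), hx]; simp)) (hv χ)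
    have k2 := h.cong χ hχ
    have k3 := hv4 χ
    rcases h.sgn χ hχ with e | e <;> rw [e] at k1 k2 <;> omega
  have D : ∀ χ ∈ N, χ = irrOne G ∨ dg χ ∈ ({32, 45, 120, 144} : Finset ℕ) := fun χ hχ =>
    or_iff_not_imp_left.2 fun k1 => by
      have k2 := (nexc hG hc h hχ k1).1
      have k3 := abs_lt.1 (abs_lt_dg hc k1 s1 (hv χ))
      have k4 := v44 χ hχ
      have k5 := h54 χ hχ
      simp only [List.mem_cons, List.not_mem_nil, or_false, Finset.mem_insert,
        Finset.mem_singleton] at k2 ⊢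
      omega
  obtain ⟨m, hm⟩ : ∃ m : ℕ → ℕ, ∀ d, (N.filter fun χ => dg χ = d).card = m d := ⟨_, fun _ => rfl⟩
  have cnt : ∀ F : ℕ → ℤ, ∑ χ ∈ N, F (dg χ) =
      F 1 + (m 32 * F 32 + m 45 * F 45 + m 120 * F 120 + m 144 * F 144) := fun F => by
    rw [sum_fib hc h.one (by simp) D, dg_one, Finset.sum_congr rfl fun d _ => by
      rw [Finset.sum_congr rfl fun χ k => congrArg F (Finset.mem_filter.1 k).2, Finset.sum_const, hm]]
    simp [add_assoc]
  have q1 := cnt fun _ => 1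
  have q2 := cnt fun d => if d % 11 = 1 then d else -d
  have q3 := cnt fun d => d ^ 2
  have q4 := cnt fun d => if d = 1 ∨ d = 45 then 0 else 144
  rw [← Finset.sum_congr rfl (f := fun χ => a χ * dg χ) fun χ hχ => by
    by_cases e : χ = irrOne G
    · simp [e, h.a_one, dg_one]
    · simp [(nexc hG hc h hχ e).2], ← r1] at q2
  have q5 := (h.sum_sq hψ).trans (Nat.le_of_dvd (by norm_num) hG)
  have q6 : 1 * dg ψ ^ 2 ≤ X.card * dg ψ ^ 2 := Nat.mul_le_mul_right _ h.X_ne.card_pos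
  have q7 : 22 < dg ψ := by
    have k1 := h.rel ψ hψ s (by rw [hs]; norm_num)
    simp only [hv] at k1
    have k2 : δ * v ψ = ∑ χ ∈ N, a χ * v χ := by exact_mod_cast k1
    have k3 : 44 ∣ δ * v ψ - δ * dg ψ := by
      rw [k2, r1, ← Finset.sum_sub_distrib]
      exact Finset.dvd_sum fun χ hχ => mul_sub (a χ) _ _ ▸ (v44 χ hχ).mul_left _
    have k4 := abs_lt.1 (abs_lt_dg hc (h.ne_one hψ) s1 (hv ψ))
    rcases h.sd with rfl | rfl <;> omega
  simp only [Finset.sum_const, nsmul_eq_mul, mul_one] at q1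
  zify at q5 q6
  norm_num at q2 q3 q4
  obtain ⟨k1, k2, k3⟩ := ar1 (m 32) (by omega) (m 45) (by omega) (m 120) (by omega) (m 144) (by omega)
    (by omega) (dg ψ) (by rcases h.sd with rfl | rfl <;> omega) q7 b.2 (by zify; linarith)
  obtain ⟨χ, k1⟩ := Finset.card_pos.1 (hm _ ▸ k1)
  obtain ⟨φ, k2⟩ := Finset.card_pos.1 (hm _ ▸ k2)
  rw [Finset.mem_filter] at k1 k2
  have w1 := cen_int (hv χ)
  have w2 := cen_int (hv φ)
  have w3 := v44 χ k1.1
  have w4 := v44 φ k2.1
  have w5 := abs_lt.1 (abs_lt_dg hc (ne_one_of_dg (by omega)) s1 (hv χ))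
  have w6 := abs_lt.1 (abs_lt_dg hc (ne_one_of_dg (by omega)) s1 (hv φ))
  rw [k1.2] at w1 w3 w5
  rw [k2.2] at w2 w4 w6
  rw [show v χ = -12 by omega] at w1
  have w7 : 360 ∣ (Ce1 s).index := by
    rcases (by omega : v φ = 1 ∨ v φ = -43) with e | e <;> rw [e] at w2 <;> omega
  have w8 := (Finset.sum_le_sum fun χ hχ => show (if dg χ = 1 ∨ dg χ = 45 then 0 else 144 : ℤ) ≤
    v χ ^ 2 by
      split_ifs with e
      · positivity
      · have := (D χ hχ).resolve_left fun k => e (.inl (k ▸ dg_one))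
        have := v44 χ hχ
        simp only [Finset.mem_insert, Finset.mem_singleton] at *
        exact sq_le_sq'' (c := 12) (by omega)).trans
      (col_int N fun χ _ => hv χ)
  have w9 := (Ce1 s).card_mul_index.le.trans (Nat.le_of_dvd (by norm_num) hG)
  have := Nat.le_of_dvd (Nat.pos_of_ne_zero index_ne_zero_of_finite) w7
  rw [q4] at w8
  have := Nat.mul_le_mul (show 288 ≤ Nat.card (Ce1 s) by omega) this
  omega

omit hG hc in
theorem no33 (hx : S1 11 x) (h1 : Nat.card (Ce1 x) = 33) (h2 : (No (zpowers x)).index = 144)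
    (h3 : ¬ 9 ∣ Nat.card (No (zpowers x))) : False := by
  obtain ⟨z, hz, c⟩ := exists_ord_Ce1 (q := 3) (x := x) (by rw [h1]; norm_num)
  have o : orderOf (x * z) = 33 := by
    rw [c.orderOf_mul_eq_mul_orderOf_of_coprime (by rw [hx.ord, hz]; norm_num), hx.ord, hz]
  have e : zpowers (x * z) = Ce1 x := eq_of_le_of_card_ge (zpowers_le.2 (mem_Ce1.2
    ((Commute.refl x).mul_left c.symm))) (by rw [h1, Nat.card_zpowers, o])
  have le : No (zpowers x) ≤ No (zpowers z) := fun g hg => by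
    obtain ⟨k, hk⟩ := (mem_No.1 (inv_mem hg)).le (conj_mem_cs.2 (mem_zpowers x))
    obtain ⟨i, hi⟩ := mem_powers_iff_mem_zpowers.2 (e.ge (mem_Ce1.2 (show Commute (g * z * g⁻¹) x by
      simpa [hk, mul_assoc] using ((c.zpow_left k).conj g).symm)))
    have : 33 ∣ i * 3 := o ▸ orderOf_dvd_iff_pow_eq_one.2 (by
      rw [pow_mul, show _ ^ i = _ from hi, conj_pow, ← hz, pow_orderOf_eq_one]; simp)
    refine mem_No_zp (n := i) ?_
    rw [← show _ ^ i = _ from hi, c.mul_pow, orderOf_dvd_iff_pow_eq_one.1 (hx.ord ▸ by omega), one_mul]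
  have cz : Nat.card (zpowers z) = 3 ^ 1 := (Nat.card_zpowers z).trans hz
  have k1 := (No (zpowers x)).card_mul_index
  have k2 : 3 ^ (1 + 1) ∣ Nat.card (No (zpowers z)) :=
    Sylow.prime_pow_dvd_card_normalizer (by rw [← k1, h2]; exact Dvd.dvd.mul_left (by norm_num) _) cz
  have k3 := (hx.isSyl.of_le ((le_No _).trans le) le_top).relIndex_No
  have k4 := Solv.card_mul_relIndex le
  have k5 := relIndex_mul_index le
  have k6 := big hx.ord Nat.prime_three (by norm_num) hz c (H := No (zpowers z)) fun e => by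
    rcases (normalizer_eq_top_iff.1 e).eq_bot_or_eq_top with e | e
    · simp [e] at cz
    · rw [e, card_top, ← k1, h2] at cz
      omega
  rw [h2] at k5
  rw [← k4] at k2
  unfold Nat.ModEq at k3
  generalize (No (zpowers x)).relIndex (No (zpowers z)) = m at *
  have : m < 12 := by nlinarith
  obtain rfl : m = 1 := by omega
  exact h3 (by simpa using k2)

omit hc in
theorem no15840 (h : Nat.card G = 15840) (hx : SC 11 x) (h1 : Nat.card (No (zpowers x)) = 110) :
    False := by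
  have hc := perfect_of (G := G) (by rw [h]; norm_num)
  have h2 : ¬ 11 ^ 2 ∣ Nat.card G := by rw [h]; norm_num
  obtain ⟨N, X, δ, a, k⟩ := exists_PB hx.ord h2
  obtain ⟨ψ, hψ⟩ := k.X_ne
  have c1 := k.cN
  have c2 := k.cX
  rw [hx.cen, hx.card, h1] at c1
  have c3 : N.card = 10 := by omega
  have c4 : X.card = 1 := by rw [c3] at c2; omega
  have D0 : ∀ χ : IrrCharacter G, χ ≠ irrOne G → ∀ b : ℤ, (b = 1 ∨ b = -1) → 11 ∣ b * dg χ - 1 →
      (∀ g, 11 ∣ orderOf g → χ.1 g = b) → dg χ ∈ [12, 32, 45, 120] := fun χ k1 b b1 b2 b3 => by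
    have k2 := ar0.1 _ (dg_bd hG χ).1 (dg_bd hG χ).2 (by rcases b1 with rfl | rfl <;> omega)
      (mt (dg_eq_one hc) k1)
    have k3 : dg χ ≠ 10 := fun e => no10 hc hx (by rw [h1]; norm_num) e (by
      obtain rfl : b = -1 := by rcases b1 with rfl | rfl <;> omega
      simpa using b3)
    have k4 : dg χ ∣ _ := deg_dvd_card χ
    have k5 := sq_lt k1
    rw [h] at k4 k5
    simp only [List.mem_cons, List.not_mem_nil, or_false] at k2 ⊢
    rcases k2 with e | e | e | e | e | e | e <;> rw [e] at k3 k4 k5 ⊢ <;> simp_all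
  have D : ∀ χ ∈ N, χ = irrOne G ∨ dg χ ∈ ({12, 32, 45, 120} : Finset ℕ) := fun χ hχ =>
    or_iff_not_imp_left.2 fun k1 => by
      simpa using D0 χ k1 _ (k.sgn χ hχ) (k.cong χ hχ) (k.val χ hχ)
  obtain ⟨m, hm⟩ : ∃ m : ℕ → ℕ, ∀ d, (N.filter fun χ => dg χ = d).card = m d := ⟨_, fun _ => rfl⟩
  have cnt : ∀ F : ℕ → ℤ, ∑ χ ∈ N, F (dg χ) =
      F 1 + (m 12 * F 12 + m 32 * F 32 + m 45 * F 45 + m 120 * F 120) := fun F => by
    rw [sum_fib hc k.one (by simp) D, dg_one, Finset.sum_congr rfl fun d _ => by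
      rw [Finset.sum_congr rfl fun χ k => congrArg F (Finset.mem_filter.1 k).2, Finset.sum_const, hm]]
    simp [add_assoc]
  have sg : ∀ F : ℕ → ℤ, ∑ χ ∈ N, a χ * F (dg χ) =
      ∑ χ ∈ N, (if dg χ % 11 = 1 then 1 else -1) * F (dg χ) := fun F =>
    Finset.sum_congr rfl fun χ hχ => by
      by_cases e : χ = irrOne G
      · simp [e, k.a_one, dg_one]
      · rw [(nexc hG hc k hχ e).2]
  have q1 := cnt fun _ => 1
  have q2 := (k.rel_one hψ).trans ((sg fun d => d).trans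
    (cnt fun d => (if d % 11 = 1 then 1 else -1) * d))
  have q3 := cnt fun d => d ^ 2
  have q4 := k.bt_dvd (q := 3) (k := 1) (m := 1760) hx h2 hψ h (by norm_num) (by norm_num)
  have q5 := k.sum_sq hψ
  rw [show ∑ χ ∈ N, a χ * _ = _ from (sg fun d => ((if 3 ^ 1 ∣ d then d else 0 : ℕ) : ℤ)).trans
    (cnt fun d => (if d % 11 = 1 then 1 else -1) * ((if 3 ^ 1 ∣ d then d else 0 : ℕ) : ℤ))] at q4
  simp only [Finset.sum_const, nsmul_eq_mul, mul_one, c3] at q1
  rw [c4, h] at q5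
  zify at q5
  norm_num at q2 q3
  have xc := k.xcong ψ hψ
  refine ar9.2 (m 12) (by omega) (m 32) (by omega) (m 45) (by omega) (m 120) (by omega) _
    (D0 ψ (k.ne_one hψ) (-δ) (by rcases k.sd with rfl | rfl <;> simp)
      (by rw [c3] at xc; rcases k.sd with rfl | rfl <;> omega) (by simpa using k.xval c4 ψ hψ)) δ
    (by simpa using k.sd) (by omega) (by linarith) (by zify; linarith) (by simpa using q4)

omit hc in
theorem orders (h1 : 11 ∣ Nat.card G) (h2 : Nat.card G ≠ 11) : Nat.card G = 660 ∨ Nat.card G = 1320 ∨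
    Nat.card G = 7920 ∨ Nat.card G = 95040 := by
  have hc := perfect_of (G := G) fun k => h2 ((Nat.prime_dvd_prime_iff_eq (by norm_num) k).1 h1).symm
  have h3 : ¬ 11 ^ 2 ∣ Nat.card G := fun k => absurd (k.trans hG) (by norm_num)
  obtain ⟨x, hx⟩ := exists_S1 (by norm_num) h1 h3
  obtain ⟨N, X, δ, a, h⟩ := exists_PB hx.ord h3
  obtain ⟨c, cx⟩ := hx.dvd_Ce1
  have c1 := h.cN
  have c2 := h.cX
  have c3 := (No (zpowers x)).card_mul_index
  have c4 := hx.index_modEq
  have c5 : (No (zpowers x)).index ≠ 1 := fun e => by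
    rcases (normalizer_eq_top_iff.1 (index_eq_one.1 e)).eq_bot_or_eq_top with e | e
    · simpa [e] using hx.card
    · exact h2 (by simpa [e] using hx.card)
  have e2 : N.card ≠ 2 := fun e2 => ne_two hG hc h (fun χ k1 k2 e => by
    have k3 : a χ = -1 := by rw [(nexc hG hc h k1 k2).2, e]; rfl
    exact no10 hc ⟨hx.prime, hx.ord, h.sc_of hx.ord h3 k1 k3 (by rw [e])⟩ ⟨_, by rw [← c1, e2]⟩ e
      (by simpa [k3] using h.val χ k1)) e2
  have e1 := h.card_ne_one hc
  have e5 : N.card = 5 ∨ N.card = 10 := by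
    have := Nat.le_of_dvd (by norm_num) (⟨X.card, by omega⟩ : N.card ∣ 10)
    generalize N.card = e at *
    interval_cases e <;> omega
  obtain ⟨f, f1, f2⟩ : ∃ f, N.card = 5 * f ∧ (f = 1 ∨ f = 2) := ⟨N.card / 5, by omega⟩
  rw [f1, cx] at c1
  have c6 : Nat.card G = 55 * (f * c * (No (zpowers x)).index) := by rw [← c3, ← c1]; ring
  have c7 : f * c * (No (zpowers x)).index ∣ 1728 :=
    Nat.dvd_of_mul_dvd_mul_left (by norm_num : 0 < 55) (c6 ▸ hG)
  rcases ar9.1 _ (Nat.mem_divisors.2 ⟨(Dvd.intro_left _ rfl).trans c7, by norm_num⟩) c4 with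
    e | e | e | e <;> rw [e] at c6 c7
  · exact (c5 e).elim
  · by_cases k : c = 1
    · subst k
      omega
    obtain ⟨q, hq, q1⟩ := Nat.exists_prime_and_dvd k
    have := Fact.mk hq
    obtain ⟨s, s1, s2⟩ := exists_ord_Ce1 (cx ▸ q1.mul_left 11)
    have := big hx.ord hq (fun k => absurd ((k ▸ (q1.mul_left f).mul_right 12).trans c7) (by norm_num))
      s1 s2 (mt index_eq_one.2 c5)
    omega
  · have c8 : f * c ∣ 12 := Nat.dvd_of_mul_dvd_mul_right (by norm_num : 0 < 144) c7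
    by_cases k : 2 ∣ c
    · obtain ⟨s, s1, s2⟩ := exists_ord_Ce1 (cx ▸ k.mul_left 11)
      refine (no_inv hG hc hx.ord h e5 s1 s2 fun χ hχ k1 => ?_).elim
      obtain ⟨m, hm⟩ : dg χ ∣ _ := deg_dvd_card χ
      have m3 : ¬ 3 ∣ m := fun k2 => absurd ((mul_dvd_mul_left 54 k2).trans (k1 ▸ hm ▸ hG))
        (by norm_num)
      obtain ⟨z, hz, cz⟩ := exists_ord_Ce1 (q := 3) (x := x) (by
        rw [k1, c6] at hm
        rcases f2 with rfl | rfl <;> omega)
      have o := cz.orderOf_mul_eq_mul_orderOf_of_coprime (by rw [hx.ord, hz]; norm_num)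
      have k6 := h.val χ hχ (x * z) (by rw [o, hx.ord]; simp)
      rw [dz hm m3 (by rw [o, hz]; simp)] at k6
      rcases h.sgn χ hχ with e | e <;> simp [e] at k6
    have := Nat.le_of_dvd (by norm_num) ((Dvd.intro_left _ rfl).trans c8)
    obtain rfl | rfl : c = 1 ∨ c = 3 := by
      have := (Dvd.intro_left _ rfl).trans c8
      interval_cases c <;> omega
    · rcases f2 with rfl | rfl
      · omega
      · exact (no15840 hG c6 (hx.sc cx) c1.symm).elim
    · exact (no33 hx cx e (by omega)).elim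
  · have := Nat.dvd_one.1 (Nat.dvd_of_mul_dvd_mul_right (by norm_num : 0 < 1728) c7)
    omega

end Cfsg.Agent.Blk.M12.Dv
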