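import Cfsg.Agent.Lib.Block.M12g
import Cfsg.Agent.Lib.Char.Triple
import Cfsg.Agent.Lib.Char.CycBridge
import Cfsg.Agent.Lib.Spor.M12
import Cfsg.Agent.S2034
import Cfsg.Agent.S2060
import Cfsg.Agent.S0228

/-! Groups of order 95040 with characters of degree divisible by 55 and by 33. -/

set_option autoImplicit false

namespace Cfsg.Agent.Blk.M12.Dv

open MonoidAlgebra Subgroup
open Cfsg.Agent.Char hiding cj cj_mul cj_inv_cj cj_cj_inv sum_cj_eq

variable {G : Type*} [Group G] [Finite G] {x : G} {χ ψ : IrrCharacter G} {N K : Subgroup G}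

theorem le_cen (hG : Nat.card G ∣ 95040) (hx : S1 11 x) [N.Normal] (h : ¬ 11 ∣ Nat.card N) :
    N ≤ Ce (zpowers x) := by
  refine inf_eq_left.1 (eq_of_le_of_card_ge inf_le_left (Nat.le_of_dvd Nat.card_pos
    ((Nat.dvd_iff_prime_pow_dvd_dvd _ _).2 fun q k hq k1 => ?_)))
  have := Fact.mk hq
  obtain ⟨Q, a, h1, h2, h3⟩ := exists_norm_syl (N := N) hx.prime q
    (hx.card ▸ card_subgroup_dvd_card _) h
  obtain ⟨g, hg⟩ := hx.exists_cs ((Nat.card_zpowers a).trans h2)
  have h4 : Nat.card Q ≡ Nat.card (Ce1 a ⊓ Q : Subgroup G) [MOD 11] :=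
    (cnt_mod (k := a) (p := 11) (h2 ▸ pow_orderOf_eq_one a) (A := fun g => g ∈ Q)
      fun g hg => (mem_No.1 h3).le (conj_mem_cs.2 hg)).trans (by
        rw [Transfer.cnt_congr (q := fun g => g ∈ Ce1 a ⊓ Q) fun g =>
          ⟨fun k => ⟨mem_Ce1.2 k.2.symm, k.1⟩, fun k => ⟨k.2, (mem_Ce1.1 k.1).symm⟩⟩])
  have h5 := Solv.card_inf_mul_relIndex (Ce1 a) Q
  have h6 : Nat.card Q ∣ 8640 := Nat.Coprime.dvd_of_dvd_mul_right (n := 11)
    ((Nat.Prime.coprime_iff_not_dvd hx.prime).2 fun k => h (k.trans (card_dvd_of_le h1.le))).symm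
    ((card_subgroup_dvd_card Q).trans hG)
  have h7 : ∀ p : ℕ, p.Prime → p ∣ (Ce1 a).relIndex Q → p = q := fun p hp k =>
    (Nat.prime_dvd_prime_iff_eq hp hq).1 (hp.dvd_of_dvd_pow (h1.card_eq ▸ h5 ▸ k.mul_left _))
  have h8 : (Ce1 a).relIndex Q ≡ 1 [MOD 11] := by
    refine Nat.ModEq.cancel_left_of_coprime (c := Nat.card (Ce1 a ⊓ Q : Subgroup G))
      ((Nat.Prime.coprime_iff_not_dvd hx.prime).2 fun k => ?_) (by rwa [h5, mul_one])
    exact absurd ((h5 ▸ k.mul_right _).trans h6) (by norm_num)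
  have h9 : ∀ n ∈ Nat.divisors 8640, n % 11 = 1 % 11 → n = 1 ∨ 2 ∣ n ∧ (3 ∣ n ∨ 5 ∣ n) ∨
    3 ∣ n ∧ 5 ∣ n := by decide +kernel
  have a2 := h7 2 Nat.prime_two
  have a3 := h7 3 Nat.prime_three
  have a5 := h7 5 Nat.prime_five
  have k2 : Q ≤ Ce1 a := relIndex_eq_one.1 (by
    have := h9 _ (Nat.mem_divisors.2 ⟨(Dvd.intro_left _ h5).trans h6, by norm_num⟩) h8
    omega)
  have k3 : cs g Q ≤ N ⊓ Ce (zpowers x) := le_inf ((cs_mono g h1.le).trans (cs_normal g N).le) (by
    rw [← hg, ← cs_Ce, Ce_zpowers]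
    exact cs_mono g k2)
  refine dvd_trans ?_ (card_dvd_of_le k3)
  rw [card_cs, h1.card_eq]
  exact pow_dvd_pow _ ((hq.pow_dvd_iff_le_factorization Nat.card_pos.ne').1 k1)

theorem exists_K (hx : S1 11 x) : ∃ K : Subgroup G, K.Normal ∧ x ∈ K ∧
    ∀ L : Subgroup K, L.Normal → 11 ∣ Nat.card L → L = ⊤ := by
  refine ⟨normalClosure {x}, inferInstance, subset_normalClosure rfl, fun L _ k => ?_⟩
  rw [eq_top_iff, ← map_subtype_le_map_subtype, ← MonoidHom.range_eq_map, range_subtype]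
  refine (closure_le _).2 fun y hy => ?_
  have m : y ∈ normalClosure {x} := conjugatesOfSet_subset_normalClosure hy
  obtain ⟨z, hz, c⟩ := Group.mem_conjugatesOfSet_iff.1 hy
  rw [Set.mem_singleton_iff.1 hz] at c
  have : S1 11 (⟨y, m⟩ : normalClosure {x}) := ⟨hx.prime, by
    rw [← orderOf_coe]; exact (Transfer.IsConj.orderOf_eq' c).trans hx.ord,
    fun e => hx.3 (e.trans (card_subgroup_dvd_card _))⟩
  exact ⟨_, this.le_of_dvd k (mem_zpowers _), rfl⟩

theorem quasi (hG : Nat.card G ∣ 95040) (hx : S1 11 x)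
    (h : ∀ L : Subgroup G, L.Normal → 11 ∣ Nat.card L → L = ⊤) (L : Subgroup G) [L.Normal] :
    L = ⊤ ∨ L ≤ center G := or_iff_not_imp_left.2 fun k => by
  have h1 := le_cen hG hx (mt (h L inferInstance) k)
  have h2 := h (Ce L) inferInstance (hx.card ▸ card_dvd_of_le (le_centralizer_iff.1 h1))
  exact fun u hu => mem_center_iff.2 fun g => (mem_Ce.1 (h2.ge (mem_top g)) u hu).symm

theorem quot_simple (h : ∀ (L : Subgroup G) [L.Normal], L = ⊤ ∨ L ≤ center G)
    (h1 : (center G).index ≠ 1) : IsSimpleGroup (G ⧸ center G) := by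
  have : Nontrivial (G ⧸ center G) := Finite.one_lt_card_iff_nontrivial.1
    (lt_of_le_of_ne Nat.card_pos h1.symm)
  refine ⟨fun M _ => (h (M.comap (QuotientGroup.mk' _))).symm.imp (fun k => ?_) fun k => ?_⟩
  · refine eq_bot_iff.2 fun u hu => ?_
    obtain ⟨u, rfl⟩ := QuotientGroup.mk_surjective u
    exact (QuotientGroup.eq_one_iff u).2 (k hu)
  · refine eq_top_iff.2 fun u _ => ?_
    obtain ⟨u, rfl⟩ := QuotientGroup.mk_surjective u
    exact k.ge (mem_top u)

theorem isM11 : IsM11 Spor.M11 := ⟨have := Spor.simple11; Spor.M11Equiv.symm.isSimpleGroup,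
  (Nat.card_congr Spor.M11Equiv.toEquiv).symm.trans Spor.card11⟩

theorem isM12 : IsM12 Spor.M12 := ⟨have := Spor.simple12; Spor.M12Equiv.symm.isSimpleGroup,
  (Nat.card_congr Spor.M12Equiv.toEquiv).symm.trans (Spor.card_stab_dod Spor.d0_mem)⟩

theorem cover11 {K : Type} [Group K] [Finite K]
    (h : ∀ (L : Subgroup K) [L.Normal], L = ⊤ ∨ L ≤ center K) (h1 : (center K).index = 7920) :
    Nonempty (K ≃* Spor.M11) := by
  have := quot_simple h (by omega)
  obtain ⟨e⟩ := M11.unique ⟨this, h1⟩ isM11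
  let σ := e.toMonoidHom.comp (QuotientGroup.mk' _)
  have k1 : Function.Surjective σ := e.surjective.comp (QuotientGroup.mk'_surjective _)
  have k2 : σ.ker ≤ center K := fun u hu => (QuotientGroup.eq_one_iff u).1 (e.map_eq_one_iff.1 hu)
  obtain ⟨π, hπ⟩ := S2034.result.2 K σ ⟨k1, k2, ((h _).resolve_right fun k => by
    have k3 := M11.perf (G := K ⧸ center K) h1
    have k4 := _root_.map_commutator_eq K (QuotientGroup.mk' (center K))
    rw [(Subgroup.map_eq_bot_iff _).2 (by rwa [QuotientGroup.ker_mk']), QuotientGroup.range_mk'] at k4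
    exact bot_ne_top (k4.trans k3)).ge.trans' le_top⟩
  have : Subsingleton (Multiplicative (ZMod 1)) := inferInstanceAs (Subsingleton (Fin 1))
  have := hπ.subsingleton
  exact ⟨MulEquiv.ofBijective σ ⟨(MonoidHom.ker_eq_bot_iff σ).1 (eq_bot_of_subsingleton _), k1⟩⟩

theorem split11 [K.Normal] (e : K ≃* Spor.M11) : Nonempty (Ce K × K ≃* G) := by
  have c : ∀ a ∈ Ce K, ∀ b ∈ K, a * b = b * a := fun a ha b hb => (mem_Ce.1 ha b hb).symm
  have := isM11.1
  have := e.isSimpleGroup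
  have hZ := center_bot (M11.perf ((Nat.card_congr e.toEquiv).trans isM11.2))
  refine ⟨MulEquiv.ofBijective (prodHom c) ⟨prodHom_injective c (eq_bot_iff.2 fun u hu => ?_),
    MonoidHom.range_eq_top.1 ((range_prodHom c).trans (eq_top_iff.2 fun g _ => ?_))⟩⟩
  · exact congrArg Subtype.val (mem_bot.1 (hZ.le (show (⟨u, hu.2⟩ : K) ∈ _ from
      mem_center_iff.2 fun g => Subtype.ext (c u hu.1 g g.2).symm)))
  · obtain ⟨m, hm⟩ := (index_eq_one.1 S2060.result).ge
      (mem_top (e.symm.trans ((MulAut.conjNormal g).trans e)))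
    have : (e.symm m : G)⁻¹ * g ∈ Ce K := mem_Ce.2 fun u hu => by
      have := congrArg (fun f => (e.symm (f (e ⟨u, hu⟩)) : G)) hm
      simp at this
      rw [mul_assoc, show g * u = g * u * g⁻¹ * g by group, ← this]
      group
    simpa using mul_mem (mem_sup_right (e.symm m).2) (mem_sup_left this : _ ∈ Ce K ⊔ K)

theorem main {G : Type} [Group G] [Finite G] (hG : Nat.card G = 95040) {χ ψ : IrrCharacter G}
    (h1 : 55 ∣ dg χ) (h2 : 33 ∣ dg ψ) : Nonempty (G ≃* Spor.M12) ∨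
      Nonempty (G ≃* alternatingGroup (Fin 4) × Spor.M11) := by
  obtain ⟨x, hx⟩ := exists_S1 (G := G) (p := 11) (by norm_num) (by rw [hG]; norm_num)
    (by rw [hG]; norm_num)
  obtain ⟨K, _, xK, hK⟩ := exists_K hx
  have := Fintype.ofFinite K
  have cK : Nat.card K ∣ 95040 := hG ▸ card_subgroup_dvd_card K
  have hx' : S1 11 (⟨x, xK⟩ : K) := ⟨hx.prime, by rw [← orderOf_coe]; exact hx.ord,
    fun e => hx.3 (e.trans (card_subgroup_dvd_card _))⟩
  have q := quasi cK hx' hK
  obtain ⟨θ, hθ, k⟩ := χ.2.exists_irr_under K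
  obtain ⟨m, m1, m2⟩ := χ.2.exists_degree_eq_mul hθ k
  obtain ⟨d, -, hd⟩ := hθ.exists_degree
  have d1 := hθ.degree_dvd_index_center hd
  have d2 := hθ.degree_sq_le_index hθ.center_le_charCenter hd
  have d0 : dg χ = m * d := by rw [← cast_deg, hd] at m2; exact_mod_cast m2
  have i1 := K.card_mul_index
  have i2 := (center K).card_mul_index
  have d3 : ∀ p : ℕ, p.Prime → p ∣ 55 → p ∣ Nat.card K → p ∣ d := fun p hp k1 k2 =>
    (hp.dvd_mul.1 (d0 ▸ k1.trans h1)).resolve_left fun k3 => by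
      have := i1 ▸ mul_dvd_mul k2 (k3.trans m1)
      rw [hG] at this
      rcases (Nat.Prime.dvd_mul hp).1 (show p ∣ 5 * 11 from k1) with e | e <;>
        rw [(Nat.prime_dvd_prime_iff_eq hp (by norm_num)).1 e] at this <;> omega
  have d0' : 0 < d := Nat.pos_of_ne_zero fun e => charDegree_ne_zero χ (d0.trans (by simp [e]))
  have d4 := d3 11 (by norm_num) (by norm_num) (hx'.card ▸ card_subgroup_dvd_card _)
  have d5 := Nat.pow_le_pow_left (Nat.le_of_dvd d0' d4) 2
  have := quot_simple q (by omega)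
  have o := orders (G := K ⧸ center K) ((Dvd.intro_left _ i2).trans cK) (d4.trans d1)
    (show (center K).index ≠ 11 by omega)
  change (center K).index = _ ∨ (center K).index = _ ∨ (center K).index = _ ∨
    (center K).index = _ at o
  have d6 := d3 5 (by norm_num) (by norm_num) (i2 ▸ Dvd.dvd.mul_left (by omega) _)
  have d7 := Nat.pow_le_pow_left (Nat.le_of_dvd d0' (Nat.Coprime.mul_dvd_of_dvd_of_dvd
    (by norm_num) d6 d4)) 2
  rcases (by omega : (center K).index = 95040 ∨ (center K).index = 7920) with e | e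
  · obtain ⟨f⟩ := M12.unique ⟨this, e⟩ isM12
    have c1 : Nat.card K = 95040 := Nat.dvd_antisymm cK (by rw [← i2, e]; simp)
    exact .inl ⟨((MulEquiv.ofBijective K.subtype ((Nat.bijective_iff_injective_and_card _).2
      ⟨K.subtype_injective, c1.trans hG.symm⟩)).symm.trans (MulEquiv.ofBijective
        (QuotientGroup.mk' _) ((Nat.bijective_iff_surjective_and_card _).2
          ⟨QuotientGroup.mk'_surjective _, c1.trans e.symm⟩))).trans f⟩
  obtain ⟨f⟩ := cover11 q e
  obtain ⟨g⟩ := split11 f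
  have c1 : Nat.card K = 7920 := (Nat.card_congr f.toEquiv).trans isM11.2
  have c2 : Nat.card (Ce K) = 12 := by
    have := Nat.card_congr g.toEquiv
    rw [Nat.card_prod, c1, hG] at this
    omega
  obtain ⟨a⟩ := S0228.result c2 fun z hz k => by
    obtain ⟨φ, η, hφ, hη, k1⟩ := (ψ.2.comp_equiv g).exists_prod
    obtain ⟨c, c0, hc⟩ := hφ.exists_degree
    have k2 := congrFun k1 1
    have := isM11.1
    have := f.isSimpleGroup
    obtain ⟨α₁, α₂, α₃, β, θ, θ', γ, ρ, σ, h⟩ := M11.exists_T11 c1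
    simp only [map_one, Prod.fst_one, Prod.snd_one, hc] at k2
    rw [← cast_deg, show η 1 = _ from (cast_deg ⟨η, hη⟩).symm] at k2
    replace k2 : dg ψ = c * dg ⟨η, hη⟩ := by exact_mod_cast k2
    have k3 := hφ.degree_sq_le_index hφ.center_le_charCenter hc
    have k4 := (center (Ce K)).card_mul_index
    have k5 := Nat.le_of_dvd Nat.card_pos (card_dvd_of_le (zpowers_le.2 k))
    rw [Nat.card_zpowers, hz] at k5
    rw [c2] at k4
    have k6 : c < 3 := by nlinarith
    have := h.d1; have := h.d2; have := h.d3; have := h.dβ; have := h.dθ; have := h.dθ'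
    have := h.dγ; have := h.dρ; have := h.dσ; have := dg_one (G := K)
    rcases h.all ⟨η, hη⟩ with e | e | e | e | e | e | e | e | e | e <;> rw [e] at k2 <;>
      interval_cases c <;> omega
  exact .inr ⟨g.symm.trans (a.prodCongr f)⟩

end Cfsg.Agent.Blk.M12.Dv
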