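import Cfsg.Agent.Lib.Block.Fix

/-!
Major subsections: valuations of contributions, transport of sections, total positivity.
-/

set_option autoImplicit false

namespace Cfsg.Agent.Blk

open MonoidAlgebra
open Cfsg.Agent.Char hiding cj cj_mul cj_inv_cj cj_cj_inv sum_cj_eq
open scoped ComplexConjugate

section TP

/-- Totally nonnegative complex numbers. -/
def TP (z : ℂ) : Prop := ∀ σ : ℂ ≃+* ℂ, ∃ r : ℝ, 0 ≤ r ∧ σ z = r

theorem TP.add {z w : ℂ} (hz : TP z) (hw : TP w) : TP (z + w) := fun σ => by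
  obtain ⟨r, h1, h2⟩ := hz σ
  obtain ⟨s, h3, h4⟩ := hw σ
  exact ⟨r + s, by positivity, by rw [map_add, h2, h4]; push_cast; rfl⟩

theorem TP.mul {z w : ℂ} (hz : TP z) (hw : TP w) : TP (z * w) := fun σ => by
  obtain ⟨r, h1, h2⟩ := hz σ
  obtain ⟨s, h3, h4⟩ := hw σ
  exact ⟨r * s, by positivity, by rw [map_mul, h2, h4]; push_cast; rfl⟩

theorem TP.inv {z : ℂ} (hz : TP z) : TP z⁻¹ := fun σ => by
  obtain ⟨r, h1, h2⟩ := hz σ
  exact ⟨r⁻¹, by positivity, by rw [map_inv₀, h2]; push_cast; rfl⟩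

theorem TP.nat (n : ℕ) : TP n := fun σ => ⟨n, by positivity, by simp⟩

theorem TP.zero : TP 0 := by simpa using TP.nat 0

theorem TP.sum {ι : Type*} (s : Finset ι) {f : ι → ℂ} (h : ∀ i ∈ s, TP (f i)) :
    TP (∑ i ∈ s, f i) := Finset.sum_induction _ _ (fun _ _ => TP.add) TP.zero h

theorem TP.mul_conj {z : ℂ} (h : z ∈ CM) : TP (z * conj z) := fun σ =>
  ⟨‖σ z‖ ^ 2, by positivity, by
    rw [map_mul, h σ, Complex.mul_conj, Complex.normSq_eq_norm_sq]⟩

theorem TP.classInner {G : Type*} [Group G] [Fintype G] {θ : G → ℂ} (h : ∀ g, θ g ∈ CM) :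
    TP (classInner θ θ) := by
  unfold Cfsg.classInner
  exact (TP.nat _).inv.mul (TP.sum _ fun g _ => TP.mul_conj (h g))

/-- Nonzero totally positive algebraic integers have mean at least one. -/
theorem card_le_of_TP {ι : Type*} (s : Finset ι) (f : ι → ℂ)
    (hf : ∀ i ∈ s, IsIntegral ℤ (f i)) (hc : ∀ i ∈ s, TP (f i)) (h0 : ∀ i ∈ s, f i ≠ 0)
    {w : ℂ} (hw : TP w) {n : ℕ} (h : ∑ i ∈ s, f i + w = n) : s.card ≤ n := by
  by_contra hlt
  push Not at hlt
  have key : ∀ σ : ℂ ≃+* ℂ, ‖σ (∏ i ∈ s, f i)‖ < 1 := fun σ => by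
    choose! r hr1 hr2 using fun i hi => hc i hi σ
    obtain ⟨t, ht1, ht2⟩ := hw σ
    have h1 : ∑ i ∈ s, r i + t = n := by
      have h2 := congrArg σ h
      rw [map_natCast, map_add, map_sum, ht2, Finset.sum_congr rfl hr2] at h2
      exact_mod_cast h2
    rw [map_prod, norm_prod]
    calc ∏ i ∈ s, ‖σ (f i)‖ ≤ ∏ i ∈ s, Real.exp (r i - 1) := by
          refine Finset.prod_le_prod (fun _ _ => by positivity) fun i hi => ?_
          rw [hr2 i hi, Complex.norm_real, Real.norm_of_nonneg (hr1 i hi)]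
          linarith [Real.add_one_le_exp (r i - 1)]
      _ = Real.exp (∑ i ∈ s, r i - s.card) := by
          rw [← Real.exp_sum, Finset.sum_sub_distrib]; simp
      _ < 1 := Real.exp_lt_one_iff.2 (by
          have : (n : ℝ) < s.card := by exact_mod_cast hlt
          linarith)
  have h1 := norm_eq_one_of_forall_conj_le (IsIntegral.prod _ hf)
    (Finset.prod_ne_zero_iff.2 h0) fun σ => (key σ).le
  exact (key (RingEquiv.refl ℂ)).ne h1

theorem isIntegral_of_coprime {z : ℂ} {a b : ℕ} (h : a.Coprime b) (ha : IsIntegral ℤ (a * z))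
    (hb : IsIntegral ℤ (b * z)) : IsIntegral ℤ z := by
  obtain ⟨u, v, huv⟩ := Nat.isCoprime_iff_coprime.2 h
  have : z = u * (a * z) + v * (b * z) := by
    have := congrArg (Int.cast : ℤ → ℂ) huv
    push_cast at this
    linear_combination (-z) * this
  rw [this]
  exact ((isIntegral_algebraMap (x := u)).mul ha).add ((isIntegral_algebraMap (x := v)).mul hb)

end TP

variable {G : Type*} [Group G] [Finite G] {M : Ideal AlgInt} {p : ℕ} {u v : G}
  {A B : Set (IrrCharacter G)} {b : Set (IrrCharacter (Ce1 u))} {χ ψ : IrrCharacter G}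

theorem isIntegral_om_zf [Fintype G] (χ : IrrCharacter G) {θ : G → ℂ} (hθ : IsClassFunction G θ)
    (h : ∀ g, IsIntegral ℤ (θ g)) : IsIntegral ℤ (om χ (zf θ)) := by
  classical
  have := Fintype.ofFinite (ConjClasses G)
  rw [Z_eq_sum_cls (zf_mem hθ), om_sum]
  refine IsIntegral.sum _ fun C _ => ?_
  rw [om_smul, om_cls χ.2.isClassFunction, coeff_zf]
  exact (isIntegral_conj (h _)).mul (isIntegral_centralChar χ.2 _)

theorem loc_mem_CM (e : Set (IrrCharacter (Ce1 u))) {θ : G → ℂ}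
    (hθ : IsGeneralizedCharacter G θ) (s : Ce1 u) : loc p u e θ s ∈ CM := by
  have := Fintype.ofFinite (Ce1 u)
  unfold loc reg
  split_ifs
  · exact zero_mem _
  rw [blockPart_fs, Finset.sum_apply]
  refine sum_mem fun ξ _ => mul_mem ?_ (char_mem_CM ξ.2.isGen _)
  obtain ⟨ω, h1, -, h3⟩ := exists_coeff_Ru ξ
  obtain ⟨n, hn⟩ := (hθ.res (Ce1 u)).classInner_eq_int ξ.2.isGen
  rw [h3, hn]
  exact mul_mem (mem_CM_of_pow (orderOf_pos u).ne' h1) (intCast_mem _ _)

theorem sec_mem_CM [Fintype G] [Fact p.Prime] (hu : ∃ k : ℕ, orderOf u = p ^ k)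
    (e : Set (IrrCharacter (Ce1 u))) {θ : G → ℂ} (hθ : IsGeneralizedCharacter G θ) (g : G) :
    sec p u e θ g ∈ CM :=
  Iu_mem CM hu (isClassFunction_loc _ _ _) (fun s _ => loc_mem_CM e hθ s) g

theorem sec_apply [Fintype G] [Fact p.Prime] (hu : ∃ k : ℕ, orderOf u = p ^ k)
    (e : Set (IrrCharacter (Ce1 u))) {θ : G → ℂ} (hθ : IsClassFunction G θ) {s : G}
    (hs : ¬ p ∣ orderOf s) (hc : s ∈ Ce1 u) :
    sec p u e θ (u * s) = ch θ (es (Ce1 u) (fC e) * single (u * s) 1) := by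
  have hs' : ¬ p ∣ orderOf (⟨s, hc⟩ : Ce1 u) := by rwa [← Subgroup.orderOf_coe]
  rw [sec, Iu_apply hu (isClassFunction_loc _ _ _) hs', loc_apply _ hθ hs']

theorem sec_eq_zero [Fintype G] [Fact p.Prime] (hu : ∃ k : ℕ, orderOf u = p ^ k)
    (e : Set (IrrCharacter (Ce1 u))) (θ : G → ℂ) {g x : G} (hx : IsPPart p g x)
    (h : ¬ IsConj u x) : sec p u e θ g = 0 := Iu_eq_zero hu _ hx h

/-- Class functions supported on the section of `u` are determined on `u * s`. -/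
theorem ext_section [Fact p.Prime] {θ φ : G → ℂ} (hθ : IsClassFunction G θ)
    (hφ : IsClassFunction G φ) (h1 : ∀ g x, IsPPart p g x → ¬ IsConj u x → θ g = 0)
    (h2 : ∀ g x, IsPPart p g x → ¬ IsConj u x → φ g = 0)
    (h : ∀ s ∈ Ce1 u, ¬ p ∣ orderOf s → θ (u * s) = φ (u * s)) : θ = φ := by
  funext g
  obtain ⟨x, hx⟩ := exists_isPPart p g
  by_cases hc : IsConj u x
  swap
  · rw [h1 g x hx hc, h2 g x hx hc]
  obtain ⟨c, hc⟩ := isConj_iff.1 hc.symm
  have hx' := hx.conj c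
  rw [hc] at hx'
  have := h (u⁻¹ * (c * g * c⁻¹)) (mem_Ce1.2 (by
    rw [mul_assoc, ← hx'.commute.eq]; group)) hx'.preg
  rwa [mul_inv_cancel_left, hθ, hφ] at this

theorem es_fC_image_conj {K L : Subgroup G} {x : G} (h : cs x K = L)
    (b : Set (IrrCharacter K)) : es L (fC (irrMap (conjIso h) '' b)) = cj x (es K (fC b)) := by
  rw [fC_image, es_emb_conjIso]

theorem sec_conj [Fintype G] [Fact p.Prime] (hu : ∃ k : ℕ, orderOf u = p ^ k) {x : G}
    (hx : x * u * x⁻¹ = v) (h : cs x (Ce1 u) = Ce1 v) (e : Set (IrrCharacter (Ce1 u)))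
    {θ : G → ℂ} (hθ : IsClassFunction G θ) :
    sec p v (irrMap (conjIso h) '' e) θ = sec p u e θ := by
  have hv : ∃ k : ℕ, orderOf v = p ^ k := by rwa [← hx, orderOf_conj']
  have huv : IsConj u v := isConj_iff.2 ⟨x, hx⟩
  refine ext_section (p := p) (u := u) (isClassFunction_sec _ _) (isClassFunction_sec _ _)
    (fun g y hy hc => sec_eq_zero hv _ _ hy fun h' => hc (huv.trans h'))
    (fun g y hy hc => sec_eq_zero hu _ _ hy hc) fun s hs hs' => ?_
  have h1 : x * (u * s) * x⁻¹ = v * (x * s * x⁻¹) := by rw [← hx]; group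
  rw [← (isClassFunction_sec _ _).apply_conj _ x, h1, sec_apply hv _ hθ (by rwa [orderOf_conj'])
    (h ▸ conj_mem_cs.2 hs), sec_apply hu _ hθ hs' hs, es_fC_image_conj, ← h1,
    ← ch_cj hθ x (_ * single (u * s) 1), map_mul (cj x), cj_single]

variable [PMod M p]

theorem classInner_sec_of_not_conj [Fintype G] (hu : ∃ k : ℕ, orderOf u = p ^ k)
    (hv : ∃ k : ℕ, orderOf v = p ^ k) (h : ¬ IsConj u v) (hb : IsUB M b)
    (e : Set (IrrCharacter (Ce1 v))) {θ : G → ℂ} (hθ : IsClassFunction G θ) (φ : G → ℂ) :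
    classInner (sec p u b θ) (sec p v e φ) = 0 := by
  have := Fintype.ofFinite (Ce1 u)
  rw [hb.classInner_sec hθ (isClassFunction_sec _ _), sec,
    hb.loc_Iu_of_not_conj hu hv (fun h' => h h'.symm), classInner_zero_right]

theorem classInner_sec_of_disjoint [Fintype G] (hu : ∃ k : ℕ, orderOf u = p ^ k)
    (hb : IsUB M b) {e : Set (IrrCharacter (Ce1 u))} (h : b ∩ e = ∅) {θ : G → ℂ}
    (hθ : IsClassFunction G θ) (φ : G → ℂ) : classInner (sec p u b θ) (sec p u e φ) = 0 := by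
  have := Fintype.ofFinite (Ce1 u)
  rw [hb.classInner_sec hθ (isClassFunction_sec _ _), hb.loc_sec hu, h, loc, loc,
    blockPart_empty, reg_zero, classInner_zero_right]

/-- Sections of subsections that are not conjugate are orthogonal. -/
theorem classInner_sec_eq_zero [Fintype G] (hu : ∃ k : ℕ, orderOf u = p ^ k)
    (hv : ∃ k : ℕ, orderOf v = p ^ k) (hb : IsPBlock M b) {e : Set (IrrCharacter (Ce1 v))}
    (he : IsPBlock M e)
    (h : ∀ x, x * v * x⁻¹ = u → cj x (barS M (Ce1 v) e) ≠ barS M (Ce1 u) b) {θ φ : G → ℂ}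
    (hθ : IsClassFunction G θ) (hφ : IsClassFunction G φ) :
    classInner (sec p u b θ) (sec p v e φ) = 0 := by
  have := Fact.mk (PMod.prime M)
  by_cases hc : IsConj u v
  swap
  · exact classInner_sec_of_not_conj hu hv hc hb.isUB _ hθ _
  obtain ⟨x, hx⟩ := isConj_iff.1 hc.symm
  have h1 : cs x (Ce1 v) = Ce1 u := by rw [cs_Ce1, hx]
  rw [← sec_conj hv hx h1 e hφ]
  refine classInner_sec_of_disjoint hu hb.isUB ?_ hθ _
  by_contra hne
  obtain ⟨ξ, h2, h3⟩ := Set.nonempty_iff_ne_empty.2 hne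
  apply h x hx
  rw [← barS_image_conj h1, hb.eq_of_mem ((isPBlock_image_iff _).2 he) h2 h3]

section Val

variable [Fintype (Ce1 u)]

theorem IsUB.pow_mul_om_sec [Fintype G] (hb : IsUB M b) (hχ : χ ∈ B)
    (hd : blockDefect p b = blockDefect p B) {θ : G → ℂ} (hθ : IsClassFunction G θ) :
    ∃ w : ℂ, w ∈ O M ∧ ¬ MemLocalIdeal M w ∧
      (p : ℂ) ^ blockHeight p B χ * om χ (zf (sec p u b θ)) = cm p u b χ.1 θ * w := by
  obtain ⟨w, h1, h2, h3⟩ := card_div_deg_eq M hχ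
  refine ⟨w, h1, h2, ?_⟩
  rw [om_zf, ← mul_assoc, h3, ← conj_classInner, hb.classInner_sec hθ χ.2.isClassFunction,
    conj_classInner, cm, hd]
  ring

theorem _root_.Cfsg.IsInducedBlock.cm_val (hu : ∃ k : ℕ, orderOf u = p ^ k)
    (h : IsInducedBlock M (Ce1 u) b B) (hd : blockDefect p b = blockDefect p B) (hχ : χ ∈ B)
    (hψ : ψ ∈ B) (h0 : blockHeight p B ψ = 0) :
    ∃ w : ℂ, w ∈ O M ∧ ¬ MemLocalIdeal M w ∧
      cm p u b χ.1 ψ.1 = (p : ℂ) ^ blockHeight p B χ * w := by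
  have := Fact.mk (PMod.prime M)
  have := Fintype.ofFinite G
  obtain ⟨hb, hB, -⟩ := isInducedBlock_iff.1 h
  have hi := isInt_zf M (isIntegral_sec hu b ψ.2.isGen)
  have hz := zf_mem (isClassFunction_sec (p := p) b ψ.1)
  obtain ⟨w, h1, h2, h3⟩ := hb.isUB.pow_mul_om_sec hχ hd ψ.2.isClassFunction
  obtain ⟨w', h1', h2', h3'⟩ := hb.isUB.pow_mul_om_sec hψ hd ψ.2.isClassFunction
  have h4 : ¬ MemLocalIdeal M (om χ (zf (sec p u b ψ.1))) := by
    rw [LI_om_congr ((hB.blk_eq hχ).trans (hB.blk_eq hψ).symm) hz hi]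
    rw [h0, pow_zero, one_mul] at h3'
    rw [h3', LI_mul_unit_iff h1' h2']
    exact (h.not_LI_cm_iff hu ψ ψ).2 ⟨⟨hψ, h0⟩, hψ, h0⟩
  have hw := ne_zero_of_not_LI h2
  refine ⟨om χ (zf (sec p u b ψ.1)) * w⁻¹, mul_mem (om_mem_O χ hz hi) (inv_mem_O_of_not_LI h1 h2),
    ?_, ?_⟩
  · rwa [LI_mul_unit_iff (inv_mem_O_of_not_LI h1 h2) (not_LI_inv h1 hw)]
  · rw [← mul_assoc, h3, mul_inv_cancel_right₀ hw]

theorem _root_.Cfsg.IsInducedBlock.cm_ne_zero (hu : ∃ k : ℕ, orderOf u = p ^ k)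
    (h : IsInducedBlock M (Ce1 u) b B) (hd : blockDefect p b = blockDefect p B) (hχ : χ ∈ B)
    (hψ : ψ ∈ B) (h0 : blockHeight p B ψ = 0) : cm p u b χ.1 ψ.1 ≠ 0 := by
  obtain ⟨w, -, h2, h3⟩ := h.cm_val hu hd hχ hψ h0
  rw [h3]
  exact mul_ne_zero (pow_ne_zero _ (p_ne_zero M)) (ne_zero_of_not_LI h2)

omit [Fintype (Ce1 u)] in
theorem _root_.Cfsg.IsInducedBlock.loc_ne_zero (hu : ∃ k : ℕ, orderOf u = p ^ k)
    (h : IsInducedBlock M (Ce1 u) b B) (hd : blockDefect p b = blockDefect p B) (hχ : χ ∈ B) :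
    loc p u b χ.1 ≠ 0 := fun h0 => by
  have := Fintype.ofFinite (Ce1 u)
  obtain ⟨ψ, hψ, h1⟩ := exists_height_zero p ⟨χ, hχ⟩
  apply h.cm_ne_zero hu hd hχ hψ h1
  rw [cm, h0, classInner_zero_left, mul_zero]

theorem _root_.Cfsg.IsInducedBlock.cm_self_ne_zero (hu : ∃ k : ℕ, orderOf u = p ^ k)
    (h : IsInducedBlock M (Ce1 u) b B) (hd : blockDefect p b = blockDefect p B) (hχ : χ ∈ B) :
    cm p u b χ.1 χ.1 ≠ 0 := by
  rw [cm]
  exact mul_ne_zero (pow_ne_zero _ (p_ne_zero M))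
    fun h0 => h.loc_ne_zero hu hd hχ (classInner_self_eq_zero.1 h0)

/-- The contribution of a major subsection is divisible by `p ^ height`. -/
theorem IsUB.exists_cm_eq (hu : ∃ k : ℕ, orderOf u = p ^ k) (hb : IsUB M b) (hχ : χ ∈ B)
    (hd : blockDefect p b = blockDefect p B) {θ : G → ℂ} (hθ : IsGeneralizedCharacter G θ) :
    ∃ z : ℂ, IsIntegral ℤ z ∧ cm p u b χ.1 θ = (p : ℂ) ^ blockHeight p B χ * z := by
  have hp := Fact.mk (PMod.prime M)
  have := Fintype.ofFinite G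
  have hp0 := p_ne_zero M
  refine ⟨cm p u b χ.1 θ / (p : ℂ) ^ blockHeight p B χ, ?_, by field_simp⟩
  obtain ⟨m, hm⟩ := deg_dvd_card χ
  have hm0 : m ≠ 0 := by rintro rfl; exact Nat.card_pos.ne' hm
  have h1 : m.factorization p + blockHeight p B χ = blockDefect p B := by
    have h2 := congrArg (fun n : ℕ => n.factorization p) hm
    simp only [Nat.factorization_mul (charDegree_ne_zero χ) hm0, Finsupp.add_apply] at h2
    rw [defect_eq_add hχ, h2]
    simp [nu]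
  refine isIntegral_of_coprime (a := p ^ blockHeight p B χ) (b := m / p ^ m.factorization p)
    ((Nat.coprime_ordCompl hp.out hm0).pow_left _) ?_ ?_
  · push_cast
    rw [mul_div_cancel₀ _ (pow_ne_zero _ hp0)]
    exact isIntegral_cm χ.2.isGen hθ
  · have h3 := isIntegral_om_zf χ (isClassFunction_sec (p := p) b θ) (isIntegral_sec hu b hθ)
    convert h3 using 1
    have h4 : (charDegree (χ : G → ℂ) : ℂ) ≠ 0 := Nat.cast_ne_zero.2 (charDegree_ne_zero χ)
    rw [om_zf, ← conj_classInner, hb.classInner_sec hθ.isClassFunction χ.2.isClassFunction,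
      conj_classInner, cm, hd, ← h1, hm, Nat.cast_div (Nat.ordProj_dvd _ _)
        (by exact_mod_cast pow_ne_zero _ hp.out.ne_zero)]
    push_cast
    field_simp
    ring

end Val

/-- Every character of a block is nonzero somewhere on the section of a central element of a
defect group. -/
theorem _root_.Cfsg.IsPBlock.exists_apply_mul_ne_zero (hB : IsPBlock M B) {P : Subgroup G}
    (hP : IsDef p ⊤ (bar M B) P) (hu : u ∈ P ⊓ Ce P) (hχ : χ ∈ B) :
    ∃ s ∈ Ce1 u, ¬ p ∣ orderOf s ∧ χ.1 (u * s) ≠ 0 := by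
  have := Fact.mk (PMod.prime M)
  obtain ⟨b, hb, -, hd⟩ := hB.exists_major hP hu
  have hu' := pelt_of_mem hP.pg hu.1
  by_contra h
  push Not at h
  apply hb.loc_ne_zero hu' hd hχ
  rw [(isInducedBlock_iff.1 hb).1.isUB.loc_eq χ.2.isClassFunction]
  have : reg p (Ru u χ.1) = 0 := funext fun s => by
    by_cases hs : p ∣ orderOf s
    · exact reg_of_dvd hs
    · rw [reg_of_preg hs]; exact h s s.2 (by rwa [Subgroup.orderOf_coe])
  rw [this, blockPart_zero]

end Cfsg.Agent.Blk
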