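import Cfsg.Agent.Lib.Block.MatA
import Cfsg.Agent.Lib.Block.AD
import Cfsg.Agent.Lib.Spor.M12
import Cfsg.Agent.Lib.Transfer.Cyc2

/-! The Mathieu groups `M22` and `M24` have a single 2-block. -/

set_option autoImplicit false
set_option maxRecDepth 100000

namespace Cfsg.Agent.Blk.Mat

open Cfsg.Agent.PC Cfsg.Agent.Fi Cfsg.Agent.Ct Cfsg.Agent.Spor MulAction Subgroup
open Cfsg.Agent.Char hiding cj cj_mul cj_inv_cj cj_cj_inv sum_cj_eq
open scoped Pointwise
attribute [local instance] _root_.Classical.propDecidable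

section
variable {G : Type*} [Group G] [MulAction G GolayPt] {x : G} {f : ℕ → ℕ}

theorem fix_iff' (h : Rep gp 24 x f) {i : ℕ} (hi : i < 24) : x • gp i = gp i ↔ f i = i :=
  ⟨fun e => gp_inj _ (h i hi).1 _ hi ((h i hi).2.symm.trans e), fun e => by rw [(h i hi).2, e]⟩

theorem movY (r : Rep gp 24 x f) (a Y : ℕ) (h : a < 24 ∧ f a ≠ a ∧ ∀ i < 24, f i ≠ i → Y.testBit i = true) :
    ∀ n ∈ No (zpowers x), n • gp a ∈ bset Y := fun n hn => by
  obtain ⟨i, hi, e⟩ := exists_gp (n • gp a)
  rw [← e, gp_mem_bset hi]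
  refine h.2.2 i hi fun h1 => h.2.1 ?_
  rw [← fix_iff' r hi, e, fix_smul_iff hn, fix_iff' r h.1] at h1
  exact h1

theorem fixY (r : Rep gp 24 x f) (a Y : ℕ) (h : a < 24 ∧ f a = a ∧ ∀ i < 24, f i = i → Y.testBit i = true) :
    ∀ n ∈ No (zpowers x), n • gp a ∈ bset Y := fun n hn => by
  obtain ⟨i, hi, e⟩ := exists_gp (n • gp a)
  rw [← e, gp_mem_bset hi]
  refine h.2.2 i hi ?_
  rw [← fix_iff' r hi, e, fix_smul_iff hn, fix_iff' r h.1]
  exact h.2.1

theorem fixS (r : Rep gp 24 x f) (a S : ℕ) (L : List ℕ)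
    (h : a < 24 ∧ ∀ i < 24, S.testBit i = true → i ∈ L ∨ ∃ k < 23, itF f k a = i) {c : G}
    (hc : c * x = x * c) (ha : c • gp a = gp a) (hL : ∀ i ∈ L, c • gp i = gp i) :
    ∀ p ∈ bset S, c • p = p := fun p hp => by
  obtain ⟨i, hi, rfl⟩ := exists_gp p
  rcases h.2 i hi ((gp_mem_bset hi).1 hp) with h1 | ⟨k, -, rfl⟩
  · exact hL i h1
  · rw [← (r.itF k a h.1).2]
    exact smul_fix (Commute.pow_right hc k) ha

end

theorem ord {c q : ℕ} (h : okE c = 0) (hq : q.Prime)
    (h1 : agF B24 (itF (pf c) q) (fun i => i) = 0 ∧ agF B24 (pf c) (fun i => i) ≠ 0) :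
    orderOf (m24 c) = q :=
  have := Fact.mk hq
  orderOf_eq_prime ((eqF ((rp h).itF q) Rep.one).1 h1.1) fun e => h1.2 ((eqF (rp h) Rep.one).2 e)

theorem cnj {x y k : ℕ} (hx : okE x = 0) (hy : okE y = 0)
    (h : agF B24 (fun i => pf y (pf x i)) (fun i => itF (pf x) k (pf y i)) = 0) :
    m24 y * m24 x = m24 x ^ k * m24 y :=
  (eqF ((rp hy).mul (rp hx)) (((rp hx).itF k).mul (rp hy))).1 h

theorem dvd_No {G : Type*} [Group G] [Finite G] {x y : G} {k : ℕ} (h : y * x = x ^ k * y) :
    orderOf y ∣ Nat.card (No (zpowers x)) := by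
  refine orderOf_dvd_natCard _ (mem_No_of_forall ?_)
  rintro _ ⟨j, rfl⟩
  rw [← conj_zpow, h, mul_inv_cancel_right]
  exact zpow_mem (pow_mem (mem_zpowers x) k) j

def x23 : ℕ := nat_lit 0xb82d5a4e5183dcd62d4941cc520c41
theorem x23_ok : okE x23 = 0 := by decide +kernel
def x11 : ℕ := nat_lit 0xb99235aa9194e0e79196a8507115a0
theorem x11_ok : okE x11 = 0 := by decide +kernel
def x7 : ℕ := nat_lit 0xb99cb48da8a06ca815843d6429be20
theorem x7_ok : okE x7 = 0 := by decide +kernel
def x5 : ℕ := nat_lit 0xb9d50355f16ba89406c32ad9298880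
theorem x5_ok : okE x5 = 0 := by decide +kernel
def y11 : ℕ := nat_lit 0xb8c8d3aac25ca33655307a0cea1420
theorem y11_ok : okE y11 = 0 := by decide +kernel
def y7 : ℕ := nat_lit 0xbbac250db0454d3a32443c4af4ac20
theorem y7_ok : okE y7 = 0 := by decide +kernel
def y5 : ℕ := nat_lit 0xb918f31e3468a129d94baa0291b8a0
theorem y5_ok : okE y5 = 0 := by decide +kernel
def r7 : ℕ := nat_lit 0x3daac122254b9b452df2b9a0324c20
theorem r7_ok : okE r7 = 0 := by decide +kernel
def r5a : ℕ := nat_lit 0x75176218a765d2faa1aa84a3308062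
theorem r5a_ok : okE r5a = 0 := by decide +kernel
def r5b : ℕ := nat_lit 0x56cb7a468988c4a1e505342c8b8b7
theorem r5b_ok : okE r5b = 0 := by decide +kernel

theorem o23 : orderOf (m24 x23) = 23 := ord x23_ok (by decide) (by decide +kernel)
theorem o11 : orderOf (m24 x11) = 11 := ord x11_ok (by decide) (by decide +kernel)
theorem o7 : orderOf (m24 x7) = 7 := ord x7_ok (by decide) (by decide +kernel)
theorem o5 : orderOf (m24 x5) = 5 := ord x5_ok (by decide) (by decide +kernel)
theorem oy11 : orderOf (m24 y11) = 5 := ord y11_ok (by decide) (by decide +kernel)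
theorem oy7 : orderOf (m24 y7) = 3 := ord y7_ok (by decide) (by decide +kernel)
theorem or7 : orderOf (m24 r7) = 2 := ord r7_ok (by decide) (by decide +kernel)
theorem or5a : orderOf (m24 r5a) = 2 := ord r5a_ok (by decide) (by decide +kernel)
theorem or5b : orderOf (m24 r5b) = 2 := ord r5b_ok (by decide) (by decide +kernel)
theorem oy5 : orderOf (m24 y5) = 2 ^ (1 + 1) :=
  orderOf_eq_prime_pow (fun e => absurd ((eqF ((rp y5_ok).itF _) Rep.one).2 e) (by decide +kernel))
    ((eqF ((rp y5_ok).itF _) Rep.one).1 (by decide +kernel))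
theorem c11 : m24 y11 * m24 x11 = m24 x11 ^ 3 * m24 y11 := cnj x11_ok y11_ok (by decide +kernel)
theorem c7 : m24 y7 * m24 x7 = m24 x7 ^ 2 * m24 y7 := cnj x7_ok y7_ok (by decide +kernel)
theorem c5 : m24 y5 * m24 x5 = m24 x5 ^ 2 * m24 y5 := cnj x5_ok y5_ok (by decide +kernel)
theorem cr7 : m24 r7 * m24 x7 = m24 x7 ^ 1 * m24 r7 := cnj x7_ok r7_ok (by decide +kernel)
theorem cr5a : m24 r5a * m24 x5 = m24 x5 ^ 1 * m24 r5a := cnj x5_ok r5a_ok (by decide +kernel)
theorem cr5b : m24 r5b * m24 x5 = m24 x5 ^ 1 * m24 r5b := cnj x5_ok r5b_ok (by decide +kernel)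
theorem cr5 : m24 r5b * m24 r5a = m24 r5a ^ 1 * m24 r5b := cnj r5a_ok r5b_ok (by decide +kernel)

theorem b23 (c : M24) (hc : c * m24 x23 = m24 x23 * c) (ha : c • gp 0 = gp 0) : c = 1 :=
  eq_one_of_prop [nat_lit 6693070905495553] 8388607 (by decide +kernel)
    (fixS (rp x23_ok) 0 _ [] (by decide +kernel) hc ha (by simp))
theorem b11 (c : M24) (hc : c * m24 x11 = m24 x11 * c) (ha : c • gp 1 = gp 1) : c = 1 :=
  eq_one_of_prop [nat_lit 99024884719621, nat_lit 4382241737400325, nat_lit 5504842458591234, nat_lit 3611552171814914, nat_lit 4021944861544449, nat_lit 5187702165557249, nat_lit 6693070905495553, nat_lit 6032127089848328, nat_lit 1296530646183952, nat_lit 2004205688508544, nat_lit 2668798196531712, nat_lit 3010273869943808, nat_lit 3346535452747776] 5448046 (by decide +kernel)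
    (fixS (rp x11_ok) 1 _ [] (by decide +kernel) hc ha (by simp))
theorem b7 (c : M24) (hc : c * m24 x7 = m24 x7 * c) (ha : c • gp 1 = gp 1) (hf : c • gp 23 = gp 23) : c = 1 :=
  eq_one_of_prop [nat_lit 5830023518011410, nat_lit 4482435116089362, nat_lit 5504842458591234, nat_lit 3611552171814914, nat_lit 4584894814965761, nat_lit 5300402040295425, nat_lit 219146441150465, nat_lit 796802413801476, nat_lit 965577509056520, nat_lit 1296530646183952, nat_lit 1607898865492000, nat_lit 2004205688508544, nat_lit 2319561516753152, nat_lit 2668798196531712, nat_lit 3010273869943808, nat_lit 3346535452747776] 14835778 (by decide +kernel)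
    (fixS (rp x7_ok) 1 _ [23] (by decide +kernel) hc ha (by simpa using hf))
theorem b5 (c : M24) (hc : c * m24 x5 = m24 x5 * c) (ha : c • gp 3 = gp 3) (hf : c • gp 23 = gp 23) : c = 1 := by
  have h1 := smul_eq_of_fix (fixS (rp x5_ok) 3 8915272 [23] (by decide +kernel) hc ha (by simpa using hf))
    ((bset_mem_gC (n := 8931660) (by decide)).2 (by decide +kernel))
    (by rw [← bset_and, card_bset, card_bset]; decide +kernel)
  have h2 : c • gp 0 = gp 0 := by
    obtain ⟨i, hi, e⟩ := exists_gp (c • gp 0)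
    have h3 := smul_fix hc.symm ((fix_iff (rp x5_ok) (by decide : 0 < 24)).2 (by decide +kernel))
    have h4 : c • gp 0 ∉ bset 8931660 := by
      rw [← h1, Finset.smul_mem_smul_finset_iff, gp_mem_bset (by decide)]; decide
    rw [← e, fix_iff (rp x5_ok) hi] at h3
    rw [← e, gp_mem_bset hi] at h4
    rw [← e, (by decide +kernel : ∀ i < 24, pf x5 i = i → ¬ Nat.testBit 8931660 i = true → i = 0) i hi h3 h4]
  exact eq_one_of_prop [nat_lit 5796660122222921, nat_lit 730218085027917, nat_lit 4796208731815948, nat_lit 424687160659975, nat_lit 5239447894269955, nat_lit 4427183779913731, nat_lit 3815992602828803, nat_lit 3548330463637508, nat_lit 6426301947138049, nat_lit 4674230369603585, nat_lit 4159796115099649, nat_lit 6032127089848328, nat_lit 1296530646183952, nat_lit 1607898865492000, nat_lit 2004205688508544, nat_lit 2668798196531712, nat_lit 3010273869943808] 8915273 (by decide +kernel)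
    (fixS (rp x5_ok) 3 _ [23, 0] (by decide +kernel) hc ha (by simpa using ⟨hf, h2⟩))

theorem cardY (Y n : ℕ) (h : pop Y = n) : (bset Y).card = n := by rw [card_bset, h]

theorem n23 : Nat.card (No (zpowers (m24 x23))) ≤ 253 := by
  have h1 := card_No_le (by decide) o23 (movY (rp x23_ok) 0 8388607 (by decide +kernel))
    (F := {PUnit.unit.{1}}) (f := PUnit.unit) (by simp) fun c hc ha _ => b23 c hc ha
  obtain ⟨n, h2, h3⟩ := card_No_modEq (m := 10644480) (by decide) o23 card_M24 (by decide)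
  rw [cardY _ 23 (by decide +kernel), Finset.card_singleton] at h1
  unfold Nat.ModEq at h3
  omega

theorem n11 : Nat.card (No (zpowers (m24 x11))) ≤ 110 := by
  have h1 := card_No_le (by decide) o11 (movY (rp x11_ok) 1 8388606 (by decide +kernel))
    (F := {PUnit.unit.{1}}) (f := PUnit.unit) (by simp) fun c hc ha _ => b11 c hc ha
  obtain ⟨n, h2, h3⟩ := card_No_modEq (m := 22256640) (by decide) o11 card_M24 (by decide)
  rw [cardY _ 22 (by decide +kernel), Finset.card_singleton] at h1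
  unfold Nat.ModEq at h3
  omega

theorem n7 : Nat.card (No (zpowers (m24 x7))) ≤ 126 := by
  have h1 := card_No_le (by decide) o7 (movY (rp x7_ok) 1 8388478 (by decide +kernel))
    (fixY (rp x7_ok) 23 8388737 (by decide +kernel)) b7
  obtain ⟨n, h2, h3⟩ := card_No_modEq (m := 34974720) (by decide) o7 card_M24 (by decide)
  rw [cardY _ 21 (by decide +kernel), cardY _ 3 (by decide +kernel)] at h1
  have h4 := oy7 ▸ dvd_No c7
  have h5 := or7 ▸ dvd_No cr7
  unfold Nat.ModEq at h3
  omega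

/-- the four-group centralizing the element of order five -/
noncomputable def R5 : Subgroup M24 := closure {m24 r5a, m24 r5b}

theorem card_R5 : Nat.card R5 = 4 := by
  rw [R5, Transfer.card_closure_pair, or5a]
  · refine mem_No_of_forall ?_
    rintro _ ⟨j, rfl⟩
    rw [← conj_zpow, cr5, mul_inv_cancel_right]
    exact zpow_mem (pow_mem (mem_zpowers _) _) j
  · rw [← or5b, pow_orderOf_eq_one]; exact one_mem _
  · intro h
    have h1 : zpowers (m24 r5b) = zpowers (m24 r5a) := eq_of_le_of_card_ge (zpowers_le.2 h)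
      (by rw [Nat.card_zpowers, Nat.card_zpowers, or5a, or5b])
    obtain ⟨k, hk, e⟩ := (mem_zpowers_iff_mem_range_orderOf.1 h |> Finset.mem_image.1)
    rw [or5a, Finset.mem_range] at hk
    interval_cases k
    · have := or5b; rw [← e] at this; simp at this
    · exact absurd ((eqF (rp r5a_ok) (rp r5b_ok)).2 (by simpa using e)) (by decide +kernel)

theorem R5_le : R5 ≤ Ce1 (m24 x5) := (closure_le _).2 (by
  rintro _ (rfl | rfl)
  · exact mem_Ce1.2 (by simpa using cr5a)
  · exact mem_Ce1.2 (by simpa using cr5b))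

theorem R5_comm : R5 ≤ Ce R5 := by
  have h := cr5
  rw [pow_one] at h
  refine (closure_le _).2 ?_
  rintro _ (rfl | rfl) <;> refine mem_Ce_iff_le.2 ((closure_le _).2 ?_) <;> rintro _ (rfl | rfl) <;>
    simp [mem_Ce1, h]

theorem n5 : Nat.card (No (zpowers (m24 x5))) ≤ 240 := by
  have h1 := card_No_le (by decide) o5 (movY (rp x5_ok) 3 8372218 (by decide +kernel))
    (fixY (rp x5_ok) 23 8404997 (by decide +kernel)) b5
  obtain ⟨n, h2, h3⟩ := card_No_modEq (m := 48964608) (by decide) o5 card_M24 (by decide)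
  rw [cardY _ 20 (by decide +kernel), cardY _ 4 (by decide +kernel)] at h1
  have h4 := card_R5 ▸ card_dvd_of_le (R5_le.trans (Ce1_le_No _))
  unfold Nat.ModEq at h3
  omega

theorem one24 {M : Ideal AlgInt} [PMod M 2] (χ : IrrCharacter M24) : χ ∈ principalBlock M M24 := by
  by_contra hχ
  have := Fintype.ofFinite M24
  obtain ⟨h1, hv⟩ := defect_zero_of_constrained (fun t ht => by
    obtain ⟨Q, q1, q2, q3, q4, -⟩ := good ht
    exact ⟨Q, q1, q2, q3, q4⟩) hχ
  have h2 := χ.2.degree_dvd_card (cast_deg χ).symm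
  have hd := (cast_deg χ).symm
  have h0 := sum_orders_le χ.2 {23, 11, 7, 5} (by decide)
  have bt : ∀ x : M24, (⊥ : Subgroup M24) ≤ Ce1 x := fun _ => bot_le
  have a23 := contrib_ge Nat.prime_two χ.2.isCharacter hv hd (by decide) (by decide) o23 IsPGroup.of_bot
    bot_le bot_le card_bot n23 (charDegree (χ : M24 → ℂ) / 23 : ℕ)
  have a11 := contrib_ge Nat.prime_two χ.2.isCharacter hv hd (by decide) (by decide) o11 IsPGroup.of_bot
    bot_le bot_le card_bot n11 (charDegree (χ : M24 → ℂ) / 11 : ℕ)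
  have a7 := contrib_ge Nat.prime_two χ.2.isCharacter hv hd (by decide) (by decide) o7
    (R := zpowers (m24 r7)) (IsPGroup.of_card (n := 1) (by rw [Nat.card_zpowers, or7]; rfl))
    (by rw [Ce_zpowers]; exact zpowers_le_Ce1 _) (zpowers_le.2 (mem_Ce1.2 (by simpa using cr7)))
    ((Nat.card_zpowers _).trans or7) n7 (charDegree (χ : M24 → ℂ) / 14 : ℕ)
  have a5 := contrib_ge Nat.prime_two χ.2.isCharacter hv hd (by decide) (by decide) o5
    (IsPGroup.of_card (n := 2) card_R5) R5_comm R5_le card_R5 n5 (charDegree (χ : M24 → ℂ) / 20 : ℕ)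
  rw [card_M24] at h1 h2 h0 a23 a11 a7 a5
  rw [show (244823040 : ℕ).factorization 2 = 10 by
    rw [Nat.factorization_def _ Nat.prime_two]; decide +kernel] at h1
  rw [hd, Complex.norm_natCast] at h0
  simp only [Finset.mem_insert, Finset.mem_singleton, Nat.reduceEqDiff, or_self, not_false_eq_true,
    Finset.sum_insert, Finset.sum_singleton] at h0
  obtain ⟨k, hk⟩ := h1
  rw [hk] at h2 h0 a23 a11 a7 a5
  have p : ∀ q : ℕ, 0 ≤ ∑ g ∈ Finset.univ.filter (fun g => orderOf g = q), ‖(χ : M24 → ℂ) g‖ ^ 2 :=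
    fun q => Finset.sum_nonneg fun _ _ => by positivity
  have hk2 : k ≤ 15 := by
    by_contra hc
    have : (16 : ℝ) ≤ k := by exact_mod_cast not_le.1 hc
    push_cast at h0
    nlinarith [p 23, p 11, p 7, p 5]
  interval_cases k <;> first | omega | (norm_num at h0 a23 a11 a7 a5; linarith [p 23, p 11, p 7, p 5])

theorem good22 {t : G22} (ht : orderOf t = 2) : ∃ Q : Subgroup G22, IsPGroup 2 Q ∧ Q ≤ Ce1 t ∧
    Ce1 t ≤ No Q ∧ ∀ c ∈ Ce Q, ¬ 2 ∣ orderOf c → c = 1 := by
  obtain ⟨Q, q1, q2, q3, q4, q5⟩ := good (t := (t : M24)) (by rwa [orderOf_coe])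
  have hQ : Q ≤ G22 := fun q hq => ⟨q5 _ t.2.1 q hq, q5 _ t.2.2 q hq⟩
  refine ⟨Q.subgroupOf G22, q1.comap_subtype, fun q hq => mem_Ce1.2 (Subtype.ext (mem_Ce1.1 (q2 hq))),
    fun c hc => mem_No_of_forall fun u hu => ?_, fun c hc ho => Subtype.ext (q4 c
      (mem_Ce.2 fun q hq => congrArg Subtype.val (mem_Ce.1 hc ⟨q, hQ hq⟩ hq)) (by rwa [orderOf_coe]))⟩
  exact (mem_normalizer_iff.1 (q3 (mem_Ce1.2 (congrArg Subtype.val (mem_Ce1.1 hc)))) u).1 hu

/-- elements of `M22` from codes -/
noncomputable def m22 (c : ℕ) (h : okE c = 0 ∧ pf c 23 = 23 ∧ pf c 0 = 0) : G22 :=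
  ⟨m24 c, (fix_iff (rp h.1) (by decide)).2 h.2.1, (fix_iff (rp h.1) (by decide)).2 h.2.2⟩

noncomputable def z11 : G22 := m22 x11 (by decide +kernel)
noncomputable def z7 : G22 := m22 x7 (by decide +kernel)
noncomputable def z5 : G22 := m22 x5 (by decide +kernel)
theorem p11 : orderOf z11 = 11 := (orderOf_coe _).symm.trans o11
theorem p7 : orderOf z7 = 7 := (orderOf_coe _).symm.trans o7
theorem p5 : orderOf z5 = 5 := (orderOf_coe _).symm.trans o5

theorem m11 : Nat.card (No (zpowers z11)) ≤ 55 := by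
  have h1 := card_No_le (by decide) p11 (movY (x := z11) (rp x11_ok) 1 8388606 (by decide +kernel))
    (F := {PUnit.unit.{1}}) (f := PUnit.unit) (by simp) fun c hc ha _ =>
      Subtype.ext (b11 c (congrArg Subtype.val hc) ha)
  obtain ⟨n, h2, h3⟩ := card_No_modEq (m := 40320) (by decide) p11 card22 (by decide)
  rw [cardY _ 22 (by decide +kernel), Finset.card_singleton] at h1
  have h4 := dvd_No (x := z11) (y := m22 y11 (by decide +kernel)) (Subtype.ext c11)
  rw [← orderOf_coe, show ((m22 y11 _ : G22) : M24) = m24 y11 from rfl, oy11] at h4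
  unfold Nat.ModEq at h3
  omega

theorem m7 : Nat.card (No (zpowers z7)) ≤ 21 := by
  have h1 := card_No_le (by decide) p7 (movY (x := z7) (rp x7_ok) 1 8388478 (by decide +kernel))
    (F := {PUnit.unit.{1}}) (f := PUnit.unit) (by simp) fun c hc ha _ =>
      Subtype.ext (b7 c (congrArg Subtype.val hc) ha c.2.1)
  obtain ⟨n, h2, h3⟩ := card_No_modEq (m := 63360) (by decide) p7 card22 (by decide)
  rw [cardY _ 21 (by decide +kernel), Finset.card_singleton] at h1
  have h4 := dvd_No (x := z7) (y := m22 y7 (by decide +kernel)) (Subtype.ext c7)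
  rw [← orderOf_coe, show ((m22 y7 _ : G22) : M24) = m24 y7 from rfl, oy7] at h4
  unfold Nat.ModEq at h3
  omega

theorem m5 : Nat.card (No (zpowers z5)) ≤ 20 := by
  have h1 := card_No_le (by decide) p5 (movY (x := z5) (rp x5_ok) 3 8372218 (by decide +kernel))
    (F := {PUnit.unit.{1}}) (f := PUnit.unit) (by simp) fun c hc ha _ =>
      Subtype.ext (b5 c (congrArg Subtype.val hc) ha c.2.1)
  obtain ⟨n, h2, h3⟩ := card_No_modEq (m := 88704) (by decide) p5 card22 (by decide)
  rw [cardY _ 20 (by decide +kernel), Finset.card_singleton] at h1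
  have h4 := dvd_No (x := z5) (y := m22 y5 (by decide +kernel)) (Subtype.ext c5)
  rw [← orderOf_coe, show ((m22 y5 _ : G22) : M24) = m24 y5 from rfl, oy5] at h4
  unfold Nat.ModEq at h3
  omega

theorem one22 {M : Ideal AlgInt} [PMod M 2] (χ : IrrCharacter G22) : χ ∈ principalBlock M G22 := by
  by_contra hχ
  have := Fintype.ofFinite G22
  obtain ⟨h1, hv⟩ := defect_zero_of_constrained (fun t ht => good22 ht) hχ
  have h2 := χ.2.degree_dvd_card (cast_deg χ).symm
  have hd := (cast_deg χ).symm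
  have h0 := sum_orders_le χ.2 {11, 7, 5, 3, 9} (by decide)
  have a11 := contrib_ge Nat.prime_two χ.2.isCharacter hv hd (by decide) (by decide) p11 IsPGroup.of_bot
    bot_le bot_le card_bot m11 (charDegree (χ : G22 → ℂ) / 11 : ℕ)
  have a7 := contrib_ge Nat.prime_two χ.2.isCharacter hv hd (by decide) (by decide) p7 IsPGroup.of_bot
    bot_le bot_le card_bot m7 (charDegree (χ : G22 → ℂ) / 7 : ℕ)
  have a5 := contrib_ge Nat.prime_two χ.2.isCharacter hv hd (by decide) (by decide) p5 IsPGroup.of_bot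
    bot_le bot_le card_bot m5 (charDegree (χ : G22 → ℂ) / 5 : ℕ)
  have p : ∀ q : ℕ, 0 ≤ ∑ g ∈ Finset.univ.filter (fun g => orderOf g = q), ‖(χ : G22 → ℂ) g‖ ^ 2 :=
    fun q => Finset.sum_nonneg fun _ _ => by positivity
  have a3 : 9 ∣ charDegree (χ : G22 → ℂ) ∨
      0 < ∑ g ∈ Finset.univ.filter (fun g => orderOf g = 3), ‖(χ : G22 → ℂ) g‖ ^ 2 +
        ∑ g ∈ Finset.univ.filter (fun g => orderOf g = 9), ‖(χ : G22 → ℂ) g‖ ^ 2 := by
    refine or_iff_not_imp_right.2 fun h => ?_
    have z : ∀ q : ℕ, ∑ g ∈ Finset.univ.filter (fun g => orderOf g = q), ‖(χ : G22 → ℂ) g‖ ^ 2 ≤ 0 →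
        ∀ g, orderOf g = q → (χ : G22 → ℂ) g = 0 := fun q hq g hg => by
      simpa using (Finset.sum_eq_zero_iff_of_nonneg fun _ _ => by positivity).1 (hq.antisymm (p q)) g
        (by simpa using hg)
    have := Fact.mk Nat.prime_three
    obtain ⟨P, hP⟩ := Sylow.exists_subgroup_card_pow_prime (G := G22) 3 (n := 2) (by rw [card22]; decide)
    obtain ⟨n, hn⟩ := exists_degree_eq_of_vanish χ.2.isGen P fun x hx hx1 => by
      have h3 := orderOf_dvd_natCard P hx
      rw [hP] at h3
      obtain ⟨j, hj, e⟩ := (Nat.dvd_prime_pow Nat.prime_three).1 h3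
      interval_cases j
      · exact absurd (orderOf_eq_one_iff.1 e) hx1
      · exact z 3 (by linarith [p 9]) x e
      · exact z 9 (by linarith [p 3]) x e
    rw [hP, hd] at hn
    exact Int.natCast_dvd_natCast.1 ⟨n, by exact_mod_cast hn⟩
  rw [card22] at h1 h2 h0 a11 a7 a5
  rw [show (443520 : ℕ).factorization 2 = 7 by
    rw [Nat.factorization_def _ Nat.prime_two]; decide +kernel] at h1
  rw [hd, Complex.norm_natCast] at h0
  simp only [Finset.mem_insert, Finset.mem_singleton, Nat.reduceEqDiff, or_self, not_false_eq_true,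
    Finset.sum_insert, Finset.sum_singleton] at h0
  obtain ⟨k, hk⟩ := h1
  rw [hk] at h2 h0 a11 a7 a5 a3
  have hk2 : k ≤ 5 := by
    by_contra hc
    have : (6 : ℝ) ≤ k := by exact_mod_cast not_le.1 hc
    push_cast at h0
    nlinarith [p 11, p 7, p 5, p 3, p 9]
  interval_cases k <;> first | omega | (norm_num at h0 a11 a7 a5 a3; linarith)

end Cfsg.Agent.Blk.Mat
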