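import Cfsg.Agent.Lib.Block.Gal
import Cfsg.Agent.Lib.Char.Triple
import Cfsg.Agent.Lib.Char.PermLemma
import Cfsg.Agent.Lib.Block.Ker
import Cfsg.Agent.Lib.Comp.SPE
import Cfsg.Agent.Lib.Comp.Loc

/-! Multiplicities in restrictions, blocks of maximal defect, fixed point congruences. -/

set_option autoImplicit false

namespace Cfsg.Agent.Blk

open MonoidAlgebra
open Cfsg.Agent.Char hiding cj cj_mul cj_inv_cj cj_cj_inv sum_cj_eq
open scoped ComplexConjugate

section Perm

variable {X : Type*} {p : ℕ}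

theorem sum_eq_sum_fixed_perm [hp : Fact p.Prime] {R : Type*} [CommRing R] [CharP R p] [Fintype X]
    (π : Equiv.Perm X) {e : ℕ} (hπ : π ^ p ^ e = 1) (f : X → R) (hf : ∀ x, f (π x) = f x)
    [DecidablePred fun x => π x = x] : ∑ x, f x = ∑ x with π x = x, f x := by
  have hP : IsPGroup p (Subgroup.zpowers π) := by
    apply isPGroup_zpowers
    exact pelt_iff.2 ⟨e, hπ⟩
  have hz : ∀ n : ℤ, ∀ x, f ((π ^ n) x) = f x := by
    intro n
    induction n using Int.induction_on with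
    | zero => intro x; simp
    | succ n ih => intro x; rw [zpow_add_one, Equiv.Perm.mul_apply, ih, hf]
    | pred n ih =>
      intro x
      rw [zpow_sub_one, Equiv.Perm.mul_apply, ih, ← hf]; simp
  refine sum_eq_sum_fixed hP f ?_ _ ?_
  · rintro ⟨_, n, rfl⟩ y
    exact hz n y
  · intro y
    rw [Finset.mem_filter]
    constructor
    · rintro ⟨-, h⟩ ⟨_, n, rfl⟩
      exact Equiv.Perm.zpow_apply_eq_self_of_apply_eq_self h n
    · intro h
      exact ⟨Finset.mem_univ _, h ⟨π, Subgroup.mem_zpowers π⟩⟩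

theorem modEq_sum_fixed [hp : Fact p.Prime] [Fintype X] (π : Equiv.Perm X) {e : ℕ}
    (hπ : π ^ p ^ e = 1) (f : X → ℕ) (hf : ∀ x, f (π x) = f x)
    [DecidablePred fun x => π x = x] : ∑ x, f x ≡ ∑ x with π x = x, f x [MOD p] := by
  rw [← ZMod.natCast_eq_natCast_iff]
  push_cast
  exact sum_eq_sum_fixed_perm π hπ (fun x => (f x : ZMod p)) (fun x => by simp only [hf])

theorem exists_fixed_not_dvd [hp : Fact p.Prime] [Fintype X] (π : Equiv.Perm X) {e : ℕ}
    (hπ : π ^ p ^ e = 1) (f : X → ℕ) (hf : ∀ x, f (π x) = f x) (h : ¬ p ∣ ∑ x, f x) :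
    ∃ x, π x = x ∧ ¬ p ∣ f x := by
  classical
  by_contra hc
  push Not at hc
  apply h
  refine (Nat.ModEq.dvd_iff (modEq_sum_fixed π hπ f hf) dvd_rfl).2 ?_
  exact Finset.dvd_sum fun x hx => hc x (Finset.mem_filter.1 hx).2

theorem modEq_card_fixed [hp : Fact p.Prime] [Finite X] (π : Equiv.Perm X) {e : ℕ}
    (hπ : π ^ p ^ e = 1) (S : X → Prop) (hS : ∀ x, S (π x) ↔ S x) :
    Nat.card {x // S x} ≡ Nat.card {x // S x ∧ π x = x} [MOD p] := by
  classical
  have := Fintype.ofFinite X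
  have h := modEq_sum_fixed (p := p) π hπ (fun x => if S x then 1 else 0) (fun x => by simp only [hS])
  rw [Nat.card_eq_fintype_card, Nat.card_eq_fintype_card, Fintype.card_subtype, Fintype.card_subtype]
  convert h using 1
  · rw [Finset.card_filter]
  · rw [← Finset.card_filter, Finset.filter_filter]
    congr 1
    ext x
    simp [and_comm]

end Perm

section Mult

variable {G : Type*} [Group G] [Finite G]

/-- The multiplicity of `θ` in the restriction of `χ`. -/
noncomputable def em (K : Subgroup G) (χ : IrrCharacter G) (θ : IrrCharacter K) : ℕ :=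
  haveI := Fintype.ofFinite K
  Classical.choose ((χ.2.isCharacter.res K).classInner_eq_nat θ.2.isCharacter)

variable {K : Subgroup G}

theorem em_spec [Fintype K] (χ : IrrCharacter G) (θ : IrrCharacter K) :
    classInner (fun n : K => (χ : G → ℂ) n) (θ : K → ℂ) = em K χ θ := by
  rw [classInner_congr_fintype _ (Fintype.ofFinite K)]
  exact Classical.choose_spec
    (@IsCharacter.classInner_eq_nat K _ (Fintype.ofFinite K) _ _ (χ.2.isCharacter.res K)
      θ.2.isCharacter)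

theorem em_ne_zero_iff [Fintype K] {χ : IrrCharacter G} {θ : IrrCharacter K} :
    em K χ θ ≠ 0 ↔ classInner (fun n : K => (χ : G → ℂ) n) (θ : K → ℂ) ≠ 0 := by
  rw [em_spec, Nat.cast_ne_zero]

theorem res_eq_sum_em (χ : IrrCharacter G) (n : K) :
    (χ : G → ℂ) n = ∑ θ : IrrCharacter K, em K χ θ * (θ : K → ℂ) n := by
  have := Fintype.ofFinite K
  rw [(χ.2.isClassFunction.res K).apply_eq_sum n]
  exact Finset.sum_congr rfl fun θ _ => by rw [em_spec]

theorem deg_eq_sum_em (K : Subgroup G) (χ : IrrCharacter G) :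
    charDegree (χ : G → ℂ) = ∑ θ : IrrCharacter K, em K χ θ * charDegree (θ : K → ℂ) := by
  have h := res_eq_sum_em (K := K) χ 1
  apply Nat.cast_injective (R := ℂ)
  push_cast
  simp only [cast_deg]
  exact h

theorem classInner_indFun_eq_em [Fintype G] (χ : IrrCharacter G) (θ : IrrCharacter K) :
    classInner (indFun K (θ : K → ℂ)) χ = em K χ θ := by
  have := Fintype.ofFinite K
  rw [frobenius_left K _ χ.2.isClassFunction, θ.2.isCharacter.classInner_comm
    (χ.2.isCharacter.res K), em_spec]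

theorem indFun_eq_sum_em [Fintype G] (θ : IrrCharacter K) (g : G) :
    indFun K (θ : K → ℂ) g = ∑ χ : IrrCharacter G, em K χ θ * (χ : G → ℂ) g := by
  rw [(isClassFunction_indFun K _).apply_eq_sum g]
  exact Finset.sum_congr rfl fun χ _ => by rw [classInner_indFun_eq_em]

theorem sum_em_mul_deg (θ : IrrCharacter K) :
    ∑ χ : IrrCharacter G, em K χ θ * charDegree (χ : G → ℂ) = K.index * charDegree (θ : K → ℂ) := by
  have := Fintype.ofFinite G
  have h := indFun_eq_sum_em θ (1 : G)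
  rw [indFun_one] at h
  apply Nat.cast_injective (R := ℂ)
  push_cast
  simp only [cast_deg]
  exact h.symm

theorem em_mul_deg_le (χ : IrrCharacter G) (θ : IrrCharacter K) :
    em K χ θ * charDegree (θ : K → ℂ) ≤ charDegree (χ : G → ℂ) := by
  rw [deg_eq_sum_em K χ]
  exact Finset.single_le_sum (f := fun θ : IrrCharacter K => em K χ θ * charDegree (θ : K → ℂ))
    (fun _ _ => Nat.zero_le _) (Finset.mem_univ θ)

theorem deg_le_of_em {χ : IrrCharacter G} {θ : IrrCharacter K} (h : em K χ θ ≠ 0) :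
    charDegree (θ : K → ℂ) ≤ charDegree (χ : G → ℂ) :=
  le_trans (Nat.le_mul_of_pos_left _ (Nat.pos_of_ne_zero h)) (em_mul_deg_le χ θ)

theorem exists_em_over (θ : IrrCharacter K) : ∃ χ : IrrCharacter G, em K χ θ ≠ 0 := by
  have := Fintype.ofFinite K
  obtain ⟨χ, h⟩ := exists_over θ
  exact ⟨χ, em_ne_zero_iff.2 h⟩

theorem exists_em_under (χ : IrrCharacter G) (K : Subgroup G) :
    ∃ θ : IrrCharacter K, em K χ θ ≠ 0 := by
  have := Fintype.ofFinite K
  obtain ⟨θ, h⟩ := exists_under χ K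
  exact ⟨θ, em_ne_zero_iff.2 h⟩

theorem em_of_res {χ : IrrCharacter G} {θ : IrrCharacter K} (h : ∀ n : K, χ.1 n = θ.1 n)
    (φ : IrrCharacter K) [Decidable (θ = φ)] : em K χ φ = if θ = φ then 1 else 0 := by
  have := Fintype.ofFinite K
  apply Nat.cast_injective (R := ℂ)
  rw [← em_spec, show (fun n : K => (χ : G → ℂ) n) = θ.1 from funext h, classInner_irr]
  split_ifs <;> simp

theorem em_of_res_self {χ : IrrCharacter G} {θ : IrrCharacter K} (h : ∀ n : K, χ.1 n = θ.1 n) :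
    em K χ θ = 1 := by
  classical
  rw [em_of_res h, if_pos rfl]

theorem eq_of_res_of_em {χ : IrrCharacter G} {θ φ : IrrCharacter K} (h : ∀ n : K, χ.1 n = θ.1 n)
    (h' : em K χ φ ≠ 0) : φ = θ := by
  classical
  rw [em_of_res h] at h'
  by_contra hc
  exact h' (if_neg (Ne.symm hc))

theorem res_eq_of_deg_le {χ : IrrCharacter G} {θ : IrrCharacter K} (h : em K χ θ ≠ 0)
    (h1 : charDegree χ.1 ≤ charDegree θ.1) (n : K) : χ.1 n = θ.1 n := by
  have := Fintype.ofFinite K
  have h2 : charDegree χ.1 = charDegree θ.1 := le_antisymm h1 (deg_le_of_em h)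
  refine congrFun ((χ.2.isCharacter.res K).eq_of_constituent_of_apply_one θ.2
    (em_ne_zero_iff.1 h) ?_) n
  show χ.1 1 = θ.1 1
  rw [← cast_deg, ← cast_deg, h2]

theorem em_gal (σ : ℂ ≃+* ℂ) (χ : IrrCharacter G) (θ : IrrCharacter K) :
    em K (irrGalois σ χ) (irrGalois σ θ) = em K χ θ := by
  have := Fintype.ofFinite K
  apply Nat.cast_injective (R := ℂ)
  rw [← em_spec, ← em_spec]
  exact classInner_res_gal σ χ θ

theorem em_irrOne (θ : IrrCharacter K) [Decidable (irrOne K = θ)] :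
    em K (irrOne G) θ = if irrOne K = θ then 1 else 0 :=
  em_of_res (fun _ => rfl) θ

theorem om_rs_fC (A : Set (IrrCharacter G)) (θ : IrrCharacter K) :
    om θ (rs K (fC A)) * (K.index * charDegree (θ : K → ℂ)) =
      ((∑ χ ∈ fs A, em K χ θ * charDegree (χ : G → ℂ) : ℕ) : ℂ) := by
  classical
  have := Fintype.ofFinite G
  have h1 := ch_indFun K θ.1 (fC_mem A)
  rw [ch_eq_om θ.2, ← cast_deg] at h1
  have h2 := ch_fC_mul_eq (isClassFunction_indFun K θ.1) A 1
  rw [mul_one, sum_ite_fs] at h2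
  push_cast
  rw [show om θ.1 (rs K (fC A)) * (K.index * charDegree θ.1) =
    K.index * (om θ.1 (rs K (fC A)) * charDegree θ.1) by ring, ← h1, h2]
  exact Finset.sum_congr rfl fun χ _ => by rw [classInner_indFun_eq_em, ch_one, cast_deg]

variable {N : Subgroup G} [hN : N.Normal]

theorem deg_eq_em_mul {χ : IrrCharacter G} {θ : IrrCharacter N} (h : em N χ θ ≠ 0) :
    charDegree χ.1 = em N χ θ * (inertia N θ.1).index * charDegree θ.1 := by
  have := Fintype.ofFinite G
  have := Fintype.ofFinite N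
  have h1 := χ.2.clifford_degree θ.2 (em_ne_zero_iff.1 h)
  apply Nat.cast_injective (R := ℂ)
  push_cast
  rw [cast_deg, cast_deg, ← em_spec]
  exact h1

theorem deg_dvd_of_em {χ : IrrCharacter G} {θ : IrrCharacter N} (h : em N χ θ ≠ 0) :
    charDegree θ.1 ∣ charDegree χ.1 := by
  rw [deg_eq_em_mul h]; exact Dvd.intro_left _ rfl

theorem em_mul_deg_eq (χ : IrrCharacter G) (θ : IrrCharacter N) :
    em N χ θ * charDegree χ.1 = em N χ θ ^ 2 * ((inertia N θ.1).index * charDegree θ.1) := by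
  by_cases h : em N χ θ = 0
  · simp [h]
  · conv_lhs => rw [deg_eq_em_mul h]
    ring

theorem sum_em_sq (θ : IrrCharacter N) :
    (∑ χ : IrrCharacter G, em N χ θ ^ 2) * (inertia N θ.1).index = N.index := by
  have h := sum_em_mul_deg θ
  simp only [em_mul_deg_eq] at h
  rw [← Finset.sum_mul, ← mul_assoc] at h
  exact Nat.eq_of_mul_eq_mul_right (Nat.pos_of_ne_zero (charDegree_ne_zero θ)) h

/-- Conjugation of irreducible characters of a normal subgroup. -/
def icj (N : Subgroup G) [N.Normal] (g : G) (θ : IrrCharacter N) : IrrCharacter N :=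
  ⟨Char.cj N g θ.1, θ.2.cj g⟩

omit [Finite G] in
theorem icj_apply (g : G) (θ : IrrCharacter N) (n : N) :
    (icj N g θ).1 n = θ.1 ⟨g * n * g⁻¹, hN.conj_mem n n.2 g⟩ := rfl

omit [Finite G] in
theorem icj_mul (g h : G) (θ : IrrCharacter N) : icj N (g * h) θ = icj N h (icj N g θ) :=
  Subtype.ext (Char.cj_mul g h θ.1)

omit [Finite G] in
@[simp] theorem icj_one (θ : IrrCharacter N) : icj N 1 θ = θ := Subtype.ext (Char.cj_one θ.1)

omit [Finite G] in
theorem icj_eq_iff {g : G} {θ : IrrCharacter N} : icj N g θ = θ ↔ g ∈ inertia N θ.1 := by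
  rw [mem_inertia]; exact Subtype.ext_iff

omit [Finite G] in
theorem icj_of_mem {g : G} (hg : g ∈ N) (θ : IrrCharacter N) : icj N g θ = θ :=
  Subtype.ext (cj_of_mem θ.2.isClassFunction hg)

theorem icj_eq_irrMap (g : G) (θ : IrrCharacter N) :
    icj N g θ = irrMap (conjIso (cs_normal g⁻¹ N)) θ :=
  (eq_irrMap_inv_iff g).1 fun _ => rfl

omit [Finite G] in
theorem charDegree_icj (g : G) (θ : IrrCharacter N) : charDegree (icj N g θ).1 = charDegree θ.1 := by
  unfold charDegree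
  rw [show (icj N g θ).1 1 = θ.1 1 from cj_apply_one g θ.1]

omit [Finite G] in
theorem icj_irrOne (g : G) : icj N g (irrOne N) = irrOne N := rfl

theorem em_icj (χ : IrrCharacter G) (g : G) (θ : IrrCharacter N) :
    em N χ (icj N g θ) = em N χ θ := by
  have := Fintype.ofFinite N
  apply Nat.cast_injective (R := ℂ)
  rw [← em_spec, ← em_spec]
  exact classInner_res_cj χ.2.isClassFunction g θ.1

theorem exists_icj_of_em {χ : IrrCharacter G} {θ φ : IrrCharacter N} (h : em N χ θ ≠ 0)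
    (h' : em N χ φ ≠ 0) : ∃ g, φ = icj N g θ := by
  have := Fintype.ofFinite G
  have := Fintype.ofFinite N
  obtain ⟨g, hg⟩ := mem_cjOrbit.1
    (χ.2.mem_cjOrbit_of_under θ.2 φ.2 (em_ne_zero_iff.1 h) (em_ne_zero_iff.1 h'))
  exact ⟨g, Subtype.ext hg⟩

theorem gal_icj (σ : ℂ ≃+* ℂ) (g : G) (θ : IrrCharacter N) :
    irrGalois σ (icj N g θ) = icj N g (irrGalois σ θ) := by
  apply Subtype.ext; funext n
  rw [gal_apply, icj_apply, icj_apply, gal_apply]

theorem res_eq_em_mul {χ : IrrCharacter G} {θ : IrrCharacter N} (hθ : ∀ g, icj N g θ = θ)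
    (h : em N χ θ ≠ 0) (n : N) : χ.1 n = em N χ θ * θ.1 n := by
  have := Fintype.ofFinite G
  have := Fintype.ofFinite N
  have h1 := χ.2.res_eq_smul_of_invariant θ.2 (fun g => congrArg Subtype.val (hθ g))
    (em_ne_zero_iff.1 h)
  rw [em_spec] at h1
  exact congrFun h1 n

theorem em_irrOne_ne_zero_iff {χ : IrrCharacter G} :
    em N χ (irrOne N) ≠ 0 ↔ N ≤ charKer χ.1 := by
  have := Fintype.ofFinite N
  rw [em_ne_zero_iff, le_charKer_iff_over]

theorem em_irrOne_of_le {χ : IrrCharacter G} (h : N ≤ charKer χ.1) :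
    em N χ (irrOne N) = charDegree χ.1 := by
  have h1 := res_eq_em_mul icj_irrOne (em_irrOne_ne_zero_iff.2 h) 1
  apply Nat.cast_injective (R := ℂ)
  rw [cast_deg]
  simpa using h1.symm

theorem card_under {χ : IrrCharacter G} {θ : IrrCharacter N} (h : em N χ θ ≠ 0) :
    Nat.card {φ : IrrCharacter N // em N χ φ ≠ 0} = (inertia N θ.1).index := by
  classical
  have h1 := deg_eq_sum_em N χ
  rw [deg_eq_em_mul h, ← Finset.sum_filter_of_ne (p := fun φ => em N χ φ ≠ 0)
    (fun φ _ h => left_ne_zero_of_mul h), Finset.sum_congr rfl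
    (g := fun _ => em N χ θ * charDegree θ.1), Finset.sum_const, smul_eq_mul] at h1
  · rw [Nat.card_eq_fintype_card, Fintype.card_subtype]
    have h2 := Nat.pos_of_ne_zero (mul_ne_zero h (charDegree_ne_zero θ))
    apply Nat.eq_of_mul_eq_mul_right h2
    rw [← h1]; ring
  · intro φ hφ
    obtain ⟨g, rfl⟩ := exists_icj_of_em h (Finset.mem_filter.1 hφ).2
    rw [em_icj, charDegree_icj]

theorem index_inertia_dvd (θ : IrrCharacter N) : (inertia N θ.1).index ∣ N.index :=
  Subgroup.index_dvd_of_le (le_inertia θ.2.isClassFunction)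

theorem exists_deg_eq_mul {χ : IrrCharacter G} {θ : IrrCharacter N} (h : em N χ θ ≠ 0) :
    ∃ k, k ∣ N.index ∧ charDegree χ.1 = k * charDegree θ.1 := by
  have := Fintype.ofFinite N
  obtain ⟨k, h1, h2⟩ := χ.2.exists_degree_eq_mul θ.2 (em_ne_zero_iff.1 h)
  refine ⟨k, h1, ?_⟩
  apply Nat.cast_injective (R := ℂ)
  push_cast
  rw [cast_deg, cast_deg, h2]

/-- The action of `G` on the irreducible characters of a normal subgroup. -/
@[reducible] def icjAction (N : Subgroup G) [N.Normal] : MulAction G (IrrCharacter N) where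
  smul g θ := icj N g⁻¹ θ
  one_smul θ := by show icj N 1⁻¹ θ = θ; simp
  mul_smul g h θ := by
    show icj N (g * h)⁻¹ θ = icj N g⁻¹ (icj N h⁻¹ θ)
    rw [mul_inv_rev, icj_mul]

theorem sum_eq_sum_icj_fixed {p : ℕ} [Fact p.Prime] {R : Type*} [CommRing R] [CharP R p]
    {P : Subgroup G} (hP : IsPGroup p P) (f : IrrCharacter N → R)
    (hf : ∀ x ∈ P, ∀ θ, f (icj N x θ) = f θ)
    [DecidablePred fun θ : IrrCharacter N => ∀ x ∈ P, icj N x θ = θ] :
    ∑ θ, f θ = ∑ θ with ∀ x ∈ P, icj N x θ = θ, f θ := by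
  letI := icjAction N
  refine sum_eq_sum_fixed hP f (fun x θ => hf _ (P.inv_mem x.2) θ) _ fun θ => ?_
  rw [Finset.mem_filter]
  constructor
  · rintro ⟨-, h⟩ x
    exact h _ (P.inv_mem x.2)
  · intro h
    refine ⟨Finset.mem_univ _, fun x hx => ?_⟩
    have h1 : icj N (x⁻¹)⁻¹ θ = θ := h ⟨x⁻¹, P.inv_mem hx⟩
    rwa [inv_inv] at h1

theorem modEq_sum_icj_fixed {p : ℕ} [Fact p.Prime] {P : Subgroup G} (hP : IsPGroup p P)
    (f : IrrCharacter N → ℕ) (hf : ∀ x ∈ P, ∀ θ, f (icj N x θ) = f θ)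
    [DecidablePred fun θ : IrrCharacter N => ∀ x ∈ P, icj N x θ = θ] :
    ∑ θ, f θ ≡ ∑ θ with ∀ x ∈ P, icj N x θ = θ, f θ [MOD p] := by
  rw [← ZMod.natCast_eq_natCast_iff]
  push_cast
  exact sum_eq_sum_icj_fixed hP (fun θ => (f θ : ZMod p)) fun x hx θ => by simp only [hf x hx]

omit [Finite G] in
theorem icj_eq_of_sup {P : Subgroup G} (h : N ⊔ P = ⊤) {θ : IrrCharacter N}
    (hθ : ∀ x ∈ P, icj N x θ = θ) (g : G) : icj N g θ = θ := by
  rw [icj_eq_iff]
  have h1 : N ⊔ P ≤ inertia N θ.1 :=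
    sup_le (le_inertia θ.2.isClassFunction) fun x hx => icj_eq_iff.1 (hθ x hx)
  exact h1 (h ▸ Subgroup.mem_top g)

end Mult

section Blocks

variable {G : Type*} [Group G] [Finite G] {M : Ideal AlgInt} {p : ℕ} {K N D P : Subgroup G}
  {A B : Set (IrrCharacter G)} {χ ψ : IrrCharacter G}

theorem nu_eq_zero_iff [hp : Fact p.Prime] : nu p χ = 0 ↔ ¬ p ∣ charDegree χ.1 := by
  rw [Nat.factorization_eq_zero_iff]
  simp [hp.out, charDegree_ne_zero]

theorem mnu_eq_zero [Fact p.Prime] (hχ : χ ∈ B) (h : ¬ p ∣ charDegree χ.1) : mnu p B = 0 :=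
  Nat.eq_zero_of_le_zero ((mnu_le p hχ).trans (nu_eq_zero_iff.2 h).le)

theorem height_eq_zero_of_not_dvd [Fact p.Prime] (hχ : χ ∈ B) (h : ¬ p ∣ charDegree χ.1) :
    blockHeight p B χ = 0 := by
  have := height_add_mnu (p := p) hχ
  rw [nu_eq_zero_iff.2 h] at this
  omega

theorem height_eq_zero_iff_of_mnu [Fact p.Prime] (hχ : χ ∈ B) (h : mnu p B = 0) :
    blockHeight p B χ = 0 ↔ ¬ p ∣ charDegree χ.1 := by
  rw [height_eq_zero_iff hχ, h, nu_eq_zero_iff]

theorem charDegree_irrOne : charDegree (irrOne G).1 = 1 := charDegree_of_eq (by simp)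

theorem not_dvd_deg_irrOne [hp : Fact p.Prime] : ¬ p ∣ charDegree (irrOne G).1 := by
  rw [charDegree_irrOne]; exact hp.out.not_dvd_one

theorem mnu_principal [Fact p.Prime] [M.IsMaximal] : mnu p (principalBlock M G) = 0 :=
  mnu_eq_zero irrOne_mem_principal not_dvd_deg_irrOne

theorem defect_principal [Fact p.Prime] [M.IsMaximal] :
    blockDefect p (principalBlock M G) = (Nat.card G).factorization p := by
  have := defect_add_mnu (p := p) (B := principalBlock M G) ⟨_, irrOne_mem_principal⟩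
  rwa [mnu_principal, add_zero] at this

theorem height_principal_iff [Fact p.Prime] [M.IsMaximal] (hχ : χ ∈ principalBlock M G) :
    blockHeight p (principalBlock M G) χ = 0 ↔ ¬ p ∣ charDegree χ.1 :=
  height_eq_zero_iff_of_mnu hχ mnu_principal

theorem mem_principal_iff_blk [M.IsMaximal] :
    χ ∈ principalBlock M G ↔ blk M χ = blk M (irrOne G) := by
  rw [principalBlock_eq, mem_blockOf]

theorem bar_principal [M.IsMaximal] : bar M (principalBlock M G) = blk M (irrOne G) := by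
  rw [principalBlock_eq, bar_blockOf]

theorem barS_principal [M.IsMaximal] :
    barS M K (principalBlock M K) = es K (blk M (irrOne K)) := by
  rw [principalBlock_eq, barS_blockOf]

theorem blk_mul_ne_zero_of_em [M.IsMaximal] {θ : IrrCharacter K} (h : em K χ θ ≠ 0) :
    blk M χ * es K (blk M θ) ≠ 0 := by
  have := Fintype.ofFinite K
  exact blk_mul_ne_zero (em_ne_zero_iff.1 h)

theorem principal_cover [M.IsMaximal] :
    bar M (principalBlock M G) * barS M K (principalBlock M K) ≠ 0 := by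
  rw [bar_principal, barS_principal]
  apply blk_mul_ne_zero_of_em
  rw [em_of_res_self fun _ => rfl]; exact one_ne_zero

theorem barS_principal_mem_inv [M.IsMaximal] {L : Subgroup G} (h : L ≤ No K) :
    barS M K (principalBlock M K) ∈ inv (kk M) L :=
  mem_inv.2 fun x hx => by
    rw [barS, ← es_emb_conjIso (mem_No.1 (h hx)), ← bar_image, image_principalBlock]

theorem es_blk_icj [M.IsMaximal] [N.Normal] (g : G) (θ : IrrCharacter N) :
    es N (blk M (icj N g θ)) = cj g⁻¹ (es N (blk M θ)) := by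
  rw [icj_eq_irrMap, blk_irrMap, es_emb_conjIso]

theorem icj_mem_principal_iff [M.IsMaximal] [N.Normal] (g : G) {θ : IrrCharacter N} :
    icj N g θ ∈ principalBlock M N ↔ θ ∈ principalBlock M N := by
  rw [isPBlock_principal.mem_iffS, isPBlock_principal.mem_iffS, es_blk_icj]
  have h := mem_inv.1 (barS_principal_mem_inv (M := M) (top_le_No N)) g⁻¹ trivial
  constructor
  · intro h1
    exact (cj g⁻¹).injective (h1.trans h.symm)
  · intro h1
    rw [h1, h]

theorem mem_principal_of_em [M.IsMaximal] [N.Normal] (hχ : χ ∈ principalBlock M G)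
    {θ : IrrCharacter N} (h : em N χ θ ≠ 0) : θ ∈ principalBlock M N := by
  have := Fintype.ofFinite N
  obtain ⟨φ, h1, h2⟩ := isPBlock_principal.exists_under_mem isPBlock_principal
    (principal_cover (M := M) (K := N)) hχ
  obtain ⟨g, rfl⟩ := exists_icj_of_em (em_ne_zero_iff.2 h2) h
  exact (icj_mem_principal_iff g).2 h1

theorem exists_em_principal [M.IsMaximal] [N.Normal] {θ : IrrCharacter N}
    (hθ : θ ∈ principalBlock M N) : ∃ χ ∈ principalBlock M G, em N χ θ ≠ 0 := by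
  have := Fintype.ofFinite N
  obtain ⟨χ, h1, h2⟩ := isPBlock_principal.exists_over_of_cover isPBlock_principal.isUB
    (principal_cover (M := M) (K := N)) hθ
  exact ⟨χ, h1, em_ne_zero_iff.2 h2⟩

theorem IsUB.om_rs_fC_mem [M.IsMaximal] (hA : IsUB M A) (θ : IrrCharacter K) :
    om θ (rs K (fC A)) ∈ O M :=
  om_rs_mem_O' θ (fC_mem A) hA.isInt

theorem isInt_rs [M.IsMaximal] {a : ℂ[G]} (h : IsInt M a) (K : Subgroup G) : IsInt M (rs K a) :=
  fun g => h g

variable [PMod M p]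

theorem IsUB.LI_om_rs_fC_sub (hA : IsUB M A) {θ φ : IrrCharacter K} (h : blk M θ = blk M φ) :
    MemLocalIdeal M (om θ (rs K (fC A)) - om φ (rs K (fC A))) :=
  LI_om_sub_om h (rs_mem_Z (inv_anti le_top (mem_Z.1 (fC_mem A)).2)) (isInt_rs hA.isInt K)

theorem IsUB.dvd_sum_em (hA : IsUB M A) {θ : IrrCharacter K} (h : p ∣ K.index * charDegree θ.1) :
    p ∣ ∑ χ ∈ fs A, em K χ θ * charDegree χ.1 := by
  rw [← LI_natCast_iff (M := M), ← om_rs_fC]
  refine LI_mul_left (hA.om_rs_fC_mem θ) ?_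
  rw [← Nat.cast_mul]
  exact LI_natCast_iff.2 h

theorem dvd_sum_em_iff (M : Ideal AlgInt) {p : ℕ} [PMod M p] (A : Set (IrrCharacter G)) {θ : IrrCharacter K}
    (h : ¬ p ∣ K.index * charDegree θ.1) :
    p ∣ ∑ χ ∈ fs A, em K χ θ * charDegree χ.1 ↔ MemLocalIdeal M (om θ (rs K (fC A))) := by
  rw [← LI_natCast_iff (M := M), ← om_rs_fC, ← Nat.cast_mul, LI_mul_unit_iff (natCast_mem _ _)]
  rwa [LI_natCast_iff]

theorem exists_of_not_dvd_sum {θ : IrrCharacter K}
    (h : ¬ p ∣ ∑ χ ∈ fs A, em K χ θ * charDegree χ.1) :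
    ∃ χ ∈ A, ¬ p ∣ em K χ θ ∧ ¬ p ∣ charDegree χ.1 := by
  by_contra hc
  push Not at hc
  refine h (Finset.dvd_sum fun χ hχ => ?_)
  by_cases h1 : p ∣ em K χ θ
  · exact h1.mul_right _
  · exact (hc χ (mem_fs.1 hχ) h1).mul_left _

theorem _root_.Cfsg.IsInducedBlock.exists_not_dvd {b : Set (IrrCharacter K)}
    (h : IsInducedBlock M K b B) {ξ : IrrCharacter K} (hξ : ξ ∈ b)
    (h1 : ¬ p ∣ K.index * charDegree ξ.1) :
    ∃ χ ∈ B, ¬ p ∣ em K χ ξ ∧ ¬ p ∣ charDegree χ.1 := by
  have hB := (isInducedBlock_iff.1 h).2.1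
  obtain ⟨χ, hχ⟩ := hB.nonempty
  apply exists_of_not_dvd_sum
  rw [dvd_sum_em_iff M B h1, h.LI_om_rs_iff hξ hχ (fC_mem B) hB.isUB.isInt, om_fC_of_mem hχ]
  exact not_LI_one

theorem _root_.Cfsg.IsPBlock.exists_root (hB : IsPBlock M B) (hD : IsDef p ⊤ (bar M B) D) :
    ∃ b : Set (IrrCharacter (Ce D)), IsInducedBlock M (Ce D) b B := by
  have := Fact.mk (PMod.prime M)
  obtain ⟨e, he⟩ := hD.exists_isMP hB.isBlock
  obtain ⟨f, h1, rfl⟩ := he.1.exists_isPBlock
  exact ⟨f, (isInducedBlock_Ce_iff he.1.1).2 (isBrauerPairOf_iff'.2 ⟨hB, h1, he.1, he.3⟩)⟩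

theorem _root_.Cfsg.IsPBlock.isDef_of_mnu (hB : IsPBlock M B) (h : mnu p B = 0)
    (hP : IsSyl p P ⊤) : IsDef p ⊤ (bar M B) P := by
  have := Fact.mk (PMod.prime M)
  obtain ⟨D, hD⟩ := hB.isBlock.exists_isDef p
  have h1 := hB.card_isDef hD
  have h2 := defect_add_mnu (p := p) hB.nonempty
  rw [h, add_zero] at h2
  have h3 : IsSyl p D ⊤ := isSyl_of_card le_top (by rw [h1, h2, Subgroup.card_top])
  obtain ⟨x, -, rfl⟩ := hP.exists_cs_eq h3
  exact hD.cs_of_mem hB.isBlock.inv trivial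

theorem _root_.Cfsg.IsPBlock.mnu_eq_zero_of_isDef (hB : IsPBlock M B) (hP : IsSyl p P ⊤)
    (h : IsDef p ⊤ (bar M B) P) : mnu p B = 0 := by
  have := Fact.mk (PMod.prime M)
  have h1 := hB.card_isDef h
  have h2 := defect_add_mnu (p := p) hB.nonempty
  rw [hP.card_eq, Subgroup.card_top] at h1
  have := Nat.pow_right_injective (PMod.prime M).two_le h1
  omega

theorem _root_.Cfsg.IsInducedBlock.exists_em {b : Set (IrrCharacter K)}
    (h : IsInducedBlock M K b B) (hχ : χ ∈ B) (h0 : blockHeight p B χ = 0) :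
    ∃ ξ ∈ b, em K χ ξ ≠ 0 := by
  have := Fintype.ofFinite K
  obtain ⟨y, -, hy⟩ := exists_blockPart_ne_zero h hχ h0 (x := 1) pelt_one (Subgroup.one_mem _)
  by_contra hc
  push Not at hc
  apply hy
  rw [blockPart_fs, Finset.sum_apply]
  refine Finset.sum_eq_zero fun ξ hξ => ?_
  simp only [OneMemClass.coe_one, one_mul]
  rw [em_spec, hc ξ (mem_fs.1 hξ)]
  simp

theorem mem_principal_iff_of_index [N.Normal] {n : ℕ} (hn : N.index = p ^ n)
    {θ : IrrCharacter N} (h : em N χ θ ≠ 0) : χ ∈ principalBlock M G ↔ θ ∈ principalBlock M N := by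
  have := Fact.mk (PMod.prime M)
  refine ⟨fun h1 => mem_principal_of_em h1 h, fun h1 => ?_⟩
  have h2 := blk_mul_ne_zero_of_em (M := M) h
  rw [isPBlock_principal.es_blk_eq h1] at h2
  have h3 : ∀ g ∈ (⊤ : Subgroup G), ¬ p ∣ orderOf g → g ∈ N :=
    fun g _ hg => mem_of_preg_of_index hn hg
  have hb := (isPBlock_principal (M := M) (G := N)).isBlockS
  rw [isPBlock_principal.mem_iff,
    hb.eq_orb_of_preg le_top (top_le_No N) (isBlock_blk χ) h3 h2,
    hb.eq_orb_of_preg le_top (top_le_No N) isPBlock_principal.isBlock h3 principal_cover]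

theorem mem_principal_iff_reg [Fintype G] :
    χ ∈ principalBlock M G ↔ classInner (reg p χ.1) (irrOne G).1 ≠ 0 :=
  ⟨fun h => isPBlock_principal.classInner_reg_ne_zero h irrOne_mem_principal (height_irrOne _ _),
    fun h => mem_principal_iff_blk.2 (blk_eq_of_classInner_reg h)⟩

theorem mem_principal_iff_sum [Fintype G] :
    χ ∈ principalBlock M G ↔ ∑ g, reg p χ.1 g ≠ 0 := by
  rw [mem_principal_iff_reg (p := p), coe_irrOne, classInner_one_right, mul_ne_zero_iff,
    and_iff_right (inv_ne_zero (card_ne_zero' G))]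

theorem mem_principal_iff_of_constrained (h : IsPConstrained p G) :
    χ ∈ principalBlock M G ↔ pPrimeCore p G ≤ charKer χ.1 := by
  have := Fact.mk (PMod.prime M)
  have := Fintype.ofFinite (pPrimeCore p G)
  obtain ⟨n, hn⟩ := exists_relIndex_pPrimePCore (G := G) (p := p)
  obtain ⟨Q⟩ : Nonempty (Sylow p (pPrimePCore p G)) := inferInstance
  have hQ := isSyl_map Q
  have h1 := hQ.sup_eq_of_relIndex pPrimeCore_le_pPrimePCore hn
  haveI : ((Q : Subgroup _).map (pPrimePCore p G).subtype ⊔ pPrimeCore p G).Normal := by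
    rw [h1, pPrimePCore]; infer_instance
  obtain ⟨h2, -⟩ := principal_type (M := M) (θ := irrOne _) Solv.not_dvd_card_pPrimeCore hQ.pg
    (h1.symm ▸ h Q) (fun g k k' h => rfl) (fun χ => Iff.rfl)
  rw [le_charKer_iff_over, ← h2.eq_of_mem isPBlock_principal _ irrOne_mem_principal]
  · rfl
  · exact (le_charKer_iff_over _).1 (by rw [charKer_irrOne]; exact le_top)

omit [PMod M p] in
theorem isPConstrained_of_isPSolvable [Fact p.Prime] (h : IsPSolvable p G) : IsPConstrained p G :=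
  Comp.isPConstrained_iff.2 ((Comp.pSol_top_of_isPSolvable h).PLay_eq_bot le_rfl)

omit [PMod M p] in
theorem isPConstrained_of_pSol [Fact p.Prime] (h : Comp.PSol p (⊤ : Subgroup G)) :
    IsPConstrained p G :=
  Comp.isPConstrained_iff.2 (h.PLay_eq_bot le_rfl)

omit [PMod M p] in
theorem pSol_of_solvable [Fact p.Prime] [Group.IsSolvable G] : Comp.PSol p (⊤ : Subgroup G) :=
  Comp.pSol_of_isSolvable inferInstance

theorem mem_principal_iff_of_pSolvable (h : IsPSolvable p G) :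
    χ ∈ principalBlock M G ↔ pPrimeCore p G ≤ charKer χ.1 :=
  have := Fact.mk (PMod.prime M)
  mem_principal_iff_of_constrained (isPConstrained_of_isPSolvable h)

theorem IsUB.exists_apply_ne_zero (hA : IsUB M A) {x : G} (hx : ∃ k, orderOf x = p ^ k)
    (h : Br (Subgroup.zpowers x) (bar M A) ≠ 0) : ∃ χ ∈ A, χ.1 x ≠ 0 := by
  classical
  have := Fact.mk (PMod.prime M)
  by_contra hc
  push Not at hc
  have h1 := sum_mul_conj_eq_locSet hA (u := uC x) (v := uC x) (isPPart_self hx) (isPPart_self hx)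
  rw [Finset.sum_eq_zero (fun χ _ => by
    split_ifs with h2
    · rw [coe_uC, hc χ h2, zero_mul]
    · rfl), sum_ite_fs] at h1
  simp only [Complex.mul_conj, ← Complex.ofReal_sum] at h1
  rw [eq_comm, Complex.ofReal_eq_zero,
    Finset.sum_eq_zero_iff_of_nonneg fun _ _ => Complex.normSq_nonneg _] at h1
  rw [← barS_locSet_Ce1 hx hA] at h
  rcases Set.eq_empty_or_nonempty (locSet M (Ce1 x) A) with h2 | ⟨ξ, hξ⟩
  · apply h; rw [h2, barS, bar_empty, map_zero]
  · have h3 := Complex.normSq_eq_zero.1 (h1 ξ (mem_fs.2 hξ))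
    obtain ⟨ω, h4, h5⟩ := exists_root_mul ξ.2 (mem_center_Ce1 x)
    have h6 := h5 1
    rw [mul_one] at h6
    change ξ.1 (uC x) = _ at h6
    rw [h3, eq_comm, mul_eq_zero] at h6
    rcases h6 with h6 | h6
    · rw [h6, zero_pow (orderOf_pos _).ne'] at h4; exact zero_ne_one h4
    · exact ξ.2.apply_one_ne_zero h6

theorem _root_.Cfsg.IsPBlock.exists_apply_ne_zero (hB : IsPBlock M B)
    (hD : IsDef p ⊤ (bar M B) D) {x : G} (hx : x ∈ D) : ∃ χ ∈ B, χ.1 x ≠ 0 :=
  have := Fact.mk (PMod.prime M)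
  hB.isUB.exists_apply_ne_zero (pelt_of_mem hD.2 hx)
    (Br_ne_zero_of_le (Subgroup.zpowers_le.2 hx) hD.3)

omit [Finite G] in
theorem exists_lift_root {m : ℕ} (hm : ¬ p ∣ m) {c : kk M} (hc : c ^ m = 1) :
    ∃ z : ℂ, z ^ m = 1 ∧ rd M z = c := by
  classical
  have hm0 : m ≠ 0 := fun h => hm (h ▸ dvd_zero p)
  have hinj : ∀ z w : ℂ, z ^ m = 1 → w ^ m = 1 → rd M z = rd M w → z = w := by
    intro z w hz hw h
    have hw0 : w ≠ 0 := fun h0 => by rw [h0, zero_pow hm0] at hw; exact zero_ne_one hw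
    have h1 : (z * w⁻¹) ^ m = 1 := by rw [mul_pow, inv_pow, hz, hw]; simp
    have h2 : w⁻¹ ∈ O M := mem_O_of_pow_eq_one M hm0 (by rw [inv_pow, hw, inv_one])
    have h3 := LI_mul_right ((rd_eq_iff (mem_O_of_pow_eq_one M hm0 hz)
      (mem_O_of_pow_eq_one M hm0 hw)).1 h) h2
    rw [sub_mul, mul_inv_cancel₀ hw0] at h3
    have := eq_one_of_LI_sub_one hm h1 h3
    field_simp at this
    exact this
  have h1 : (Polynomial.nthRootsFinset m (1 : ℂ)).image (rd M) ⊆
      Polynomial.nthRootsFinset m (1 : kk M) := by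
    intro c hc
    obtain ⟨z, hz, rfl⟩ := Finset.mem_image.1 hc
    rw [Polynomial.mem_nthRootsFinset (Nat.pos_of_ne_zero hm0)] at hz ⊢
    rw [← rd_pow (mem_O_of_pow_eq_one M hm0 hz), hz, rd_one]
  have h2 : (Polynomial.nthRootsFinset m (1 : kk M)).card ≤
      ((Polynomial.nthRootsFinset m (1 : ℂ)).image (rd M)).card := by
    rw [Finset.card_image_of_injOn, (Complex.isPrimitiveRoot_exp m hm0).card_nthRootsFinset]
    · exact (Multiset.toFinset_card_le _).trans (Polynomial.card_nthRoots m 1)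
    · intro z hz w hw
      rw [Finset.mem_coe, Polynomial.mem_nthRootsFinset (Nat.pos_of_ne_zero hm0)] at hz hw
      exact hinj z w hz hw
  have h3 := Finset.eq_of_subset_of_card_le h1 h2
  have h4 := (Polynomial.mem_nthRootsFinset (Nat.pos_of_ne_zero hm0) 1).2 hc
  rw [← h3] at h4
  obtain ⟨z, hz, rfl⟩ := Finset.mem_image.1 h4
  exact ⟨z, (Polynomial.mem_nthRootsFinset (Nat.pos_of_ne_zero hm0) 1).1 hz, rfl⟩

omit [Finite G] in
theorem eq_of_rd_eq_of_pow {m : ℕ} (hm : ¬ p ∣ m) {z w : ℂ} (hz : z ^ m = 1) (hw : w ^ m = 1)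
    (h : rd M z = rd M w) : z = w := by
  have hm0 : m ≠ 0 := fun h => hm (h ▸ dvd_zero p)
  have hw0 : w ≠ 0 := fun h0 => by rw [h0, zero_pow hm0] at hw; exact zero_ne_one hw
  have h1 : (z * w⁻¹) ^ m = 1 := by rw [mul_pow, inv_pow, hz, hw]; simp
  have h2 : w⁻¹ ∈ O M := mem_O_of_pow_eq_one M hm0 (by rw [inv_pow, hw, inv_one])
  have h3 := LI_mul_right ((rd_eq_iff (mem_O_of_pow_eq_one M hm0 hz)
    (mem_O_of_pow_eq_one M hm0 hw)).1 h) h2
  rw [sub_mul, mul_inv_cancel₀ hw0] at h3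
  have := eq_one_of_LI_sub_one hm h1 h3
  field_simp at this
  exact this

theorem exists_teich (κ : G →* (kk M)ˣ) :
    ∃ lam : G →* ℂˣ, (∀ g, rd M (lam g) = κ g) ∧ (∀ g, κ g = 1 → lam g = 1) ∧
      ¬ p ∣ orderOf lam := by
  have hp := Fact.mk (PMod.prime M)
  obtain ⟨a, m, hm, hc⟩ := Nat.exists_eq_pow_mul_and_not_dvd (Nat.card_pos (α := G)).ne' p
    hp.out.ne_one
  have hm0 : m ≠ 0 := fun h => hm (h ▸ dvd_zero p)
  have h1 : ∀ g, ((κ g : kk M)) ^ m = 1 := by
    intro g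
    have h2 : (((κ g : kk M)) ^ m) ^ p ^ a = 1 := by
      rw [← pow_mul, mul_comm, ← hc, ← Units.val_pow_eq_pow_val, ← map_pow, pow_card_eq_one',
        map_one, Units.val_one]
    have h3 : (((κ g : kk M)) ^ m - 1) ^ p ^ a = 0 := by
      rw [sub_pow_char_pow, h2, one_pow, sub_self]
    exact sub_eq_zero.1 (pow_eq_zero_iff (pow_ne_zero a hp.out.ne_zero) |>.1 h3)
  choose z hz hz' using fun g => exists_lift_root hm (h1 g)
  have hO : ∀ g, z g ∈ O M := fun g => mem_O_of_pow_eq_one M hm0 (hz g)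
  have hmul : ∀ g h, z (g * h) = z g * z h := fun g h =>
    eq_of_rd_eq_of_pow (M := M) hm (hz _) (by rw [mul_pow, hz, hz, one_mul])
      (by rw [rd_mul (hO g) (hO h), hz', hz', hz', map_mul, Units.val_mul])
  have hone : ∀ g, κ g = 1 → z g = 1 := fun g hg =>
    eq_of_rd_eq_of_pow (M := M) hm (hz _) (one_pow _) (by rw [hz', hg, rd_one, Units.val_one])
  let f : G →* ℂ := ⟨⟨z, hone 1 (map_one κ)⟩, hmul⟩
  refine ⟨f.toHomUnits, hz', fun g hg => Units.ext (hone g hg), fun h => hm (h.trans ?_)⟩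
  apply orderOf_dvd_of_pow_eq_one
  ext g
  have h2 : f g ^ m = 1 := hz g
  simpa using h2

end Blocks

end Cfsg.Agent.Blk
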