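import Cfsg.Agent.Lib.Block.Lin

/-! Characters of nilpotent blocks. -/

set_option autoImplicit false

namespace Cfsg.Agent.Blk

open MonoidAlgebra
open Cfsg.Agent.Char hiding cj cj_mul cj_inv_cj cj_cj_inv sum_cj_eq om
open scoped ComplexConjugate

theorem eq_one_of_TP {ι : Type*} (s : Finset ι) (f : ι → ℂ)
    (hf : ∀ i ∈ s, IsIntegral ℤ (f i)) (hc : ∀ i ∈ s, TP (f i)) (h0 : ∀ i ∈ s, f i ≠ 0)
    (h : ∑ i ∈ s, f i = s.card) {j : ι} (hj : j ∈ s) : f j = 1 := by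
  have key : ∀ σ : ℂ ≃+* ℂ, ‖σ (∏ i ∈ s, f i)‖ ≤ 1 ∧ (σ (f j) ≠ 1 → ‖σ (∏ i ∈ s, f i)‖ < 1) :=
    fun σ => by
    choose! r hr1 hr2 using fun i hi => hc i hi σ
    have h1 : ∑ i ∈ s, r i = s.card := by
      have h2 := congrArg σ h
      rw [map_natCast, map_sum, Finset.sum_congr rfl hr2] at h2
      exact_mod_cast h2
    have h2 : ∏ i ∈ s, Real.exp (r i - 1) = 1 := by
      rw [← Real.exp_sum, Finset.sum_sub_distrib, h1]; simp
    have h3 : ∀ i ∈ s, ‖σ (f i)‖ = r i := fun i hi => by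
      rw [hr2 i hi, Complex.norm_real, Real.norm_of_nonneg (hr1 i hi)]
    have h4 : ∀ i ∈ s, ‖σ (f i)‖ ≤ Real.exp (r i - 1) := fun i hi => by
      rw [h3 i hi]; linarith [Real.add_one_le_exp (r i - 1)]
    rw [map_prod, norm_prod, ← h2]
    refine ⟨Finset.prod_le_prod (fun _ _ => by positivity) h4, fun h5 =>
      Finset.prod_lt_prod (fun i hi => by simpa using h0 i hi) h4 ⟨j, hj, ?_⟩⟩
    rw [h3 j hj]
    linarith [Real.add_one_lt_exp (x := r j - 1) fun h6 => h5 (by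
      rw [hr2 j hj, sub_eq_zero.1 h6]; simp)]
  have h1 := norm_eq_one_of_forall_conj_le (IsIntegral.prod _ hf)
    (Finset.prod_ne_zero_iff.2 h0) fun σ => (key σ).1
  by_contra h2
  exact ((key (RingEquiv.refl ℂ)).2 h2).ne h1

variable {G : Type*} [Group G] [Finite G] {M : Ideal AlgInt} {p : ℕ} [PMod M p]
  {B : Set (IrrCharacter G)} {P : Subgroup G} {e : (kk M)[G]} {u v x : G} {θ φ : G → ℂ}
  {η η' : P → ℂ} {χ ψ : IrrCharacter G}

omit [PMod M p] in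
theorem TP_cm [Fintype (Ce1 u)] (b : Set (IrrCharacter (Ce1 u))) (hθ : IsGeneralizedCharacter G θ) :
    TP (cm p u b θ θ) := by
  rw [cm, ← Nat.cast_pow]
  exact (TP.nat _).mul (TP.classInner (loc_mem_CM b hθ))

omit [PMod M p] in
theorem card_conj_mul (hu : u ∈ P) :
    Nat.card {v // ∃ s ∈ P, s * u * s⁻¹ = v} * Nat.card ↥(P ⊓ Ce1 u) = Nat.card P := by
  rw [← card_isConj_mul_card_centralizer (⟨u, hu⟩ : P)]
  congr 1
  · refine Nat.card_congr ⟨fun v => ⟨⟨v, ?_⟩, ?_⟩, fun v => ⟨v.1, ?_⟩, fun _ => rfl, fun _ => rfl⟩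
    · obtain ⟨s, hs, h⟩ := v.2
      exact h ▸ P.mul_mem (P.mul_mem hs hu) (P.inv_mem hs)
    · obtain ⟨s, hs, h⟩ := v.2
      exact isConj_iff.2 ⟨⟨s, hs⟩, Subtype.ext h⟩
    · obtain ⟨s, h⟩ := isConj_iff.1 v.2
      exact ⟨s, s.2, congrArg Subtype.val h⟩
  · exact Nat.card_congr ⟨fun v => ⟨⟨v, v.2.1⟩, mem_Ce1.2 (Subtype.ext (mem_Ce1.1 v.2.2))⟩,
      fun v => ⟨v.1, v.1.2, mem_Ce1.2 (congrArg Subtype.val (mem_Ce1.1 v.2))⟩, fun _ => rfl,
      fun _ => rfl⟩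

namespace MP

theorem cm_ne_zero_of_height [Fintype (Ce1 u)] (h : MP p B P e) (hu : u ∈ P) (hχ : χ ∈ B)
    (h0 : blockHeight p B χ = 0) (hψ : ψ ∈ B) (h0' : blockHeight p B ψ = 0) :
    cm p u (sb p P e u) χ.1 ψ.1 ≠ 0 :=
  ne_zero_of_not_LI (((h.sb_ind hu).not_LI_cm_iff (h.pelt hu) χ ψ).2 ⟨⟨hχ, h0⟩, hψ, h0'⟩)

theorem defect_sb_one (h : MP p B P e) : blockDefect p (sb p P e 1) = blockDefect p B :=
  h.defect_sb (one_mem _)

theorem cm_one [Fintype G] [Fintype (Ce1 (1 : G))] (h : MP p B P e) (hχ : χ ∈ B) (hψ : ψ ∈ B) :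
    cm p 1 (sb p P e 1) χ.1 ψ.1 = am p B χ ψ := by
  haveI : Fact p.Prime := ⟨PMod.prime M⟩
  rw [cm, h.classInner_loc_one (blockPart_irr_of_mem hχ) (blockPart_irr_of_mem hψ), am_cast hχ,
    h.defect_sb_one]

variable (hn : IsNilp p ⊤ (bar M B))
include hn

theorem fc_iff_nilp (h : MP p B P e) (hu : u ∈ P) : FC p P e u v ↔ ∃ s ∈ P, s * u * s⁻¹ = v := by
  haveI : Fact p.Prime := ⟨PMod.prime M⟩
  constructor
  · rintro ⟨x, h1, rfl⟩
    obtain ⟨s, hs, h2⟩ := h.mp.nilp_iff_inner.1 hn _ x h1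
    exact ⟨s, hs, (h2 u (Subgroup.mem_zpowers u)).symm⟩
  · rintro ⟨s, hs, rfl⟩
    exact h.bp.fc_conj hu hs

theorem stable_nilp (h : MP p B P e) (hη : IsClassFunction P η) : Stable p P e η := fun u v huv => by
  obtain ⟨s, hs, h1⟩ := (h.fc_iff_nilp hn u.2).1 huv
  rw [← hη u ⟨s, hs⟩]
  exact congrArg η (Subtype.ext h1.symm)

theorem pow_defect_sb (h : MP p B P e) (hu : u ∈ P) :
    p ^ blockDefect p (sb p P e u) = Nat.card ↥(P ⊓ Ce1 u) := by
  haveI : Fact p.Prime := ⟨PMod.prime M⟩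
  have := h.mp.isDef_Ce_of_nilp hn (h.sb_ple hu)
  rw [top_inf_eq, Ce_zpowers] at this
  exact ((h.sb_blk hu).card_isDefS this).symm

theorem nF_mul (h : MP p B P e) (hu : u ∈ P) :
    nF p P e u * p ^ blockDefect p (sb p P e u) = Nat.card P := by
  rw [h.pow_defect_sb hn hu, ← card_conj_mul hu, nF,
    Nat.card_congr (Equiv.subtypeEquivRight fun v => h.fc_iff_nilp hn hu)]

theorem inv_nF_mul [Fintype (Ce1 u)] (h : MP p B P e) (hu : u ∈ P) (c : ℂ) (θ φ : G → ℂ) :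
    (nF p P e u : ℂ)⁻¹ * (c * classInner (loc p u (sb p P e u) θ) (loc p u (sb p P e u) φ)) =
      (Nat.card P : ℂ)⁻¹ * (c * cm p u (sb p P e u) θ φ) := by
  rw [← h.nF_mul hn hu, cm]
  have := p_ne_zero M
  push_cast
  field_simp

theorem cm_eq_one [Fintype (Ce1 u)] (h : MP p B P e) (hu : u ∈ P) (hχ : χ ∈ B)
    (h0 : blockHeight p B χ = 0) : cm p u (sb p P e u) χ.1 χ.1 = 1 := by
  haveI : Fact p.Prime := ⟨PMod.prime M⟩
  have := Fintype.ofFinite G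
  have := Fintype.ofFinite P
  have inst : ∀ u : G, Fintype (Ce1 u) := fun _ => Fintype.ofFinite _
  have h1 := h.classInner_eq (blockPart_irr_of_mem hχ) χ.2.isClassFunction
  rw [χ.2.classInner_self, Finset.sum_congr rfl fun (u : P) _ => by
    rw [← one_mul (classInner _ _), h.inv_nF_mul hn u.2, one_mul], ← Finset.mul_sum,
    eq_comm, inv_mul_eq_iff_eq_mul₀ (card_ne_zero' P), mul_one] at h1
  have := eq_one_of_TP Finset.univ (fun u : P => cm p (u : G) (sb p P e u) χ.1 χ.1)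
    (fun u _ => isIntegral_cm χ.2.isGen χ.2.isGen) (fun u _ => TP_cm _ χ.2.isGen)
    (fun u _ => h.cm_ne_zero_of_height u.2 hχ h0 hχ h0)
    (by rw [h1, Finset.card_univ, Nat.card_eq_fintype_card]) (Finset.mem_univ ⟨u, hu⟩)
  convert this

theorem classInner_st_nilp [Fintype G] [Fintype P] (h : MP p B P e) (hχ : χ ∈ B)
    (h0 : blockHeight p B χ = 0) (hη : IsClassFunction P η) (hη' : IsClassFunction P η') :
    classInner (st p P e η χ) (st p P e η' χ) = classInner η η' := by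
  have inst : ∀ u : G, Fintype (Ce1 u) := fun _ => Fintype.ofFinite _
  rw [h.classInner_st (h.stable_nilp hn hη) (h.stable_nilp hn hη') χ.2.isClassFunction
    χ.2.isClassFunction, classInner, Finset.mul_sum]
  exact Finset.sum_congr rfl fun u _ => by
    rw [h.inv_nF_mul hn u.2, h.cm_eq_one hn u.2 hχ h0, mul_one]

theorem isIrr_st_nilp (h : MP p B P e) (hχ : χ ∈ B) (h0 : blockHeight p B χ = 0)
    (hη : IsIrrCharacter P η) : IsIrrCharacter G (st p P e η χ) := by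
  have := Fintype.ofFinite G
  have := Fintype.ofFinite P
  have hs := h.stable_nilp hn hη.isClassFunction
  refine (h.isGen_st hs hη.isGen χ.2.isGen).isIrr_of_re_nonneg ?_ ?_
  · rw [h.classInner_st_nilp hn hχ h0 hη.isClassFunction hη.isClassFunction, hη.classInner_self]
  · rw [h.st_apply_one hs (blockPart_irr_of_mem hχ), ← cast_deg χ,
      ← (show _ = η 1 from cast_deg ⟨η, hη⟩), ← Nat.cast_mul, Complex.natCast_re]
    positivity

theorem am_eq_one [Fintype G] (h : MP p B P e) (hχ : χ ∈ B) (h0 : blockHeight p B χ = 0) :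
    am p B χ χ = 1 := by
  have := Fintype.ofFinite (Ce1 (1 : G))
  apply Int.cast_injective (α := ℂ)
  rw [← h.cm_one hχ hχ, h.cm_eq_one hn (one_mem P) hχ h0, Int.cast_one]

/-- the characters of a nilpotent block -/
theorem exists_equiv_nilp (h : MP p B P e) (hχ : χ ∈ B) (h0 : blockHeight p B χ = 0) :
    ∃ Φ : IrrCharacter P ≃ B, ∀ η : IrrCharacter P, (Φ η).1.1 = st p P e η χ := by
  classical
  haveI : Fact p.Prime := ⟨PMod.prime M⟩
  have := Fintype.ofFinite G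
  have := Fintype.ofFinite P
  have hs : ∀ η : IrrCharacter P, Stable p P e η.1 := fun η => h.stable_nilp hn η.2.isClassFunction
  let Φ : IrrCharacter P → IrrCharacter G := fun η => ⟨_, h.isIrr_st_nilp hn hχ h0 η.2⟩
  have hΦ : ∀ η, Φ η ∈ B := fun η => mem_of_blockPart_eq (h.blockPart_st (hs η) χ.2.isClassFunction)
  have hi : Function.Injective Φ := fun η η' h1 => by
    have h2 := h.classInner_st_nilp hn hχ h0 η.2.isClassFunction η'.2.isClassFunction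
    rw [show st p P e η χ = (Φ η).1 from rfl, h1, show st p P e η' χ = (Φ η').1 from rfl,
      (Φ η').2.classInner_self] at h2
    exact Subtype.ext (η.2.eq_of_classInner_ne_zero η'.2 (h2 ▸ one_ne_zero))
  have h1 := h.am_eq_one hn hχ h0
  have h2 : ∀ η, am p B χ (Φ η) = charDegree η.1 := fun η => by
    apply Int.cast_injective (α := ℂ)
    rw [am_comm, am_cast (hΦ η), show (Φ η).1 = st p P e η χ from rfl,
      h.reg_st (hs η) (blockPart_irr_of_mem hχ), classInner_smul_left, mul_left_comm, ← am_cast hχ,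
      h1, Int.cast_natCast, cast_deg, Int.cast_one, mul_one]
  refine ⟨Equiv.ofBijective (fun η => ⟨Φ η, hΦ η⟩)
    ⟨fun _ _ h => hi (congrArg Subtype.val h), fun ψ => ?_⟩, fun _ => rfl⟩
  by_contra h3
  have h4 := h.blk.sum_am_mul hχ hχ
  have h5 : ∑ η : IrrCharacter P, am p B χ (Φ η) * am p B χ (Φ η) = p ^ blockDefect p B := by
    apply Int.cast_injective (α := ℂ)
    push_cast
    rw [← Nat.cast_pow, ← h.card_eq, ← sum_degree_sq]
    exact Finset.sum_congr rfl fun η _ => by rw [h2, Int.cast_natCast, cast_deg, sq]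
  rw [h1, mul_one, ← h5, ← Finset.sum_image (f := fun ψ => am p B χ ψ * am p B χ ψ)
    fun _ _ _ _ h => hi h] at h4
  refine (Finset.sum_lt_sum_of_subset (f := fun ψ => am p B χ ψ * am p B χ ψ) (i := ψ.1) (fun ξ hξ => ?_) (mem_fs.2 ψ.2) (fun h6 => ?_)
    (mul_self_pos.2 ?_) fun _ _ _ => mul_self_nonneg _).ne' h4
  · obtain ⟨η, -, rfl⟩ := Finset.mem_image.1 hξ
    exact mem_fs.2 (hΦ η)
  · obtain ⟨η, -, h7⟩ := Finset.mem_image.1 h6
    exact h3 ⟨η, Subtype.ext h7⟩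
  · rw [am_comm]; exact h.blk.am_ne_zero ψ.2 hχ h0

theorem exists_reg_eq (h : MP p B P e) (hχ : χ ∈ B) (h0 : blockHeight p B χ = 0) (hψ : ψ ∈ B) :
    ∃ d : ℕ, reg p ψ.1 = (d : ℂ) • reg p χ.1 := by
  obtain ⟨Φ, hΦ⟩ := h.exists_equiv_nilp hn hχ h0
  obtain ⟨η, hη⟩ := Φ.surjective ⟨ψ, hψ⟩
  refine ⟨charDegree η.1, ?_⟩
  rw [cast_deg, ← h.reg_st (h.stable_nilp hn η.2.isClassFunction) (blockPart_irr_of_mem hχ), ← hΦ, hη]

end MP

theorem IsNilp.exists_mp (hn : IsNilp p ⊤ (bar M B)) (hB : IsPBlock M B) :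
    ∃ P e, MP (M := M) p B P e := by
  obtain ⟨P, hP⟩ := hB.exists_isDefectGroup (p := p)
  obtain ⟨e, he⟩ := hB.exists_mp (hB.isDefectGroup_iff.1 hP)
  exact ⟨P, e, he⟩

theorem _root_.Cfsg.IsNilpotentBlock.exists_reg_eq (hn : IsNilpotentBlock p M B) (hχ : χ ∈ B)
    (h0 : blockHeight p B χ = 0) (hψ : ψ ∈ B) : ∃ d : ℕ, reg p ψ.1 = (d : ℂ) • reg p χ.1 := by
  obtain ⟨hB, hn⟩ := isNilpotentBlock_iff.1 hn
  obtain ⟨P, e, h⟩ := hn.exists_mp hB
  exact h.exists_reg_eq hn hχ h0 hψ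

theorem _root_.Cfsg.IsNilpotentBlock.am_eq_one [Fintype G] (hn : IsNilpotentBlock p M B) (hχ : χ ∈ B)
    (h0 : blockHeight p B χ = 0) : am p B χ χ = 1 := by
  obtain ⟨hB, hn⟩ := isNilpotentBlock_iff.1 hn
  obtain ⟨P, e, h⟩ := hn.exists_mp hB
  exact h.am_eq_one hn hχ h0

theorem _root_.Cfsg.IsNilpotentBlock.exists_eq_smul (hn : IsNilpotentBlock p M B) (hχ : χ ∈ B)
    (h0 : blockHeight p B χ = 0) {f : G → ℂ} (hf : f ∈ regSpan p B) : ∃ c : ℂ, f = c • reg p χ.1 := by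
  have : regSpan p B ≤ ℂ ∙ reg p χ.1 := Submodule.span_le.2 (by
    rintro _ ⟨ψ, hψ, rfl⟩
    obtain ⟨d, hd⟩ := hn.exists_reg_eq hχ h0 hψ
    exact Submodule.mem_span_singleton.2 ⟨d, hd.symm⟩)
  obtain ⟨c, hc⟩ := Submodule.mem_span_singleton.1 (this hf)
  exact ⟨c, hc.symm⟩

theorem _root_.Cfsg.IsNilpotentBlock.rank (hn : IsNilpotentBlock p M B) : blockRank p B = 1 := by
  haveI : Fact p.Prime := ⟨PMod.prime M⟩
  have hB := (isNilpotentBlock_iff.1 hn).1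
  obtain ⟨χ, hχ, h0⟩ := exists_height_zero p hB.nonempty
  refine le_antisymm ?_ (blockRank_pos hB.nonempty)
  rw [blockRank_eq]
  refine (Submodule.finrank_mono (t := ℂ ∙ reg p χ.1) fun f hf => ?_).trans ?_
  · obtain ⟨c, rfl⟩ := hn.exists_eq_smul hχ h0 hf
    exact Submodule.mem_span_singleton.2 ⟨c, rfl⟩
  · simpa using finrank_span_le_card (R := ℂ) ({reg p χ.1} : Set (G → ℂ))

end Cfsg.Agent.Blk
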