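import Cfsg.Agent.Lib.Block.Cover
import Cfsg.Agent.Lib.Char.Degree
import Cfsg.Agent.S0928

/-! Groups with one block: constrained centralizers and counting bounds against defect zero. -/

set_option autoImplicit false

namespace Cfsg.Agent.Blk

open MonoidAlgebra
open Cfsg.Agent.Char hiding cj cj_mul cj_inv_cj cj_cj_inv sum_cj_eq
open scoped ComplexConjugate
attribute [local instance] _root_.Classical.propDecidable

variable {G : Type*} [Group G] [Finite G] {M : Ideal AlgInt} {p : ℕ}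

theorem apply_eq_zero_of_constrained [PMod M p] {t : G} (ht : orderOf t = p) {Q : Subgroup G}
    (hQ : IsPGroup p Q) (h1 : Q ≤ Ce1 t) (h2 : Ce1 t ≤ No Q)
    (h3 : ∀ c ∈ Ce Q, ¬ p ∣ orderOf c → c = 1) {χ : IrrCharacter G}
    (hχ : χ ∉ principalBlock M G) : (χ : G → ℂ) t = 0 := by
  have hp := Fact.mk (PMod.prime M)
  have hx : ∃ k : ℕ, orderOf t = p ^ k := ⟨1, by rw [ht, pow_one]⟩
  have hB := isPBlock_principal (M := M) (G := G)
  have key : ∀ b : (kk M)[G], IsBlock (Ce1 t) b → b = 1 := fun b hb =>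
    eq_one_of_mem_sup_bot hb.idem hb.ne (mem_sup.2 fun g hg => by_contra fun h0 => hg
      (h3 g (mem_of_coeff_ne_zero (hb.mem_sup_Ce hQ h1 h2) h0)
        (preg_of_coeff_idem hb.mem hb.idem h0)))
  by_contra h
  refine Br_ne_zero_of_apply_ne_zero hB.isUB.compl hχ (isPPart_self hx) h ?_
  rw [← barS_locSet_Ce1 hx hB.isUB.compl, locSet_Ce1_compl hx hB.isUB, locSet_Ce1_principal hx]
  have : principalBlock M (Ce1 t) = Set.univ := Set.eq_univ_of_forall fun ξ => by
    rw [isPBlock_principal.mem_iffS, key _ (isBlock_es_blk ξ),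
      ← isPBlock_principal.es_blk_eq irrOne_mem_principal, key _ (isBlock_es_blk _)]
  rw [this, Set.compl_univ]
  simp [barS, bar_empty]

theorem defect_zero_of_constrained [PMod M p]
    (h : ∀ t : G, orderOf t = p → ∃ Q : Subgroup G, IsPGroup p Q ∧ Q ≤ Ce1 t ∧ Ce1 t ≤ No Q ∧
      ∀ c ∈ Ce Q, ¬ p ∣ orderOf c → c = 1) {χ : IrrCharacter G}
    (hχ : χ ∉ principalBlock M G) : p ^ (Nat.card G).factorization p ∣ charDegree (χ : G → ℂ) ∧
      ∀ y, p ∣ orderOf y → (χ : G → ℂ) y = 0 := by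
  have hp := Fact.mk (PMod.prime M)
  have h1 := S0928.result p χ fun t ht => by
    obtain ⟨Q, q1, q2, q3, q4⟩ := h t ht
    exact apply_eq_zero_of_constrained ht q1 q2 q3 q4 hχ
  refine ⟨h1 ▸ Nat.ordProj_dvd _ _, fun y hy => (isUB_singleton_of_nu (M := M) h1).apply_eq_zero hy⟩

/-- Lower bound for the norm of a character of an abelian group. -/
theorem sum_sq_ge_of_comm {A : Type*} [Group A] [Fintype A] (hA : ∀ a b : A, a * b = b * a)
    {φ : A → ℂ} (hφ : IsCharacter A φ) {d : ℕ} (hd : φ 1 = d) (t : ℤ) :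
    (Nat.card A : ℝ) * ((2 * t + 1) * d - Nat.card A * (t * (t + 1))) ≤ ∑ a, ‖φ a‖ ^ 2 := by
  obtain ⟨c, hc, h1⟩ := hφ.exists_coeff
  have h2 : (d : ℂ) = ∑ χ, (c χ : ℂ) := by
    rw [← hd]
    conv_lhs => rw [h1]
    simp [Finset.sum_apply, fun χ : IrrCharacter A => χ.2.apply_one_of_comm hA]
  have h2' : (d : ℝ) = ∑ χ, (c χ : ℝ) := by exact_mod_cast h2
  have h3 := hφ.isClassFunction.classInner_self_re_eq_sum
  rw [Char.classInner_self_re] at h3
  simp only [hc, Complex.norm_natCast] at h3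
  have h0 : (0 : ℝ) < Nat.card A := by exact_mod_cast Nat.card_pos
  rw [inv_mul_eq_iff_eq_mul₀ h0.ne'] at h3
  rw [h3]
  refine mul_le_mul_of_nonneg_left ?_ h0.le
  rw [h2', ← card_irr_of_comm hA, Nat.card_eq_fintype_card, Finset.mul_sum, ← Finset.card_univ,
    ← nsmul_eq_mul, ← Finset.sum_const, ← Finset.sum_sub_distrib]
  refine Finset.sum_le_sum fun χ _ => ?_
  have : (0 : ℤ) ≤ ((c χ : ℤ) - t) * ((c χ : ℤ) - t - 1) := by
    rcases le_or_gt (c χ : ℤ) t with h | h
    · exact mul_nonneg_of_nonpos_of_nonpos (by omega) (by omega)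
    · exact mul_nonneg (by omega) (by omega)
  have : (0 : ℝ) ≤ ((c χ : ℝ) - t) * ((c χ : ℝ) - t - 1) := by exact_mod_cast this
  nlinarith

/-- Sums over the conjugates of a subgroup of prime order. -/
theorem sum_prime_TI [Fintype G] {x : G} {q : ℕ} (hq : q.Prime) (hx : orderOf x = q) (φ : G → ℝ)
    (h0 : ∀ g, 0 ≤ φ g) (hφ : ∀ g h, φ (h * g * h⁻¹) = φ g) :
    (Nat.card G : ℝ) * ∑ y ∈ Finset.univ.filter (fun y => y ∈ Subgroup.zpowers x ∧ y ≠ 1), φ y ≤
      Nat.card (No (Subgroup.zpowers x)) * ∑ g ∈ Finset.univ.filter (fun g => orderOf g = q), φ g := by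
  have hq' := Fact.mk hq
  set S := Finset.univ.filter (fun y => y ∈ Subgroup.zpowers x ∧ y ≠ 1) with hS
  have ho : ∀ y ∈ S, orderOf y = q := fun y hy => by
    rw [hS, Finset.mem_filter] at hy
    refine orderOf_eq_prime ?_ hy.2.2
    rw [← hx, ← orderOf_dvd_iff_pow_eq_one]; exact orderOf_dvd_of_mem_zpowers hy.2.1
  have hz : ∀ y ∈ S, Subgroup.zpowers y = Subgroup.zpowers x := fun y hy => by
    refine Subgroup.eq_of_le_of_card_ge (Subgroup.zpowers_le.2 (Finset.mem_filter.1 hy).2.1) ?_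
    rw [Nat.card_zpowers, Nat.card_zpowers, hx, ho y hy]
  have e1 : (Nat.card G : ℝ) * ∑ y ∈ S, φ y =
      ∑ a ∈ (Finset.univ : Finset G) ×ˢ S, φ (a.1 * a.2 * a.1⁻¹) := by
    rw [Finset.sum_product]; simp [hφ, Nat.card_eq_fintype_card]
  rw [e1, ← Finset.sum_fiberwise_of_maps_to (g := fun a : G × G => a.1 * a.2 * a.1⁻¹)
    (t := Finset.univ.filter (fun g => orderOf g = q)) (fun a ha => by
      rw [Finset.mem_filter]
      refine ⟨Finset.mem_univ _, ?_⟩
      rw [← ho _ (Finset.mem_product.1 ha).2]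
      exact orderOf_conj' _ _), Finset.mul_sum]
  refine Finset.sum_le_sum fun g _ => ?_
  rw [Finset.sum_congr rfl (g := fun _ => φ g) (fun a ha => by rw [(Finset.mem_filter.1 ha).2]),
    Finset.sum_const, nsmul_eq_mul]
  refine mul_le_mul_of_nonneg_right (Nat.cast_le.2 ?_) (h0 g)
  set F := ((Finset.univ : Finset G) ×ˢ S).filter (fun a => a.1 * a.2 * a.1⁻¹ = g)
  rcases F.eq_empty_or_nonempty with h | ⟨b, hb⟩
  · simp [h]
  have hb1 := (Finset.mem_product.1 (Finset.mem_filter.1 hb).1).2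
  have hb2 := (Finset.mem_filter.1 hb).2
  rw [← Nat.card_eq_finsetCard]
  refine Nat.card_le_card_of_injective (fun a => ⟨b.1⁻¹ * a.1.1, ?_⟩) fun a a' e => ?_
  · have ha1 := (Finset.mem_product.1 (Finset.mem_filter.1 a.2).1).2
    have ha2 := (Finset.mem_filter.1 a.2).2
    rw [mem_No, ← hz _ ha1, show cs _ (Subgroup.zpowers _) = _ from MonoidHom.map_zpowers _ _, hz _ ha1, ← hz _ hb1]
    congr 1
    rw [← hb2] at ha2
    calc _ = b.1⁻¹ * (a.1.1 * a.1.2 * a.1.1⁻¹) * b.1 := by simp [mul_assoc]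
      _ = _ := by rw [ha2]; group
  · have e1 : a.1.1 = a'.1.1 := by simpa using e
    have ha2 := (Finset.mem_filter.1 a.2).2
    have ha2' := (Finset.mem_filter.1 a'.2).2
    refine Subtype.ext (Prod.ext e1 ?_)
    rw [← ha2', e1] at ha2
    simpa using ha2

theorem contrib_ge [Fintype G] (hp : p.Prime) {χ : G → ℂ} (hχ : IsCharacter G χ)
    (hv : ∀ y, p ∣ orderOf y → χ y = 0) {d : ℕ} (hd : χ 1 = d) {x : G} {q : ℕ} (hq : q.Prime)
    (hpq : p ≠ q) (hx : orderOf x = q) {R : Subgroup G} (hR : IsPGroup p R) (hR1 : R ≤ Ce R)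
    (hR2 : R ≤ Ce1 x) {r n : ℕ} (hr : Nat.card R = r) (hn : Nat.card (No (Subgroup.zpowers x)) ≤ n)
    (t : ℤ) : (Nat.card G : ℝ) * (q * r * ((2 * t + 1) * d - q * r * (t * (t + 1))) - d ^ 2) ≤
      n * ∑ g ∈ Finset.univ.filter (fun g => orderOf g = q), ‖χ g‖ ^ 2 := by
  have hp' := Fact.mk hp
  have hc : ∀ (a : Subgroup.zpowers x) (b : R), Commute (a : G) (b : G) := fun a b => by
    obtain ⟨_, k, rfl⟩ := a
    exact (Commute.zpow_right (mem_Ce1.1 (hR2 b.2)) k).symm
  let f : Subgroup.zpowers x × R →* G :=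
    MonoidHom.noncommCoprod (Subgroup.zpowers x).subtype R.subtype hc
  have h1 := sum_sq_ge_of_comm (A := Subgroup.zpowers x × R) (fun a b => Prod.ext (mul_comm' _ _)
    (Subtype.ext (mem_Ce.1 (hR1 b.2.2) _ a.2.2))) (hχ.comp f) (d := d) (by simpa using hd) t
  rw [Nat.card_prod, Nat.card_zpowers, hx, hr, Nat.cast_mul, Fintype.sum_prod_type] at h1
  have h2 : ∀ a : Subgroup.zpowers x, ∑ b : R, ‖χ (f (a, b))‖ ^ 2 = ‖χ a‖ ^ 2 := fun a => by
    rw [Finset.sum_eq_single (1 : R) (fun b _ hb => ?_) (by simp)]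
    · rw [show f (a, 1) = a from mul_one (a : G)]
    · rw [hv]
      · simp
      have ha : (a : G) ^ q = 1 := by
        rw [← hx, ← orderOf_dvd_iff_pow_eq_one]; exact orderOf_dvd_of_mem_zpowers a.2
      by_contra hnd
      obtain ⟨k, hk⟩ := hR b
      have e1 : f (a, b) = a * b := rfl
      have e2 : (b : G) ^ (q * orderOf (f (a, b))) = 1 := by
        have := pow_orderOf_eq_one (f (a, b))
        rw [e1] at this ⊢
        have e3 := congrArg (· ^ q) this
        simp only [one_pow] at e3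
        rw [← pow_mul, (hc a b).mul_pow, mul_comm _ q, pow_mul, ha, one_pow, one_mul] at e3
        exact e3
      have e4 : (b : G) ^ p ^ k = 1 := by exact_mod_cast congrArg Subtype.val hk
      have e5 : Nat.Coprime (p ^ k) (q * orderOf (f (a, b))) :=
        Nat.Coprime.pow_left _ (Nat.Coprime.mul_right ((Nat.coprime_primes hp hq).2 hpq)
          (hp.coprime_iff_not_dvd.2 hnd))
      have := pow_gcd_eq_one.2 ⟨e4, e2⟩
      rw [e5, pow_one] at this
      exact hb (Subtype.ext this)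
  simp only [h2] at h1
  have h3 : ∑ a : Subgroup.zpowers x, ‖χ a‖ ^ 2 = d ^ 2 +
      ∑ y ∈ Finset.univ.filter (fun y => y ∈ Subgroup.zpowers x ∧ y ≠ 1), ‖χ y‖ ^ 2 := by
    rw [← Finset.sum_subtype (Finset.univ.filter (· ∈ Subgroup.zpowers x)) (by simp)
      (fun y => ‖χ y‖ ^ 2), ← Finset.add_sum_erase _ _ (a := 1) (by simp), hd]
    congr 1
    · simp
    · exact Finset.sum_congr (by ext; simp [and_comm]) fun _ _ => rfl
  have h4 := sum_prime_TI hq hx (fun g => ‖χ g‖ ^ 2) (fun _ => by positivity)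
    (fun g h => by rw [hχ.isClassFunction g h])
  have h5 : (0 : ℝ) ≤ ∑ g ∈ Finset.univ.filter (fun g => orderOf g = q), ‖χ g‖ ^ 2 :=
    Finset.sum_nonneg fun _ _ => by positivity
  refine le_trans (mul_le_mul_of_nonneg_left (by linarith) (Nat.cast_nonneg _)) (h4.trans ?_)
  exact mul_le_mul_of_nonneg_right (Nat.cast_le.2 hn) h5

theorem card_No_modEq {x : G} {q m : ℕ} (hq : q.Prime) (hx : orderOf x = q)
    (hG : Nat.card G = q * m) (hm : ¬ q ∣ m) :
    ∃ n, Nat.card (No (Subgroup.zpowers x)) = q * n ∧ n ≡ m [MOD q] := by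
  have := Fact.mk hq
  have h1 : Nat.card (Subgroup.zpowers x) = q := by rw [Nat.card_zpowers, hx]
  have h2 : (Subgroup.zpowers x).index = m := by
    have := (Subgroup.zpowers x).card_mul_index
    rw [h1, hG] at this
    exact Nat.eq_of_mul_eq_mul_left hq.pos this
  let S : Sylow q G := (IsPGroup.of_card (n := 1) (by rw [h1, pow_one])).toSylow (h2 ▸ hm)
  obtain ⟨n, hn⟩ : q ∣ Nat.card (No (Subgroup.zpowers x)) :=
    h1 ▸ Subgroup.card_dvd_of_le Subgroup.le_normalizer
  refine ⟨n, hn, ?_⟩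
  have h3 := card_sylow_modEq_one q G
  rw [S.card_eq_index_normalizer] at h3
  have h4 := (No (Subgroup.zpowers x)).card_mul_index
  rw [hn, hG, mul_assoc] at h4
  rw [← Nat.eq_of_mul_eq_mul_left hq.pos h4]
  have h5 := (h3.mul_left n).symm
  rwa [mul_one] at h5

section
variable {X : Type*} [MulAction G X]

omit [Finite G] in
theorem fix_smul_iff {x n : G} (hn : n ∈ No (Subgroup.zpowers x)) (a : X) :
    x • n • a = n • a ↔ x • a = a := by
  have key : ∀ m ∈ No (Subgroup.zpowers x), ∀ b : X, x • b = b → x • m • b = m • b := fun m hm b hb => by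
    have h1 : m⁻¹ * x * m ∈ Subgroup.zpowers x := by
      simpa using (Subgroup.mem_normalizer_iff.1 (inv_mem hm) x).1 (Subgroup.mem_zpowers x)
    have h2 : (m⁻¹ * x * m) • b = b :=
      (Subgroup.zpowers_le.2 (MulAction.mem_stabilizer_iff.2 hb) : _ ≤ MulAction.stabilizer G b) h1
    rwa [mul_smul, mul_smul, inv_smul_eq_iff] at h2
  exact ⟨fun h => by simpa using key _ (inv_mem hn) _ h, key n hn a⟩

theorem card_No_le {X' : Type*} [MulAction G X'] {x : G} {q : ℕ} (hq : q.Prime) (hx : orderOf x = q)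
    {a : X} {f : X'} {Y : Finset X} {F : Finset X'}
    (hY : ∀ n ∈ No (Subgroup.zpowers x), n • a ∈ Y) (hF : ∀ n ∈ No (Subgroup.zpowers x), n • f ∈ F)
    (h : ∀ c : G, c * x = x * c → c • a = a → c • f = f → c = 1) :
    Nat.card (No (Subgroup.zpowers x)) ≤ (q - 1) * Y.card * F.card := by
  have := Fintype.ofFinite G
  have hx1 : x ≠ 1 := fun h => by rw [h, orderOf_one] at hx; exact hq.ne_one hx.symm
  set S := (Finset.univ.filter (· ∈ Subgroup.zpowers x)).erase 1
  have hS : S.card = q - 1 := by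
    rw [Finset.card_erase_of_mem (by simp), ← hx, ← Nat.card_zpowers, ← Nat.card_eq_finsetCard]
    exact congrArg (· - 1) (Nat.card_congr (Equiv.subtypeEquivRight (by simp)))
  rw [← hS, ← Finset.card_product, ← Finset.card_product, ← Nat.card_eq_finsetCard]
  refine Nat.card_le_card_of_injective (fun n => ⟨((n * x * n⁻¹, (n : G) • a), (n : G) • f), ?_⟩)
    fun n n' e => ?_
  · refine Finset.mem_product.2 ⟨Finset.mem_product.2 ⟨?_, hY n n.2⟩, hF n n.2⟩
    refine Finset.mem_erase.2 ⟨by simpa using hx1, ?_⟩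
    simpa using (Subgroup.mem_normalizer_iff.1 n.2 x).1 (Subgroup.mem_zpowers x)
  · simp only [Subtype.mk.injEq, Prod.mk.injEq] at e
    have := h ((n' : G)⁻¹ * n) (by
      calc _ = (n' : G)⁻¹ * (n * x * (n : G)⁻¹) * n := by group
        _ = _ := by rw [show (n : G) * x * (n : G)⁻¹ = n' * x * (n' : G)⁻¹ from e.1.1]; group)
      (by rw [mul_smul, e.1.2, inv_smul_smul]) (by rw [mul_smul, e.2, inv_smul_smul])
    exact Subtype.ext (inv_mul_eq_one.1 this).symm

omit [Finite G] in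
/-- An element of odd order commuting with an involution and acting like it on a point fixes it. -/
theorem smul_eq_of_odd {c e : G} (hc : ¬ 2 ∣ orderOf c) (he : e * e = 1) (h : e * c = c * e) {a : X}
    (ha : c • a = e • a) : c • a = a := by
  have h1 : c ^ 2 ∈ MulAction.stabilizer G a := by
    rw [MulAction.mem_stabilizer_iff, pow_two, mul_smul, ha, ← mul_smul, ← h, mul_smul, ha,
      ← mul_smul, he, one_smul]
  obtain ⟨k, hk⟩ : Odd (orderOf c) := Nat.odd_iff.2 (by omega)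
  have h2 : c = (c ^ 2) ^ (k + 1) := by
    rw [← pow_mul, show 2 * (k + 1) = orderOf c + 1 by omega, pow_succ, pow_orderOf_eq_one, one_mul]
  rw [h2]; exact pow_mem h1 _

end

theorem sum_orders_le [Fintype G] {χ : G → ℂ} (hχ : IsIrrCharacter G χ) (s : Finset ℕ) (hs : 1 ∉ s) :
    ‖χ 1‖ ^ 2 + ∑ q ∈ s, ∑ g ∈ Finset.univ.filter (fun g => orderOf g = q), ‖χ g‖ ^ 2 ≤
      Nat.card G := by
  have h1 := Char.classInner_self_re χ
  rw [hχ.classInner_self, Complex.one_re, eq_inv_mul_iff_mul_eq₀ (by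
    exact_mod_cast (Nat.card_pos (α := G)).ne'), mul_one] at h1
  rw [h1, show ‖χ 1‖ ^ 2 = ∑ g ∈ Finset.univ.filter (fun g => orderOf g = 1), ‖χ g‖ ^ 2 by
    rw [Finset.sum_eq_single 1 (fun b hb h => absurd (by simpa using hb) h) (by simp)],
    ← Finset.sum_insert (f := fun q =>
      ∑ g ∈ Finset.univ.filter (fun g => orderOf g = q), ‖χ g‖ ^ 2) hs,
    Finset.sum_fiberwise_eq_sum_filter]
  exact Finset.sum_le_sum_of_subset_of_nonneg (Finset.filter_subset _ _) fun _ _ _ => by positivity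

end Cfsg.Agent.Blk
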