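import Cfsg.Agent.Lib.Block.Nil

/-! Free actions on abelian groups and exceptional characters. -/

set_option autoImplicit false

namespace Cfsg.Agent.Blk

open MonoidAlgebra
open Cfsg.Agent.Char hiding cj cj_mul cj_inv_cj cj_cj_inv sum_cj_eq om
open scoped ComplexConjugate

section Orb
variable {W : Type*} [Group W] {E : Subgroup (MulAut W)} {l m n : W →* ℂˣ} {σ τ : MulAut W}
  {u v : W}

/-- free action on the non-identity elements -/
def FreeAut (E : Subgroup (MulAut W)) : Prop := ∀ σ ∈ E, ∀ u : W, u ≠ 1 → σ u = u → σ = 1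

/-- composition of a linear character with an automorphism -/
def lcomp (l : W →* ℂˣ) (σ : MulAut W) : W →* ℂˣ := l.comp σ.toMonoidHom

@[simp] theorem lcomp_apply (l : W →* ℂˣ) (σ : MulAut W) (u : W) : lcomp l σ u = l (σ u) := rfl

@[simp] theorem lcomp_one (l : W →* ℂˣ) : lcomp l 1 = l := rfl

theorem lcomp_mul (l : W →* ℂˣ) (σ τ : MulAut W) : lcomp l (σ * τ) = lcomp (lcomp l σ) τ := rfl

@[simp] theorem one_lcomp (σ : MulAut W) : lcomp 1 σ = 1 := rfl

theorem lcomp_eq_one : lcomp l σ = 1 ↔ l = 1 :=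
  ⟨fun h => by rw [← lcomp_one l, ← mul_inv_cancel σ, lcomp_mul, h, one_lcomp],
    fun h => by rw [h, one_lcomp]⟩

/-- orbits of linear characters -/
def Orb (E : Subgroup (MulAut W)) (l m : W →* ℂˣ) : Prop := ∃ σ ∈ E, lcomp l σ = m

theorem Orb.refl (l : W →* ℂˣ) : Orb E l l := ⟨1, E.one_mem, rfl⟩

theorem Orb.symm (h : Orb E l m) : Orb E m l := by
  obtain ⟨σ, hσ, rfl⟩ := h
  exact ⟨σ⁻¹, E.inv_mem hσ, by rw [← lcomp_mul, mul_inv_cancel, lcomp_one]⟩

theorem Orb.trans (h : Orb E l m) (h' : Orb E m n) : Orb E l n := by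
  obtain ⟨σ, hσ, rfl⟩ := h
  obtain ⟨τ, hτ, rfl⟩ := h'
  exact ⟨σ * τ, E.mul_mem hσ hτ, rfl⟩

theorem orb_comm : Orb E l m ↔ Orb E m l := ⟨Orb.symm, Orb.symm⟩

theorem Orb.ne_one (h : Orb E l m) (hl : l ≠ 1) : m ≠ 1 := by
  obtain ⟨σ, -, rfl⟩ := h
  exact fun h => hl (lcomp_eq_one.1 h)

theorem Orb.congr (h : Orb E l m) : Orb E l n ↔ Orb E m n := ⟨h.symm.trans, h.trans⟩

theorem FreeAut.inj (hE : FreeAut E) (hσ : σ ∈ E) (hτ : τ ∈ E) (hu : u ≠ 1) (h : σ u = τ u) :
    σ = τ := by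
  have := hE (τ⁻¹ * σ) (E.mul_mem (E.inv_mem hτ) hσ) u hu (by simp [h])
  rwa [inv_mul_eq_one, eq_comm] at this

variable [Finite W]

instance instFiniteSubMulAut (E : Subgroup (MulAut W)) : Finite E :=
  Finite.of_injective (fun σ : E => (σ.1 : W → W)) fun _ _ h => Subtype.ext (DFunLike.coe_injective h)

theorem FreeAut.eq_one_of_lcomp (hE : FreeAut E) (hc : ∀ a b : W, a * b = b * a) (hl : l ≠ 1)
    (hσ : σ ∈ E) (h : lcomp l σ = l) : σ = 1 := by
  by_contra h1
  refine hl (MonoidHom.ext fun w => ?_)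
  have h2 : Function.Injective fun u : W => u⁻¹ * σ u := fun u v h2 => by
    by_contra h3
    refine h1 (hE σ hσ (v * u⁻¹) (fun h4 => h3 (mul_inv_eq_one.1 h4).symm) ?_)
    simp only at h2
    rw [map_mul, map_inv, mul_inv_eq_iff_eq_mul, mul_assoc, h2, mul_inv_cancel_left]
  obtain ⟨u, rfl⟩ := Finite.surjective_of_injective h2 w
  rw [map_mul, map_inv, ← lcomp_apply, h, inv_mul_cancel, MonoidHom.one_apply]

theorem FreeAut.lcomp_inj (hE : FreeAut E) (hc : ∀ a b : W, a * b = b * a) (hl : l ≠ 1)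
    (hσ : σ ∈ E) (hτ : τ ∈ E) (h : lcomp l σ = lcomp l τ) : σ = τ := by
  have := hE.eq_one_of_lcomp hc hl (E.mul_mem hσ (E.inv_mem hτ))
    (by rw [lcomp_mul, h, ← lcomp_mul, mul_inv_cancel, lcomp_one])
  rwa [mul_inv_eq_one] at this

open Classical in
theorem FreeAut.sum_orb (hE : FreeAut E) (hc : ∀ a b : W, a * b = b * a) (hl : l ≠ 1)
    {β : Type*} [AddCommMonoid β] [Fintype E] (F : (W →* ℂˣ) → β) :
    ∑ σ : E, F (lcomp l σ) = ∑ m with Orb E l m, F m :=
  Finset.sum_bij (fun σ _ => lcomp l σ) (fun σ _ => by simpa using ⟨σ, σ.2, rfl⟩)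
    (fun σ _ τ _ h => Subtype.ext (hE.lcomp_inj hc hl σ.2 τ.2 h))
    (fun m hm => by
      obtain ⟨σ, hσ, rfl⟩ := (Finset.mem_filter.1 hm).2
      exact ⟨⟨σ, hσ⟩, Finset.mem_univ _, rfl⟩) fun _ _ => rfl

open Classical in
theorem FreeAut.sum_elt (hE : FreeAut E) (hu : u ≠ 1) {β : Type*} [AddCommMonoid β] [Fintype E]
    [Fintype W] (F : W → β) : ∑ σ : E, F (σ.1 u) = ∑ v with ∃ σ ∈ E, σ u = v, F v :=
  Finset.sum_bij (fun σ _ => σ.1 u) (fun σ _ => by simpa using ⟨σ, σ.2, rfl⟩)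
    (fun σ _ τ _ h => Subtype.ext (hE.inj σ.2 τ.2 hu h))
    (fun m hm => by
      obtain ⟨σ, hσ, rfl⟩ := (Finset.mem_filter.1 hm).2
      exact ⟨⟨σ, hσ⟩, Finset.mem_univ _, rfl⟩) fun _ _ => rfl

open Classical in
theorem FreeAut.card_orb (hE : FreeAut E) (hc : ∀ a b : W, a * b = b * a) (hl : l ≠ 1) :
    (Finset.univ.filter (Orb E l)).card = Nat.card E := by
  have := Fintype.ofFinite E
  have := hE.sum_orb hc hl fun _ => (1 : ℕ)
  simp only [Finset.sum_const, smul_eq_mul, mul_one, Finset.card_univ] at this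
  rw [Nat.card_eq_fintype_card, this]

theorem FreeAut.card_elt (hE : FreeAut E) (hu : u ≠ 1) :
    Nat.card {v // ∃ σ ∈ E, σ u = v} = Nat.card E :=
  (Nat.card_eq_of_bijective (fun σ : E => (⟨σ.1 u, σ, σ.2, rfl⟩ : {v // ∃ σ ∈ E, σ u = v}))
    ⟨fun σ τ h => Subtype.ext (hE.inj σ.2 τ.2 hu (congrArg Subtype.val h)),
      fun ⟨_, σ, hσ, h⟩ => ⟨⟨σ, hσ⟩, Subtype.ext h⟩⟩).symm

open Classical in
/-- orbit sums of linear characters -/
noncomputable def eta (E : Subgroup (MulAut W)) (l : W →* ℂˣ) : W → ℂ :=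
  ∑ m with Orb E l m, lc m

theorem Orb.eta_eq (h : Orb E l m) : eta E l = eta E m := by
  rw [eta, eta, show Orb E l = Orb E m from funext fun _ => propext h.congr]

theorem isCharacter_eta (E : Subgroup (MulAut W)) (l : W →* ℂˣ) : IsCharacter W (eta E l) :=
  IsCharacter.sum fun m _ => (isIrr_lc m).isCharacter

theorem FreeAut.eta_apply (hE : FreeAut E) (hc : ∀ a b : W, a * b = b * a) (hl : l ≠ 1)
    [Fintype E] (u : W) : eta E l u = ∑ σ : E, (l (σ.1 u) : ℂ) := by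
  rw [eta, Finset.sum_apply]
  exact (hE.sum_orb hc hl fun m => (m u : ℂ)).symm

theorem FreeAut.eta_one (hE : FreeAut E) (hc : ∀ a b : W, a * b = b * a) (hl : l ≠ 1) :
    eta E l 1 = Nat.card E := by
  have := Fintype.ofFinite E
  simp [hE.eta_apply hc hl]

theorem eta_aut (l : W →* ℂˣ) (hσ : σ ∈ E) (u : W) : eta E l (σ u) = eta E l u := by
  classical
  simp only [eta, Finset.sum_apply]
  exact Finset.sum_bij (fun m _ => lcomp m σ)
    (fun m hm => by simpa using (Finset.mem_filter.1 hm).2.trans ⟨σ, hσ, rfl⟩)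
    (fun m _ n _ h => by
      rw [← lcomp_one m, ← mul_inv_cancel σ, lcomp_mul, h, ← lcomp_mul, mul_inv_cancel, lcomp_one])
    (fun m hm => ⟨lcomp m σ⁻¹,
      by simpa using (Finset.mem_filter.1 hm).2.trans ⟨σ⁻¹, E.inv_mem hσ, rfl⟩,
      by rw [← lcomp_mul, inv_mul_cancel, lcomp_one]⟩) fun _ _ => rfl

open Classical in
theorem classInner_eta [Fintype W] (l m : W →* ℂˣ) :
    classInner (eta E l) (lc m) = if Orb E l m then 1 else 0 := by
  rw [eta, classInner_sum_left]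
  simp only [classInner_lc, Finset.sum_ite_eq', Finset.mem_filter, Finset.mem_univ, true_and]

theorem eta_eq_finsum (l : W →* ℂˣ) (u : W) : eta E l u = ∑ᶠ m ∈ {m | Orb E l m}, (m u : ℂ) := by
  classical
  rw [eta, Finset.sum_apply, ← finsum_mem_coe_finset]
  simp

theorem classInner_lcomp [Fintype W] {f : W → ℂ} (hf : ∀ u, f (σ u) = f u) (l : W →* ℂˣ) :
    classInner f (lc (lcomp l σ)) = classInner f (lc l) := by
  rw [classInner, classInner]
  congr 1
  exact Fintype.sum_equiv σ.toEquiv _ _ fun u => by simp [hf]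

/-- a function is determined off the identity by its products with the `λ - 1` -/
theorem apply_eq_sum_sub_one [Fintype W] (hc : ∀ a b : W, a * b = b * a) (f : W → ℂ) (hu : u ≠ 1) :
    f u = ∑ l : W →* ℂˣ, classInner f (lc l - lc 1) * l u := by
  classical
  have h1 := congrFun (eq_sum_lc hc f) u
  have h2 := sum_lc hc u
  rw [if_neg hu] at h2
  simp only [Finset.sum_apply, Pi.smul_apply, smul_eq_mul, lc_apply] at h1
  simp only [classInner_sub_right, sub_mul, Finset.sum_sub_distrib, ← Finset.mul_sum, h2, ← h1,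
    mul_zero, sub_zero]

theorem sum_erase_lc (hc : ∀ a b : W, a * b = b * a) (hu : u ≠ 1) :
    ∑ l ∈ Finset.univ.erase (1 : W →* ℂˣ), (l u : ℂ) = -1 := by
  classical
  have h2 := sum_lc hc u
  rw [if_neg hu, ← Finset.add_sum_erase _ _ (Finset.mem_univ 1)] at h2
  simpa [add_eq_zero_iff_eq_neg'] using h2

theorem classInner_congr_off [Fintype W] {f g : W → ℂ} (h : ∀ u, u ≠ 1 → f u = g u) (l : W →* ℂˣ) :
    classInner f (lc l - lc 1) = classInner g (lc l - lc 1) := by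
  rw [classInner, classInner]
  congr 1
  refine Finset.sum_congr rfl fun u _ => ?_
  by_cases hu : u = 1
  · simp [hu]
  · rw [h u hu]

end Orb

end Cfsg.Agent.Blk
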