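import Cfsg.Agent.Lib.Block.Klein
import Cfsg.Agent.Lib.Transfer.MC
import Cfsg.Agent.Lib.Transfer.Col
import Cfsg.Agent.Lib.Char.FS

/-!
Counting pairs of involutions: Brauer's group order formulas.
-/

set_option autoImplicit false

namespace Cfsg.Agent.Blk
open MonoidAlgebra
open Cfsg.Agent.Char hiding cj cj_mul cj_inv_cj cj_cj_inv sum_cj_eq om
open scoped ComplexConjugate
attribute [local instance] _root_.Classical.propDecidable
open Subgroup (zpowers mem_zpowers)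

section OC
variable {G : Type*} [Group G] [Finite G] {p : ℕ} {z w g h t u v x : G} {O P : Subgroup G}

theorem card_eq_mul_of_decomp {A B K : Subgroup G} (hA : A ≤ K) (hB : B ≤ K) (h0 : A ⊓ B = ⊥)
    (h : ∀ k ∈ K, ∃ a ∈ A, ∃ b ∈ B, k = a * b) : Nat.card K = Nat.card A * Nat.card B := by
  rw [← Nat.card_prod]
  refine (Nat.card_eq_of_bijective (fun x : A × B => (⟨x.1 * x.2, K.mul_mem (hA x.1.2) (hB x.2.2)⟩ : K))
    ⟨fun x y hxy => ?_, fun k => ?_⟩).symm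
  · have h1 : (x.1 : G) * x.2 = y.1 * y.2 := congrArg Subtype.val hxy
    have h2 : (y.1 : G)⁻¹ * x.1 = y.2 * (x.2 : G)⁻¹ := by
      rw [inv_mul_eq_iff_eq_mul, ← mul_assoc, ← h1, mul_inv_cancel_right]
    have h3 : (y.1 : G)⁻¹ * x.1 ∈ A ⊓ B := ⟨A.mul_mem (A.inv_mem y.1.2) x.1.2,
      h2 ▸ B.mul_mem y.2.2 (B.inv_mem x.2.2)⟩
    rw [h0, Subgroup.mem_bot] at h3
    have h4 : x.1 = y.1 := Subtype.ext (inv_mul_eq_one.1 h3).symm
    rw [h4] at h1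
    exact Prod.ext h4 (Subtype.ext (mul_left_cancel h1))
  · obtain ⟨a, ha, b, hb, h1⟩ := h k k.2
    exact ⟨(⟨a, ha⟩, ⟨b, hb⟩), Subtype.ext h1.symm⟩

theorem card_conj_mul' (O : Subgroup G) (t : G) :
    Nat.card {v // ∃ s ∈ O, s * t * s⁻¹ = v} * Nat.card ↥(O ⊓ Ce1 t) = Nat.card O := by
  have := Fintype.ofFinite G
  have h1 := Finset.card_eq_sum_card_fiberwise (s := (Finset.univ : Finset O))
    (t := Finset.univ.filter fun v => ∃ s ∈ O, s * t * s⁻¹ = v) (f := fun s : O => (s : G) * t * (s : G)⁻¹)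
    fun s _ => by simpa using ⟨s, s.2, rfl⟩
  rw [Finset.sum_congr rfl (g := fun _ => Nat.card ↥(O ⊓ Ce1 t)) fun v hv => by
    obtain ⟨s, hs, h2⟩ := (Finset.mem_filter.1 hv).2
    rw [← Transfer.card_conj_fiber_sub hs h2, Nat.card_eq_fintype_card, Fintype.card_subtype],
    Finset.sum_const, smul_eq_mul, Finset.card_univ] at h1
  rw [Nat.card_eq_fintype_card (α := O), h1, Nat.card_eq_fintype_card, Fintype.card_subtype]

variable (p) in
/-- `O` is the normal `p`-complement of `C(z)`. -/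
structure OC (z : G) (O : Subgroup G) : Prop where
  mem : ∀ g, g ∈ O ↔ g ∈ Ce1 z ∧ ¬ p ∣ orderOf g
  npc : HasNormalPComplement p (Ce1 z)

variable [Fact p.Prime]

theorem exists_OC (h : HasNormalPComplement p (Ce1 z)) : ∃ O, OC p z O :=
  ⟨(pPrimeCore p (Ce1 z)).map (Ce1 z).subtype, fun g => ⟨fun ⟨y, hy, h1⟩ => h1 ▸ ⟨y.2, by
    rw [Subgroup.subtype_apply, Subgroup.orderOf_coe]
    exact (Transfer.mem_pPrimeCore_iff_of_hasNPC h).1 hy⟩, fun ⟨h1, h2⟩ => ⟨⟨g, h1⟩,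
      (Transfer.mem_pPrimeCore_iff_of_hasNPC h).2 (by rwa [← Subgroup.orderOf_coe]), rfl⟩⟩, h⟩

namespace OC
variable (hO : OC p z O)
include hO

theorem le : O ≤ Ce1 z := fun g hg => ((hO.mem g).1 hg).1

theorem sub : O.subgroupOf (Ce1 z) = pPrimeCore p (Ce1 z) := by
  ext y
  rw [Subgroup.mem_subgroupOf, hO.mem, Transfer.mem_pPrimeCore_iff_of_hasNPC hO.npc,
    Subgroup.orderOf_coe, and_iff_right y.2]

theorem conj_mem (hx : x ∈ Ce1 z) (hg : g ∈ O) : x * g * x⁻¹ ∈ O :=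
  (hO.mem _).2 ⟨mul_mem (mul_mem hx (hO.le hg)) (inv_mem hx), by
    rw [orderOf_conj']; exact ((hO.mem g).1 hg).2⟩

theorem le_No : Ce1 z ≤ No O := fun _ hx => mem_No_of_forall fun _ hg => hO.conj_mem hx hg

theorem eq_one (hg : g ∈ O) (h : ∃ k : ℕ, orderOf g = p ^ k) : g = 1 :=
  eq_one_of_pelt_of_preg h ((hO.mem g).1 hg).2

theorem inf_eq (hP : IsPGroup p P) : P ⊓ O = ⊥ :=
  eq_bot_iff.2 fun _ hg => hO.eq_one hg.2 (pelt_of_mem hP hg.1)

theorem sup_eq (hP : IsSyl p P (Ce1 z)) : P ⊔ O = Ce1 z :=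
  hP.sup_eq_of_relIndex hO.le (by
    rw [Subgroup.relIndex, hO.sub]; exact Transfer.index_pPrimeCore_of_hasNPC hO.npc)

theorem exists_comp (hP : IsSyl p P (Ce1 z)) (hg : g ∈ Ce1 z) : ∃ t ∈ P, g * t⁻¹ ∈ O := by
  obtain ⟨o, ho, t, ht, rfl⟩ := exists_mul_of_mem_sup' (hP.le.trans hO.le_No)
    ((hO.sup_eq hP).ge hg)
  exact ⟨t, ht, by rwa [mul_inv_cancel_right]⟩

theorem comp_unique (hP : IsSyl p P (Ce1 z)) {s : G} (ht : t ∈ P) (hs : s ∈ P)
    (h1 : g * t⁻¹ ∈ O) (h2 : g * s⁻¹ ∈ O) : t = s := by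
  have h3 := hO.eq_one (O.mul_mem (O.inv_mem h2) h1) (pelt_of_mem hP.pg (P := P) (by
    rw [mul_inv_rev, inv_inv, mul_assoc, inv_mul_cancel_left]; exact P.mul_mem hs (P.inv_mem ht)))
  rw [mul_inv_rev, inv_inv, mul_assoc, inv_mul_cancel_left, mul_inv_eq_one] at h3
  exact h3.symm

theorem card_inf (hP : IsSyl p P (Ce1 z)) (ht : t ∈ P) :
    Nat.card ↥(Ce1 z ⊓ Ce1 t) = Nat.card ↥(O ⊓ Ce1 t) * Nat.card ↥(P ⊓ Ce1 t) := by
  refine card_eq_mul_of_decomp (inf_le_inf_right _ hO.le) (inf_le_inf_right _ hP.le)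
    (eq_bot_iff.2 fun g hg => hO.eq_one hg.1.1 (pelt_of_mem hP.pg hg.2.1)) fun g hg => ?_
  obtain ⟨s, hs, h1⟩ := hO.exists_comp hP hg.1
  have h2 : t * g * t⁻¹ = g := by rw [← mem_Ce1.1 hg.2, mul_inv_cancel_right]
  have h3 := hO.comp_unique hP (g := g) (P.mul_mem (P.mul_mem ht hs) (P.inv_mem ht)) hs (by
    have := hO.conj_mem (hP.le ht) h1
    rwa [show t * (g * s⁻¹) * t⁻¹ = t * g * t⁻¹ * (t * s * t⁻¹)⁻¹ by group, h2] at this) h1
  have h4 : s ∈ Ce1 t := mem_Ce1.2 (by rw [← mul_inv_eq_iff_eq_mul.1 h3])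
  exact ⟨_, ⟨h1, (Ce1 t).mul_mem hg.2 ((Ce1 t).inv_mem h4)⟩, s, ⟨hs, h4⟩, by simp⟩

theorem card_eq (hP : IsSyl p P (Ce1 z)) : Nat.card (Ce1 z) = Nat.card O * Nat.card P := by
  have := hO.card_inf hP P.one_mem
  rwa [Ce1_one, inf_top_eq, inf_top_eq, inf_top_eq] at this

theorem pow_mem (hg : g ∈ Ce1 z) (h1 : g * w⁻¹ ∈ O) (j : ℕ) : g ^ j * (w ^ j)⁻¹ ∈ O := by
  induction j with
  | zero => simp
  | succ j ih =>
    have := O.mul_mem (hO.conj_mem hg ih) h1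
    rwa [show g * (g ^ j * (w ^ j)⁻¹) * g⁻¹ * (g * w⁻¹) = g ^ (j + 1) * (w ^ (j + 1))⁻¹ by
      rw [pow_succ', pow_succ']; group] at this

theorem mem_zpowers_of (hz : ∃ k : ℕ, orderOf z = p ^ k) (hw : z ∈ zpowers w)
    (h1 : g * w⁻¹ ∈ O) : z ∈ zpowers g := by
  obtain ⟨j, hj⟩ : ∃ j : ℕ, w ^ j = z := mem_powers_iff_mem_zpowers.2 hw
  have h2 : w ∈ Ce1 z := mem_Ce1.2 (hj ▸ (Commute.refl w).pow_right j)
  have h3 : g ∈ Ce1 z := by simpa using mul_mem (hO.le h1) h2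
  obtain ⟨x, hx⟩ := exists_isPPart p g
  have h4 : x ∈ Ce1 z := hx.mem h3
  have h5 : x * w⁻¹ ∈ O := by
    have := O.mul_mem (O.inv_mem ((hO.mem _).2 ⟨mul_mem (inv_mem h4) h3, hx.preg⟩)) h1
    rwa [mul_inv_rev, inv_inv, ← hx.commute.inv_right.eq, mul_assoc, inv_mul_cancel_left] at this
  have h6 := hO.eq_one (hO.pow_mem h4 h5 j) (pelt_mul (by
    rw [hj]; exact (Commute.pow_left (mem_Ce1.1 h4) j).inv_right)
    (pelt_of_dvd hx.pelt (orderOf_pow_dvd j)) (by rwa [hj, orderOf_inv]))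
  rw [hj, mul_inv_eq_one] at h6
  exact h6 ▸ (zpowers g).pow_mem hx.mem_zpowers j

end OC

theorem OC.b0_coset [Fintype G] [Fintype O] {M : Ideal AlgInt} [PMod M p] (hO : OC p z O)
    (hz : ∃ k : ℕ, orderOf z = p ^ k) (hw : ∃ k : ℕ, orderOf w = p ^ k) (h1 : Ce1 w ≤ Ce1 z)
    {θ : G → ℂ} (hθ : IsClassFunction G θ) : ∑ o : O, θ (o * w) =
      Nat.card O * ∑ χ ∈ fs (principalBlock M G), classInner θ χ.1 * χ.1 w := by
  have h2 : w ∈ Ce1 z := h1 (mem_Ce1.2 rfl)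
  have h3 : principalBlock M (Ce1 z) = {ξ | pPrimeCore p (Ce1 z) ≤ charKer ξ.1} := by
    ext ξ; rw [← Transfer.mem_b0, Transfer.mem_b0_iff_of_hasNPC hO.npc]; rfl
  have h0 := card_ne_zero' O
  have h4 : ∀ χ : G → ℂ, ∑ o : O, χ (o * w) =
      Nat.card O * ch χ (es (Ce1 z) (fC (principalBlock M (Ce1 z))) * single w 1) := fun χ => by
    rw [ch_mul_single, sum_subgroup O fun g => χ (g * w), Finset.mul_sum]
    refine Finset.sum_congr rfl fun g _ => ?_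
    by_cases hg : g ∈ Ce1 z
    · rw [coeff_es_of_mem _ hg, coeff_fC, h3, blockCoeff_ker, ← hO.sub, Subgroup.mem_subgroupOf,
        Nat.card_congr (Subgroup.subgroupOfEquivOfLe hO.le).toEquiv]
      split_ifs
      · rw [mul_inv_cancel_left₀ h0]
      · simp
    · rw [coeff_es_of_notMem _ hg, if_neg fun h => hg (hO.le h)]; simp
  have hB := (isPBlock_principal (M := M) (G := G)).isUB
  simp only [hθ.apply_eq_sum]
  rw [Finset.sum_comm, ← sum_ite_fs, Finset.mul_sum]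
  refine Finset.sum_congr rfl fun χ _ => ?_
  rw [← Finset.mul_sum, h4]
  split_ifs with hχ
  · rw [apply_eq_ch_locSet hB hχ h2 (isPPart_self hw) h1, locSet_Ce1_principal hz]; ring
  · have h5 := apply_eq_ch_locSet hB.compl hχ h2 (isPPart_self hw) h1
    rw [locSet_Ce1_compl hz hB, locSet_Ce1_principal hz, fC_compl, map_sub, map_one, sub_mul,
      map_sub, one_mul, ch_single, one_mul, eq_comm, sub_eq_self] at h5
    rw [h5]; simp

end OC

section Inv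
variable {G : Type*} [Group G] [Fintype G] {z w g t u v : G} {O P : Subgroup G}

/-- number of involutions in a coset -/
noncomputable def ic (O : Subgroup G) (t : G) : ℕ :=
  (Finset.univ.filter fun u => orderOf u = 2 ∧ u * t⁻¹ ∈ O).card

theorem mul_self_of_two {G : Type*} [Group G] {u : G} (h : orderOf u = 2) : u * u = 1 := by
  rw [← sq, ← h, pow_orderOf_eq_one]

theorem inv_eq_of_two {G : Type*} [Group G] {u : G} (h : orderOf u = 2) : u⁻¹ = u :=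
  inv_eq_of_mul_eq_one_left (mul_self_of_two h)

namespace OC
variable (hO : OC 2 z O)
include hO

theorem ic_mul (h1 : t ∈ Ce1 z) (ht : orderOf t = 2) :
    ic O t * Nat.card ↥(O ⊓ Ce1 t) = Nat.card O := by
  rw [← card_conj_mul' O t, ic, Nat.card_eq_fintype_card (α := {v // ∃ s ∈ O, _}),
    Fintype.card_subtype]
  refine congrArg (· * _) (congrArg _ (Finset.filter_congr fun u _ => ?_))
  refine ⟨fun ⟨h2, h3⟩ => ?_, fun ⟨s, hs, h2⟩ => h2 ▸ ⟨by rwa [orderOf_conj'], ?_⟩⟩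
  · obtain ⟨k, hk⟩ : Odd (orderOf (u * t⁻¹)) := Nat.not_even_iff_odd.1 fun h =>
      ((hO.mem _).1 h3).2 h.two_dvd
    have h4 : t * (u * t⁻¹) * t⁻¹ = (u * t⁻¹)⁻¹ := by
      rw [mul_inv_rev, inv_inv, inv_eq_of_two h2, inv_eq_of_two ht, mul_assoc, mul_assoc,
        mul_self_of_two ht, mul_one]
    refine ⟨(u * t⁻¹) ^ (k + 1), O.pow_mem h3 _, ?_⟩
    have h5 : t * ((u * t⁻¹) ^ (k + 1))⁻¹ * t⁻¹ = (u * t⁻¹) ^ (k + 1) := by
      rw [← inv_pow, ← conj_pow, ← conj_inv, h4, inv_inv]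
    rw [mul_assoc, mul_inv_eq_iff_eq_mul.1 h5, ← mul_assoc, ← pow_add,
      show k + 1 + (k + 1) = orderOf (u * t⁻¹) + 1 by omega, pow_succ, pow_orderOf_eq_one, one_mul,
      inv_mul_cancel_right]
  · have := O.mul_mem hs (hO.conj_mem h1 (O.inv_mem hs))
    rwa [← mul_assoc, ← mul_assoc] at this

theorem ic_eq_zero (hP : IsSyl 2 P (Ce1 z)) (h1 : t ∈ P) (ht : orderOf t ≠ 2) : ic O t = 0 := by
  rw [ic, Finset.card_eq_zero, Finset.filter_eq_empty_iff]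
  rintro u - ⟨h2, h3⟩
  have h4 : u ∈ Ce1 z := by simpa using mul_mem (hO.le h3) (hP.le h1)
  have h5 := hO.pow_mem h4 h3 2
  rw [sq u, mul_self_of_two h2, one_mul] at h5
  have h6 := hO.eq_one h5 (pelt_of_mem hP.pg (P.inv_mem (P.pow_mem h1 2)))
  refine ht (orderOf_eq_prime (inv_eq_one.1 h6) fun h7 => ?_)
  rw [h7, inv_one, mul_one, hO.mem, h2] at h3
  exact h3.2 dvd_rfl

theorem ic_conj (hg : g ∈ Ce1 z) (t : G) : ic O (g * t * g⁻¹) = ic O t := by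
  refine (Finset.card_bij (fun u _ => g * u * g⁻¹) (fun u hu => ?_) (fun _ _ _ _ h => by simpa using h)
    fun u hu => ⟨g⁻¹ * u * g⁻¹⁻¹, ?_, by group⟩).symm
  · simp only [Finset.mem_filter, Finset.mem_univ, true_and] at hu ⊢
    exact ⟨by rw [orderOf_conj', hu.1], by convert hO.conj_mem hg hu.2 using 1; group⟩
  · simp only [Finset.mem_filter, Finset.mem_univ, true_and] at hu ⊢
    exact ⟨by rw [orderOf_conj', hu.1], by convert hO.conj_mem (inv_mem hg) hu.2 using 1; group⟩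

theorem sum_pairs [Fintype O] [Fintype P] (hP : IsSyl 2 P (Ce1 z)) (hz : orderOf z = 2)
    (hall : ∀ u, orderOf u = 2 → IsConj z u) (hw : w ∈ P) (h1 : z ∈ zpowers w) :
    ∑ o : O, Nat.card {q : G × G // IsConj z q.1 ∧ IsConj z q.2 ∧ q.1 * q.2 = o * w} =
      ∑ t : P, ic O t * ic O ((t : G)⁻¹ * w) := by
  have h2 : ∀ u, IsConj z u ↔ orderOf u = 2 := fun u =>
    ⟨fun h => by rw [← orderOf_of_isConj h, hz], hall u⟩
  simp only [h2, Nat.card_eq_fintype_card, Fintype.card_subtype, ic, Finset.card_filter,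
    Fintype.sum_prod_type, Finset.sum_mul_sum]
  rw [Finset.sum_comm, Finset.sum_comm (s := (Finset.univ : Finset P))]
  refine Finset.sum_congr rfl fun u _ => ?_
  rw [Finset.sum_comm, Finset.sum_comm (s := (Finset.univ : Finset P))]
  refine Finset.sum_congr rfl fun v _ => ?_
  by_cases h3 : orderOf u = 2 ∧ orderOf v = 2 ∧ u * v * w⁻¹ ∈ O
  · obtain ⟨h3, h4, h5⟩ := h3
    have h6 : u ∈ Ce1 z := by
      obtain ⟨k, hk⟩ := hO.mem_zpowers_of ⟨1, by rw [hz, pow_one]⟩ h1 h5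
      have h7 : u * (u * v) * u⁻¹ = (u * v)⁻¹ := by
        rw [← mul_assoc, mul_self_of_two h3, one_mul, mul_inv_rev, inv_eq_of_two h4]
      have h8 : u * z * u⁻¹ = z⁻¹ := by rw [← hk, ← conj_zpow, h7, inv_zpow]
      rw [inv_eq_of_two hz] at h8
      exact mem_Ce1.2 (mul_inv_eq_iff_eq_mul.1 h8)
    obtain ⟨t, ht, h7⟩ := hO.exists_comp hP h6
    rw [Finset.sum_eq_single ⟨_, h5⟩, Finset.sum_eq_single ⟨t, ht⟩]
    · have := hO.conj_mem (inv_mem (hP.le ht)) (O.mul_mem (O.inv_mem h7) h5)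
      rw [show t⁻¹ * ((u * t⁻¹)⁻¹ * (u * v * w⁻¹)) * t⁻¹⁻¹ = v * (t⁻¹ * w)⁻¹ by group] at this
      rw [if_pos ⟨h3, h4, by simp⟩, if_pos ⟨h3, h7⟩, if_pos ⟨h4, this⟩, mul_one]
    · intro s _ hs
      rw [if_neg fun h => hs (Subtype.ext (hO.comp_unique hP s.2 ht h.2 h7)), zero_mul]
    · simp
    · intro o _ ho
      exact if_neg fun h => ho (Subtype.ext (by simp [h.2.2]))
    · simp
  · rw [Finset.sum_eq_zero fun o _ => if_neg fun h => h3 ⟨h.1, h.2.1, by rw [h.2.2]; simp⟩,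
      Finset.sum_eq_zero fun t _ => ?_]
    split_ifs with h4 h5
    · refine absurd ⟨h4.1, h5.1, ?_⟩ h3
      have := O.mul_mem h4.2 (hO.conj_mem (hP.le t.2) h5.2)
      convert this using 1; group
    all_goals simp

theorem order_formula [Fintype P] (M : Ideal AlgInt) [PMod M 2] (hP : IsSyl 2 P (Ce1 z))
    (hz : orderOf z = 2) (hall : ∀ u, orderOf u = 2 → IsConj z u) (hw : w ∈ P)
    (h1 : z ∈ zpowers w) : ((∑ t : P, ic O t * ic O ((t : G)⁻¹ * w) : ℕ) : ℂ) *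
      Nat.card (Ce1 z) ^ 2 = Nat.card O * Nat.card G *
        ∑ χ ∈ fs (principalBlock M G), conj (χ.1 z ^ 2 / χ.1 1) * χ.1 w := by
  have := Fintype.ofFinite O
  rw [← hO.sum_pairs hP hz hall hw h1, Nat.cast_sum, hO.b0_coset (M := M) ⟨1, by rw [hz, pow_one]⟩
    (pelt_of_mem hP.pg hw) (by
      rw [← Ce_zpowers, ← Ce_zpowers]; exact Ce_anti (Subgroup.zpowers_le.2 h1))
    (θ := fun c => (Nat.card {q : G × G // IsConj z q.1 ∧ IsConj z q.2 ∧ q.1 * q.2 = c} : ℂ))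
    fun c x => ?_]
  · simp only [Transfer.classInner_card_class_mul, mul_assoc, Finset.mul_sum, Finset.sum_mul]
    refine Finset.sum_congr rfl fun χ _ => ?_
    have h2 := card_ne_zero' G
    rw [← (Ce1 z).card_mul_index] at h2 ⊢
    push_cast at h2 ⊢
    rw [sq (χ.1 z)]
    field_simp [left_ne_zero_of_mul h2, right_ne_zero_of_mul h2]
  · exact congrArg _ <| Nat.card_congr ⟨fun q => ⟨(x⁻¹ * q.1.1 * x⁻¹⁻¹, x⁻¹ * q.1.2 * x⁻¹⁻¹),
      q.2.1.trans (isConj_iff.2 ⟨x⁻¹, rfl⟩), q.2.2.1.trans (isConj_iff.2 ⟨x⁻¹, rfl⟩), by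
        rw [conj_mul, q.2.2.2]; group⟩, fun q => ⟨(x * q.1.1 * x⁻¹, x * q.1.2 * x⁻¹),
      q.2.1.trans (isConj_iff.2 ⟨x, rfl⟩), q.2.2.1.trans (isConj_iff.2 ⟨x, rfl⟩), by
        rw [conj_mul, q.2.2.2]⟩, fun q => by ext <;> simp [mul_assoc], fun q => by
          ext <;> simp [mul_assoc]⟩

end OC
end Inv

section DH
variable {G : Type*} [Group G] [Finite G] {P B O : Subgroup G} {a b c g s : G} {n : ℕ}

theorem sum_mc [Fintype P] [Fintype (zpowers a)] (h : Transfer.MC P a b n) {β : Type*}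
    [AddCommMonoid β] (F : G → β) :
    ∑ t : P, F t = ∑ c : zpowers a, F c + ∑ c : zpowers a, F (c * b) := by
  refine Eq.trans ?_ (Fintype.sum_sum_type (Sum.elim (fun c : zpowers a => F c)
    fun c : zpowers a => F (c * b)))
  refine (Fintype.sum_bijective (Sum.elim (fun c : zpowers a => (⟨c, h.le c.2⟩ : P))
    fun c : zpowers a => ⟨c * b, P.mul_mem (h.le c.2) h.mem_b⟩) ⟨?_, fun t => ?_⟩ _ _ ?_).symm
  · have h1 : ∀ c d : zpowers a, (c : G) ≠ d * b := fun c d h1 => h.notMem (by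
      rw [← inv_mul_eq_iff_eq_mul.2 h1]; exact mul_mem (inv_mem d.2) c.2)
    rintro (c | c) (d | d) h2 <;> have h3 := congrArg Subtype.val h2
    · exact congrArg _ (Subtype.ext h3)
    · exact absurd h3 (h1 _ _)
    · exact absurd h3.symm (h1 _ _)
    · exact congrArg _ (Subtype.ext (mul_right_cancel h3))
  · obtain h1 | ⟨c, hc, h1⟩ := h.a2.cases h.mem_b h.notMem t.2
    exacts [⟨.inl ⟨t, h1⟩, rfl⟩, ⟨.inr ⟨c, hc⟩, Subtype.ext h1.symm⟩]
  · rintro (c | c) <;> rfl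

theorem mc_le_Ce1 (h : Transfer.MC P a b n) : P ≤ Ce1 (a ^ 2 ^ n) := mem_Ce_iff_le.1 h.z_cent

theorem mc_z_ne (h : Transfer.MC P a b n) : a ^ 2 ^ n ≠ 1 := fun h1 => by
  simpa [h1] using h.ord_z

theorem mc_out_mul (h : Transfer.MC P a b n) (hc : c ∈ zpowers a) : c * b ∉ zpowers a := by
  rw [(zpowers a).mul_mem_cancel_left hc]; exact h.notMem

theorem mc_card_inf (h : Transfer.MC P a b n) : Nat.card ↥(P ⊓ Ce1 b) = 4 := by
  have := h.card_X le_rfl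
  rw [← h.cc_b, Nat.add_sub_cancel_left] at this
  exact this

/-- dihedral 2-groups, the four group included -/
structure DH (P : Subgroup G) (a b : G) (n : ℕ) : Prop extends Transfer.MC P a b n where
  sq1 : b * b = 1
  inv : b * a * b⁻¹ = a⁻¹

namespace DH
variable (h : DH P a b n)
include h

theorem inv' (hc : c ∈ zpowers a) : b * c * b⁻¹ = c⁻¹ := by
  obtain ⟨k, rfl⟩ := hc
  simp only [← conj_zpow, h.inv, inv_zpow]

theorem sq_out' (hs : s ∈ P) (hs' : s ∉ zpowers a) : s * s = 1 := by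
  obtain h1 | ⟨c, hc, rfl⟩ := h.a2.cases h.mem_b h.notMem hs
  · exact absurd h1 hs'
  · rw [show c * b * (c * b) = c * (b * c * b⁻¹) * (b * b) by group, h.inv' hc, h.sq1]; simp

theorem out' (hs : s ∈ P) (hs' : s ∉ zpowers a) : DH P a s n :=
  ⟨h.out hs hs', h.sq_out' hs hs', by
    rw [h.a2.conj_eq hs hs' h.mem_b h.notMem (mem_zpowers a), h.inv]⟩

theorem ord_b : orderOf b = 2 :=
  orderOf_eq_prime (by rw [sq, h.sq1]) fun h1 => h.notMem (h1 ▸ one_mem _)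

theorem fix' (hB : B ≤ P) (hz : a ^ 2 ^ n ∈ B) (hg : g ∈ No B) (h1 : ¬ 2 ∣ orderOf g)
    (h2 : g ∈ Ce1 (a ^ 2 ^ n)) : g ∈ Ce B := by
  have h3 : Odd (orderOf g) := Nat.not_even_iff_odd.1 fun h => h1 h.two_dvd
  by_contra h4
  obtain h5 | h5 := h.ess hB ⟨g, hg, h3, h4⟩
  · refine h4 ((Transfer.ix2_of_card (Subgroup.zpowers_le.2 hz) ?_).odd_cc (h.pg.to_le hB) h3 hg
      ((Ce_zpowers _).ge h2))
    rw [Nat.card_zpowers, h.ord_z, h5.card_four]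
  · obtain ⟨-, s, hs, hs', h6, -⟩ := h.q8 hB h5
    exact mc_z_ne h.toMC (h6.symm.trans (h.sq_out' hs hs'))

theorem npc (hP : IsSyl 2 P ⊤) : HasNormalPComplement 2 (Ce1 (a ^ 2 ^ n)) := by
  refine Transfer.hasNPC_sub_of_forall fun B h1 h2 _ g hg h3 h4 => ?_
  have h5 : B ≤ No (zpowers (a ^ 2 ^ n)) := h1.trans (Ce1_le_No _)
  obtain ⟨x, hx, h6⟩ := (hP.of_le (mc_le_Ce1 h.toMC) le_top).exists_cs_le
    (isPGroup_sup h2 (isPGroup_zpowers ⟨1, by rw [h.ord_z, pow_one]⟩) h5)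
    (sup_le h1 (zpowers_le_Ce1 _))
  have h7 := h.fix' (g := x * g * x⁻¹) h6 (by
    have := (conj_mem_cs (x := x) (Q := B ⊔ zpowers (a ^ 2 ^ n))).2
      (Subgroup.mem_sup_right (mem_zpowers (a ^ 2 ^ n)))
    rwa [mul_inv_eq_iff_eq_mul.2 (mem_Ce1.1 hx)] at this) (by
      rw [← cs_No, conj_mem_cs]; exact No_sup_le _ _ ⟨h3, Ce1_le_No _ hg⟩) (by
      rw [orderOf_conj']; exact (Nat.Prime.coprime_iff_not_dvd Nat.prime_two).1 h4.symm)
      (mul_mem (mul_mem hx hg) (inv_mem hx))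
  rw [← cs_Ce, conj_mem_cs] at h7
  exact Ce_anti le_sup_left h7

variable [Fintype G] (hO : OC 2 (a ^ 2 ^ n) O)
include hO

theorem ic_sq (hc : c ∈ zpowers (a * a)) : ic O (c * b) = ic O b := by
  obtain ⟨u, hu, h1⟩ := h.conj_out hc
  rw [← h1, hO.ic_conj (mc_le_Ce1 h.toMC (h.le hu))]

theorem ic_cases (hc : c ∈ zpowers a) :
    (ic O (c * b) = ic O b ∧ ic O (c * a⁻¹ * b) = ic O (a * b)) ∨
      (ic O (c * b) = ic O (a * b) ∧ ic O (c * a⁻¹ * b) = ic O b) := by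
  have h1 := h.out' h.mem_ab h.ab_out
  obtain h2 | ⟨d, hd, rfl⟩ := (Transfer.ix2_sq h.ord).cases (mem_zpowers a)
    (Transfer.notMem_sq h.ord) hc
  · refine .inl ⟨h.ic_sq hO h2, ?_⟩
    rw [← h1.ic_sq hO (mul_mem h2 (inv_mem (mem_zpowers _)))]
    congr 1; group
  · exact .inr ⟨by rw [mul_assoc, h1.ic_sq hO hd], by rw [mul_inv_cancel_right, h.ic_sq hO hd]⟩

theorem sum_ic [Fintype P] [Fintype (zpowers a)] (hP : IsSyl 2 P ⊤) {w : G} (hw : w ∈ zpowers a)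
    (h1 : w ≠ 1) : ∑ t : P, ic O t * ic O ((t : G)⁻¹ * w) =
      ∑ c : zpowers a, ic O (c * b) * ic O (c * w⁻¹ * b) := by
  have hS := hP.of_le (mc_le_Ce1 h.toMC) le_top
  rw [sum_mc h.toMC fun t => ic O t * ic O (t⁻¹ * w), Finset.sum_eq_zero, zero_add]
  · refine Finset.sum_congr rfl fun c _ => ?_
    rw [inv_eq_of_mul_eq_one_left (h.sq_out' (P.mul_mem (h.le c.2) h.mem_b) (mc_out_mul h.toMC c.2)),
      ← h.inv' hw]
    congr 2; group
  · intro c _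
    have h2 : ∀ d ∈ zpowers a, ic O d ≠ 0 → d = a ^ 2 ^ n := fun d hd h2 => by
      have h3 : orderOf d = 2 := by_contra fun h3 => h2 (hO.ic_eq_zero hS (h.le hd) h3)
      exact (h.inv_eq hd (mul_self_of_two h3)).resolve_left fun h4 => by simp [h4] at h3
    by_contra h3
    have h4 := h2 _ (mul_mem (inv_mem c.2) hw) (right_ne_zero_of_mul h3)
    rw [h2 _ c.2 (left_ne_zero_of_mul h3), inv_mul_eq_iff_eq_mul, h.z_mul] at h4
    exact h1 h4

omit [Fintype G] in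
theorem card_O (hP : IsSyl 2 P ⊤) : Nat.card (Ce1 (a ^ 2 ^ n)) = Nat.card O * 2 ^ (n + 2) := by
  rw [hO.card_eq (hP.of_le (mc_le_Ce1 h.toMC) le_top), h.card]

theorem ic_eq (hP : IsSyl 2 P ⊤) :
    (ic O b : ℂ) = 4 * Nat.card O / Nat.card ↥(Ce1 (a ^ 2 ^ n) ⊓ Ce1 b) := by
  rw [eq_div_iff (card_ne_zero' _), hO.card_inf (hP.of_le (mc_le_Ce1 h.toMC) le_top) h.mem_b,
    mc_card_inf h.toMC, ← hO.ic_mul (mc_le_Ce1 h.toMC h.mem_b) h.ord_b]
  push_cast; ring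

omit hO

theorem order_a (M : Ideal AlgInt) [PMod M 2] (hP : IsSyl 2 P ⊤)
    (hall : ∀ u, orderOf u = 2 → IsConj (a ^ 2 ^ n) u) :
    Nat.card G * ∑ χ ∈ fs (principalBlock M G), conj (χ.1 (a ^ 2 ^ n) ^ 2 / χ.1 1) * χ.1 a =
      8 * (Nat.card (Ce1 (a ^ 2 ^ n)) : ℂ) ^ 3 / (Nat.card ↥(Ce1 (a ^ 2 ^ n) ⊓ Ce1 b) *
        Nat.card ↥(Ce1 (a ^ 2 ^ n) ⊓ Ce1 (a * b))) := by
  obtain ⟨O, hO⟩ := exists_OC (h.npc hP)
  have h1 := hO.order_formula M (hP.of_le (mc_le_Ce1 h.toMC) le_top) h.ord_z hall h.mem_a h.z_mem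
  rw [h.sum_ic hO hP (mem_zpowers a) (fun h2 => mc_z_ne h.toMC (by simp [h2])),
    Finset.sum_congr rfl (g := fun _ => ic O b * ic O (a * b)) fun c _ => by
      obtain ⟨h2, h3⟩ | ⟨h2, h3⟩ := h.ic_cases hO c.2 <;> rw [h2, h3]
      rw [mul_comm], Finset.sum_const, Finset.card_univ, ← Nat.card_eq_fintype_card,
    Nat.card_zpowers, h.ord, smul_eq_mul, mul_assoc (Nat.card O : ℂ)] at h1
  push_cast at h1
  rw [h.ic_eq hO hP, (h.out' h.mem_ab h.ab_out).ic_eq hO hP] at h1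
  refine mul_left_cancel₀ (card_ne_zero' O) (h1.symm.trans ?_)
  rw [h.card_O hO hP]
  push_cast; ring

theorem order_z (M : Ideal AlgInt) [PMod M 2] (hP : IsSyl 2 P ⊤) (hn : 1 ≤ n)
    (hall : ∀ u, orderOf u = 2 → IsConj (a ^ 2 ^ n) u) :
    Nat.card G * ∑ χ ∈ fs (principalBlock M G),
      conj (χ.1 (a ^ 2 ^ n) ^ 2 / χ.1 1) * χ.1 (a ^ 2 ^ n) =
      4 * (Nat.card (Ce1 (a ^ 2 ^ n)) : ℂ) ^ 3 * (1 / (Nat.card ↥(Ce1 (a ^ 2 ^ n) ⊓ Ce1 b) : ℂ) ^ 2 +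
        1 / (Nat.card ↥(Ce1 (a ^ 2 ^ n) ⊓ Ce1 (a * b)) : ℂ) ^ 2) := by
  obtain ⟨O, hO⟩ := exists_OC (h.npc hP)
  have h1 := hO.order_formula M (hP.of_le (mc_le_Ce1 h.toMC) le_top) h.ord_z hall (h.le h.z_mem)
    (mem_zpowers _)
  have h2 : ∑ c : zpowers a, ic O (c * b) ^ 2 = 2 ^ n * (ic O b ^ 2 + ic O (a * b) ^ 2) := by
    have h3 := Fintype.sum_equiv (Equiv.mulRight (⟨a, mem_zpowers a⟩ : zpowers a)⁻¹)
      (fun c => ic O (c * a⁻¹ * b) ^ 2) (fun c => ic O (c * b) ^ 2) fun _ => rfl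
    refine Nat.eq_of_mul_eq_mul_left two_pos ?_
    rw [two_mul, ← mul_assoc, ← pow_succ', ← h.ord, ← Nat.card_zpowers, Nat.card_eq_fintype_card,
      ← Finset.card_univ, ← smul_eq_mul, ← Finset.sum_const]
    nth_rewrite 2 [← h3]
    rw [← Finset.sum_add_distrib]
    refine Finset.sum_congr rfl fun c _ => ?_
    obtain ⟨h2, h3⟩ | ⟨h2, h3⟩ := h.ic_cases hO c.2 <;> rw [h2, h3]
    rw [add_comm]
  rw [h.sum_ic hO hP h.z_mem (mc_z_ne h.toMC), Finset.sum_congr rfl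
    (g := fun c : zpowers a => ic O (c * b) ^ 2) fun c _ => by
      rw [sq, h.a2.comm c.2 (inv_mem h.z_mem), mul_assoc, (h.out' (P.mul_mem (h.le c.2) h.mem_b)
        (mc_out_mul h.toMC c.2)).ic_sq hO (inv_mem (h.pow_le_sq hn (mem_zpowers _)))], h2,
    mul_assoc (Nat.card O : ℂ)] at h1
  push_cast at h1
  rw [h.ic_eq hO hP, (h.out' h.mem_ab h.ab_out).ic_eq hO hP] at h1
  refine mul_left_cancel₀ (card_ne_zero' O) (h1.symm.trans ?_)
  rw [h.card_O hO hP]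
  push_cast; ring

omit [Fintype G] in
theorem conj_all (hP : IsSyl 2 P ⊤) (h1 : IsConj (a ^ 2 ^ n) b) (h2 : IsConj (a ^ 2 ^ n) (a * b))
    (u : G) (hu : orderOf u = 2) : IsConj (a ^ 2 ^ n) u := by
  obtain ⟨x, -, hx⟩ := hP.exists_cs_le (isPGroup_zpowers ⟨1, by rw [hu, pow_one]⟩) le_top
  have h3 := hx (conj_mem_cs.2 (mem_zpowers u))
  refine IsConj.trans ?_ (isConj_iff.2 ⟨x, rfl⟩).symm
  have h4 : orderOf (x * u * x⁻¹) = 2 := by rw [orderOf_conj', hu]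
  by_cases h5 : x * u * x⁻¹ ∈ zpowers a
  · rw [(h.inv_eq h5 (mul_self_of_two h4)).resolve_left fun h6 => by simp [h6] at h4]
  · obtain ⟨v, -, h6 | h6⟩ := h.out_conj h3 h5
    exacts [h1.trans (isConj_iff.2 ⟨v, h6⟩), h2.trans (isConj_iff.2 ⟨v, h6⟩)]

end DH

theorem klein_setup (M : Ideal AlgInt) [PMod M 2] (P : Sylow 2 G)
    (h4 : Nat.card (P : Subgroup G) = 4)
    (hn : ¬ HasNormalPComplement 2 G) (ha : a ∈ (P : Subgroup G)) (h2 : orderOf a = 2) :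
    (∀ u : (P : Subgroup G), u * u = 1) ∧ (∃ b, DH P a b 0) ∧ ∀ u, orderOf u = 2 → IsConj a u := by
  have h1 : ∀ u : (P : Subgroup G), u * u = 1 := fun u => by
    have := Monoid.pow_exponent_eq_one u
    rwa [(not_isCyclic_iff_exponent_eq_prime Nat.prime_two h4).1 fun h =>
      hn (Transfer.hasNPC_two_of_isCyclic P h), sq] at this
  have h3 := Transfer.ix2_of_card (zpowers_le' ha) (by rw [Nat.card_zpowers, h2, h4])
  obtain ⟨b, hb, hb'⟩ := h3.exists_out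
  have h5 : b * a * b⁻¹ = a⁻¹ := by
    rw [mem_Ce.1 (le_Ce_of_mul_self h1 ha) b hb, mul_inv_cancel_right, inv_eq_of_two h2]
  have h6 : b * b = 1 := congrArg Subtype.val (h1 ⟨b, hb⟩)
  have hd : DH P a b 0 := ⟨⟨h2, hb', h3.eq_sup hb hb', h6 ▸ one_mem _, .inl h5⟩, h6, h5⟩
  obtain ⟨hf, he, -⟩ := (mp_principal (M := M) (isSyl_sylow P)).klein h4 h1
  have h7 : ∀ v ∈ (P : Subgroup G), v ∉ zpowers a → IsConj (a ^ 2 ^ 0) v := fun v hv hv' => by
    obtain ⟨σ, hσ, h8⟩ := hf.free.trans_of_card (by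
      rw [h4, he.resolve_left fun h8 => hn (Transfer.hasNPC_of_normalizer_le_centralizer P (by
        rwa [card_autE_principal, Subgroup.relIndex_eq_one] at h8))])
      (u := ⟨a, ha⟩) (v := ⟨v, hv⟩) (fun h => by simp [show a = 1 from congrArg Subtype.val h] at h2)
      fun h => hv' ((show v = 1 from congrArg Subtype.val h) ▸ one_mem _)
    simpa using ((hf.fc _ _).2 ⟨σ, hσ, h8⟩).isConj
  exact ⟨h1, ⟨b, hd⟩, by
    simpa using hd.conj_all (isSyl_sylow P) (h7 _ hb hb') (h7 _ hd.mem_ab hd.ab_out)⟩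

end DH

section Klein
variable {G : Type*} [Group G] [Fintype G] {a : G}

theorem classInner_card_sqrt (χ : G → ℂ) :
    classInner (fun g => (Nat.card {s : G // s * s = g} : ℂ)) χ = conj (fsInd χ) := by
  rw [classInner, fsInd, ← Finset.sum_fiberwise' Finset.univ (fun s : G => s * s) χ]
  simp [Fintype.card_subtype, mul_comm]

theorem sum_fs_four {β : Type*} [AddCommMonoid β] {B : Set (IrrCharacter G)}
    {χ₁ χ₂ χ₃ : IrrCharacter G}
    (hB : B = {χ : IrrCharacter G | (χ : G → ℂ) = (fun _ => 1) ∨ χ = χ₁ ∨ χ = χ₂ ∨ χ = χ₃})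
    (h : (χ₁ : G → ℂ) ≠ (fun _ => 1) ∧ (χ₂ : G → ℂ) ≠ (fun _ => 1) ∧
      (χ₃ : G → ℂ) ≠ (fun _ => 1) ∧ χ₁ ≠ χ₂ ∧ χ₁ ≠ χ₃ ∧ χ₂ ≠ χ₃) (f : IrrCharacter G → β) :
    ∑ χ ∈ fs B, f χ = f (irrOne G) + f χ₁ + f χ₂ + f χ₃ := by
  simp only [← Transfer.irr_ne_one] at h
  rw [show fs B = {irrOne G, χ₁, χ₂, χ₃} by ext; simp [hB, Transfer.irr_eq_one],
    Finset.sum_insert (by simp [h.1.symm, h.2.1.symm, h.2.2.1.symm]),
    Finset.sum_insert (by simp [h]), Finset.sum_pair h.2.2.2.2.2, add_assoc, add_assoc]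

theorem klein_data (M : Ideal AlgInt) [PMod M 2] {g₀ : ℕ} (hg₀ : Odd g₀) (hG : Nat.card G = 4 * g₀)
    (hnc : ¬ ∃ N : Subgroup G, N.Normal ∧ Nat.card N = g₀) (P : Sylow 2 G)
    (ha : a ∈ (P : Subgroup G)) (h2 : orderOf a = 2) :
    Nat.card G * ∑ χ ∈ fs (principalBlock M G), conj (χ.1 a ^ 2 / χ.1 1) * χ.1 a =
      8 * (Nat.card (Ce1 a) : ℂ) ^ 3 / (Nat.card (Ce (P : Subgroup G)) : ℂ) ^ 2 ∧
    ∑ χ ∈ fs (principalBlock M G), conj (fsInd χ.1) * χ.1 a = 0 ∧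
    ∀ χ ∈ principalBlock M G, ¬ 2 ∣ charDegree χ.1 := by
  have h0 : (Nat.card G).factorization 2 = 2 := by
    rw [hG, Nat.factorization_mul (by norm_num) hg₀.pos.ne', Finsupp.add_apply,
      Nat.factorization_eq_zero_of_not_dvd hg₀.not_two_dvd_nat, show 4 = 2 ^ 2 from rfl,
      Nat.Prime.factorization_pow Nat.prime_two]
    simp
  have h4 : Nat.card (P : Subgroup G) = 4 := by rw [P.card_eq_multiplicity, h0]; rfl
  obtain ⟨h1, ⟨b, hd⟩, h3⟩ := klein_setup M P h4 (fun h => by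
    obtain ⟨N, h5, h6⟩ := (Transfer.hasNPC_iff_sylow P).1 h
    have := h6.card_mul
    rw [hG, h4] at this
    exact hnc ⟨N, h5, by omega⟩) ha h2
  have hP := isSyl_sylow P
  refine ⟨?_, ?_, fun χ hχ => (height_principal_iff (M := M) hχ).1
    (isPBlock_principal.height_eq_zero_of_defect_le hχ (by rw [defect_principal, h0]))⟩
  · have h5 : ∀ {b}, DH P a b 0 → Ce1 a ⊓ Ce1 b = Ce (P : Subgroup G) := fun h => by
      rw [h.eq, Ce_sup, Ce_zpowers, Ce_zpowers]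
    have := hd.order_a M hP (by simpa using h3)
    simp only [pow_zero, pow_one] at this
    rw [this, h5 hd, h5 (hd.out' hd.mem_ab hd.ab_out), sq]
  · obtain ⟨O, hO⟩ := exists_OC (hd.npc hP)
    simp only [pow_zero, pow_one] at hO
    have := Fintype.ofFinite O
    have h5 := hO.b0_coset (M := M) ⟨1, h2⟩ ⟨1, h2⟩ le_rfl
      (θ := fun g => (Nat.card {s : G // s * s = g} : ℂ)) fun g x => congrArg Nat.cast
        (Nat.card_congr ((MulAut.conj x).toEquiv.subtypeEquiv fun s => by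
          rw [← (MulAut.conj x).injective.eq_iff, map_mul]; rfl).symm)
    simp only [classInner_card_sqrt] at h5
    refine (mul_eq_zero.1 (h5.symm.trans (Finset.sum_eq_zero fun o _ => ?_))).resolve_left
      (card_ne_zero' O)
    rw [Nat.cast_eq_zero, Nat.card_eq_zero]
    refine .inl ⟨fun ⟨s, hs⟩ => ?_⟩
    obtain ⟨k, hk⟩ := hO.mem_zpowers_of (g := o * a) ⟨1, h2⟩ (mem_zpowers a) (by simp)
    have h6 : s ^ k * s ^ k = a := by
      rw [← (Commute.refl s).mul_zpow, hs]; exact hk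
    have h7 : orderOf (s ^ k) ∣ 2 ^ 2 := orderOf_dvd_of_pow_eq_one (by
      rw [show 2 ^ 2 = 2 * 2 from rfl, pow_mul, sq (s ^ k), h6, ← h2, pow_orderOf_eq_one])
    obtain ⟨j, -, hj⟩ := (Nat.dvd_prime_pow Nat.prime_two).1 h7
    obtain ⟨x, -, hx⟩ := hP.exists_cs_le (isPGroup_zpowers ⟨j, hj⟩) le_top
    have h8 : x * s ^ k * x⁻¹ * (x * s ^ k * x⁻¹) = 1 :=
      congrArg Subtype.val (h1 ⟨_, hx (conj_mem_cs.2 (mem_zpowers _))⟩)
    rw [conj_mul, h6, conj_eq_one_iff] at h8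
    simp [h8] at h2

end Klein

end Cfsg.Agent.Blk
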