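import Cfsg.Agent.Lib.Block.Br42
import Cfsg.Agent.Lib.Block.Res
import Cfsg.Agent.Lib.Solv.Cores
import Cfsg.Agent.Lib.Solv.Frob
import Cfsg.Agent.Lib.Transfer.Hall

set_option autoImplicit false

namespace Cfsg.Agent.Blk

open MonoidAlgebra Subgroup
open Cfsg.Agent.Char hiding cj cj_mul cj_inv_cj cj_cj_inv sum_cj_eq om
open scoped ComplexConjugate Classical

variable {G : Type*} [Group G] {p : ℕ} {x : G}

theorem comm_mem_Ce_of_cyclic {P : Subgroup G} (hc : IsCyclic P) {a b : G} (ha : a ∈ No P)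
    (hb : b ∈ No P) : a * b * a⁻¹ * b⁻¹ ∈ Ce P := by
  let _ := (hc.mulAutMulEquiv _).toMonoidHom.commGroupOfInjective (hc.mulAutMulEquiv _).injective
  have h := Abelianization.commutator_subset_ker P.normalizerMonoidHom
    (commutator_mem_commutator (mem_top (⟨a, ha⟩ : No P)) (mem_top ⟨b, hb⟩))
  rwa [normalizerMonoidHom_ker] at h

theorem commutator_le_of_sup {S N : Subgroup G} [S.Normal] (h : N ⊔ S = ⊤)
    (h1 : ∀ a ∈ N, ∀ b ∈ N, a * b * a⁻¹ * b⁻¹ ∈ S) : _root_.commutator G ≤ S := by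
  have h2 : ∀ g : G, ∃ a ∈ N, (a : G ⧸ S) = g := fun g => by
    have : g ∈ ((N ⊔ S : Subgroup G) : Set G) := h ▸ trivial
    rw [mul_normal] at this
    obtain ⟨a, ha, s, hs, rfl⟩ := this
    exact ⟨a, ha, by simp [(QuotientGroup.eq_one_iff s).2 hs]⟩
  refine commutator_le.2 fun g _ k _ => ?_
  obtain ⟨a, ha, e1⟩ := h2 g
  obtain ⟨b, hb, e2⟩ := h2 k
  rw [← QuotientGroup.eq_one_iff, commutatorElement_def]
  have := (QuotientGroup.eq_one_iff _).2 (h1 a ha b hb)
  simpa [← e1, ← e2] using this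

/-- a self-centralizing element of prime order -/
structure SC (p : ℕ) (x : G) : Prop where
  prime : p.Prime
  ord : orderOf x = p
  cen : Ce1 x = zpowers x

namespace SC

variable [Finite G] (h : SC p x)
include h

theorem card : Nat.card (zpowers x) = p := by rw [Nat.card_zpowers, h.ord]

theorem ne_one : x ≠ 1 := fun e => h.prime.one_lt.ne (by rw [← h.ord, e, orderOf_one])

theorem pg : IsPGroup p (zpowers x) := isPGroup_zpowers ⟨1, by rw [h.ord, pow_one]⟩

theorem Ce_eq : Ce (zpowers x) = zpowers x := (Ce_zpowers x).trans h.cen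

theorem zpowers_eq {u : G} (hu : u ∈ zpowers x) (h1 : u ≠ 1) : zpowers u = zpowers x :=
  haveI := Fact.mk h.prime
  zpowers_eq_of_card h.card hu h1

theorem Ce1_eq {u : G} (hu : u ∈ zpowers x) (h1 : u ≠ 1) : Ce1 u = zpowers x := by
  rw [← Ce_zpowers, h.zpowers_eq hu h1, h.Ce_eq]

theorem isSyl : IsSyl p (zpowers x) ⊤ := by
  haveI := Fact.mk h.prime
  obtain ⟨D, hD, h1⟩ := exists_isSyl_ge h.pg le_top
  have h2 : D ⊓ Ce D ≠ ⊥ := fun e =>
    h.ne_one (mem_bot.1 (eq_bot_of_inf_Ce hD.pg e ▸ h1 (mem_zpowers x)))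
  obtain ⟨⟨z, hz⟩, hz1⟩ := exists_ne_one_of_ne_bot h2
  have h3 : z ∈ zpowers x := h.Ce_eq ▸ Ce_anti h1 hz.2
  have h4 : D ≤ zpowers x := h.Ce1_eq h3 (fun e => hz1 (Subtype.ext e)) ▸ mem_Ce_iff_le.1 hz.2
  exact le_antisymm h4 h1 ▸ hD

theorem exists_sylow : ∃ S : Sylow p G, (S : Subgroup G) = zpowers x := isSyl_top_iff.1 h.isSyl

theorem not_dvd_index : ¬ p ∣ (zpowers x).index := by
  haveI := Fact.mk h.prime
  simpa using h.isSyl.not_dvd_relIndex

theorem exists_cs {H : Subgroup G} (hH : Nat.card H = p) : ∃ g, cs g H = zpowers x := by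
  haveI := Fact.mk h.prime
  obtain ⟨g, -, hg⟩ := h.isSyl.exists_cs_le (IsPGroup.of_card (hH.trans (pow_one p).symm)) le_top
  exact ⟨g, eq_of_le_of_card_ge hg (by rw [card_cs, hH, h.card])⟩

theorem le_of_dvd {S : Subgroup G} [S.Normal] (hS : p ∣ Nat.card S) : zpowers x ≤ S := by
  haveI := Fact.mk h.prime
  obtain ⟨y, hy⟩ := exists_prime_orderOf_dvd_card' p hS
  obtain ⟨g, hg⟩ := h.exists_cs (H := zpowers (y : G)) (by rw [Nat.card_zpowers, orderOf_coe, hy])
  exact hg ▸ (cs_mono g (zpowers_le.2 y.2)).trans (cs_normal g S).le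

theorem No_sup {S : Subgroup G} [S.Normal] (hS : zpowers x ≤ S) : No (zpowers x) ⊔ S = ⊤ := by
  haveI := Fact.mk h.prime
  obtain ⟨P, hP⟩ := h.exists_sylow
  rw [← hP] at hS ⊢
  exact P.normalizer_sup_eq_top' hS

theorem comm_mem {a b : G} (ha : a ∈ No (zpowers x)) (hb : b ∈ No (zpowers x)) :
    a * b * a⁻¹ * b⁻¹ ∈ zpowers x :=
  h.Ce_eq ▸ comm_mem_Ce_of_cyclic (isCyclic_zpowers x) ha hb

theorem commutator_le {S : Subgroup G} [S.Normal] (hS : p ∣ Nat.card S) :
    _root_.commutator G ≤ S :=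
  commutator_le_of_sup (h.No_sup (h.le_of_dvd hS)) fun _ ha _ hb => h.le_of_dvd hS (h.comm_mem ha hb)

theorem inf_eq_bot {S : Subgroup G} (hS : ¬ p ∣ Nat.card S) : S ⊓ zpowers x = ⊥ := by
  haveI := Fact.mk h.prime
  by_contra h1
  obtain ⟨⟨z, hz⟩, hz1⟩ := exists_ne_one_of_ne_bot h1
  have h2 : zpowers x ≤ S := h.zpowers_eq hz.2 (fun e => hz1 (Subtype.ext e)) ▸ zpowers_le.2 hz.1
  exact hS (h.card ▸ card_dvd_of_le h2)

theorem mem_of_comm {S : Subgroup G} (hS : ¬ p ∣ Nat.card S) {n : G} (hn : n ∈ No (zpowers x))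
    (h1 : n * x * n⁻¹ * x⁻¹ ∈ S) : n ∈ zpowers x := by
  have h2 : n * x * n⁻¹ * x⁻¹ ∈ S ⊓ zpowers x := ⟨h1, h.comm_mem hn (le_No _ (mem_zpowers x))⟩
  rw [h.inf_eq_bot hS, mem_bot, mul_inv_eq_one, mul_inv_eq_iff_eq_mul] at h2
  exact h.cen ▸ mem_Ce1.2 h2

theorem inf_No {S : Subgroup G} [hn : S.Normal] (hS : ¬ p ∣ Nat.card S) :
    S ⊓ No (zpowers x) = ⊥ := by
  refine le_bot_iff.1 (h.inf_eq_bot hS ▸ fun n hn' => ⟨hn'.1, h.mem_of_comm hS hn'.2 ?_⟩)
  have := S.mul_mem hn'.1 (hn.conj_mem _ (S.inv_mem hn'.1) x)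
  simpa [mul_assoc] using this

theorem card_sub : Nat.card {H : Subgroup G // Nat.card H = p} = (No (zpowers x)).index := by
  haveI := Fact.mk h.prime
  obtain ⟨P, hP⟩ := h.exists_sylow
  rw [← hP]
  refine Eq.trans ?_ P.card_eq_index_normalizer
  have h1 : ∀ Q : Sylow p G, Nat.card (Q : Subgroup G) = p := fun Q => by
    rw [Q.card_eq_multiplicity, ← P.card_eq_multiplicity, hP, h.card]
  refine (Nat.card_eq_of_bijective (fun Q : Sylow p G => (⟨Q, h1 Q⟩ :
    {H : Subgroup G // Nat.card H = p})) ⟨fun a b e => Sylow.ext (congrArg Subtype.val e), ?_⟩).symm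
  rintro ⟨H, hH⟩
  exact ⟨Sylow.ofCard H (by rw [← P.card_eq_multiplicity, h1, hH]), rfl⟩

theorem card_No_sup {S : Subgroup G} [S.Normal] (hS : ¬ p ∣ Nat.card S) :
    Nat.card ↥(No (zpowers x) ⊔ S) = Nat.card (No (zpowers x)) * Nat.card S := by
  rw [← (S.subgroupOf (No (zpowers x) ⊔ S)).card_mul_index, ← relIndex, relIndex_sup_right,
    ← inf_relIndex_right, h.inf_No hS, relIndex_bot_left,
    Nat.card_congr (subgroupOfEquivOfLe le_sup_right).toEquiv, mul_comm]

theorem card_mul_index_sup {S : Subgroup G} [S.Normal] (hS : ¬ p ∣ Nat.card S) :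
    Nat.card S * (No (zpowers x) ⊔ S).index = (No (zpowers x)).index := by
  refine Nat.eq_of_mul_eq_mul_left (Nat.card_pos (α := No (zpowers x))) ?_
  rw [← mul_assoc, ← h.card_No_sup hS, card_mul_index, card_mul_index]

theorem modEq {S : Subgroup G} [S.Normal] (hS : ¬ p ∣ Nat.card S) : Nat.card S ≡ 1 [MOD p] :=
  h.card ▸ Solv.card_modEq_one_of_fpf le_normalizer_of_normal fun u hu h1 =>
    (congrArg _ (h.Ce1_eq hu h1)).trans (h.inf_eq_bot hS)

theorem quot {S : Subgroup G} [S.Normal] (hS : ¬ p ∣ Nat.card S) :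
    SC p (QuotientGroup.mk x : G ⧸ S) := by
  haveI := Fact.mk h.prime
  refine ⟨h.prime, orderOf_eq_prime ?_ fun e => h.ne_one ?_, ?_⟩
  · rw [← QuotientGroup.mk_pow, ← h.ord, pow_orderOf_eq_one, QuotientGroup.mk_one]
  · exact mem_bot.1 (h.inf_eq_bot hS ▸ ⟨(QuotientGroup.eq_one_iff x).1 e, mem_zpowers x⟩)
  · have := Solv.coprime_map_mk_centralizer (A := zpowers x) (N := S)
      (h.card.symm ▸ h.prime.coprime_iff_not_dvd.2 hS) (Or.inl inferInstance)
    rw [MonoidHom.map_zpowers] at this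
    rw [← Ce_zpowers]
    exact this.symm.trans ((congrArg _ h.Ce_eq).trans (MonoidHom.map_zpowers _ _))

theorem sub {H : Subgroup G} (hx : x ∈ H) : SC p (⟨x, hx⟩ : H) := by
  refine ⟨h.prime, by rw [← orderOf_coe]; exact h.ord, Subgroup.ext fun y => ?_⟩
  rw [mem_Ce1, Subtype.ext_iff]
  refine (mem_Ce1 (g := x) (h := y)).symm.trans ?_
  rw [h.cen, mem_zpowers_iff, mem_zpowers_iff]
  exact exists_congr fun k => by rw [Subtype.ext_iff]; rfl

theorem le_commutator {S : Subgroup G} [S.Normal] (hS : ¬ p ∣ Nat.card S) :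
    S ≤ _root_.commutator G := fun s hs => by
  obtain ⟨y, -, hy⟩ := Solv.exists_conj_eq_mul_of_fpf (h := x) (le_normalizer_of_normal (mem_top x))
    ((congrArg _ h.cen).trans (h.inf_eq_bot hS)) hs
  rw [← mul_inv_eq_iff_eq_mul.2 hy]
  exact commutator_mem_commutator (mem_top y) (mem_top x)

theorem index_commutator (hS : ¬ p ∣ Nat.card (_root_.commutator G)) :
    (_root_.commutator G).index = p := by
  have h1 := h.quot hS
  have h2 : zpowers (QuotientGroup.mk x : G ⧸ _root_.commutator G) = ⊤ := by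
    rw [← h1.cen, eq_top_iff]
    exact fun y _ => mem_Ce1.2 (mul_comm (G := Abelianization G) _ _)
  rw [index, ← h1.card, h2, card_top]

theorem No_eq_iff : No (zpowers x) = zpowers x ↔ ¬ p ∣ Nat.card (_root_.commutator G) := by
  haveI := Fact.mk h.prime
  refine ⟨fun h1 => ?_, fun h1 => le_antisymm (fun n hn => h.mem_of_comm h1 hn
    (commutator_mem_commutator (mem_top n) (mem_top x))) (le_No _)⟩
  obtain ⟨P, hP⟩ := h.exists_sylow
  obtain ⟨K, hK, h2⟩ := (Transfer.hasNPC_iff_sylow P).1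
    (Transfer.hasNPC_of_normalizer_le_centralizer P (hP ▸ h1.le.trans h.Ce_eq.ge))
  have h3 : _root_.commutator G ≤ K := commutator_le_of_sup (N := P) h2.symm.sup_eq_top
    fun a ha b hb => by
      rw [hP] at ha hb
      rw [mem_Ce.1 (h.Ce_eq.ge hb) a ha]
      simp
  refine fun hd => h.not_dvd_index ?_
  rw [← hP, h2.index_eq_card]
  exact hd.trans (card_dvd_of_le h3)

theorem of_ord {g : G} (hg : orderOf g = p) : SC p g := by
  obtain ⟨c, hc⟩ := h.exists_cs (H := zpowers g) (by rw [Nat.card_zpowers, hg])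
  refine ⟨h.prime, hg, cs_injective c ?_⟩
  rw [← Ce_zpowers, cs_Ce, hc, h.Ce_eq]

theorem count : Nat.card {C : ConjClasses G // ∃ g ∈ C.carrier, orderOf g = p} *
    Nat.card (No (zpowers x)) = (p - 1) * p := by
  haveI := Fact.mk h.prime
  have := Fintype.ofFinite G
  let X := {g : G // orderOf g = p}
  let f1 : X → {C : ConjClasses G // ∃ g ∈ C.carrier, orderOf g = p} := fun g =>
    ⟨ConjClasses.mk g.1, g.1, ConjClasses.mem_carrier_mk, g.2⟩
  let f2 : X → {H : Subgroup G // Nat.card H = p} := fun g =>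
    ⟨zpowers g.1, by rw [Nat.card_zpowers, g.2]⟩
  have h1 : ∀ C, Nat.card {g // f1 g = C} = (zpowers x).index := by
    rintro ⟨C, g, hg, hg'⟩
    have h2 : (zpowers x).index = (Ce1 g).index := by
      refine Nat.eq_of_mul_eq_mul_left h.prime.pos ?_
      rw [(h.of_ord hg').cen]
      exact (h.card ▸ card_mul_index _).trans ((h.of_ord hg').card ▸ card_mul_index _).symm
    rw [h2, ← card_isConj_eq_index]
    rw [ConjClasses.mem_carrier_iff_mk_eq] at hg
    refine Nat.card_congr ⟨fun y => ⟨y.1.1, ConjClasses.mk_eq_mk_iff_isConj.1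
      (hg.trans (congrArg Subtype.val y.2).symm)⟩, fun y => ⟨⟨y.1, orderOf_of_isConj y.2 ▸ hg'⟩,
      Subtype.ext ((ConjClasses.mk_eq_mk_iff_isConj.2 y.2).symm.trans hg)⟩, fun _ => rfl, fun _ => rfl⟩
  have h2 : ∀ H, Nat.card {g // f2 g = H} = p - 1 := by
    rintro ⟨H, hH⟩
    have := Fintype.ofFinite H
    have h0 : p - 1 = Nat.card {y : H // ¬ y = 1} := by
      rw [Nat.card_eq_fintype_card, Fintype.card_subtype_compl, Fintype.card_subtype_eq,
        ← Nat.card_eq_fintype_card, hH]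
    rw [h0]
    refine Nat.card_congr ⟨fun y => ⟨⟨y.1.1, (congrArg Subtype.val y.2).le (mem_zpowers _)⟩,
      fun e => (h.of_ord y.1.2).ne_one (congrArg Subtype.val e)⟩, fun y => ⟨⟨y.1.1, ?_⟩,
      Subtype.ext (zpowers_eq_of_card hH y.1.2 (coe_ne_one y.2))⟩, fun _ => rfl, fun _ => rfl⟩
    rw [← Nat.card_zpowers, zpowers_eq_of_card hH y.1.2 (coe_ne_one y.2), hH]
  have h3 := Nat.card_congr (Equiv.sigmaFiberEquiv f1)
  have h4 := Nat.card_congr (Equiv.sigmaFiberEquiv f2)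
  have := Fintype.ofFinite {C : ConjClasses G // ∃ g ∈ C.carrier, orderOf g = p}
  have := Fintype.ofFinite {H : Subgroup G // Nat.card H = p}
  rw [Nat.card_sigma] at h3 h4
  simp only [h1, h2, Finset.sum_const, Finset.card_univ, smul_eq_mul,
    ← Nat.card_eq_fintype_card] at h3 h4
  rw [h.card_sub] at h4
  have h5 := card_mul_index (zpowers x)
  have h6 := card_mul_index (No (zpowers x))
  rw [h.card] at h5
  refine Nat.eq_of_mul_eq_mul_right (Nat.pos_of_ne_zero (index_ne_zero_of_finite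
    (H := zpowers x))) ?_
  calc _ = Nat.card (No (zpowers x)) * ((No (zpowers x)).index * (p - 1)) := by
        rw [h4, ← h3]; ring
    _ = _ := by rw [← mul_assoc, h6, ← h5]; ring

theorem count' {t : ℕ}
    (ht : Nat.card {C : ConjClasses G // ∃ g ∈ C.carrier, orderOf g = p} = t) :
    t * (zpowers x).relIndex (No (zpowers x)) = p - 1 := by
  have h1 := h.count
  rw [ht, ← Solv.card_mul_relIndex (le_No (zpowers x)), h.card] at h1
  exact Nat.eq_of_mul_eq_mul_right h.prime.pos (by rw [← h1]; ring)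

theorem t_iff {t : ℕ}
    (ht : Nat.card {C : ConjClasses G // ∃ g ∈ C.carrier, orderOf g = p} = t) :
    t = p - 1 ↔ ¬ p ∣ Nat.card (_root_.commutator G) := by
  have h1 := h.count' ht
  have h2 := h.prime.two_le
  rw [← h.No_eq_iff, le_antisymm_iff (a := No _), and_iff_left (le_No _), ← relIndex_eq_one]
  refine ⟨fun e => ?_, fun e => by rwa [e, mul_one] at h1⟩
  rw [e] at h1
  exact (Nat.mul_eq_left (by omega)).1 h1

theorem not_dvd_of_ne (h1 : p ∣ Nat.card (_root_.commutator G))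
    (h2 : _root_.commutator (_root_.commutator G) ≠ ⊤) :
    ¬ p ∣ Nat.card (_root_.commutator (_root_.commutator G)) := fun h3 => by
  have h4 := h.commutator_le (S := (_root_.commutator (_root_.commutator G)).map (Subgroup.subtype _))
    (by rwa [card_map_of_injective (subtype_injective _)])
  refine h2 (eq_top_iff.2 fun y _ => ?_)
  obtain ⟨z, hz, e⟩ := h4 y.2
  exact Subtype.ext e ▸ hz

theorem mem_principal {M : Ideal AlgInt} [PMod M p] {χ : IrrCharacter G}
    (hχ : ¬ p ∣ charDegree χ.1) : χ ∈ principalBlock M G := by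
  haveI := Fact.mk h.prime
  have hB := isPBlock_blockOf (M := M) χ
  obtain ⟨b, hb⟩ := hB.exists_root (hB.isDef_of_mnu (mnu_eq_zero (mem_blockOf_self χ) hχ) h.isSyl)
  obtain ⟨c, hc⟩ := (isPBlock_principal (M := M)).exists_root (isDef_principal_iff.2 h.isSyl)
  have h1 : IsPGroup p (Ce (zpowers x)) := h.Ce_eq.symm ▸ h.pg
  rw [eq_univ_of_pgroup h1 hb.1] at hb
  rw [eq_univ_of_pgroup h1 hc.1] at hc
  rw [← hb.unique hc]
  exact mem_blockOf_self χ

end SC

theorem detChar_sum_lc [Finite G] (s : Finset (G →* ℂˣ)) (g : G) :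
    detChar (∑ l ∈ s, lc l) g = ∏ l ∈ s, (l g : ℂ) := by
  induction s using Finset.induction_on with
  | empty => simp [detChar_zero]
  | insert a s ha ih =>
    rw [Finset.sum_insert ha, Finset.prod_insert ha, (isIrr_lc a).isCharacter.detChar_add
      (IsCharacter.sum fun l _ => (isIrr_lc l).isCharacter), ih, detChar_units]

theorem detChar_regChar [Finite G] {g : G} (hg : zpowers g = ⊤) (h2 : Even (Nat.card G)) :
    detChar (regChar G) g = -1 := by
  have hc : ∀ a b : G, a * b = b * a := fun a b => by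
    obtain ⟨i, rfl⟩ := mem_zpowers_iff.1 (hg ▸ mem_top a)
    obtain ⟨j, rfl⟩ := mem_zpowers_iff.1 (hg ▸ mem_top b)
    exact zpow_mul_comm g i j
  have hinj : ∀ l m : G →* ℂˣ, l g = m g → l = m := fun l m e =>
    MonoidHom.eq_of_eqOn_dense (s := {g}) (by rw [← zpowers_eq_closure, hg]) (by simpa using e)
  haveI : Fact (Nat.Prime 2) := ⟨Nat.prime_two⟩
  obtain ⟨w, hw⟩ := exists_prime_orderOf_dvd_card' 2 (card_lc hc ▸ h2.two_dvd)
  have h1 : ∀ l : G →* ℂˣ, l⁻¹ = l → l ≠ 1 → l g = -1 := fun l e h => by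
    have h3 : l g * l g = 1 := by
      rw [← MonoidHom.mul_apply, inv_eq_iff_mul_eq_one.1 e, MonoidHom.one_apply]
    rcases mul_self_eq_one_iff.1 (by rw [← Units.val_mul, h3, Units.val_one] : (l g : ℂ) * l g = 1) with h4 | h4
    · exact (h (hinj _ _ (Units.ext h4))).elim
    · exact Units.ext h4
  have hw1 : w ≠ 1 := fun e => by simp [e] at hw
  have hw2 : w⁻¹ = w := inv_eq_iff_mul_eq_one.2 ((sq w).symm.trans (hw ▸ pow_orderOf_eq_one w))
  rw [← sum_lc_eq_regChar hc, detChar_sum_lc,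
    ← Finset.mul_prod_erase _ _ (Finset.mem_univ w), h1 w hw2 hw1,
    Finset.prod_involution (fun l _ => l⁻¹) (fun l _ => by simp) (fun l hl h e => ?_)
      (fun l hl => ?_) (fun l _ => inv_inv l)]
  · simp
  · refine (Finset.mem_erase.1 hl).1 (hinj _ _ ?_)
    rw [h1 w hw2 hw1, h1 l e fun e' => h (by simp [e'])]
  · exact Finset.mem_erase.2 ⟨fun e => (Finset.mem_erase.1 hl).1 (by rw [← hw2, ← e, inv_inv]),
      Finset.mem_univ _⟩

theorem sum_coset_eq_zero [Finite G] {N : Subgroup G} [N.Normal] [Fintype N] {θ : G → ℂ}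
    (hθ : IsCharacter G θ) (h : classInner (fun n : N => θ n) (fun _ => 1) = 0) (g : G) :
    ∑ n : N, θ (n * g) = 0 := by
  have := Fintype.ofFinite G
  have h1 := coset_average (N := N) hθ.isClassFunction g
  rw [Finset.sum_eq_zero (s := Finset.filter _ _) fun β hβ => ?_, mul_eq_zero] at h1
  · exact h1.resolve_left (inv_ne_zero (card_ne_zero' N))
  rw [mul_eq_zero]
  refine Or.inl (by_contra fun h2 => ?_)
  refine hθ.classInner_ne_zero_of_common (isCharacter_one (G := N)).ind β.2 h2 ?_ ?_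
  · rw [frobenius_left _ _ β.2.isClassFunction, Ne, classInner_eq_zero_comm]
    exact β.2.le_charKer_iff_over_one.1 (Finset.mem_filter.1 hβ).2
  · rw [frobenius_right _ _ hθ.isClassFunction, h]

end Cfsg.Agent.Blk
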