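import Cfsg.Agent.Lib.Block.Br42
import Cfsg.Agent.Lib.Block.SelfC
import Cfsg.Agent.Lib.Block.One2
import Cfsg.Agent.Lib.Block.Gal

/-! Tools for the recognition of simple groups from their order. -/

set_option autoImplicit false

namespace Cfsg.Agent.Blk

open MonoidAlgebra Subgroup
open Cfsg.Agent.Char hiding cj cj_mul cj_inv_cj cj_cj_inv sum_cj_eq
open scoped ComplexConjugate
attribute [local instance] _root_.Classical.propDecidable

variable {G : Type*} [Group G] [Finite G] {p : ℕ} {x g t : G} {χ ψ : IrrCharacter G}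

/-- the degree -/
noncomputable abbrev dg (χ : IrrCharacter G) : ℕ := charDegree χ.1

theorem dg_one : dg (irrOne G) = 1 := by
  have := cast_deg (irrOne G)
  rw [irrOne_apply] at this
  exact_mod_cast this

/-- The principal block for a Sylow subgroup of prime order. -/
structure PB (p : ℕ) (x : G) (N X : Finset (IrrCharacter G)) (δ : ℤ) (a : IrrCharacter G → ℤ) :
    Prop where
  one : irrOne G ∈ N
  a_one : a (irrOne G) = 1
  disj : ∀ χ ∈ N, χ ∉ X
  cN : N.card * Nat.card (Ce1 x) = Nat.card (No (zpowers x))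
  cX : N.card * X.card + 1 = p
  sgn : ∀ χ ∈ N, a χ = 1 ∨ a χ = -1
  sd : δ = 1 ∨ δ = -1
  val : ∀ χ ∈ N, ∀ g, p ∣ orderOf g → χ.1 g = a χ
  cong : ∀ χ ∈ N, (p : ℤ) ∣ a χ * dg χ - 1
  xcong : ∀ ψ ∈ X, (p : ℤ) ∣ dg ψ - N.card * δ
  rel : ∀ ψ ∈ X, ∀ g, ¬ p ∣ orderOf g → δ * ψ.1 g = ∑ χ ∈ N, a χ * χ.1 g
  exc : ∀ χ ∈ X, ∀ ψ ∈ X, ∀ g, ¬ p ∣ orderOf g → χ.1 g = ψ.1 g
  xval : X.card = 1 → ∀ ψ ∈ X, ∀ g, p ∣ orderOf g → ψ.1 g = -δ
  xnc : 1 < X.card → ∀ ψ ∈ X, ∀ c, ¬ ∀ g, p ∣ orderOf g → ψ.1 g = c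
  out : ∀ χ, χ ∉ N → χ ∉ X → ∀ c, (∀ g, p ∣ orderOf g → χ.1 g = c) → c = 0
  sc : Ce1 x = zpowers x → ∀ χ, ¬ p ∣ dg χ → χ ∈ N ∨ χ ∈ X

theorem exists_PB [hp : Fact p.Prime] (hx : orderOf x = p) (h2 : ¬ p ^ 2 ∣ Nat.card G) :
    ∃ N X δ a, PB p x N X δ a := by
  obtain ⟨M, hM⟩ := exists_pmod p
  have := Fintype.ofFinite (zpowers x)
  have h1 : Nat.card (zpowers x) = p := by rw [Nat.card_zpowers, hx]
  have hP : IsSyl p (zpowers x) ⊤ := isSyl_of_not_dvd le_top (IsPGroup.of_card (n := 1)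
    (by rw [h1, pow_one])) fun h => h2 (by
      rw [relIndex_top_right] at h
      rw [← (zpowers x).card_mul_index, h1, sq]
      exact Nat.mul_dvd_mul_left _ h)
  have hf : (p : ℤ) ∣ (p : ℤ) ^ (Nat.card G).factorization p := dvd_pow_self _
    (hp.out.factorization_pos_of_dvd Nat.card_pos.ne' (hx ▸ orderOf_dvd_natCard x)).ne'
  have hU := uc_of_card h1
  obtain ⟨δ, ζ, a, h, h0⟩ := exists_dd0 M hP h1
  have x1 : x ≠ 1 := fun h => hp.out.one_lt.ne (by rw [← hx, h, orderOf_one])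
  let u : zpowers x := ⟨x, mem_zpowers x⟩
  have u1 : u ≠ 1 := fun h => x1 (congrArg Subtype.val h)
  have m1 : irrOne G ∈ principalBlock M G := irrOne_mem_principal
  have a1 : a (irrOne G) = 1 := by
    have := h.D_nexc m1 h0 u1
    simp only [irrOne_apply] at this
    exact_mod_cast this.symm
  have sg : ∀ v : zpowers x, v ≠ 1 → p ∣ orderOf (v : G) := fun v hv => by
    rw [← Nat.card_zpowers, zpowers_eq_of_card h1 v.2 (coe_ne_one hv), h1]
  refine ⟨fs (principalBlock M G) \ excSet ζ, excSet ζ, δ, a, by simpa using ⟨m1, h0⟩, a1,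
    fun χ hχ => (Finset.mem_sdiff.1 hχ).2, ?_, ?_, fun χ hχ => ?_, h.exc.sign,
    fun χ hχ g hg => ?_, fun χ hχ => ?_, fun ψ hψ => ?_, fun ψ hψ g hg => h.apply_rel hψ hg,
    fun χ hχ ψ hψ g hg => h.apply_exc hχ hψ hg, fun hX ψ hψ g hg => ?_,
    fun hX ψ hψ c hc => ?_, fun χ k1 k2 c hc => ?_, fun hc χ hχ => ?_⟩
  · rw [h.card, card_autE_principal, show Ce1 x = Ce (zpowers x) from hU.eq u1, mul_comm,
      ← relIndex_bot_left, ← relIndex_bot_left]
    exact relIndex_mul_relIndex _ _ _ bot_le (Ce_le_No _)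
  · rw [h.card, EXC.card_exc h.exd h.exc, h1]
  · simp only [Finset.mem_sdiff, mem_fs] at hχ
    exact h.sgn χ hχ.1 hχ.2
  · simp only [Finset.mem_sdiff, mem_fs] at hχ
    exact hU.apply_sing hP hχ.1 (fun v hv => h.D_nexc hχ.1 hχ.2 hv) hg
  · simp only [Finset.mem_sdiff, mem_fs] at hχ
    have := h.nexc_cong hχ.1 hχ.2 m1 h0
    rw [a1, show charDegree (irrOne G).1 = 1 from dg_one] at this
    simpa using hf.trans this
  · have := h.exc_cong hψ m1 h0
    rw [a1, show charDegree (irrOne G).1 = 1 from dg_one] at this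
    rw [h.card]
    simpa using hf.trans this
  · obtain ⟨l, hl, rfl⟩ := mem_excSet.1 hψ
    refine hU.apply_sing hP (h.exc.mem l hl) (fun v hv => ?_) hg
    have := h.D_exc hl hv
    rw [eta_of_orb (fun a b => Subtype.ext (mem_Ce.1 (hU.comm b.2) a a.2))
      (h.exc.orb_of_card hX.le) hl hv] at this
    simpa using this
  · exact h.exc.notMem_of_const hX (c := c) (fun v hv => hc _ (sg v hv)) hψ
  · have k3 : χ ∉ principalBlock M G := fun k => k1 (by simpa using ⟨k, k2⟩)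
    have := Fintype.ofFinite G
    have := hU.sum_vr_eq_zero hP χ.2.isClassFunction (blockPart_irr_of_notMem k3) u1
    rw [Finset.sum_congr rfl fun s hs => hc _ (by_contra fun k => coe_ne_one u1
      ((isPPart_mul (mem_Ce.1 (mem_vr.1 hs).1 _ u.2)
      (pelt_of_mem hP.pg u.2) (mem_vr.1 hs).2).eq_one_iff.2 k)), Finset.sum_const,
      nsmul_eq_mul] at this
    exact (mul_eq_zero.1 this).resolve_left
      (Nat.cast_ne_zero.2 (Finset.card_pos.2 ⟨1, one_mem_vr⟩).ne')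
  · have := SC.mem_principal (M := M) ⟨hp.out, hx, hc⟩ hχ
    by_cases k : χ ∈ excSet ζ
    · exact Or.inr k
    · exact Or.inl (by simpa using ⟨this, k⟩)

theorem dz [hp : Fact p.Prime] {m : ℕ} (hm : Nat.card G = dg χ * m) (h : ¬ p ∣ m)
    (hg : p ∣ orderOf g) : χ.1 g = 0 := by
  obtain ⟨M, hM⟩ := exists_pmod p
  refine (isUB_singleton_of_nu (M := M) ?_).apply_eq_zero hg
  rw [hm, Nat.factorization_mul (charDegree_ne_zero χ) (by rintro rfl; exact h (dvd_zero _)),
    Finsupp.add_apply, Nat.factorization_eq_zero_of_not_dvd h, add_zero]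

theorem cong_int [Fact p.Prime] {θ : G → ℂ} (hθ : IsCharacter G θ) {k : ℕ} (hx : orderOf x = p ^ k)
    (hc : Commute x g) {a b : ℤ} (h1 : θ (x * g) = a) (h2 : θ g = b) : (p : ℤ) ∣ a - b := by
  obtain ⟨M, hM⟩ := exists_pmod p
  have := LI_char_mul_sub (M := M) hθ ⟨k, hx⟩ hc
  rw [h1, h2, ← Int.cast_sub] at this
  exact LI_intCast_iff.1 this

theorem cong_dg [Fact p.Prime] {k : ℕ} (hx : orderOf x = p ^ k) {a : ℤ} (h1 : χ.1 x = a) :
    (p : ℤ) ∣ a - dg χ :=
  cong_int χ.2.isCharacter hx (Commute.one_right x) (by rwa [mul_one])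
    (by rw [← cast_deg]; norm_cast)

theorem cen_int {n : ℤ} (h : χ.1 g = n) : (dg χ : ℤ) ∣ (Ce1 g).index * n := by
  have := χ.2.isIntegral_centralChar g
  rw [centralChar, h, ← cast_deg] at this
  exact int_dvd_of_isIntegral_div (Nat.cast_ne_zero.2 (charDegree_ne_zero χ)) (by
    push_cast; exact this)

theorem int_of_gal (h : ∀ σ, (irrGalois σ χ).1 g = χ.1 g) : ∃ n : ℤ, χ.1 g = n :=
  exists_int_of_forall_ringEquiv (χ.2.isCharacter.isIntegral g) fun σ => (gal_apply σ χ g).symm.trans (h σ)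

theorem norm_sq_int {z : ℂ} {n : ℤ} (h : z = n) : ‖z‖ ^ 2 = (n : ℝ) ^ 2 := by
  rw [h, Complex.norm_intCast, sq_abs]

theorem sum_int (H : Subgroup G) [Fintype H] {θ : G → ℂ} (hθ : IsCharacter G θ) :
    ∃ n : ℕ, ∑ h : H, θ h = Nat.card H * n := by
  obtain ⟨n, hn⟩ := (hθ.res H).classInner_eq_nat isCharacter_one
  rw [classInner_one_right, inv_mul_eq_iff_eq_mul₀ (card_ne_zero' _)] at hn
  exact ⟨n, hn⟩

theorem inv_val' (ht : orderOf t = 2) {θ : G → ℂ} (hθ : IsCharacter G θ) :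
    ∃ m : ℕ, θ t = θ 1 - 2 * m ∧ detChar θ t = (-1) ^ m := by
  let u : zpowers t := ⟨t, mem_zpowers t⟩
  have hu : u * u = 1 := Subtype.ext (by
    have := pow_orderOf_eq_one t
    rwa [ht, sq] at this)
  have := char_induction (P := fun φ : zpowers t → ℂ => IsCharacter _ φ ∧
    ∃ m : ℕ, φ u = φ 1 - 2 * m ∧ detChar φ u = (-1) ^ m) (hθ.res (zpowers t))
    ⟨IsCharacter.zero, 0, by simp, by simp [detChar_zero]⟩ (fun φ ψ ⟨h1, m, h2, h3⟩ ⟨h4, n, h5, h6⟩ =>
      ⟨h1.add h4, m + n, by simp only [Pi.add_apply, h2, h5]; push_cast; ring, by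
        rw [h1.detChar_add h4, h3, h6, pow_add]⟩) fun ψ hψ => ⟨hψ.isCharacter, by
      obtain ⟨l, rfl⟩ := hψ.isCharacter.exists_units_of_apply_one
        (hψ.apply_one_of_comm fun a b => (mul_comm' a b))
      rw [detChar_units]
      have h1 : (l u : ℂ) ^ 2 = 1 := by rw [sq, ← Units.val_mul, ← map_mul, hu, map_one, Units.val_one]
      rcases sq_eq_one_iff.1 h1 with h | h
      · exact ⟨0, by simp [h], by simp [h]⟩
      · exact ⟨1, by simp [h]; norm_num, by simp [h]⟩⟩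
  obtain ⟨-, m, h1, h2⟩ := this
  exact ⟨m, h1, (hθ.detChar_res _ u).symm.trans h2⟩

theorem inv_val (hc : _root_.commutator G = ⊤) (ht : orderOf t = 2) (χ : IrrCharacter G) :
    ∃ n : ℤ, χ.1 t = n ∧ 4 ∣ n - dg χ := by
  obtain ⟨m, h1, h2⟩ := inv_val' ht χ.2.isCharacter
  obtain ⟨δ, hδ⟩ := χ.2.isCharacter.exists_detChar
  have h3 : δ t = 1 := (Abelianization.commutator_subset_ker δ) (hc ▸ mem_top t)
  rw [hδ] at h2
  simp only [h3, Units.val_one] at h2
  obtain ⟨k, rfl⟩ := (neg_one_pow_eq_one_iff_even (by norm_num)).1 h2.symm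
  exact ⟨dg χ - 4 * k, by rw [h1, ← cast_deg]; push_cast; ring, ⟨-k, by ring⟩⟩

section
variable [IsSimpleGroup G]

theorem ker_bot (h1 : χ ≠ irrOne G) : charKer χ.1 = ⊥ :=
  (χ.2.isCharacter.normal_charKer.eq_bot_or_eq_top).resolve_right
    (χ.2.charKer_ne_top fun h => h1 (Subtype.ext h))

theorem ker_eq (h1 : χ ≠ irrOne G) (h : χ.1 g = dg χ) : g = 1 :=
  mem_bot.1 (ker_bot h1 ▸ χ.2.isCharacter.mem_charKer.2 (h.trans (cast_deg χ)))

theorem perfect_of (h : ¬ (Nat.card G).Prime) : _root_.commutator G = ⊤ :=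
  (inferInstance : (_root_.commutator G).Normal).eq_bot_or_eq_top.resolve_left fun h1 => by
    have : IsMulCommutative G := ⟨⟨fun a b => by
      have := commutator_mem_commutator (mem_top a) (mem_top b)
      rw [← _root_.commutator_def, h1, mem_bot, commutatorElement_eq_one_iff_mul_comm] at this
      exact this⟩⟩
    exact h (Group.is_simple_iff_prime_card.1 inferInstance)

theorem center_bot (hc : _root_.commutator G = ⊤) : center G = ⊥ :=
  (inferInstance : (center G).Normal).eq_bot_or_eq_top.resolve_right fun h1 => by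
    have : _root_.commutator G = ⊥ := by
      rw [_root_.commutator_def, commutator_eq_bot_iff_le_centralizer]
      intro a _ b _
      exact mem_center_iff.1 (h1 ▸ mem_top a) b
    exact bot_ne_top (this.symm.trans hc)

theorem cen_eq (hc : _root_.commutator G = ⊤) (h1 : χ ≠ irrOne G) (h : ‖χ.1 g‖ = dg χ) : g = 1 := by
  have := χ.2.isCharacter.mem_charCenter.2 (h.trans (by rw [← cast_deg, Complex.norm_natCast]))
  rwa [χ.2.charCenter_eq_center (ker_bot h1), center_bot hc, mem_bot] at this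

omit [IsSimpleGroup G] in
theorem dg_eq_one (hc : _root_.commutator G = ⊤) (h : dg χ = 1) : χ = irrOne G := by
  have := χ.2.apply_one_eq_one_iff.1 (by rw [← cast_deg, show charDegree χ.1 = 1 from h, Nat.cast_one])
  exact Subtype.ext (χ.2.eq_one_of_forall fun g =>
    χ.2.isCharacter.mem_charKer.1 (this (hc ▸ mem_top g)))

theorem le_index [hp : Fact p.Prime] (h : p ∣ Nat.card G) {H : Subgroup G} (hH : H ≠ ⊤) :
    p ≤ H.index := by
  have h1 : H.normalCore = ⊥ := (H.normalCore_normal.eq_bot_or_eq_top).resolve_right fun h1 =>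
    hH (top_le_iff.1 (h1 ▸ H.normalCore_le))
  rw [normalCore_eq_ker, MonoidHom.ker_eq_bot_iff] at h1
  have := card_dvd_of_injective _ h1
  rw [Nat.card_perm] at this
  exact (hp.out.dvd_factorial).1 (h.trans this)

end

theorem sq_lt (h : χ ≠ irrOne G) : dg χ ^ 2 < Nat.card G := by
  rw [← sum_charDegree_sq, ← Finset.add_sum_erase _ _ (Finset.mem_univ χ)]
  refine Nat.lt_add_of_pos_right (lt_of_lt_of_le ?_ (Finset.single_le_sum
    (f := fun χ : IrrCharacter G => charDegree χ.1 ^ 2) (fun _ _ => Nat.zero_le _)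
    (Finset.mem_erase.2 ⟨h.symm, Finset.mem_univ _⟩)))
  exact pow_pos (Nat.pos_of_ne_zero (charDegree_ne_zero _)) _

theorem sum_sq_sub (s : Finset (IrrCharacter G)) : ∑ χ ∈ s, dg χ ^ 2 ≤ Nat.card G := by
  rw [← sum_charDegree_sq]
  exact Finset.sum_le_sum_of_subset (Finset.subset_univ s)

theorem col_sub (s : Finset (IrrCharacter G)) (g : G) :
    ∑ χ ∈ s, ‖χ.1 g‖ ^ 2 ≤ Nat.card (Ce1 g) := by
  rw [← sum_norm_sq_column]
  exact Finset.sum_le_sum_of_subset_of_nonneg (Finset.subset_univ s) fun _ _ _ => by positivity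

/-- an element centralizing `x` and of `p'`-order: the average over `⟨x⟩` -/
theorem avg_val [hp : Fact p.Prime] (hx : orderOf x = p) (hc : Commute x g) (hg : ¬ p ∣ orderOf g)
    {θ : G → ℂ} (hθ : IsCharacter G θ) {c : ℂ} (h : ∀ g, p ∣ orderOf g → θ g = c) :
    ∃ φ : Ce (zpowers x) → ℂ, IsCharacter _ φ ∧ p * φ 1 = θ 1 + (p - 1) * c ∧
      ∃ s : Ce (zpowers x), (s : G) = g ∧ p * φ s = θ g + (p - 1) * c := by
  have := Fintype.ofFinite (zpowers x)
  have h1 : Nat.card (zpowers x) = p := by rw [Nat.card_zpowers, hx]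
  have hU := uc_of_card h1
  have key : ∀ s : Ce (zpowers x), ¬ p ∣ orderOf (s : G) → p * classInner (fun u : zpowers x =>
      θ ((⟨u, hU.comm u.2⟩ * s : Ce (zpowers x)) : G)) (lc 1) = θ s + (p - 1) * c := fun s hs => by
    simp only [coe_mul]
    rw [lc_one, classInner_one_right, h1, mul_inv_cancel_left₀ (Nat.cast_ne_zero.2 hp.out.ne_zero),
      ← Finset.add_sum_erase _ _ (Finset.mem_univ 1), Finset.sum_congr rfl (g := fun _ => c)
      fun u hu => h _ (by_contra fun k => coe_ne_one (Finset.ne_of_mem_erase hu)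
        ((isPPart_mul (mem_Ce.1 s.2 _ u.2) (pelt_of_mem (IsPGroup.of_card (n := 1)
          (by rw [h1, pow_one])) u.2) hs).eq_one_iff.2 k)), Finset.sum_const,
      Finset.card_erase_of_mem (Finset.mem_univ _), Finset.card_univ, ← Nat.card_eq_fintype_card, h1,
      nsmul_eq_mul, Nat.cast_sub hp.out.one_le]
    simp
  have m : g ∈ Ce (zpowers x) := mem_Ce.2 fun y hy => by
    obtain ⟨k, rfl⟩ := mem_zpowers_iff.1 hy
    exact hc.zpow_left k
  exact ⟨_, isCharacter_avg hU.comm (hθ.res _) 1, key 1 (by simp [hp.out.one_lt.ne']),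
    ⟨g, m⟩, rfl, key _ hg⟩

end Cfsg.Agent.Blk
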