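import Cfsg.Agent.Lib.Block.Ord4
import Cfsg.Agent.Lib.Transfer.Count
import Cfsg.Agent.S4499

/-! More tools for recognising groups by their order. -/

set_option autoImplicit false

namespace Cfsg.Agent.Blk

open MonoidAlgebra Subgroup
open Cfsg.Agent.Char hiding cj cj_mul cj_inv_cj cj_cj_inv sum_cj_eq
open scoped ComplexConjugate
attribute [local instance] _root_.Classical.propDecidable

variable {G : Type*} [Group G] [Finite G] {p q : ℕ} {x y g t : G} {χ ψ : IrrCharacter G}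
  {N X : Finset (IrrCharacter G)} {δ : ℤ} {a : IrrCharacter G → ℤ} {P D : Subgroup G}

/-- the characters of defect at most one form a union of blocks -/
theorem bt_orth [hq : Fact q.Prime] {k m : ℕ} (hG : Nat.card G = q ^ (k + 1) * m) (hm : ¬ q ∣ m)
    (hx : ¬ q ∣ orderOf x) (hg : q ∣ orderOf g) :
    (∑ χ : IrrCharacter G, if q ^ k ∣ dg χ then χ.1 x * conj (χ.1 g) else 0) = 0 := by
  obtain ⟨M, hM⟩ := exists_pmod q
  have e : (Nat.card G).factorization q - 1 = k := by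
    rw [hG, Nat.factorization_mul (pow_ne_zero _ hq.out.ne_zero) (by rintro rfl; simp at hm),
      Finsupp.add_apply, Nat.factorization_eq_zero_of_not_dvd hm, hq.out.factorization_pow]
    simp
  have : IsUB M {χ : IrrCharacter G | q ^ k ∣ dg χ} := fun χ hχ ψ k => e ▸ S4499.result q M hM.1
    (hg.trans (orderOf_dvd_natCard g)) _ ⟨χ, rfl⟩ χ (mem_blockOf.2 rfl) (e.symm ▸ hχ) ψ
      (mem_blockOf.2 k)
  convert this.weak_orthogonality hx hg using 3
  rfl

theorem ub_orth [Fact q.Prime] {m : IrrCharacter G → ℤ} (hm : ∀ χ, centralChar χ.1 t = m χ) {u v : G}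
    (hx : IsPPart q x u) (hg : IsPPart q g v) (h : ¬ IsConj u v) :
    (∑ χ : IrrCharacter G, if (q : ℤ) ∣ m χ then 0 else χ.1 x * conj (χ.1 g)) = 0 := by
  obtain ⟨M, hM⟩ := exists_pmod q
  have : IsUB M {χ : IrrCharacter G | ¬ (q : ℤ) ∣ m χ} := fun χ hχ ψ k k' => by
    have := sameBlock_iff.2 k t
    rw [hm, hm, ← Int.cast_sub, LI_intCast_iff] at this
    exact hχ ((dvd_sub_right k').1 this)
  convert this.orthogonality hx hg h using 2
  simp

/-- class multiplication constants -/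
theorem pair_cnt (s t g : G) :
    (Nat.card {p : G × G // IsConj s p.1 ∧ IsConj t p.2 ∧ p.1 * p.2 = g⁻¹} *
      (Nat.card (Ce1 s) * Nat.card (Ce1 t)) : ℕ) =
      Nat.card G * ∑ χ : IrrCharacter G, χ.1 g * (χ.1 s * χ.1 t / χ.1 1) := by
  have := Fintype.ofFinite G
  rw [← Transfer.cnt_eq_mul_of_fiber (p := fun p : G × G =>
    p.1 * s * p.1⁻¹ * (p.2 * t * p.2⁻¹) = g⁻¹) (fun p => (p.1 * s * p.1⁻¹, p.2 * t * p.2⁻¹))
    (fun p hp => ⟨Transfer.isConj_conj _ _, Transfer.isConj_conj _ _, hp⟩) fun q hq => ?_]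
  · have n0 : (Nat.card G : ℂ) ≠ 0 := card_ne_zero' G
    refine mul_left_cancel₀ n0 ?_
    rw [Transfer.cnt_eq_sum, Fintype.sum_prod_type_right]
    push_cast
    simp only [Finset.mul_sum]
    have e : ∀ x y : G, (Nat.card G : ℂ) * (if x * s * x⁻¹ * (y * t * y⁻¹) = g⁻¹ then 1 else 0) =
        ∑ χ : IrrCharacter G, χ.1 1 * χ.1 (x * s * x⁻¹ * (y * t * y⁻¹ * g)) := fun x y => by
      rw [sum_degree_mul, ← mul_assoc _ _ g]
      split_ifs with k
      · rw [k, inv_mul_cancel, regChar_one, mul_one]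
      · rw [regChar_of_ne (mt eq_inv_of_mul_eq_one_left k), mul_zero]
    simp only [e]
    rw [Finset.sum_congr rfl fun y _ => Finset.sum_comm, Finset.sum_comm]
    refine Finset.sum_congr rfl fun χ _ => ?_
    have n1 : χ.1 1 ≠ 0 := cast_deg χ ▸ Nat.cast_ne_zero.2 (charDegree_ne_zero χ)
    simp only [← Finset.mul_sum, χ.2.sum_conj_mul, mul_div_assoc, ← Finset.sum_div]
    field_simp
  · obtain ⟨u, v⟩ := q
    obtain ⟨h1, h2, h3⟩ := hq
    obtain ⟨a, rfl⟩ := isConj_iff.1 h1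
    obtain ⟨b, rfl⟩ := isConj_iff.1 h2
    rw [← congrArg₂ (· * ·) (Transfer.card_conj_fiber' s a) (Transfer.card_conj_fiber' t b),
      ← Transfer.cnt_prod]
    exact Transfer.cnt_congr fun p => ⟨fun k => Prod.mk.inj k.2, fun k => ⟨by rw [k.1, k.2]; exact h3,
      Prod.ext k.1 k.2⟩⟩

theorem nonreal_sum (ht : orderOf t = 2) (h : ¬ IsConj g g⁻¹) :
    ∑ χ : IrrCharacter G, χ.1 g * (χ.1 t * χ.1 t / χ.1 1) = 0 := by
  have := pair_cnt t t g
  rw [Transfer.cnt_eq_zero (fun p hp => h ?_), zero_mul, Nat.cast_zero, eq_comm] at this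
  · exact (mul_eq_zero.1 this).resolve_left (card_ne_zero' G)
  · have e : ∀ u, IsConj t u → u⁻¹ = u := fun u k => inv_eq_of_mul_eq_one_right (by
      rw [← sq, ← ht, ← Transfer.IsConj.orderOf_eq' k, pow_orderOf_eq_one])
    have e1 : g = p.2 * p.1 := by rw [← inv_inv g, ← hp.2.2, mul_inv_rev, e _ hp.1, e _ hp.2.1]
    exact isConj_iff.2 ⟨p.1, by rw [← hp.2.2, e1]; group⟩

theorem PB.sum_x [hp : Fact p.Prime] (h : PB p x N X δ a) (hx : SC p x) (h2 : ¬ p ^ 2 ∣ Nat.card G)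
    (hψ : ψ ∈ X) (hg : p ∣ orderOf g) {f : IrrCharacter G → ℂ} (hf : ∀ χ ∈ X, f χ = f ψ) :
    ∑ χ, χ.1 g * f χ = ∑ χ ∈ N, a χ * f χ - δ * f ψ := by
  have key : ∀ f : IrrCharacter G → ℂ, (∀ χ ∈ X, f χ = f ψ) → ∑ χ, χ.1 g * f χ =
      ∑ χ ∈ N, a χ * f χ + (∑ χ ∈ X, χ.1 g) * f ψ := fun f hf => by
    rw [← Finset.sum_subset (Finset.subset_univ (N ∪ X)) fun χ _ k => ?_, Finset.sum_union
      (Finset.disjoint_left.2 h.disj), Finset.sum_mul]
    · exact congrArg₂ (· + ·) (Finset.sum_congr rfl fun χ k => by rw [h.val χ k g hg])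
        (Finset.sum_congr rfl fun χ k => by rw [hf χ k])
    · obtain ⟨m, hm⟩ := deg_dvd_card χ
      rw [dz hm (fun k' => h2 (hm ▸ sq p ▸ mul_dvd_mul (by_contra fun k'' =>
        k (Finset.mem_union.2 (h.sc hx.cen χ k''))) k')) hg, zero_mul]
  have k1 := key (fun χ => χ.1 1) fun χ k => h.exc χ k ψ hψ 1 (by simp [hp.out.one_lt.ne'])
  simp only [mul_comm _ (_ : ℂ)] at k1
  rw [Finset.sum_congr rfl fun χ _ => mul_comm _ _, sum_degree_mul, regChar_of_ne (by
    rintro rfl; simp [hp.out.one_lt.ne'] at hg)] at k1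
  have k2 := h.rel ψ hψ 1 (by simp [hp.out.one_lt.ne'])
  have n1 : ψ.1 1 ≠ 0 := cast_deg ψ ▸ Nat.cast_ne_zero.2 (charDegree_ne_zero ψ)
  have k3 : ∑ χ ∈ X, χ.1 g = -δ := mul_left_cancel₀ n1 (by
    simp only [mul_comm _ (_ : ℂ)] at k1 k2 ⊢
    linear_combination -k1 + k2)
  rw [key f hf, k3]
  ring

theorem PB.sum_exc [hp : Fact p.Prime] (h : PB p x N X δ a) (hx : SC p x) (h2 : ¬ p ^ 2 ∣ Nat.card G)
    (hg : p ∣ orderOf g) : ∑ χ ∈ X, χ.1 g = -δ := by
  obtain ⟨ψ, hψ⟩ := h.X_ne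
  have := h.sum_x hx h2 hψ hg (f := fun χ => if χ ∈ X then 1 else 0) fun χ k => by simp [k, hψ]
  rw [Finset.sum_eq_zero (s := N) fun χ k => by simp [h.disj χ k]] at this
  simpa [hψ] using this

theorem PB.bt_dvd [hp : Fact p.Prime] [hq : Fact q.Prime] (h : PB p x N X δ a) (hx : SC p x)
    (h2 : ¬ p ^ 2 ∣ Nat.card G) (hψ : ψ ∈ X) {k m : ℕ} (hG : Nat.card G = q ^ (k + 1) * m)
    (hm : ¬ q ∣ m) (n : p ≠ q) : ((q ^ (k + 1) : ℕ) : ℤ) ∣ ∑ χ ∈ N, a χ * (if q ^ k ∣ dg χ then dg χ else 0) -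
      δ * (if q ^ k ∣ dg ψ then dg ψ else 0) := by
  obtain ⟨Q, hQ⟩ := exists_isSyl q (⊤ : Subgroup G)
  have := Fintype.ofFinite Q
  have c : Nat.card Q = q ^ (k + 1) := by
    rw [hQ.card_eq, card_top, hG, Nat.factorization_mul (pow_ne_zero _ hq.out.ne_zero)
      (by rintro rfl; simp at hm), Finsupp.add_apply, Nat.factorization_eq_zero_of_not_dvd hm,
      hq.out.factorization_pow]
    simp
  choose r hr using fun χ : IrrCharacter G => sum_int Q χ.2.isCharacter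
  have o : ∀ u : Q, u ≠ 1 → q ∣ orderOf (u : G) ∧ ¬ p ∣ orderOf (u : G) := fun u hu => by
    obtain ⟨j, hj⟩ := pelt_of_mem hQ.pg u.2
    rw [hj]
    exact ⟨dvd_pow_self _ fun e => coe_ne_one hu (by simpa [e] using hj), fun e =>
      n ((Nat.prime_dvd_prime_iff_eq hp.out hq.out).1 (hp.out.dvd_of_dvd_pow e))⟩
  have k1 : ∑ χ : IrrCharacter G, χ.1 x * (if q ^ k ∣ dg χ then (dg χ : ℂ) else 0) =
      ∑ χ : IrrCharacter G, χ.1 x * (if q ^ k ∣ dg χ then (q ^ (k + 1) : ℕ) * (r χ : ℂ) else 0) := by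
    have : ∑ u : Q, ∑ χ : IrrCharacter G, (if q ^ k ∣ dg χ then χ.1 x * conj (χ.1 u) else 0) = _ :=
      Finset.sum_eq_single 1 (fun u _ hu => bt_orth hG hm (by
        rw [hx.ord]; exact fun e => n ((Nat.prime_dvd_prime_iff_eq hq.out hp.out).1 e).symm)
        (o u hu).1) (by simp)
    rw [Finset.sum_comm] at this
    simp only [Finset.sum_ite_irrel, ← Finset.mul_sum, ← map_sum, hr, c, OneMemClass.coe_one,
      ← cast_deg] at this
    simpa using this.symm
  have k2 : ∀ χ ∈ X, r χ = r ψ := fun χ k => by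
    have := hr χ
    rw [Finset.sum_congr rfl fun (u : Q) _ => h.exc χ k ψ hψ u (by
      by_cases e : u = 1
      · simp [e, hp.out.one_lt.ne']
      · exact (o u e).2), hr] at this
    exact_mod_cast (mul_left_cancel₀ (card_ne_zero' Q) this).symm
  rw [h.sum_x hx h2 hψ hx.ord.symm.dvd fun χ k => by rw [h.dg_exc k hψ],
    h.sum_x hx h2 hψ hx.ord.symm.dvd fun χ k => by rw [h.dg_exc k hψ, k2 χ k]] at k1
  refine ⟨∑ χ ∈ N, a χ * (if q ^ k ∣ dg χ then r χ else 0) - δ * (if q ^ k ∣ dg ψ then r ψ else 0),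
    Int.cast_injective (α := ℂ) ?_⟩
  push_cast at k1 ⊢
  rw [k1, mul_sub, Finset.mul_sum]
  congr 1
  · exact Finset.sum_congr rfl fun χ _ => by split_ifs <;> ring
  · split_ifs <;> ring

theorem exists_sorted {α : Type*} (s : Finset α) (f : α → ℕ) : ∃ l : List α, l.length = s.card ∧
    l.Pairwise (fun a b => f a ≤ f b) ∧ (∀ x, x ∈ s ↔ x ∈ l) ∧
      ∀ {M : Type} [AddCommMonoid M] (g : α → M), ∑ x ∈ s, g x = (l.map g).sum := by
  have e := List.mergeSort_perm s.toList fun a b => f a ≤ f b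
  refine ⟨_, e.length_eq.trans s.length_toList, (List.pairwise_mergeSort (fun a b c => by
    simpa using le_trans) (fun a b => by simpa using le_total _ _) _).imp (by simp),
    fun x => by rw [e.mem_iff, Finset.mem_toList], fun g => ?_⟩
  rw [(e.map g).sum_eq, Finset.sum_map_toList]

theorem sum_mono {θ : G → ℂ} (hθ : IsCharacter G θ) [Fintype P] [Fintype D] (h : D ≤ P) {b d : ℕ}
    (h2 : ∑ g : P, θ g = Nat.card P * b) (h3 : ∑ g : D, θ g = Nat.card D * d) : b ≤ d := by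
  obtain ⟨n, ρ, rfl⟩ := hθ
  have key : ∀ (H : Subgroup G) [Fintype H] (m : ℕ), ∑ g : H, ρ.character g = Nat.card H * m →
      Module.finrank ℂ (Representation.invariants (ρ.comp H.subtype)) = m := fun H _ m hm => by
    have : classInner (fun g : H => ρ.character g) (fun _ => 1) = _ :=
      classInner_rep_one (ρ.comp H.subtype)
    rw [classInner_one_right, hm, inv_mul_cancel_left₀ (card_ne_zero' _)] at this
    exact_mod_cast this.symm
  rw [← key P b h2, ← key D d h3]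
  exact Submodule.finrank_mono fun v hv g => hv ⟨g, h g.2⟩

theorem sum_frob {θ : G → ℂ} (hθ : IsClassFunction G θ) [Fintype P] [Fintype D]
    [Fintype (P ⊔ D : Subgroup G)] (h1 : D ≤ No P) (h2 : P ⊓ D = ⊥)
    (h : ∀ d ∈ D, d ≠ 1 → ∀ v ∈ P, Commute d v → v = 1) :
    Nat.card (P ⊔ D : Subgroup G) = Nat.card D * Nat.card P ∧
    ∑ g : (P ⊔ D : Subgroup G), θ g = ∑ u : P, θ u + Nat.card P * (∑ d : D, θ d - θ 1) := by
  refine ⟨by simpa [h2, sup_comm, inf_comm] using Transfer.card_sup_mul_card_inf h1, ?_⟩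
  rw [sum_sup_eq h1 h2, ← Finset.add_sum_erase _ _ (Finset.mem_univ 1),
    ← Finset.add_sum_erase _ (fun d : D => θ d) (Finset.mem_univ 1), Finset.sum_congr rfl
      (g := fun d : D => Nat.card P * θ d) fun d hd => by
        rw [Finset.sum_congr rfl fun u _ => (hθ.eq_of_isConj (isConj_mul_of_fpf (h1 d.2)
          (h d d.2 (coe_ne_one (Finset.ne_of_mem_erase hd))) u.2)).symm]
        simp, ← Finset.mul_sum]
  simp

theorem sum_zp {n : ℕ} (hx : orderOf x = n) [Fintype (zpowers x)] (f : G → ℂ) :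
    ∑ u : zpowers x, f u = ∑ j ∈ Finset.range n, f (x ^ j) := by
  subst hx
  rw [← Fin.sum_univ_eq_sum_range (fun j => f (x ^ j))]
  exact (Fintype.sum_equiv (finEquivZPowers (isOfFinOrder_of_finite x)) _ _ fun _ => rfl).symm

theorem ord_four (hc : _root_.commutator G = ⊤) (ht : t ^ 4 = 1) (h : conj (χ.1 t) = χ.1 t) :
    ∃ k : ℕ, χ.1 1 + χ.1 (t ^ 2) + 2 * χ.1 t = 4 * k ∧ k % 2 = dg χ % 2 := by
  let u : zpowers t := ⟨t, mem_zpowers t⟩
  have hu : u ^ 4 = 1 := Subtype.ext ht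
  have := char_induction (P := fun φ : zpowers t → ℂ => IsCharacter _ φ ∧
    ∃ a b c d : ℕ, φ 1 = a + b + c + d ∧ φ u = a - c + (b - d) * Complex.I ∧
      φ (u ^ 2) = a + c - b - d ∧ detChar φ u = Complex.I ^ (b + 2 * c + 3 * d))
    (χ.2.isCharacter.res (zpowers t)) ⟨IsCharacter.zero, 0, 0, 0, 0, by simp [detChar_zero]⟩
    (fun φ ψ ⟨h1, a, b, c, d, k1, k2, k3, k4⟩ ⟨h2, a', b', c', d', l1, l2, l3, l4⟩ =>
      ⟨h1.add h2, a + a', b + b', c + c', d + d', by
        simp only [Pi.add_apply, k1, k2, k3, l1, l2, l3, h1.detChar_add h2, k4, l4, ← pow_add]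
        push_cast
        refine ⟨?_, ?_, ?_, ?_⟩ <;> ring⟩) fun ψ hψ => ⟨hψ.isCharacter, by
      obtain ⟨l, rfl⟩ := hψ.isCharacter.exists_units_of_apply_one
        (hψ.apply_one_of_comm fun a b => (mul_comm' a b))
      rw [detChar_units]
      have h1 : (l u : ℂ) ^ 4 = 1 := by rw [← Units.val_pow_eq_pow_val, ← map_pow, hu]; simp
      simp only [map_pow, Units.val_pow_eq_pow_val]
      generalize (l u : ℂ) = z at *
      have h2 : (z - 1) * (z + 1) * (z - Complex.I) * (z + Complex.I) = 0 := by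
        linear_combination h1 - (z ^ 2 - 1) * Complex.I_sq
      simp only [mul_eq_zero, sub_eq_zero, add_eq_zero_iff_eq_neg, or_assoc] at h2
      rcases h2 with rfl | rfl | rfl | rfl
      · exact ⟨1, 0, 0, 0, by simp⟩
      · exact ⟨0, 0, 1, 0, by simp⟩
      · exact ⟨0, 1, 0, 0, by simp⟩
      · exact ⟨0, 0, 0, 1, by simp⟩⟩
  obtain ⟨-, a, b, c, d, h1, h2, h3, h4⟩ := this
  obtain ⟨δ, hδ⟩ := χ.2.isCharacter.exists_detChar
  have h5 : δ t = 1 := (Abelianization.commutator_subset_ker δ) (hc ▸ mem_top t)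
  rw [χ.2.isCharacter.detChar_res, hδ] at h4
  change χ.1 1 = _ at h1
  change χ.1 t = _ at h2
  change χ.1 (t ^ 2) = _ at h3
  have h6 : b = d := by
    have := congrArg Complex.im h
    rw [h2] at this
    simp at this
    exact_mod_cast (by linarith : (b : ℝ) = d)
  subst h6
  refine ⟨a, by rw [h1, h2, h3]; ring, ?_⟩
  have h7 : dg χ = a + b + c + b := by exact_mod_cast (cast_deg χ).trans h1
  have h8 : (-1 : ℂ) ^ c = 1 := by
    change (δ t : ℂ) = _ at h4
    rw [h5, show b + 2 * c + 3 * b = 4 * b + 2 * c by ring, pow_add, pow_mul, pow_mul] at h4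
    simpa using h4.symm
  have := (neg_one_pow_eq_one_iff_even (by norm_num)).1 h8
  rw [Nat.even_iff] at this
  omega

end Cfsg.Agent.Blk
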