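import Cfsg.Agent.Lib.Block.BFus

/-!
Dictionary between Brauer pairs given by sets of characters and their abstract form.
-/

namespace Cfsg.Agent.Blk

open MonoidAlgebra
open Cfsg.Agent.Fusion (Mor hfun)

section emb
variable {G H : Type*} [Group G] [Group H] {k : Type*} [Field k] {p : ℕ} {φ : H →* G}

theorem isBP_emb_iff (hφ : Function.Injective φ) {K Q : Subgroup H} {f : k[H]} :
    IsBP p (K.map φ) (Q.map φ) (emb φ f) ↔ IsBP p K Q f :=
  ⟨fun h => ⟨(isPGroup_map_iff hφ).1 h.pg, (Subgroup.map_le_map_iff_of_injective hφ).1 h.le,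
      (isBlock_emb_iff hφ).1 (by rw [map_inf_Ce hφ]; exact h.blk)⟩,
    fun h => ⟨(isPGroup_map_iff hφ).2 h.pg, Subgroup.map_mono h.le,
      by rw [← map_inf_Ce hφ]; exact (isBlock_emb_iff hφ).2 h.blk⟩⟩

theorem Br_mul_emb_iff (hφ : Function.Injective φ) {Q : Subgroup H} {B f : k[H]} :
    Br (Q.map φ) (emb φ B) * emb φ f = emb φ f ↔ Br Q B * f = f := by
  rw [emb_Br hφ, ← map_mul, (emb_injective hφ).eq_iff]

theorem map_stab {R : Type*} [CommRing R] (hφ : Function.Injective φ) (N : Subgroup H)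
    (a : R[H]) : (stab N a).map φ = stab (N.map φ) (emb φ a) := by
  ext y
  constructor
  · rintro ⟨x, hx, rfl⟩
    exact ⟨⟨x, hx.1, rfl⟩, by rw [← emb_cj, hx.2]⟩
  · rintro ⟨⟨x, hx, rfl⟩, h⟩
    exact ⟨x, ⟨hx, emb_injective hφ (by rwa [emb_cj])⟩, rfl⟩

theorem isNilp_emb_iff (hφ : Function.Injective φ) {K : Subgroup H} {B : k[H]} :
    IsNilp p (K.map φ) (emb φ B) ↔ IsNilp p K B := by
  refine and_congr (isBlock_emb_iff hφ) ⟨fun h Q f hf hBf x hx hxp => ?_,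
    fun h Q f hf hBf y hy hyp => ?_⟩
  · rw [← comap_Ce_map hφ]
    exact h _ _ ((isBP_emb_iff hφ).2 hf) ((Br_mul_emb_iff hφ).2 hBf) (φ x)
      (by rw [← map_inf_No hφ, ← map_stab hφ]; exact ⟨x, hx, rfl⟩)
      (by rwa [orderOf_injective φ hφ])
  · obtain ⟨Q, -, rfl⟩ := exists_map_eq_of_le hf.le
    obtain ⟨f, rfl⟩ := exists_emb_eq hφ (sup_mono inf_le_left hf.blk.sup)
    rw [← map_inf_No hφ, ← map_stab hφ] at hy
    obtain ⟨x, hx, rfl⟩ := hy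
    have := h Q f ((isBP_emb_iff hφ).1 hf) ((Br_mul_emb_iff hφ).1 hBf) x hx
      (by rwa [orderOf_injective φ hφ] at hyp)
    rwa [← comap_Ce_map hφ] at this

end emb

variable {G : Type*} [Group G] [Finite G] {M : Ideal AlgInt} {p : ℕ} [PMod M p]
  {P Q R T K : Subgroup G} {e : Set (IrrCharacter (Ce P))} {f : Set (IrrCharacter (Ce Q))}
  {B : Set (IrrCharacter G)}

theorem isBP_top_iff {a : (kk M)[G]} : IsBP p ⊤ Q a ↔ IsPGroup p Q ∧ IsBlock (Ce Q) a :=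
  ⟨fun h => ⟨h.pg, by simpa using h.blk⟩, fun h => ⟨h.1, le_top, by simpa using h.2⟩⟩

theorem _root_.Cfsg.IsPBlock.isBP (hf : IsPBlock M f) (hQ : IsPGroup p Q) :
    IsBP p ⊤ Q (barS M (Ce Q) f) := isBP_top_iff.2 ⟨hQ, hf.isBlockS⟩

theorem _root_.Cfsg.IsBrauerPair.isBP (h : IsBrauerPair p M Q f) :
    IsBP p ⊤ Q (barS M (Ce Q) f) := h.2.isBP h.1

theorem IsBP.exists_isPBlock {a : (kk M)[G]} (h : IsBP p ⊤ Q a) :
    ∃ f : Set (IrrCharacter (Ce Q)), IsPBlock M f ∧ barS M (Ce Q) f = a :=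
  exists_isPBlock_barS_eq (isBP_top_iff.1 h).2

theorem isBrauerPairOf_iff' : IsBrauerPairOf p M B Q f ↔ IsPBlock M B ∧ IsPBlock M f ∧
    IsBP p ⊤ Q (barS M (Ce Q) f) ∧ Br Q (bar M B) * barS M (Ce Q) f = barS M (Ce Q) f := by
  rw [isBrauerPairOf_iff]
  exact ⟨fun h => ⟨h.2.2.1, h.2.1, h.2.1.isBP h.1, h.2.2.2⟩,
    fun h => ⟨h.2.2.1.pg, h.2.1, h.1, h.2.2.2⟩⟩

theorem isNormalSubpair_iff' : IsNormalSubpair p M Q f P e ↔ IsPBlock M f ∧ IsPBlock M e ∧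
    NSub p ⊤ Q (barS M (Ce Q) f) P (barS M (Ce P) e) := by
  rw [isNormalSubpair_iff]
  exact ⟨fun ⟨h1, h2, h3, h4, h5, h6, h7⟩ => ⟨h2, h3, h1, le_top, by simpa using h2.isBlockS,
      by simpa using h3.isBlockS, h4, h5, h6, h7⟩,
    fun ⟨h1, h2, h3⟩ => ⟨h3.pg, h1, h2, h3.le, h3.no, h3.inv, h3.eq⟩⟩

theorem _root_.Cfsg.SubpairLE.ple (h : SubpairLE p M Q f P e) :
    PLe p ⊤ Q (barS M (Ce Q) f) P (barS M (Ce P) e) :=
  Relation.ReflTransGen.lift (r := NormalSubpairRel p M)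
    (fun a : BrauerPairIdx G => (a.1, barS M (Ce a.1) a.2))
    (fun _ _ h => (isNormalSubpair_iff'.1 h).2.2) _ _ h

theorem _root_.Cfsg.SubpairLE.isPBlock (h : SubpairLE p M Q f P e) (he : IsPBlock M e) :
    IsPBlock M f := by
  rcases Relation.ReflTransGen.cases_head h with h | ⟨c, h1, -⟩
  · cases h; exact he
  · exact h1.1.2

theorem subpairLE_iff (hf : IsPBlock M f) (he : IsPBlock M e) : SubpairLE p M Q f P e ↔
    PLe p ⊤ Q (barS M (Ce Q) f) P (barS M (Ce P) e) := by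
  refine ⟨fun h => h.ple, fun h => ?_⟩
  refine h.head_induction (C := fun Q a => ∀ f : Set (IrrCharacter (Ce Q)), IsPBlock M f →
    barS M (Ce Q) f = a → SubpairLE p M Q f P e) ?_ ?_ f hf rfl
  · intro f hf h1
    rw [hf.barS_inj he h1]; exact Relation.ReflTransGen.refl
  · rintro Q a R b h1 - ih f hf rfl
    obtain ⟨g, hg, rfl⟩ := h1.right.exists_isPBlock
    exact Relation.ReflTransGen.head (isNormalSubpair_iff'.2 ⟨hf, hg, h1⟩) (ih g hg rfl)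

theorem subpairLE_conj_iff (hf : IsPBlock M f) (he : IsPBlock M e) {x : G} :
    SubpairLE p M (cs x Q) (conjBlock Q x f) P e ↔
      PLe p ⊤ (cs x Q) (cj x (barS M (Ce Q) f)) P (barS M (Ce P) e) := by
  rw [subpairLE_iff (isPBlock_conjBlock_iff.2 hf) he, barS_conjBlock]

theorem isMaximalBrauerPair_iff : IsMaximalBrauerPair p M B P e ↔ IsPBlock M B ∧ IsPBlock M e ∧
    IsMP p ⊤ (bar M B) P (barS M (Ce P) e) := by
  have := Fact.mk (PMod.prime M)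
  constructor
  · rintro ⟨h1, h2⟩
    obtain ⟨hB, he, h3, h4⟩ := isBrauerPairOf_iff'.1 h1
    refine ⟨hB, he, isMP_of_max h3 hB.isBlock h4 fun R b h5 => ?_⟩
    obtain ⟨g, hg, rfl⟩ := h5.right.exists_isPBlock
    exact h2 R g (isBrauerPairOf_iff'.2 ⟨hB, hg, h5.right,
      (h5.ple.Br_mul_iff_Z le_top hB.isBlock.mem hB.isBlock.idem).2 h4⟩)
      ((subpairLE_iff he hg).2 h5.ple)
  · rintro ⟨hB, he, h⟩
    exact ⟨isBrauerPairOf_iff'.2 ⟨hB, he, h.bp, h.eq⟩, fun R g _ h1 => h.max h1.ple⟩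

theorem _root_.Cfsg.IsMaximalBrauerPair.isMP (h : IsMaximalBrauerPair p M B P e) :
    IsMP p ⊤ (bar M B) P (barS M (Ce P) e) := (isMaximalBrauerPair_iff.1 h).2.2

theorem _root_.Cfsg.IsMaximalBrauerPair.blockB (h : IsMaximalBrauerPair p M B P e) :
    IsPBlock M B := h.1.2.1

theorem _root_.Cfsg.IsMaximalBrauerPair.blocke (h : IsMaximalBrauerPair p M B P e) :
    IsPBlock M e := h.1.1.2

theorem bMor_iff (he : IsPBlock M e) (φ : Q →* G) :
    BMor p ⊤ P (barS M (Ce P) e) Q (hfun φ) ↔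
      Q ≤ P ∧ ∃ g : G, (∀ u : Q, φ u = g * (u : G) * g⁻¹) ∧ cs g Q ≤ P ∧
        ∃ f : Set (IrrCharacter (Ce Q)), SubpairLE p M Q f P e ∧
          SubpairLE p M (cs g Q) (conjBlock Q g f) P e := by
  constructor
  · rintro ⟨x, h1, h2⟩
    refine ⟨h1.le, x, fun u => by rw [← h2 u u.2, Fusion.hfun_coe], h1.cs_le, ?_⟩
    obtain ⟨-, a, h3, h4⟩ := h1
    by_cases hP : IsPGroup p P
    · obtain ⟨f, hf, rfl⟩ := (h3.left (he.isBP hP)).exists_isPBlock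
      exact ⟨f, (subpairLE_iff hf he).2 h3, (subpairLE_conj_iff hf he).2 h4⟩
    · rcases h3.cases with ⟨rfl, rfl⟩ | ⟨R, b, -, h5, h6⟩
      · exact ⟨e, Relation.ReflTransGen.refl, (subpairLE_conj_iff he he).2 h4⟩
      · exact absurd (h6.right h5.right).pg hP
  · rintro ⟨-, g, h1, -, f, h2, h3⟩
    exact ⟨g, ⟨trivial, _, h2.ple, (subpairLE_conj_iff (h2.isPBlock he) he).1 h3⟩,
      fun u hu => by rw [Fusion.hfun_of_mem φ hu, h1]⟩

theorem isBlockFusionSystemOn_iff {F : FusionSystem P} : IsBlockFusionSystemOn p M B P e F ↔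
    IsMaximalBrauerPair p M B P e ∧ IsBFS p ⊤ P (barS M (Ce P) e) F := by
  refine and_congr_right fun hm => ⟨fun h Q φ => ⟨?_, ?_⟩, fun h Q φ => ?_⟩
  · rintro ⟨ψ, h1, h2⟩
    obtain ⟨x, h3, h4⟩ := (bMor_iff hm.blocke ψ).2 ((h Q ψ).1 h1)
    exact ⟨x, h3, fun u hu => by rw [← h4 u hu, Fusion.hfun_of_mem ψ hu, h2]⟩
  · rintro ⟨x, h1, h2⟩
    refine ⟨(MulAut.conj x).toMonoidHom.comp Q.subtype, (h Q _).2 ((bMor_iff hm.blocke _).1
      ⟨x, h1, fun u hu => by rw [Fusion.hfun_of_mem _ hu]; rfl⟩), fun u => (h2 u u.2).symm⟩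
  · rw [Fusion.mem_Hom_iff, h, bMor_iff hm.blocke]

theorem _root_.Cfsg.IsBlockFusionSystemOn.isBFS {F : FusionSystem P}
    (h : IsBlockFusionSystemOn p M B P e F) : IsBFS p ⊤ P (barS M (Ce P) e) F :=
  (isBlockFusionSystemOn_iff.1 h).2

omit [PMod M p] in
theorem _root_.Cfsg.IsPBlock.mem_stab_iff [M.IsMaximal] (hf : IsPBlock M f) {y : G} :
    y ∈ stab (⊤ ⊓ No Q) (barS M (Ce Q) f) ↔ y ∈ No Q ∧ StabilizesBlock (Ce Q) f y := by
  rw [hf.isUB.stabilizesBlock_iff, mem_stab]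
  exact ⟨fun h => ⟨h.1.2, No_le_No_Ce Q h.1.2, h.2⟩, fun h => ⟨⟨trivial, h.1⟩, h.2.2⟩⟩

omit [PMod M p] in
theorem _root_.Cfsg.IsPBlock.eq_stab [M.IsMaximal] (hf : IsPBlock M f)
    (hT : ∀ y, y ∈ T ↔ y ∈ No Q ∧ StabilizesBlock (Ce Q) f y) :
    T = stab (⊤ ⊓ No Q) (barS M (Ce Q) f) :=
  Subgroup.ext fun y => (hT y).trans hf.mem_stab_iff.symm

theorem isNilpotentBlock_iff : IsNilpotentBlock p M B ↔ IsPBlock M B ∧ IsNilp p ⊤ (bar M B) := by
  refine and_congr_right fun hB => ⟨fun h => ⟨hB.isBlock, fun Q a h1 h2 x hx hxp => ?_⟩,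
    fun h Q f h1 x hx1 hx2 hxp => ?_⟩
  · obtain ⟨f, hf, rfl⟩ := h1.exists_isPBlock
    have := hf.mem_stab_iff.1 hx
    exact h Q f (isBrauerPairOf_iff'.2 ⟨hB, hf, h1, h2⟩) x this.1 this.2 hxp
  · obtain ⟨-, hf, h2, h3⟩ := isBrauerPairOf_iff'.1 h1
    exact h.2 Q _ h2 h3 x (hf.mem_stab_iff.2 ⟨hx1, hx2⟩) hxp

theorem isNilpotentBlock_iffS {c : Set (IrrCharacter K)} :
    IsNilpotentBlock p M c ↔ IsPBlock M c ∧ IsNilp p K (barS M K c) := by
  rw [isNilpotentBlock_iff, ← isNilp_emb_iff K.subtype_injective, top_map_subtype]; rfl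

theorem exists_isPBlock_coeff {b : Set (IrrCharacter K)} (hb : IsUB M b) (hKT : K ≤ T)
    (h : IsBlock T (barS M K b)) : ∃ c : Set (IrrCharacter T), IsPBlock M c ∧
      barS M T c = barS M K b ∧ ∀ t : T, blockCoeff c t = subgroupBlockCoeff K b t := by
  obtain ⟨c, hc, h1⟩ := exists_isPBlock_barS_eq h
  exact ⟨c, hc, h1, (hb.forall_coeff_eq_iff hKT hc.isUB).2 h1⟩

theorem isInducedBlock_Ce_iff (hQ : IsPGroup p Q) :
    IsInducedBlock M (Ce Q) f B ↔ IsBrauerPairOf p M B Q f := by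
  have := Fact.mk (PMod.prime M)
  rw [isInducedBlock_iff, isBrauerPairOf_iff, and_iff_right hQ]
  refine and_congr_right fun hf => and_congr_right fun hB => ?_
  have h := ind_Ce_iff_Br (H := ⊤) hQ le_top (b := barS M (Ce Q) f)
    (by simpa using hf.isBlockS) hB.isBlock
  rwa [top_inf_eq] at h

theorem isInducedBlockIn_Ce_iff (hP : IsPGroup p P) (h1 : Q ≤ P) (h2 : P ≤ Ce Q) :
    IsInducedBlockIn M (Ce Q) (Ce P) e f ↔ IsPBlock M e ∧ IsPBlock M f ∧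
      PLe p ⊤ Q (barS M (Ce Q) f) P (barS M (Ce P) e) := by
  have := Fact.mk (PMod.prime M)
  rw [isInducedBlockIn_iff (Ce_anti h1)]
  refine and_congr_right fun he => and_congr_right fun hf => ?_
  have h3 : Ce Q ⊓ Ce P = Ce P := inf_eq_right.2 (Ce_anti h1)
  have h := ind_Ce_iff_Br (H := Ce Q) hP h2 (b := barS M (Ce P) e)
    (by rw [h3]; exact he.isBlockS) hf.isBlockS
  rw [h3] at h
  rw [h]
  exact ⟨fun h4 => NSub.ple ⟨hP, le_top, by simpa using hf.isBlockS, by simpa using he.isBlockS,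
      h1, h2.trans (Ce_le_No Q), inv_anti h2 hf.isBlockS.inv, h4⟩,
    fun h4 => (h4.nsub (he.isBP hP) (h2.trans (Ce_le_No Q))).eq⟩

theorem isMP_of_isInducedBlock (hP : IsDefectGroup p M B P) (h : IsInducedBlock M (Ce P) e B) :
    IsMP p ⊤ (bar M B) P (barS M (Ce P) e) := by
  have hB := (isInducedBlock_iff.1 h).2.1
  have hD := hB.isDefectGroup_iff.1 hP
  obtain ⟨-, -, h1, h2⟩ := isBrauerPairOf_iff'.1 ((isInducedBlock_Ce_iff hD.pg).1 h)
  exact ⟨h1, hB.isBlock, h2, hD⟩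

theorem principal_Br_mul_iff (hQ : IsPGroup p Q) (hf : IsPBlock M f) :
    Br Q (bar M (principalBlock M G)) * barS M (Ce Q) f = barS M (Ce Q) f ↔
      f = principalBlock M (Ce Q) := by
  have := Fact.mk (PMod.prime M)
  constructor
  · intro h
    exact (third_main ((isInducedBlock_Ce_iff hQ).2
      (isBrauerPairOf_iff.2 ⟨hQ, hf, isPBlock_principal, h⟩))).1 rfl
  · intro h
    obtain ⟨b, ⟨hb, h1⟩, -⟩ := existsUnique_block_Br (H := ⊤) (K := Ce Q) hQ le_top inf_le_right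
      le_top (Ce_le_No Q) hf.isBlockS
    obtain ⟨B, hB, rfl⟩ := exists_isPBlock_bar_eq hb
    rwa [← (third_main ((isInducedBlock_Ce_iff hQ).2
      (isBrauerPairOf_iff.2 ⟨hQ, hf, hB, h1⟩))).2 h]

omit [PMod M p] in
theorem cj_barS_principal [M.IsMaximal] {L : Subgroup G} {x : G} (h : cs x K = L) :
    cj x (barS M K (principalBlock M K)) = barS M L (principalBlock M L) := by
  rw [← barS_image_conj h, image_principalBlock]

theorem principal_PLe (hP : IsPGroup p P) (h : Q ≤ P) :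
    PLe p ⊤ Q (barS M (Ce Q) (principalBlock M (Ce Q))) P
      (barS M (Ce P) (principalBlock M (Ce P))) := by
  have := Fact.mk (PMod.prime M)
  have h1 := (isPBlock_principal (M := M) (G := Ce P)).isBP hP
  obtain ⟨a, ha⟩ := h1.exists_PLe h
  obtain ⟨f, hf, rfl⟩ := (ha.left h1).exists_isPBlock
  have hB := (isPBlock_principal (M := M) (G := G)).isBlock
  rwa [← (principal_Br_mul_iff (isPGroup_le hP h) hf).1 ((ha.Br_mul_iff_Z le_top hB.mem hB.idem).1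
    ((principal_Br_mul_iff hP isPBlock_principal).2 rfl))]

theorem isNilp_principal_iff : IsNilp p ⊤ (bar M (principalBlock M G)) ↔
    ∀ Q : Subgroup G, IsPGroup p Q → ∀ x ∈ No Q, ¬ p ∣ orderOf x → x ∈ Ce Q := by
  constructor
  · intro h Q hQ x hx hxp
    exact h.2 Q _ (isPBlock_principal.isBP hQ) ((principal_Br_mul_iff hQ isPBlock_principal).2 rfl)
      x ⟨⟨trivial, hx⟩, cj_barS_principal (mem_No.1 (No_le_No_Ce Q hx))⟩ hxp
  · exact fun h => ⟨isPBlock_principal.isBlock, fun Q _ h1 _ x hx hxp => h Q h1.pg x hx.1.2 hxp⟩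

/-- Nilpotency passes between a stable block of a normal subgroup and a `p`-extension. -/
theorem isNilp_iff_of_relIndex {N L : Subgroup G} {c : (kk M)[G]} (hc : IsBlock N c)
    (hc' : IsBlock L c) (h1 : N ≤ L) (h2 : L ≤ No N) {n : ℕ} (h3 : N.relIndex L = p ^ n) :
    IsNilp p N c ↔ IsNilp p L c := by
  have := Fact.mk (PMod.prime M)
  have hreg : ∀ g ∈ L, ¬ p ∣ orderOf g → g ∈ N := fun g hg h => mem_of_preg_of_relIndex h2 h3 hg h
  have hNo : ∀ Q : Subgroup G, L ⊓ Ce Q ≤ No (N ⊓ Ce Q) := fun Q x hx =>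
    No_inf_le _ _ ⟨h2 hx.1, le_No _ hx.2⟩
  have hreg' : ∀ Q : Subgroup G, ∀ g ∈ L ⊓ Ce Q, ¬ p ∣ orderOf g → g ∈ N ⊓ Ce Q :=
    fun Q g hg h => ⟨hreg g hg.1 h, hg.2⟩
  constructor
  · intro hn
    refine ⟨hc', fun Q f hf hcf x hx hxp => ?_⟩
    have hxN := hreg x hx.1.1 hxp
    obtain ⟨f₀, hf₀⟩ := hf.exists_PLe (Q := Q ⊓ N) inf_le_left
    have hb₀ := hf₀.left hf
    have hx₀ := hf₀.stab_le hf ⟨hx, No_inf_le _ _ ⟨hx.1.2, h2 hx.1.1⟩⟩
    obtain ⟨f₁, hf₁, h4⟩ := hb₀.blk.exists_covered (N ⊓ Ce (Q ⊓ N))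
    have h5 := hf₁.eq_orb_of_preg (inf_le_inf_right _ h1) (hNo _) hb₀.blk (hreg' _) h4
    have hxN' : x ∈ No (N ⊓ Ce (Q ⊓ N)) := inf_No_le_No_inf_Ce _ _ ⟨hxN, hx₀.1.2⟩
    have h6 : cj x f₁ ∈ orbit (L ⊓ Ce (Q ⊓ N)) f₁ := by
      refine hf₁.mem_orbit_of_mul (hNo _) (hf₁.cj_of_mem_No hxN') ?_
      rw [← h5, ← hx₀.2, ← map_mul]
      exact fun h => h4 ((cj x).injective (h.trans (map_zero _).symm))
    obtain ⟨y, hy, h7⟩ := mem_orbit.1 h6
    have h8 : ∀ m : ℕ, cj (x ^ m) f₁ = cj (y ^ m) f₁ := by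
      intro m
      induction m with
      | zero => simp
      | succ m ih =>
        have h9 : (y ^ m)⁻¹ * x * y ^ m * x⁻¹ ∈ N ⊓ Ce (Q ⊓ N) := by
          refine Subgroup.mem_inf.2
            ⟨N.mul_mem (conj_mem_of_No' (h2 (L.pow_mem hy.1 m)) hxN) (N.inv_mem hxN), ?_⟩
          have := (Ce _).mul_mem ((Ce _).inv_mem ((Ce _).pow_mem hy.2 m))
            (conj_mem_of_No (No_le_No_Ce _ hx₀.1.2) ((Ce _).pow_mem hy.2 m))
          convert this using 1; group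
        have h10 : x * y ^ m = y ^ m * ((y ^ m)⁻¹ * x * y ^ m * x⁻¹) * x := by group
        rw [pow_succ', cj_mul, ih, ← cj_mul, h10, cj_mul, cj_mul,
          (hf₁.cj_of_mem_No hxN').cj_eq h9, ← h7, ← cj_mul, pow_succ]
    obtain ⟨s, hs⟩ := exists_isPPart p y
    have h9 : cj x f₁ = f₁ := by
      obtain ⟨m, hm⟩ := hs.pelt
      have h10 : y ^ p ^ m ∈ N ⊓ Ce (Q ⊓ N) := by
        have h11 : y ^ p ^ m = (s⁻¹ * y) ^ p ^ m := by
          rw [hs.commute.inv_left.mul_pow, inv_pow, ← hm, pow_orderOf_eq_one]; simp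
        rw [h11]
        exact Subgroup.pow_mem _ (hreg' _ _ (Subgroup.mul_mem _ (Subgroup.inv_mem _ (hs.mem hy)) hy)
          hs.preg) _
      exact (mem_of_preg_of_pow_mem (K := stab ⊤ f₁) hxp (n := m)
        ⟨trivial, by rw [h8, hf₁.cj_eq h10]⟩).2
    have h10 : Br (Q ⊓ N) c * f₁ = f₁ := by
      have h11 := (hf₀.Br_mul_iff_Z hf.le hc'.mem hc'.idem).1 hcf
      rw [← hf₁.orb_mul_self (hNo _), ← h5, ← mul_assoc, h11]
    have h11 := hn.2 _ f₁ ⟨hb₀.pg, inf_le_right, hf₁⟩ h10 x ⟨⟨hxN, hx₀.1.2⟩, h9⟩ hxp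
    refine mem_Ce_of_conj_eq fun u hu => ?_
    have h12 : u⁻¹ * (x * u * x⁻¹) ∈ Q ⊓ N := Subgroup.mem_inf.2
      ⟨Q.mul_mem (Q.inv_mem hu) (conj_mem_of_No hx.1.2 hu), by
        have := N.mul_mem (conj_mem_of_No' (h2 (hf.le hu)) hxN) (N.inv_mem hxN)
        convert this using 1; group⟩
    have h13 : ∀ m : ℕ, x ^ m * u * (x ^ m)⁻¹ = u * (u⁻¹ * (x * u * x⁻¹)) ^ m := by
      intro m
      induction m with
      | zero => simp
      | succ m ih =>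
        have h14 := conj_eq_of_mem_Ce h11 (Subgroup.pow_mem _ h12 m)
        calc x ^ (m + 1) * u * (x ^ (m + 1))⁻¹ = x * (x ^ m * u * (x ^ m)⁻¹) * x⁻¹ := by
              rw [pow_succ']; group
          _ = (x * u * x⁻¹) * (x * (u⁻¹ * (x * u * x⁻¹)) ^ m * x⁻¹) := by rw [ih]; group
          _ = _ := by rw [h14, pow_succ', ← mul_assoc u, mul_inv_cancel_left]
    have h14 := h13 (orderOf x)
    rw [pow_orderOf_eq_one, one_mul, inv_one, mul_one, left_eq_mul] at h14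
    have h15 := eq_one_of_pelt_of_preg (pelt_of_mem hf.pg h12.1)
      fun h => hxp (h.trans (orderOf_dvd_of_pow_eq_one h14))
    exact inv_mul_eq_one.1 h15
  · intro hn
    refine ⟨hc, fun Q f hf hcf x hx hxp => ?_⟩
    refine hn.2 Q (orb (L ⊓ Ce Q) f) ⟨hf.pg, hf.le.trans h1,
      hf.blk.isBlock_orb_of_preg (inf_le_inf_right _ h1) (hNo Q) (hreg' Q)⟩
      (mul_orb_eq (Br_mem_inv (inv_anti inf_le_left hc'.inv) (inf_le_right.trans (Ce_le_No Q))) hcf)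
      x ⟨⟨h1 hx.1.1, hx.1.2⟩, ?_⟩ hxp
    rw [cj_orb, hx.2, cs_inf_Ce (h1 hx.1.1), mem_No.1 hx.1.2]

end Cfsg.Agent.Blk
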