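import Cfsg.Agent.Lib.Block.Grp
import Cfsg.Prelude.Def_Blocks
import Mathlib

/-!
`p`-parts of group elements.
-/

namespace Cfsg.Agent.Blk

variable {G H : Type*} [Group G] [Group H] {p : ℕ}

theorem pelt_iff [hp : Fact p.Prime] {x : G} :
    (∃ k : ℕ, orderOf x = p ^ k) ↔ ∃ k : ℕ, x ^ p ^ k = 1 := by
  constructor
  · rintro ⟨k, hk⟩; exact ⟨k, by rw [← hk, pow_orderOf_eq_one]⟩
  · rintro ⟨k, hk⟩
    obtain ⟨j, -, hj⟩ := (Nat.dvd_prime_pow hp.out).1 (orderOf_dvd_of_pow_eq_one hk)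
    exact ⟨j, hj⟩

theorem pelt_of_mem [Fact p.Prime] {P : Subgroup G} (hP : IsPGroup p P) {x : G} (hx : x ∈ P) :
    ∃ k : ℕ, orderOf x = p ^ k := by
  obtain ⟨k, hk⟩ := hP ⟨x, hx⟩
  exact pelt_iff.2 ⟨k, congrArg Subtype.val hk⟩

theorem isPGroup_zpowers {x : G} (hx : ∃ k : ℕ, orderOf x = p ^ k) :
    IsPGroup p (Subgroup.zpowers x) := by
  obtain ⟨k, hk⟩ := hx
  exact IsPGroup.of_card (by rw [Nat.card_zpowers, hk])

theorem pelt_one : ∃ k : ℕ, orderOf (1 : G) = p ^ k := ⟨0, by simp⟩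

theorem preg_one [hp : Fact p.Prime] : ¬ p ∣ orderOf (1 : G) := by
  rw [orderOf_one, Nat.dvd_one]; exact hp.out.ne_one

theorem pelt_of_dvd [hp : Fact p.Prime] {x : G} {y : H} (hx : ∃ k : ℕ, orderOf x = p ^ k)
    (h : orderOf y ∣ orderOf x) : ∃ k : ℕ, orderOf y = p ^ k := by
  obtain ⟨k, hk⟩ := hx
  obtain ⟨j, -, hj⟩ := (Nat.dvd_prime_pow hp.out).1 (hk ▸ h)
  exact ⟨j, hj⟩

theorem orderOf_zpow_dvd (x : G) (n : ℤ) : orderOf (x ^ n) ∣ orderOf x :=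
  orderOf_dvd_of_mem_zpowers ⟨n, rfl⟩

theorem orderOf_conj' (g x : G) : orderOf (g * x * g⁻¹) = orderOf x :=
  (MulAut.conj g).orderOf_eq x

theorem orderOf_of_isConj {x y : G} (h : IsConj x y) : orderOf x = orderOf y := by
  obtain ⟨g, rfl⟩ := isConj_iff.1 h; rw [orderOf_conj']

theorem eq_one_of_pelt_of_preg {x : G} (h1 : ∃ k : ℕ, orderOf x = p ^ k) (h2 : ¬ p ∣ orderOf x) :
    x = 1 := by
  obtain ⟨k, hk⟩ := h1
  rcases k with _ | k
  · simpa using hk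
  · exact absurd (hk ▸ dvd_pow_self p k.succ_ne_zero) h2

theorem dvd_orderOf_of_pelt {x : G} (h1 : ∃ k : ℕ, orderOf x = p ^ k) (h2 : x ≠ 1) :
    p ∣ orderOf x := by_contra fun h => h2 (eq_one_of_pelt_of_preg h1 h)

theorem pelt_mul [Fact p.Prime] {x y : G} (hc : Commute x y) (hx : ∃ k : ℕ, orderOf x = p ^ k)
    (hy : ∃ k : ℕ, orderOf y = p ^ k) : ∃ k : ℕ, orderOf (x * y) = p ^ k := by
  obtain ⟨k, hk⟩ := pelt_iff.1 hx
  obtain ⟨l, hl⟩ := pelt_iff.1 hy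
  refine pelt_iff.2 ⟨k + l, ?_⟩
  rw [hc.mul_pow, pow_add, pow_mul, hk, one_pow, mul_comm (p ^ k), pow_mul, hl, one_pow, mul_one]

theorem preg_mul [hp : Fact p.Prime] {x y : G} (hc : Commute x y) (hx : ¬ p ∣ orderOf x)
    (hy : ¬ p ∣ orderOf y) : ¬ p ∣ orderOf (x * y) := fun h =>
  (hp.out.dvd_mul.1 (h.trans hc.orderOf_mul_dvd_mul_orderOf)).elim hx hy

theorem mem_zpowers_zpow_of_coprime {x : G} {n : ℤ} (h : IsCoprime n (orderOf x : ℤ)) :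
    x ∈ Subgroup.zpowers (x ^ n) := by
  obtain ⟨a, b, hab⟩ := h
  refine ⟨a, ?_⟩
  change (x ^ n) ^ a = x
  conv_rhs => rw [← zpow_one x, ← hab, zpow_add, mul_comm b, zpow_mul x (orderOf x : ℤ),
    zpow_natCast, pow_orderOf_eq_one, one_zpow, mul_one, mul_comm a, zpow_mul]

theorem pelt_mem_zpowers_zpow [hp : Fact p.Prime] {x : G} (hx : ∃ k : ℕ, orderOf x = p ^ k)
    {n : ℤ} (hn : ¬ (p : ℤ) ∣ n) : x ∈ Subgroup.zpowers (x ^ n) := by
  obtain ⟨k, hk⟩ := hx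
  refine mem_zpowers_zpow_of_coprime ?_
  rw [hk, Nat.cast_pow]
  exact IsCoprime.pow_right (((Nat.prime_iff_prime_int.1 hp.out).irreducible.coprime_iff_not_dvd.2
    hn).symm)

theorem preg_mem_zpowers_pow [hp : Fact p.Prime] {y : G} (hy : ¬ p ∣ orderOf y) (k : ℕ) :
    y ∈ Subgroup.zpowers (y ^ p ^ k) := by
  rw [← zpow_natCast]
  refine mem_zpowers_zpow_of_coprime ?_
  rw [Nat.isCoprime_iff_coprime]
  exact Nat.Coprime.pow_left _ ((Nat.Prime.coprime_iff_not_dvd hp.out).2 hy)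

theorem exists_isPPart [Finite G] (p : ℕ) [hp : Fact p.Prime] (g : G) : ∃ x, IsPPart p g x := by
  obtain ⟨a, m, hm, h⟩ := Nat.exists_eq_pow_mul_and_not_dvd (orderOf_pos g).ne' p hp.out.ne_one
  have hc : IsCoprime ((p ^ a : ℕ) : ℤ) (m : ℤ) := Nat.isCoprime_iff_coprime.2
    (Nat.Coprime.pow_left _ ((Nat.Prime.coprime_iff_not_dvd hp.out).2 hm))
  obtain ⟨u, v, huv⟩ := hc
  have h1 : g ^ ((p ^ a : ℕ) * m : ℤ) = 1 := by
    rw [← Nat.cast_mul, zpow_natCast, ← h, pow_orderOf_eq_one]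
  refine ⟨g ^ (v * m), g ^ (u * (p ^ a : ℕ)), ?_, Commute.zpow_zpow_self _ _ _, ?_, ?_⟩
  · rw [← zpow_add, add_comm, huv, zpow_one]
  · refine pelt_iff.2 ⟨a, ?_⟩
    rw [← zpow_natCast, ← zpow_mul, show v * m * (p ^ a : ℕ) = (p ^ a : ℕ) * m * v by ring,
      zpow_mul, h1, one_zpow]
  · refine fun h2 => hm (h2.trans (orderOf_dvd_of_pow_eq_one ?_))
    rw [← zpow_natCast, ← zpow_mul, show u * (p ^ a : ℕ) * m = (p ^ a : ℕ) * m * u by ring,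
      zpow_mul, h1, one_zpow]

theorem isPPart_mul {x y : G} (hc : Commute x y) (hx : ∃ k : ℕ, orderOf x = p ^ k)
    (hy : ¬ p ∣ orderOf y) : IsPPart p (x * y) x := ⟨y, rfl, hc, hx, hy⟩

theorem isPPart_self [Fact p.Prime] {x : G} (hx : ∃ k : ℕ, orderOf x = p ^ k) : IsPPart p x x :=
  ⟨1, mul_one x, Commute.one_right x, hx, preg_one⟩

theorem isPPart_one_iff {g : G} : IsPPart p g 1 ↔ ¬ p ∣ orderOf g :=
  ⟨by rintro ⟨y, rfl, -, -, h⟩; rwa [one_mul], fun h => ⟨g, one_mul g, Commute.one_left g,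
    pelt_one, h⟩⟩

end Cfsg.Agent.Blk

namespace Cfsg.IsPPart

open Cfsg.Agent.Blk

variable {G H : Type*} [Group G] [Group H] {p : ℕ} {g x x' : G}

theorem pelt (h : IsPPart p g x) : ∃ k : ℕ, orderOf x = p ^ k := h.choose_spec.2.2.1

theorem preg (h : IsPPart p g x) : ¬ p ∣ orderOf (x⁻¹ * g) := by
  obtain ⟨y, rfl, -, -, h⟩ := h; rwa [inv_mul_cancel_left]

theorem commute (h : IsPPart p g x) : Commute x g := by
  obtain ⟨y, rfl, h, -, -⟩ := h; exact (Commute.refl x).mul_right h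

theorem isPGroup (h : IsPPart p g x) : IsPGroup p (Subgroup.zpowers x) := isPGroup_zpowers h.pelt

variable [hp : Fact p.Prime]

theorem mem_zpowers (h : IsPPart p g x) : x ∈ Subgroup.zpowers g := by
  obtain ⟨y, rfl, hc, hx, hy⟩ := h
  have h1 := pelt_mem_zpowers_zpow hx (n := orderOf y) (by exact_mod_cast hy)
  refine (Subgroup.zpowers_le.2 ?_ : _ ≤ Subgroup.zpowers (x * y)) h1
  refine ⟨orderOf y, ?_⟩
  simp only [zpow_natCast]
  rw [hc.mul_pow, pow_orderOf_eq_one, mul_one]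

theorem reg_mem_zpowers (h : IsPPart p g x) : x⁻¹ * g ∈ Subgroup.zpowers g :=
  mul_mem (inv_mem h.mem_zpowers) (Subgroup.mem_zpowers g)

theorem mem (h : IsPPart p g x) {K : Subgroup G} (hg : g ∈ K) : x ∈ K :=
  Subgroup.zpowers_le.2 hg h.mem_zpowers

theorem Ce1_le (h : IsPPart p g x) : Ce1 g ≤ Ce1 x := by
  rw [← Ce_zpowers, ← Ce_zpowers]
  exact Ce_anti (Subgroup.zpowers_le.2 h.mem_zpowers)

theorem Ce1_le_reg (h : IsPPart p g x) : Ce1 g ≤ Ce1 (x⁻¹ * g) := by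
  rw [← Ce_zpowers, ← Ce_zpowers]
  exact Ce_anti (Subgroup.zpowers_le.2 h.reg_mem_zpowers)

theorem unique (h : IsPPart p g x) (h' : IsPPart p g x') : x = x' := by
  have c : ∀ a ∈ Subgroup.zpowers g, ∀ b ∈ Subgroup.zpowers g, Commute a b := by
    rintro _ ⟨m, rfl⟩ _ ⟨n, rfl⟩; exact Commute.zpow_zpow_self _ _ _
  have h1 : x'⁻¹ * x = (x'⁻¹ * g) * (x⁻¹ * g)⁻¹ := by group
  rw [eq_comm, ← inv_mul_eq_one]
  refine eq_one_of_pelt_of_preg (p := p) (pelt_mul (c _ (inv_mem h'.mem_zpowers) _ h.mem_zpowers)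
    (by rw [orderOf_inv]; exact h'.pelt) h.pelt) ?_
  rw [h1]
  exact preg_mul (c _ h'.reg_mem_zpowers _ (inv_mem h.reg_mem_zpowers)) h'.preg
    (by rw [orderOf_inv]; exact h.preg)

theorem map (h : IsPPart p g x) (φ : G →* H) : IsPPart p (φ g) (φ x) := by
  obtain ⟨y, rfl, hc, hx, hy⟩ := h
  exact ⟨φ y, (map_mul _ _ _).symm, hc.map φ, pelt_of_dvd hx (orderOf_map_dvd φ x),
    fun h => hy (h.trans (orderOf_map_dvd φ y))⟩

theorem conj (h : IsPPart p g x) (c : G) : IsPPart p (c * g * c⁻¹) (c * x * c⁻¹) :=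
  h.map (MulAut.conj c).toMonoidHom

theorem zpow (h : IsPPart p g x) (n : ℤ) : IsPPart p (g ^ n) (x ^ n) := by
  obtain ⟨y, rfl, hc, hx, hy⟩ := h
  exact ⟨y ^ n, (hc.mul_zpow n).symm, hc.zpow_zpow n n, pelt_of_dvd hx (orderOf_zpow_dvd x n),
    fun h => hy (h.trans (orderOf_zpow_dvd y n))⟩

theorem inv (h : IsPPart p g x) : IsPPart p g⁻¹ x⁻¹ := by
  simpa using h.zpow (-1)

theorem coe {K : Subgroup G} {g x : K} (h : IsPPart p g x) : IsPPart p (g : G) (x : G) :=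
  h.map K.subtype

omit hp in
theorem of_coe {K : Subgroup G} {g x : K} (h : IsPPart p (g : G) (x : G)) : IsPPart p g x := by
  obtain ⟨y, h1, hc, hx, hy⟩ := h
  have h2 : y = (x⁻¹ * g : K) := by rw [Subgroup.coe_mul, ← h1]; simp
  subst h2
  refine ⟨x⁻¹ * g, mul_inv_cancel_left _ _, Subtype.ext hc, ?_, ?_⟩
  · rwa [Subgroup.orderOf_coe] at hx
  · rwa [Subgroup.orderOf_coe] at hy

theorem eq_one_iff (h : IsPPart p g x) : x = 1 ↔ ¬ p ∣ orderOf g :=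
  ⟨fun h1 => isPPart_one_iff.1 (h1 ▸ h), fun h1 => h.unique (isPPart_one_iff.2 h1)⟩

theorem isConj {g' : G} (h : IsPPart p g x) (h' : IsPPart p g' x') (hc : IsConj g g') :
    IsConj x x' := by
  obtain ⟨c, rfl⟩ := isConj_iff.1 hc
  exact isConj_iff.2 ⟨c, (h.conj c).unique h'⟩

/-- If `c g ^ n c⁻¹ = g' ^ n` with `n` prime to `p`, then `c` conjugates the `p`-parts. -/
theorem conj_eq_of_zpow {g' c : G} (h : IsPPart p g x) (h' : IsPPart p g' x') {n : ℤ}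
    (hn : ¬ (p : ℤ) ∣ n) (hc : c * g ^ n * c⁻¹ = g' ^ n) : c * x * c⁻¹ = x' := by
  have h1 : c * x ^ n * c⁻¹ = x' ^ n := ((h.zpow n).conj c).unique (hc ▸ h'.zpow n)
  obtain ⟨k, hk⟩ := pelt_iff.1 h.pelt
  obtain ⟨l, hl⟩ := pelt_iff.1 h'.pelt
  have h2 : IsCoprime n ((p : ℤ) ^ (k + l)) := IsCoprime.pow_right
    (((Nat.prime_iff_prime_int.1 hp.out).irreducible.coprime_iff_not_dvd.2 hn).symm)
  obtain ⟨a, b, hab⟩ := h2
  have e1 : ∀ z : G, z ^ p ^ (k + l) = 1 → z = (z ^ n) ^ a := fun z hz => by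
    conv_lhs => rw [← zpow_one z, ← hab, zpow_add, mul_comm b, zpow_mul z ((p : ℤ) ^ (k + l)),
      ← Nat.cast_pow, zpow_natCast, hz, one_zpow, mul_one, mul_comm a, zpow_mul]
  rw [e1 x (by rw [pow_add, pow_mul, hk, one_pow]),
    e1 x' (by rw [pow_add, mul_comm, pow_mul, hl, one_pow]), ← h1, conj_zpow]

end Cfsg.IsPPart
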