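import Cfsg.Agent.Lib.Block.Blich
import Cfsg.Agent.Lib.Transfer.Stab

/-! Sylow subgroups normalizing each other; trivial intersection Sylow subgroups. -/

set_option autoImplicit false

namespace Cfsg.Agent.Blk

open Subgroup (zpowers mem_zpowers)
open scoped Pointwise

universe u

section
variable {G : Type u} [Group G] [Finite G] {p q : ℕ} [hp : Fact p.Prime] [hq : Fact q.Prime]

theorem exists_pelt_lift {G' : Type*} [Group G'] {f : G →* G'} (hf : Function.Surjective f) {y : G'}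
    (hy : ∃ k, orderOf y = p ^ k) : ∃ x, (∃ k, orderOf x = p ^ k) ∧ f x = y := by
  obtain ⟨g, rfl⟩ := hf y
  obtain ⟨x, hx⟩ := exists_isPPart p g
  exact ⟨x, hx.pelt, (hx.map f).unique (isPPart_self hy)⟩

omit [Finite G] in
theorem index_Ce1_map_dvd {G' : Type*} [Group G'] {f : G →* G'} (hf : Function.Surjective f) (x : G) :
    (Ce1 (f x)).index ∣ (Ce1 x).index :=
  (Subgroup.index_dvd_of_le (Subgroup.map_le_iff_le_comap.2 fun g hg => mem_Ce1.2 (by
    rw [← map_mul, mem_Ce1.1 hg, map_mul]))).trans (Subgroup.index_map_dvd _ hf)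

theorem exists_sylow_of_isSylowIn {K Q : Subgroup G} (h : Solv.IsSylowIn q Q K) (h1 : ¬ q ∣ K.index) :
    ∃ S : Sylow q G, (S : Subgroup G) = Q :=
  Solv.IsSylowIn.exists_sylow_top ⟨le_top, h.isPGroup, by
    rw [Subgroup.relIndex_top_right]; exact not_dvd_index_trans h.le h.not_dvd h1⟩

theorem sylow_le_No_of_not_dvd (h : ¬ q ∣ (pPrimeCore p G).index) :
    ∃ (P : Sylow p G) (Q : Sylow q G), (P : Subgroup G) ≤ No Q := by
  obtain ⟨P⟩ : Nonempty (Sylow p G) := inferInstance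
  haveI := P.isPGroup'.isNilpotent
  obtain ⟨Q, h1, h2⟩ := Solv.coprime_exists_sylowIn (A := P) (K := pPrimeCore p G)
    Subgroup.le_normalizer_of_normal (Solv.coprime_card_of_isPGroup P.isPGroup'
      Solv.not_dvd_card_pPrimeCore) (Or.inl inferInstance) q
  obtain ⟨Q, rfl⟩ := exists_sylow_of_isSylowIn h1 h
  exact ⟨P, Q, h2⟩

theorem eq_one_of_mem_Ce_pCore (hpq : p ≠ q) (h : Ce (pCore p G) ≤ pCore p G) {y : G}
    (hy : ∃ k, orderOf y = q ^ k) (h1 : y ∈ Ce (pCore p G)) : y = 1 :=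
  Subgroup.mem_bot.1 (Transfer.inf_eq_bot_of_isPGroup hpq (Solv.isPGroup_pCore p G)
    (isPGroup_zpowers hy) ▸ (⟨h h1, mem_zpowers y⟩ : y ∈ pCore p G ⊓ zpowers y))

theorem not_dvd_index_of_le_No (hpq : p ≠ q) (h : Comp.PSol p (⊤ : Subgroup G)) (P : Sylow p G)
    (Q : Sylow q G) (h1 : (P : Subgroup G) ≤ No Q) : ¬ q ∣ (pPrimeCore p G).index := fun h2 => by
  have hf := QuotientGroup.mk'_surjective (pPrimeCore p G)
  refine (Solv.isSylowIn_top (Q.mapSurjective hf)).ne_bot (by rwa [Subgroup.card_top])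
    (eq_bot_iff.2 fun y hy => eq_one_of_mem_Ce_pCore hpq (Transfer.psol_charP (Transfer.psol_surj hf h)
      Solv.pPrimeCore_quotient_pPrimeCore) (pelt_of_mem (Q.mapSurjective hf).isPGroup' hy) ?_)
  exact Solv.le_centralizer_of_inf_eq_bot Subgroup.le_normalizer_of_normal
    ((Solv.pCore_le_sylow (P.mapSurjective hf)).trans ((Subgroup.map_mono h1).trans
      (Subgroup.le_normalizer_map _))) (Transfer.inf_eq_bot_of_isPGroup hpq.symm
        (Q.mapSurjective hf).isPGroup' (Solv.isPGroup_pCore p _)) hy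

theorem class_hyp_map {G' : Type*} [Group G'] {f : G →* G'} (hf : Function.Surjective f)
    (h : ∀ y : G, (∃ k, orderOf y = q ^ k) → ¬ p ∣ (Ce1 y).index) (y : G')
    (hy : ∃ k, orderOf y = q ^ k) : ¬ p ∣ (Ce1 y).index := fun h1 => by
  obtain ⟨x, hx, rfl⟩ := exists_pelt_lift hf hy
  exact h x hx (h1.trans (index_Ce1_map_dvd hf x))

theorem not_dvd_index_of_class (hpq : p ≠ q) (hs : Comp.PSol p (⊤ : Subgroup G))
    (h : ∀ y : G, (∃ k, orderOf y = q ^ k) → ¬ p ∣ (Ce1 y).index) : ¬ q ∣ (pPrimeCore p G).index :=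
  fun h2 => by
  have hf := QuotientGroup.mk'_surjective (pPrimeCore p G)
  obtain ⟨y, hy⟩ := exists_prime_orderOf_dvd_card' (G := G ⧸ pPrimeCore p G) q h2
  have h3 : ∃ k, orderOf y = q ^ k := ⟨1, by rw [hy, pow_one]⟩
  obtain ⟨P, hP⟩ := exists_sylow_le (class_hyp_map hf h y h3)
  exact hq.out.one_lt.ne' (by rw [← hy, eq_one_of_mem_Ce_pCore hpq (Transfer.psol_charP
    (Transfer.psol_surj hf hs) Solv.pPrimeCore_quotient_pPrimeCore) h3
    (mem_Ce_iff_le.2 ((Solv.pCore_le_sylow P).trans hP)), orderOf_one])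

theorem psol_core [Nontrivial G] (h : Comp.PSol p (⊤ : Subgroup G)) :
    pCore p G ≠ ⊥ ∨ pPrimeCore p G ≠ ⊥ := by
  by_contra! h1
  have := Transfer.psol_charP h h1.2
  rw [h1.1] at this
  exact top_ne_bot (eq_bot_iff.2 (Ce_bot.ge.trans this))

end

theorem sylow_le_No_of_class {p q : ℕ} [hp : Fact p.Prime] [Fact q.Prime] (G : Type u) [Group G] [Finite G] :
    Comp.PSol q (⊤ : Subgroup G) → (∀ y : G, (∃ k, orderOf y = q ^ k) → ¬ p ∣ (Ce1 y).index) →
    ∃ (P : Sylow p G) (Q : Sylow q G), (P : Subgroup G) ≤ No Q := by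
  refine Solv.card_induction (P := fun G _ _ => Comp.PSol q (⊤ : Subgroup G) →
    (∀ y : G, (∃ k, orderOf y = q ^ k) → ¬ p ∣ (Ce1 y).index) →
    ∃ (P : Sylow p G) (Q : Sylow q G), (P : Subgroup G) ≤ No Q) (fun G _ _ ih hs h => ?_) G
  have ih : ∀ (K : Subgroup G) [K.Normal], K ≠ ⊥ → ∃ (P : Sylow p G) (Q : Sylow q G),
      (P : Subgroup G).map (QuotientGroup.mk' K) ≤ No ((Q : Subgroup G).map (QuotientGroup.mk' K)) := by
    intro K _ hK
    have hf := QuotientGroup.mk'_surjective K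
    obtain ⟨P, Q, h1⟩ := ih _ (Solv.card_quotient_lt hK) (Transfer.psol_surj hf hs) (class_hyp_map hf h)
    obtain ⟨P, rfl⟩ := Sylow.mapSurjective_surjective hf p P
    obtain ⟨Q, rfl⟩ := Sylow.mapSurjective_surjective hf q Q
    exact ⟨P, Q, h1⟩
  rcases subsingleton_or_nontrivial G with _ | _
  · exact ⟨default, default, fun x _ => Subsingleton.elim 1 x ▸ one_mem _⟩
  rcases psol_core hs with h1 | h1
  · obtain ⟨P, Q, h2⟩ := ih _ h1
    refine ⟨P, Q, ?_⟩
    rwa [Subgroup.map_le_iff_le_comap, No,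
      Subgroup.comap_normalizer_eq_of_surjective _ (QuotientGroup.mk'_surjective _),
      Subgroup.comap_map_eq, QuotientGroup.ker_mk', sup_eq_left.2 (Solv.pCore_le_sylow Q)] at h2
  obtain ⟨P, Q, h2⟩ := ih _ h1
  haveI := Q.isPGroup'.isNilpotent
  have h3 := Solv.coprime_card_of_isPGroup Q.isPGroup' (Solv.not_dvd_card_pPrimeCore (G := G))
  rw [No, ← Solv.coprime_map_mk_normalizer h3 (Or.inl inferInstance), Subgroup.map_le_iff_le_comap,
    Subgroup.comap_map_eq, QuotientGroup.ker_mk'] at h2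
  obtain ⟨R, h4, h5⟩ := Solv.coprime_exists_sylowIn (A := Q) (K := pPrimeCore q G)
    Subgroup.le_normalizer_of_normal h3 (Or.inl inferInstance) p
  have h6 : (Q : Subgroup G) ≤ Ce R := fun y hy => by
    obtain ⟨S, hS⟩ := exists_sylow_le (h y (pelt_of_mem Q.isPGroup' hy))
    have h6 := Subgroup.zpowers_le.2 hy
    obtain ⟨c, h7, rfl⟩ := Solv.coprime_sylowIn_conj (A := zpowers y) Subgroup.le_normalizer_of_normal
      (h3.coprime_dvd_left (Subgroup.card_dvd_of_le h6)) (Or.inl (Solv.isSolvable_zpowers y))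
      ((Solv.isSylowIn_top S).inf_normal (N := pPrimeCore q G) le_top Subgroup.le_normalizer_of_normal) h4
      (Subgroup.zpowers_le.2 (Ce_le_No _ (mem_Ce_iff_le.2 (inf_le_left.trans hS)))) (h6.trans h5)
    have h8 : c * y * c⁻¹ = y := mul_inv_eq_of_eq_mul (mem_Ce.1 h7.2 y (mem_zpowers y)).symm
    exact mem_Ce_iff_le.2 ((cs_mono c (inf_le_left.trans hS)).trans_eq (by rw [cs_Ce1, h8]))
  obtain ⟨S, hS⟩ := exists_sylow_le (not_dvd_index_trans le_sup_left (fun h7 => h4.not_dvd (h7.trans (by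
    rw [relIndex_sup_self Subgroup.le_normalizer_of_normal]
    exact Subgroup.relIndex_dvd_of_le_left _ ((Subgroup.le_centralizer_iff.1 h6).trans (Ce_le_No _)))))
    (not_dvd_index_of_le h2 P.not_dvd_index))
  exact ⟨S, Q, hS⟩

section TI
variable {G : Type u} [Group G] [Finite G] {p : ℕ} [hp : Fact p.Prime] {P : Sylow p G}
  (hTI : ∀ g : G, g ∉ No (P : Subgroup G) → (P : Subgroup G) ⊓ cs g P = ⊥)
include hTI

theorem ti_all (Q : Sylow p G) (g : G) (h : g ∉ No (Q : Subgroup G)) : (Q : Subgroup G) ⊓ cs g Q = ⊥ := by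
  obtain ⟨c, -, hc⟩ := (isSyl_sylow Q).exists_cs_eq (isSyl_sylow P)
  rw [← hc, ← cs_No, mem_cs] at h
  rw [← hc, ← cs_bot c, ← hTI _ h, cs_inf, ← cs_mul, ← cs_mul]
  simp [mul_assoc]

theorem ti_comm (h1 : pCore p G = ⊥) (h2 : pPrimeCore p G = ⊥) {A B : Subgroup G} (hA : A.IsSubnormal)
    (hB : B.IsSubnormal) (h : A ≤ Ce B) : A = ⊥ ∨ B = ⊥ := by
  have h3 : ∀ A : Subgroup G, A.IsSubnormal → ¬ p ∣ Nat.card A → A = ⊥ := fun A hA h3 =>
    eq_bot_iff.2 (h2 ▸ Solv.le_pPrimeCore_of_isSubnormal hA (hp.out.coprime_iff_not_dvd.2 h3).symm)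
  refine or_iff_not_imp_right.2 fun h4 => h3 A hA fun h5 => ?_
  obtain ⟨⟨x, hx⟩, h6⟩ := exists_prime_orderOf_dvd_card' p (not_not.1 (mt (h3 B hB) h4))
  rw [Subgroup.orderOf_mk] at h6
  obtain ⟨Q, hQ⟩ := (isPGroup_zpowers ⟨1, by rw [h6, pow_one]⟩ : IsPGroup p (zpowers x)).exists_le_sylow
  have h7 : A ≤ No (Q : Subgroup G) := fun a ha => by_contra fun h7 => hp.out.one_lt.ne' (by
    have : x ∈ (Q : Subgroup G) ⊓ cs a Q := ⟨hQ (mem_zpowers x), mem_cs.2 (by
      rw [mul_assoc, mem_Ce.1 (h ha) x hx, inv_mul_cancel_left]; exact hQ (mem_zpowers x))⟩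
    rw [ti_all hTI Q a h7, Subgroup.mem_bot] at this
    rw [← h6, this, orderOf_one])
  obtain ⟨R, hR⟩ := Solv.exists_isSylowIn p A
  have h8 := (Solv.isSylowIn_top Q).le_of_le_normalizer' hR.isPGroup le_top (hR.le.trans h7)
  have h9 : ((Q : Subgroup G) ⊓ A).IsSubnormal := Subgroup.IsSubnormal.trans inf_le_right
    ((Subgroup.normal_subgroupOf_iff_le_normalizer inf_le_right).2
      ((le_inf h7 (le_No A)).trans (No_inf_le _ _))).isSubnormal hA
  exact hR.ne_bot h5 (eq_bot_iff.2 ((le_inf h8 hR.le).trans (h1 ▸ Solv.le_pCore_of_isSubnormal h9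
    (Q.isPGroup'.to_le inf_le_left))))

end TI

end Cfsg.Agent.Blk
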