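import Cfsg.Agent.Lib.Block.Cover

/-!
Brauer pairs, abstract form: inclusion, uniqueness of subpairs, maximal pairs, the Sylow theorem
for pairs and local defect groups.
-/

namespace Cfsg.Agent.Blk

open MonoidAlgebra

variable {G : Type*} [Group G] {k : Type*} [Field k] {p : ℕ}

section fixed
variable {R : Type*} [CommRing R]

open Classical in
theorem sum_cj_fixed [Fact p.Prime] {S : Type*} [CommRing S] [CharP S p] {Q : Subgroup G}
    (hQ : IsPGroup p Q) (s : Finset R[G]) (hs : ∀ x ∈ Q, ∀ a ∈ s, cj x a ∈ s) (φ : R[G] → S)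
    (hφ : ∀ x ∈ Q, ∀ a ∈ s, φ (cj x a) = φ a) :
    ∑ a ∈ s, φ a = ∑ a ∈ s.filter (fun a => a ∈ inv R Q), φ a := by
  letI : MulAction Q s :=
    { smul := fun x a => ⟨cj (x : G) a.1, hs x x.2 a a.2⟩
      one_smul := fun a => Subtype.ext (cj_one' _)
      mul_smul := fun x y a => Subtype.ext (cj_mul _ _ _) }
  have hsm : ∀ (x : Q) (a : s), ((x • a : s) : R[G]) = cj (x : G) a.1 := fun _ _ => rfl
  have h := sum_eq_sum_fixed (R := S) (P := Q) (X := s) hQ (fun a => φ a.1)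
    (fun x a => by rw [hsm]; exact hφ x x.2 a a.2)
    (Finset.univ.filter fun a : s => a.1 ∈ inv R Q) (fun a => by
      rw [Finset.mem_filter, mem_inv]
      exact ⟨fun h x => Subtype.ext (h.2 x x.2),
        fun h => ⟨Finset.mem_univ _, fun x hx => congrArg Subtype.val (h ⟨x, hx⟩)⟩⟩)
  rw [← Finset.sum_coe_sort s, h, Finset.sum_filter, Finset.sum_filter, ← Finset.sum_coe_sort s]

open Classical in
theorem Br_sum_fixed [Fact p.Prime] [CharP R p] {Q : Subgroup G} (hQ : IsPGroup p Q)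
    (s : Finset R[G]) (hs : ∀ x ∈ Q, ∀ a ∈ s, cj x a ∈ s) :
    Br Q (∑ a ∈ s, a) = ∑ a ∈ s.filter (fun a => a ∈ inv R Q), Br Q a := by
  refine ext' fun g => ?_
  rw [coeff_sum', coeff_tr]
  split_ifs with hg
  · rw [coeff_sum', sum_cj_fixed hQ s hs (fun a => a.coeff g)]
    · exact Finset.sum_congr rfl fun a _ => (coeff_tr_of_mem a hg).symm
    · intro x hx a _
      rw [coeff_cj, mul_assoc, ← mem_Ce.1 hg x hx, inv_mul_cancel_left]
  · exact (Finset.sum_eq_zero fun a _ => coeff_tr_of_notMem a hg).symm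

theorem exists_fixed_of_Br_sum [Fact p.Prime] [CharP R p] {Q : Subgroup G} (hQ : IsPGroup p Q)
    (s : Finset R[G]) (hs : ∀ x ∈ Q, ∀ a ∈ s, cj x a ∈ s) {w : R[G]}
    (h : Br Q (∑ a ∈ s, a) * w ≠ 0) : ∃ a ∈ s, a ∈ inv R Q ∧ Br Q a * w ≠ 0 := by
  classical
  rw [Br_sum_fixed hQ s hs, Finset.sum_mul] at h
  obtain ⟨a, ha, h⟩ := Finset.exists_ne_zero_of_sum_ne_zero h
  rw [Finset.mem_filter] at ha
  exact ⟨a, ha.1, ha.2, h⟩

theorem cj_mem_orbit_of_mem [Finite G] {N : Subgroup G} {e f : R[G]} {x : G} (hx : x ∈ N)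
    (hf : f ∈ orbit N e) : cj x f ∈ orbit N e := by
  obtain ⟨y, hy, rfl⟩ := mem_orbit.1 hf
  rw [← cj_mul]; exact cj_mem_orbit (N.mul_mem hx hy) e

theorem exists_fixed_of_Br_orb [Finite G] [Fact p.Prime] [CharP R p] {N Q : Subgroup G}
    (hQ : IsPGroup p Q) (hQN : Q ≤ N) {e w : R[G]} (h : Br Q (orb N e) * w ≠ 0) :
    ∃ x ∈ N, cj x e ∈ inv R Q ∧ Br Q (cj x e) * w ≠ 0 := by
  obtain ⟨a, ha, h1, h2⟩ := exists_fixed_of_Br_sum hQ (orbit N e)
    (fun x hx a ha => cj_mem_orbit_of_mem (hQN hx) ha) h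
  obtain ⟨x, hx, rfl⟩ := mem_orbit.1 ha
  exact ⟨x, hx, h1, h2⟩

theorem cs_inf_Ce {H Q : Subgroup G} {x : G} (hx : x ∈ H) : cs x (H ⊓ Ce Q) = H ⊓ Ce (cs x Q) := by
  rw [cs_inf, cs_eq_of_mem hx, cs_Ce]

theorem cs_inf_No {H Q : Subgroup G} {x : G} (hx : x ∈ H) : cs x (H ⊓ No Q) = H ⊓ No (cs x Q) := by
  rw [cs_inf, cs_eq_of_mem hx, cs_No]

theorem inf_No_le_No_inf_Ce (H Q : Subgroup G) : H ⊓ No Q ≤ No (H ⊓ Ce Q) := fun x hx =>
  mem_No.2 (by rw [cs_inf_Ce hx.1, mem_No.1 hx.2])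

theorem Br_mem_Z_Ce {H P : Subgroup G} {z : R[G]} (hz : z ∈ sup R H)
    (hz' : z ∈ inv R (H ⊓ Ce P)) : Br P z ∈ Z R (H ⊓ Ce P) :=
  mem_Z.2 ⟨Br_mem_sup_inf P hz, Br_mem_inv hz' (inf_le_right.trans (Ce_le_No P))⟩

theorem cj_mem_inv_iff {K : Subgroup G} {a : R[G]} (x : G) :
    cj x a ∈ inv R (cs x K) ↔ a ∈ inv R K :=
  ⟨fun h => by simpa using cj_mem_inv x⁻¹ h, cj_mem_inv x⟩

end fixed

variable (p) in
/-- Normal inclusion of Brauer pairs of `H`. -/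
structure NSub (H Q : Subgroup G) (f : k[G]) (P : Subgroup G) (e : k[G]) : Prop where
  pg : IsPGroup p P
  leH : P ≤ H
  blkf : IsBlock (H ⊓ Ce Q) f
  blke : IsBlock (H ⊓ Ce P) e
  le : Q ≤ P
  no : P ≤ No Q
  inv : f ∈ inv k P
  eq : Br P f * e = e

variable (p) in
/-- Inclusion of Brauer pairs of `H`. -/
def PLe (H Q : Subgroup G) (f : k[G]) (P : Subgroup G) (e : k[G]) : Prop :=
  Relation.ReflTransGen (fun a b : Subgroup G × k[G] => NSub p H a.1 a.2 b.1 b.2) (Q, f) (P, e)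

variable (p) in
/-- `(P, e)` is a Brauer pair of `H`. -/
structure IsBP (H P : Subgroup G) (e : k[G]) : Prop where
  pg : IsPGroup p P
  le : P ≤ H
  blk : IsBlock (H ⊓ Ce P) e

variable {H Q P R S : Subgroup G} {e f g h B z : k[G]}

theorem NSub.left (h : NSub p H Q f P e) : IsBP p H Q f :=
  ⟨isPGroup_le h.pg h.le, h.le.trans h.leH, h.blkf⟩

theorem NSub.right (h : NSub p H Q f P e) : IsBP p H P e := ⟨h.pg, h.leH, h.blke⟩

theorem IsBP.cs (h : IsBP p H P e) {x : G} (hx : x ∈ H) : IsBP p H (cs x P) (cj x e) :=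
  ⟨isPGroup_cs x h.pg, by rw [← cs_eq_of_mem hx]; exact cs_mono x h.le,
    by rw [← cs_inf_Ce hx]; exact h.blk.cj x⟩

theorem IsBP.Br_self (h : IsBP p H P e) : Br P e = e :=
  Br_of_mem_sup (sup_mono inf_le_right h.blk.sup)

theorem IsBP.mem_inv (h : IsBP p H P e) : e ∈ inv k P :=
  sup_le_inv_Ce P (sup_mono inf_le_right h.blk.sup)

theorem IsBP.nsub_self (h : IsBP p H P e) : NSub p H P e P e :=
  ⟨h.pg, h.le, h.blk, h.blk, le_rfl, le_No P, h.mem_inv, by rw [h.Br_self, h.blk.mul_self]⟩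

theorem NSub.cs (h : NSub p H Q f P e) {x : G} (hx : x ∈ H) :
    NSub p H (cs x Q) (cj x f) (cs x P) (cj x e) :=
  ⟨(h.right.cs hx).pg, (h.right.cs hx).le, (h.left.cs hx).blk, (h.right.cs hx).blk,
    cs_mono x h.le, by rw [← cs_No]; exact cs_mono x h.no, cj_mem_inv x h.inv,
    by rw [← cj_Br, ← map_mul, h.eq]⟩

theorem NSub.Br_ne (h : NSub p H Q f P e) : Br P f ≠ 0 := Br_ne_zero_of_mul_eq h.blke.ne h.eq

theorem NSub.Br_mem (h : NSub p H Q f P e) : Br P f ∈ Z k (H ⊓ Ce P) :=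
  Br_mem_Z_Ce (sup_mono inf_le_left h.blkf.sup)
    (inv_anti (inf_le_inf_left H (Ce_anti h.le)) h.blkf.inv)

theorem NSub.eq_of_eq (h : NSub p H P f P e) : f = e := by
  have h1 := h.eq
  rw [h.left.Br_self] at h1
  exact h.blkf.eq_of_mul_ne_zero h.blke (h1.symm ▸ h.blke.ne)

theorem PLe.refl (H P : Subgroup G) (e : k[G]) : PLe p H P e P e := Relation.ReflTransGen.refl

theorem NSub.ple (h : NSub p H Q f P e) : PLe p H Q f P e := Relation.ReflTransGen.single h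

theorem PLe.trans (h1 : PLe p H Q f R g) (h2 : PLe p H R g P e) : PLe p H Q f P e :=
  Relation.ReflTransGen.trans h1 h2

theorem PLe.head_induction {C : Subgroup G → k[G] → Prop} (h : PLe p H Q f P e) (refl : C P e)
    (head : ∀ Q f R g, NSub p H Q f R g → PLe p H R g P e → C R g → C Q f) : C Q f := by
  have : ∀ a : Subgroup G × k[G], Relation.ReflTransGen
      (fun a b : Subgroup G × k[G] => NSub p H a.1 a.2 b.1 b.2) a (P, e) → C a.1 a.2 := by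
    intro a ha
    induction ha using Relation.ReflTransGen.head_induction_on with
    | refl => exact refl
    | head h1 h2 ih => exact head _ _ _ _ h1 h2 ih
  exact this _ h

theorem PLe.le (h : PLe p H Q f P e) : Q ≤ P :=
  h.head_induction (C := fun Q _ => Q ≤ P) le_rfl fun _ _ _ _ h1 _ h2 => h1.le.trans h2

theorem PLe.left (h : PLe p H Q f P e) (he : IsBP p H P e) : IsBP p H Q f :=
  h.head_induction (C := fun Q f => IsBP p H Q f) he fun _ _ _ _ h1 _ _ => h1.left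

theorem PLe.right (h : PLe p H Q f P e) (hf : IsBP p H Q f) : IsBP p H P e :=
  h.head_induction (C := fun Q f => IsBP p H Q f → IsBP p H P e) id
    (fun _ _ _ _ h1 _ h2 _ => h2 h1.right) hf

theorem PLe.cs (h : PLe p H Q f P e) {x : G} (hx : x ∈ H) :
    PLe p H (cs x Q) (cj x f) (cs x P) (cj x e) :=
  h.head_induction (C := fun Q f => PLe p H (Blk.cs x Q) (cj x f) (Blk.cs x P) (cj x e))
    (PLe.refl _ _ _) fun _ _ _ _ h1 _ h2 => (h1.cs hx).ple.trans h2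

theorem PLe.cases (h : PLe p H Q f P e) :
    (Q = P ∧ f = e) ∨ ∃ R g, Q < R ∧ NSub p H Q f R g ∧ PLe p H R g P e := by
  refine h.head_induction (C := fun Q f => (Q = P ∧ f = e) ∨
    ∃ R g, Q < R ∧ NSub p H Q f R g ∧ PLe p H R g P e) (Or.inl ⟨rfl, rfl⟩) ?_
  intro Q f R g h1 h2 ih
  rcases h1.le.lt_or_eq with hlt | rfl
  · exact Or.inr ⟨R, g, hlt, h1, h2⟩
  · rw [h1.eq_of_eq]; exact ih

theorem PLe.eq_of_eq (h : PLe p H P f P e) : f = e := by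
  rcases h.cases with h | ⟨R, g, h1, -, h2⟩
  · exact h.2
  · exact absurd h2.le (not_le_of_gt h1)

variable [Finite G] [Fact p.Prime] [CharP k p]

theorem NSub.Br_mul_iff (h : NSub p H Q f P e) (hz : z ∈ sup k H) (hzP : z ∈ Blk.inv k P)
    (hzQ : z ∈ Blk.inv k (H ⊓ Ce Q)) (hzi : IsIdempotentElem z) :
    Br P z * e = e ↔ Br Q z * f = f := by
  have h1 : Br P (Br Q z * f) = Br P z * Br P f := by
    rw [Br_mul h.pg (Br_mem_inv hzP h.no) h.inv, Br_Br_of_le h.le]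
  constructor
  · intro h2
    refine (h.blkf.prim _ (Br_mem_Z_Ce hz hzQ)
      (Br_idem h.left.pg (inv_anti h.le hzP) hzi)).resolve_left fun h0 => h.blke.ne ?_
    rw [h0, map_zero] at h1
    rw [← h2, ← h.eq, ← mul_assoc, ← h1, zero_mul]
  · intro h2
    rw [h2] at h1
    rw [← h.eq, ← mul_assoc, ← h1]

theorem PLe.Br_mul_iff (h : PLe p H Q f P e) (hz : z ∈ sup k H) (hzP : z ∈ inv k P)
    (hzQ : z ∈ inv k (H ⊓ Ce Q)) (hzi : IsIdempotentElem z) :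
    Br P z * e = e ↔ Br Q z * f = f := by
  refine h.head_induction (C := fun Q f => z ∈ inv k (H ⊓ Ce Q) →
    (Br P z * e = e ↔ Br Q z * f = f)) (fun _ => Iff.rfl) ?_ hzQ
  intro Q f R g h1 h2 ih hzQ
  rw [ih (inv_anti (inf_le_inf_left H (Ce_anti h1.le)) hzQ),
    h1.Br_mul_iff hz (inv_anti h2.le hzP) hzQ hzi]

theorem PLe.Br_mul_iff_Z (h : PLe p H Q f P e) (hP : P ≤ H) (hz : z ∈ Z k H)
    (hzi : IsIdempotentElem z) : Br P z * e = e ↔ Br Q z * f = f :=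
  h.Br_mul_iff (mem_Z.1 hz).1 (inv_anti hP (mem_Z.1 hz).2)
    (inv_anti inf_le_left (mem_Z.1 hz).2) hzi

theorem NSub.of_PLe (h1 : NSub p H Q f S h) (h2 : PLe p H R g S h) (hQR : Q ≤ R) :
    NSub p H Q f R g :=
  have hR := h2.left h1.right
  ⟨hR.pg, hR.le, h1.blkf, hR.blk, hQR, h2.le.trans h1.no, inv_anti h2.le h1.inv,
    (h2.Br_mul_iff (sup_mono inf_le_left h1.blkf.sup) h1.inv
      (inv_anti (inf_le_inf_left H (Ce_anti hQR)) h1.blkf.inv) h1.blkf.idem).1 h1.eq⟩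

theorem NSub.unique {f' : k[G]} (h1 : NSub p H Q f P e) (h2 : NSub p H Q f' P e) : f = f' := by
  refine h1.blkf.eq_of_mul_ne_zero h2.blkf fun h0 => h1.blke.ne ?_
  rw [← h1.eq, ← h2.eq, ← mul_assoc, ← Br_mul h1.pg h1.inv h2.inv, h0, map_zero, zero_mul]

theorem IsBP.exists_nsub (he : IsBP p H P e) (hQP : Q ≤ P) (hPQ : P ≤ No Q) :
    ∃ f, NSub p H Q f P e := by
  have h1 : Br P (∑ f ∈ blocks k (H ⊓ Ce Q), f) * e ≠ 0 := by
    rw [sum_blocks, Br_one, one_mul]; exact he.blk.ne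
  obtain ⟨f, hf, hfP, h2⟩ := exists_fixed_of_Br_sum he.pg _ (fun x hx a ha =>
    mem_blocks.2 ((mem_blocks.1 ha).cj_of_mem_No
      (inf_No_le_No_inf_Ce H Q ⟨he.le hx, hPQ hx⟩))) h1
  rw [mem_blocks] at hf
  exact ⟨f, he.pg, he.le, hf, he.blk, hQP, hPQ, hfP, he.blk.mul_eq_self_of_ne_zero
    (Br_mem_Z_Ce (sup_mono inf_le_left hf.sup)
      (inv_anti (inf_le_inf_left H (Ce_anti hQP)) hf.inv)) (Br_idem he.pg hfP hf.idem) h2⟩

theorem IsBP.exists_nsub_up (hf : IsBP p H Q f) (hP : IsPGroup p P) (hPH : P ≤ H) (hQP : Q ≤ P)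
    (hPQ : P ≤ No Q) (hfP : f ∈ inv k P) (h : Br P f ≠ 0) : ∃ e, NSub p H Q f P e := by
  obtain ⟨e, he, h1⟩ := exists_block_mul_eq (Br_mem_Z_Ce (P := P) (sup_mono inf_le_left hf.blk.sup)
    (inv_anti (inf_le_inf_left H (Ce_anti hQP)) hf.blk.inv)) (Br_idem hP hfP hf.blk.idem) h
  exact ⟨e, hP, hPH, hf.blk, he, hQP, hPQ, hfP, h1⟩

omit [Fact p.Prime] [CharP k p] in
theorem subgroup_induction {C : Subgroup G → Prop} (h : ∀ Q, (∀ R, Q < R → C R) → C Q)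
    (Q : Subgroup G) : C Q :=
  (wellFounded_gt (α := Subgroup G)).induction Q h

theorem IsBP.exists_PLe (he : IsBP p H P e) (hQP : Q ≤ P) : ∃ f, PLe p H Q f P e := by
  induction Q using subgroup_induction with | _ Q ih =>
  rcases hQP.lt_or_eq with hlt | rfl
  · obtain ⟨h, hh⟩ := ih _ (lt_inf_No he.pg hlt) inf_le_left
    obtain ⟨f, hf⟩ := (hh.left he).exists_nsub (lt_inf_No he.pg hlt).le inf_le_right
    exact ⟨f, hf.ple.trans hh⟩
  · exact ⟨e, PLe.refl _ _ _⟩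

theorem PLe.unique {f' : k[G]} (he : IsBP p H P e) (h1 : PLe p H Q f P e)
    (h2 : PLe p H Q f' P e) : f = f' := by
  induction Q using subgroup_induction generalizing f f' with | _ Q ih =>
  rcases h1.le.lt_or_eq with hlt | rfl
  · obtain ⟨h, hh⟩ := he.exists_PLe (Q := P ⊓ No Q) inf_le_left
    obtain ⟨f₀, hf₀⟩ := (hh.left he).exists_nsub (lt_inf_No he.pg hlt).le inf_le_right
    have key : ∀ f, PLe p H Q f P e → f = f₀ := by
      intro f hf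
      rcases hf.cases with h | ⟨R, g, hQR, h3, h4⟩
      · exact absurd h.1 hlt.ne
      · obtain ⟨g', hg'⟩ := (hh.left he).exists_PLe (le_inf h4.le h3.no)
        rw [ih R hQR h4 (hg'.trans hh)] at h3
        exact h3.unique (hf₀.of_PLe hg' hQR.le)
    rw [key f h1, key f' h2]
  · rw [h1.eq_of_eq, h2.eq_of_eq]

theorem PLe.of_le (he : IsBP p H P e) (h1 : PLe p H Q f P e) (h2 : PLe p H R g P e)
    (hQR : Q ≤ R) : PLe p H Q f R g := by
  obtain ⟨f', hf'⟩ := (h2.left he).exists_PLe hQR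
  rwa [PLe.unique he h1 (hf'.trans h2)]

theorem PLe.nsub (he : IsBP p H P e) (h : PLe p H Q f P e) (hPQ : P ≤ No Q) :
    NSub p H Q f P e := by
  obtain ⟨f', hf'⟩ := he.exists_nsub h.le hPQ
  rwa [PLe.unique he h hf'.ple]

theorem PLe.nsub_of_le (he : IsBP p H P e) (h1 : PLe p H Q f P e) (h2 : PLe p H R g P e)
    (hQR : Q ≤ R) (hRQ : R ≤ No Q) : NSub p H Q f R g :=
  (h1.of_le he h2 hQR).nsub (h2.left he) hRQ

theorem PLe.cs_of_mem (he : IsBP p H P e) (h : PLe p H Q f P e) {x : G} (hx : x ∈ P) :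
    PLe p H (Blk.cs x Q) (cj x f) P e := by
  have := h.cs (he.le hx)
  rwa [cs_eq_of_mem hx, mem_inv.1 he.mem_inv x hx] at this

theorem PLe.exists_nsub_No (he : IsBP p H P e) (h : PLe p H Q f P e) :
    ∃ g, NSub p H Q f (P ⊓ No Q) g ∧ PLe p H (P ⊓ No Q) g P e := by
  obtain ⟨g, hg⟩ := he.exists_PLe (Q := P ⊓ No Q) inf_le_left
  exact ⟨g, h.nsub_of_le he hg (le_inf h.le (le_No Q)) inf_le_right, hg⟩

theorem PLe.mem_inv (he : IsBP p H P e) (h : PLe p H Q f P e) : f ∈ inv k (P ⊓ No Q) :=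
  let ⟨_, hg, _⟩ := h.exists_nsub_No he; hg.inv

theorem PLe.Br_ne (he : IsBP p H P e) (h : PLe p H Q f P e) : Br (P ⊓ No Q) f ≠ 0 :=
  let ⟨_, hg, _⟩ := h.exists_nsub_No he; hg.Br_ne

theorem IsBP.bot (hB : IsBlock H B) : IsBP p H ⊥ B :=
  ⟨IsPGroup.of_bot, bot_le, by simpa using hB⟩

theorem IsBP.nsub_bot_iff (he : IsBP p H P e) (hB : IsBlock H B) :
    NSub p H ⊥ B P e ↔ Br P B * e = e :=
  ⟨fun h => h.eq, fun h => ⟨he.pg, he.le, by simpa using hB, he.blk, bot_le,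
    le_No_of_normal _ _, inv_anti he.le hB.inv, h⟩⟩

variable (p) in
/-- `(P, e)` is a maximal Brauer pair of the block `B` of `H`. -/
structure IsMP (H : Subgroup G) (B : k[G]) (P : Subgroup G) (e : k[G]) : Prop where
  bp : IsBP p H P e
  blkB : IsBlock H B
  eq : Br P B * e = e
  isDef : IsDef p H B P

theorem IsMP.cs (h : IsMP p H B P e) {x : G} (hx : x ∈ H) : IsMP p H B (cs x P) (cj x e) :=
  ⟨h.bp.cs hx, h.blkB, by rw [← h.blkB.cj_eq hx, ← cj_Br, ← map_mul, h.eq],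
    h.isDef.cs_of_mem h.blkB.inv hx⟩

theorem IsMP.eq_of_PLe (h : IsMP p H B P e) (hle : PLe p H Q f P e) : Br Q B * f = f :=
  (hle.Br_mul_iff_Z h.bp.le h.blkB.mem h.blkB.idem).1 h.eq

theorem IsMP.max (h : IsMP p H B P e) (hle : PLe p H P e R g) : R = P := by
  have hR := hle.right h.bp
  exact h.isDef.eq_of_le hR.le hR.pg (Br_ne_zero_of_mul_eq hR.blk.ne
    ((hle.Br_mul_iff_Z hR.le h.blkB.mem h.blkB.idem).2 h.eq)) hle.le

variable [IsAlgClosed k]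

theorem IsBP.isBlock_orb (he : IsBP p H P e) {N : Subgroup G} (h1 : P ⊔ H ⊓ Ce P ≤ N)
    (h2 : N ≤ H ⊓ No P) : IsBlock N (orb N e) :=
  he.blk.isBlock_orb (le_sup_right.trans h1) (h2.trans (inf_No_le_No_inf_Ce H P)) he.pg
    (le_sup_left.trans h1) (h2.trans inf_le_right)
    (inf_le_inf_right _ (h2.trans inf_le_left))

theorem IsBP.isBlock_of_inv (he : IsBP p H P e) {N : Subgroup G} (h1 : P ⊔ H ⊓ Ce P ≤ N)
    (h2 : N ≤ H ⊓ No P) (h : e ∈ inv k N) : IsBlock N e := by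
  have := he.isBlock_orb h1 h2
  rwa [orb_of_inv h] at this

omit [Finite G] [Fact p.Prime] [CharP k p] [IsAlgClosed k] in
theorem IsBP.sup_le (he : IsBP p H P e) : P ⊔ H ⊓ Ce P ≤ H ⊓ No P :=
  _root_.sup_le (le_inf he.le (le_No P)) (inf_le_inf_left H (Ce_le_No P))

theorem isMP_of_max (he : IsBP p H P e) (hB : IsBlock H B) (h : Br P B * e = e)
    (hmax : ∀ R g, NSub p H P e R g → R = P) : IsMP p H B P e := by
  refine ⟨he, hB, h, ?_⟩
  have hb := he.isBlock_orb he.sup_le le_rfl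
  have hPN : P ≤ H ⊓ No P := le_inf he.le (le_No P)
  refine isDef_of_Br_mul hb (hb.isDef_of_maximal hPN he.pg ?_ ?_) hB
    (mul_orb_eq (mem_Z.1 (hB.Br_mem_Z_No P)).2 h)
  · rw [hb.Br_eq_self he.pg hPN inf_le_right]; exact hb.ne
  · intro Q hPQ hQN hQ hne
    have hQN' : Q ≤ H ⊓ No P := hQN.trans inf_le_left
    obtain ⟨x, hx, h1, h2⟩ := exists_fixed_of_Br_orb (w := 1) hQ hQN' (by rwa [mul_one])
    rw [mul_one] at h2
    have he' := he.cs hx.1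
    rw [mem_No.1 hx.2] at he'
    obtain ⟨g, hg⟩ := he'.exists_nsub_up hQ (hQN'.trans inf_le_left) hPQ
      (hQN'.trans inf_le_right) h1 h2
    have h3 := hg.cs (H.inv_mem hx.1)
    rw [cj_inv_cj, mem_No.1 ((No P).inv_mem hx.2)] at h3
    rw [← cs_cs_inv x Q, hmax _ _ h3, mem_No.1 hx.2]

theorem IsBP.exists_isMP (hf : IsBP p H Q f) (hB : IsBlock H B) (h : Br Q B * f = f) :
    ∃ P e, PLe p H Q f P e ∧ IsMP p H B P e := by
  induction Q using subgroup_induction generalizing f with | _ Q ih =>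
  by_cases hmax : ∀ R g, NSub p H Q f R g → R = Q
  · exact ⟨Q, f, PLe.refl _ _ _, isMP_of_max hf hB h hmax⟩
  · push Not at hmax
    obtain ⟨R, g, h1, h2⟩ := hmax
    obtain ⟨P, e, h3, h4⟩ := ih R (lt_of_le_of_ne h1.le h2.symm) h1.right
      ((h1.ple.Br_mul_iff_Z h1.leH hB.mem hB.idem).2 h)
    exact ⟨P, e, h1.ple.trans h3, h4⟩

theorem IsDef.exists_isMP (hB : IsBlock H B) (hP : IsDef p H B P) : ∃ e, IsMP p H B P e := by
  obtain ⟨e, he, h⟩ := exists_block_Br_mul hP.pg le_rfl inf_le_left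
    (inf_le_right.trans (Ce_le_No P)) hB.mem (inv_anti hP.le hB.inv) hB.idem hP.ne
  exact ⟨e, ⟨hP.pg, hP.le, he⟩, hB, h, hP⟩

theorem IsMP.Br_eq_orb (h : IsMP p H B P e) : Br P B = orb (H ⊓ No P) e :=
  h.bp.blk.eq_orb (inf_Ce_le_inf_No H P) (inf_No_le_No_inf_Ce H P) (h.blkB.isBlock_Br h.isDef)
    (Br_mem_sup_inf P h.blkB.sup) (h.eq.symm ▸ h.bp.blk.ne)

theorem IsMP.conj_same {e' : k[G]} (h1 : IsMP p H B P e) (h2 : IsMP p H B P e') :
    ∃ x ∈ H ⊓ No P, cj x e = e' := by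
  refine mem_orbit.1 (h1.bp.blk.mem_orbit_of_mul (inf_No_le_No_inf_Ce H P) h2.bp.blk ?_)
  rw [← h1.Br_eq_orb, h2.eq]; exact h2.bp.blk.ne

theorem IsMP.conj (h1 : IsMP p H B P e) (h2 : IsMP p H B R g) :
    ∃ x ∈ H, Blk.cs x R = P ∧ cj x g = e := by
  obtain ⟨y, hy, rfl⟩ := h1.isDef.exists_cs_eq h2.isDef
  obtain ⟨x, hx, h3⟩ := (h2.cs hy).conj_same h1
  exact ⟨x * y, H.mul_mem hx.1 hy, by rw [cs_mul, mem_No.1 hx.2], by rw [cj_mul, h3]⟩

/-- The Sylow theorem for Brauer pairs. -/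
theorem IsMP.exists_cs_PLe (h : IsMP p H B P e) (hf : IsBP p H Q f) (hBf : Br Q B * f = f) :
    ∃ x ∈ H, PLe p H (Blk.cs x Q) (cj x f) P e := by
  obtain ⟨R, g, h1, h2⟩ := hf.exists_isMP h.blkB hBf
  obtain ⟨x, hx, rfl, rfl⟩ := h.conj h2
  exact ⟨x, hx, h1.cs hx⟩

section loc
variable {K D : Subgroup G}

omit [IsAlgClosed k] in
theorem PLe.Br_inf_ne (he : IsBP p H P e) (h : PLe p H Q f P e) (hK : K ≤ No Q) :
    Br (P ⊓ K) f ≠ 0 :=
  Br_ne_zero_of_le (inf_le_inf_left P hK) (h.Br_ne he)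

omit [IsAlgClosed k] in
theorem IsBP.exists_nsub_sup (hf : IsBP p H Q f) (hD : IsPGroup p D) (hDN : D ≤ H ⊓ No Q)
    (hfD : f ∈ inv k D) (h : Br D f ≠ 0) : ∃ g, NSub p H Q f (D ⊔ Q) g :=
  hf.exists_nsub_up (isPGroup_sup hD hf.pg (hDN.trans inf_le_right))
    (_root_.sup_le (hDN.trans inf_le_left) hf.le) le_sup_right
    (_root_.sup_le (hDN.trans inf_le_right) (le_No Q)) (mem_inv_sup.2 ⟨hfD, hf.mem_inv⟩)
    (by rwa [← Br_Br, hf.Br_self])

/-- A `p`-subgroup normalising `(Q, f)` and not killing `f` is conjugate into `P` with `(Q, f)`. -/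
theorem IsMP.exists_cs_PLe_le (h : IsMP p H B P e) (hf : IsBP p H Q f) (hBf : Br Q B * f = f)
    (hD : IsPGroup p D) (hDN : D ≤ H ⊓ No Q) (hfD : f ∈ inv k D) (hne : Br D f ≠ 0) :
    ∃ x ∈ H, PLe p H (Blk.cs x Q) (cj x f) P e ∧ Blk.cs x D ≤ P := by
  obtain ⟨g, hg⟩ := hf.exists_nsub_sup hD hDN hfD hne
  obtain ⟨x, hx, h1⟩ := h.exists_cs_PLe hg.right
    ((hg.ple.Br_mul_iff_Z hg.leH h.blkB.mem h.blkB.idem).2 hBf)
  exact ⟨x, hx, (hg.cs hx).ple.trans h1, (cs_mono x le_sup_left).trans h1.le⟩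

theorem IsMP.exists_cs_isDef (h : IsMP p H B P e) (hf : IsBP p H Q f) (hBf : Br Q B * f = f)
    (hK : K ≤ H ⊓ No Q) (hfK : f ∈ inv k K) (hD : IsDef p K f D) :
    ∃ x ∈ H, PLe p H (Blk.cs x Q) (cj x f) P e ∧ Blk.cs x D = P ⊓ Blk.cs x K := by
  obtain ⟨x, hx, h1, h2⟩ := h.exists_cs_PLe_le hf hBf hD.pg (hD.le.trans hK)
    (inv_anti hD.le hfK) hD.ne
  refine ⟨x, hx, h1, ((hD.cs x).eq_of_le inf_le_right (isPGroup_le h.bp.pg inf_le_left)
    (h1.Br_inf_ne h.bp ?_) (le_inf h2 (cs_mono x hD.le))).symm⟩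
  rw [← cs_No]; exact cs_mono x (hK.trans inf_le_right)

theorem IsMP.isDef_inf_iff (h : IsMP p H B P e) (hle : PLe p H Q f P e) (hK : K ≤ H ⊓ No Q)
    (hfK : IsBlock K f) : IsDef p K f (P ⊓ K) ↔
      ∀ x ∈ H, PLe p H (Blk.cs x Q) (cj x f) P e →
        Nat.card ↥(P ⊓ Blk.cs x K) ≤ Nat.card ↥(P ⊓ K) := by
  constructor
  · intro hD x hx h1
    rw [← card_cs x (P ⊓ K)]
    refine (hD.cs x).card_le inf_le_right (isPGroup_le h.bp.pg inf_le_left) (h1.Br_inf_ne h.bp ?_)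
    rw [← cs_No]; exact cs_mono x (hK.trans inf_le_right)
  · intro h1
    obtain ⟨D, hD⟩ := hfK.exists_isDef p
    obtain ⟨x, hx, h2, h3⟩ := h.exists_cs_isDef (hle.left h.bp) (h.eq_of_PLe hle) hK hfK.inv hD
    refine hD.of_card hfK.inv inf_le_right (isPGroup_le h.bp.pg inf_le_left)
      (hle.Br_inf_ne h.bp (hK.trans inf_le_right)) ?_
    rw [← card_cs x D, h3]; exact h1 x hx h2

theorem IsMP.isDef_self (h : IsMP p H B P e) (hK : K ≤ H ⊓ No P) (hfK : IsBlock K e) :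
    IsDef p K e (P ⊓ K) := by
  obtain ⟨D, hD⟩ := hfK.exists_isDef p
  obtain ⟨g, hg⟩ := h.bp.exists_nsub_sup hD.pg (hD.le.trans hK) (inv_anti hD.le hfK.inv) hD.ne
  have h1 : D ≤ P ⊓ K := le_inf (le_sup_left.trans (h.max hg.ple).le) hD.le
  rwa [hD.eq_of_le inf_le_right (isPGroup_le h.bp.pg inf_le_left)
    ((PLe.refl H P e).Br_inf_ne h.bp (hK.trans inf_le_right)) h1]

end loc

end Cfsg.Agent.Blk
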