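import Cfsg.Agent.Lib.Block.Trace

set_option autoImplicit false

namespace Cfsg.Agent.Blk

open Polynomial

section Fit
variable {R A : Type*} [CommRing R] [Ring A] [Algebra R A]

theorem aeval_mem_sub {S : Subalgebra R A} {a : A} (ha : a ∈ S) (q : R[X]) : aeval a q ∈ S :=
  (Algebra.adjoin_le (Set.singleton_subset_iff.2 ha) : _ ≤ S)
    (Polynomial.aeval_mem_adjoin_singleton R a)

theorem commute_aeval' (a : A) (q r : R[X]) : Commute (aeval a q) (aeval a r) :=
  (Commute.all q r).map _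

theorem fitting_of_coprime {S : Subalgebra R A} {a : A} (ha : a ∈ S) {g h : R[X]}
    (hc : IsCoprime (X * g) h) (h0 : aeval a (X * g * h) = 0) :
    ∃ c ∈ S, Commute a c ∧ IsIdempotentElem (a * c) ∧ a * aeval a g * (1 - a * c) = 0 := by
  obtain ⟨α, β, hαβ⟩ := hc
  have h1 : a * aeval a (α * g) = aeval a (α * (X * g)) := by
    rw [show α * (X * g) = X * (α * g) by ring, map_mul _ X, aeval_X]
  have h2 : 1 - a * aeval a (α * g) = aeval a (β * h) := by
    rw [h1, ← map_one (aeval (R := R) a), ← hαβ, map_add, add_sub_cancel_left]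
  have h3 : a * aeval a g * (1 - a * aeval a (α * g)) = 0 := by
    rw [h2, ← aeval_X (R := R) a, aeval_X, show a * aeval a g = aeval a (X * g) by simp,
      ← map_mul, show X * g * (β * h) = β * (X * g * h) by ring, map_mul, h0, mul_zero]
  refine ⟨aeval a (α * g), aeval_mem_sub ha _, ?_, ?_, h3⟩
  · simpa using commute_aeval' a X (α * g)
  · have : a * aeval a (α * g) * (1 - a * aeval a (α * g)) = 0 := by
      have h4 : a * aeval a (α * g) = aeval a α * (a * aeval a g) := by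
        rw [h1, map_mul, map_mul, aeval_X]
      calc _ = aeval a α * (a * aeval a g * (1 - a * aeval a (α * g))) := by
            rw [← mul_assoc, ← h4]
        _ = 0 := by rw [h3, mul_zero]
    rw [mul_sub, mul_one, sub_eq_zero] at this
    exact this.symm

theorem nilpotent_of_pow_mul {a ε : A} (hc : Commute a ε) (hε : IsIdempotentElem ε) {n : ℕ}
    (h : a ^ n * (1 - ε) = 0) : IsNilpotent (a * (1 - ε)) :=
  ⟨n + 1, by
    rw [((Commute.one_right a).sub_right hc).mul_pow, hε.one_sub.pow_succ_eq, pow_succ', mul_assoc,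
      h, mul_zero]⟩

end Fit

variable {k A : Type*} [Field k] [Ring A] [Algebra k A] {S : Subalgebra k A} {e f g a b x y : A}

theorem fitting [Module.Finite k A] (ha : a ∈ S) :
    ∃ c ∈ S, Commute a c ∧ IsIdempotentElem (a * c) ∧ IsNilpotent (a * (1 - a * c)) := by
  have hi : IsIntegral k a := Algebra.IsIntegral.isIntegral a
  obtain ⟨h, h1, h2⟩ := exists_eq_pow_rootMultiplicity_mul_and_not_dvd _ (minpoly.ne_zero hi) 0
  rw [C_0, sub_zero] at h1 h2
  set m := rootMultiplicity 0 (minpoly k a)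
  obtain ⟨c, hc, h3, h4, h5⟩ := fitting_of_coprime ha (g := X ^ m) (h := h)
    (by rw [← pow_succ']; exact ((prime_X.coprime_iff_not_dvd).2 h2).pow_left)
    (by rw [mul_assoc, ← h1, map_mul, minpoly.aeval, mul_zero])
  refine ⟨c, hc, h3, h4, nilpotent_of_pow_mul ((Commute.refl a).mul_right h3) h4 (n := m + 1) ?_⟩
  rw [pow_succ']; simpa using h5

variable (S) in
/-- Primitive idempotents of the subalgebra `S`. -/
structure Prim (e : A) : Prop where
  mem : e ∈ S
  idem : IsIdempotentElem e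
  ne : e ≠ 0
  eq_or : ∀ f ∈ S, IsIdempotentElem f → e * f = f → f * e = f → f = 0 ∨ f = e

variable (S) in
/-- Equivalence of idempotents in `S`. -/
def Eqv (e f : A) : Prop := ∃ x ∈ S, ∃ y ∈ S, x * y = e ∧ y * x = f

theorem Eqv.refl (he : e ∈ S) (hi : IsIdempotentElem e) : Eqv S e e := ⟨e, he, e, he, hi, hi⟩

theorem Eqv.symm (h : Eqv S e f) : Eqv S f e :=
  let ⟨x, hx, y, hy, h1, h2⟩ := h; ⟨y, hy, x, hx, h2, h1⟩

theorem Eqv.trans (h : Eqv S e f) (h' : Eqv S f g) (he : IsIdempotentElem e)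
    (hg : IsIdempotentElem g) : Eqv S e g := by
  obtain ⟨x, hx, y, hy, h1, h2⟩ := h
  obtain ⟨x', hx', y', hy', h1', h2'⟩ := h'
  refine ⟨x * x', mul_mem hx hx', y' * y, mul_mem hy' hy, ?_, ?_⟩
  · rw [mul_assoc, ← mul_assoc x', h1', ← h2, mul_assoc y, ← mul_assoc, h1, he.eq]
  · rw [mul_assoc, ← mul_assoc y, h2, ← h1', mul_assoc x', ← mul_assoc, h2', hg.eq]

theorem Eqv.mono {T : Subalgebra k A} (h : Eqv S e f) (hT : S ≤ T) : Eqv T e f :=
  let ⟨x, hx, y, hy, h1, h2⟩ := h; ⟨x, hT hx, y, hT hy, h1, h2⟩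

theorem Eqv.mem_left (h : Eqv S e f) : e ∈ S :=
  let ⟨_, hx, _, hy, h1, _⟩ := h; h1 ▸ mul_mem hx hy

theorem Eqv.mem_right (h : Eqv S e f) : f ∈ S := h.symm.mem_left

/-- normalized witnesses -/
theorem Eqv.exists_norm (h : Eqv S e f) (he : IsIdempotentElem e) (hf : IsIdempotentElem f) :
    ∃ x ∈ S, ∃ y ∈ S, x * y = e ∧ y * x = f ∧ e * x = x ∧ x * f = x ∧ f * y = y ∧ y * e = y := by
  have h1' := h.mem_left
  have h2' := h.mem_right
  obtain ⟨x, hx, y, hy, h1, h2⟩ := h
  have h3 : e * x = x * f := by rw [← h1, ← h2, mul_assoc]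
  have h4 : f * y = y * e := by rw [← h1, ← h2, mul_assoc]
  refine ⟨e * x, mul_mem h1' hx, f * y, mul_mem h2' hy, ?_, ?_, ?_, ?_, ?_, ?_⟩
  · rw [h4, mul_assoc, ← mul_assoc x, h1, he.eq, he.eq]
  · rw [h3, mul_assoc, ← mul_assoc y, h2, hf.eq, hf.eq]
  · rw [← mul_assoc, he.eq]
  · rw [h3, mul_assoc, hf.eq]
  · rw [← mul_assoc, hf.eq]
  · rw [h4, mul_assoc, he.eq]

theorem Eqv.ne_zero (h : Eqv S e f) (he : IsIdempotentElem e) (h0 : e ≠ 0) : f ≠ 0 := by
  obtain ⟨x, -, y, -, h1, h2⟩ := h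
  rintro rfl
  apply h0
  rw [← he.eq, ← h1, mul_assoc, ← mul_assoc y, h2, zero_mul, mul_zero]

theorem Eqv.mul_eq_of_central (h : Eqv S e f) (hf : IsIdempotentElem f) {z : A}
    (hz : ∀ a ∈ S, Commute z a) (h1 : z * e = e) : z * f = f := by
  obtain ⟨x, -, y, hy, h2, h3⟩ := h
  have : f = y * e * x := by rw [← hf.eq, ← h3, ← h2]; simp only [mul_assoc]
  rw [this, ← mul_assoc, ← mul_assoc, (hz y hy).eq, mul_assoc y, h1]

theorem Prim.not_nilpotent (he : Prim S e) : ¬ IsNilpotent e := fun h =>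
  he.ne (idem_eq_zero_of_nilpotent he.idem h)

theorem Prim.map {B : Type*} [Ring B] [Algebra k B] {T : Subalgebra k B} (σ : A ≃ₐ[k] B)
    (hσ : ∀ a, σ a ∈ T ↔ a ∈ S) (he : Prim S e) : Prim T (σ e) where
  mem := (hσ e).2 he.mem
  idem := he.idem.map σ
  ne := by simpa using he.ne
  eq_or f hf hi h1 h2 := by
    obtain ⟨f, rfl⟩ := σ.surjective f
    rw [← map_mul, σ.injective.eq_iff] at h1 h2
    have := he.eq_or f ((hσ f).1 hf) (σ.injective (by rw [map_mul, hi.eq])) h1 h2
    simpa using this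

theorem Prim.mul_central (he : Prim S e) {z : A} (hz : z ∈ S) (hc : Commute z e)
    (hi : IsIdempotentElem z) : z * e = 0 ∨ z * e = e :=
  he.eq_or _ (mul_mem hz he.mem) (hi.mul_of_commute hc he.idem)
    (by rw [hc.eq, ← mul_assoc, he.idem.eq]) (by rw [mul_assoc, he.idem.eq])

theorem Prim.of_eqv (he : Prim S e) (h : Eqv S e f) (hf : IsIdempotentElem f) : Prim S f := by
  obtain ⟨x, hx, y, hy, h1, h2, h3, h4, h5, h6⟩ := h.exists_norm he.idem hf
  refine ⟨h.mem_right, hf, h.ne_zero he.idem he.ne, fun g hg hi g1 g2 => ?_⟩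
  have h7 : y * (x * g * y) * x = g := by
    rw [← mul_assoc, ← mul_assoc, h2, g1, mul_assoc, h2, g2]
  rcases he.eq_or (x * g * y) (mul_mem (mul_mem hx hg) hy)
    (by
      show x * g * y * (x * g * y) = _
      rw [← mul_assoc, ← mul_assoc, mul_assoc _ y x, h2, mul_assoc x g, g2, mul_assoc x, hi.eq])
    (by rw [← mul_assoc, ← mul_assoc, h3]) (by rw [mul_assoc, h6]) with h | h
  · left; rw [← h7, h, mul_zero, zero_mul]
  · right; rw [← h7, h, h6, h2]

theorem isNilpotent_swap {R : Type*} [Semiring R] {x y : R} (h : IsNilpotent (x * y)) :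
    IsNilpotent (y * x) := by
  obtain ⟨n, hn⟩ := h
  have : ∀ m, (y * x) ^ (m + 1) = y * (x * y) ^ m * x := fun m => by
    induction m with
    | zero => simp
    | succ m ih => rw [pow_succ, ih, pow_succ]; simp only [mul_assoc]
  exact ⟨n + 1, by rw [this, hn, mul_zero, zero_mul]⟩

variable (k) in
/-- The residue of `a` at the primitive idempotent `e`. -/
@[irreducible] noncomputable def rho (e a : A) : k :=
  open Classical in if h : ∃ c : k, IsNilpotent (e * a * e - c • e) then h.choose else 0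

theorem rho_eq (he : IsIdempotentElem e) (h0 : e ≠ 0) {c : k}
    (h : IsNilpotent (e * a * e - c • e)) : rho k e a = c := by
  have hex : ∃ c : k, IsNilpotent (e * a * e - c • e) := ⟨c, h⟩
  have h1 := hex.choose_spec
  rw [rho, dif_pos hex]
  set d := hex.choose
  have hc : Commute (e * a * e) e := by
    show _ = _
    rw [mul_assoc, he.eq, ← mul_assoc, ← mul_assoc, he.eq]
  have h2 := Commute.isNilpotent_sub (((Commute.refl _).sub_right (hc.smul_right _)).sub_left
    (((hc.symm.smul_left _).sub_right (((Commute.refl e).smul_left _).smul_right _)))) h h1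
  rw [sub_sub_sub_cancel_left, ← sub_smul] at h2
  by_contra hne
  have h3 := h2.smul (d - c)⁻¹
  rw [smul_smul, inv_mul_cancel₀ (sub_ne_zero.2 hne), one_smul] at h3
  exact h0 (idem_eq_zero_of_nilpotent he h3)

theorem rho_congr (h : e * a * e = e * b * e) : rho k e a = rho k e b := by
  rw [rho, rho, h]

theorem rho_map {B : Type*} [Ring B] [Algebra k B] (σ : A ≃ₐ[k] B) (he : IsIdempotentElem e)
    (h0 : e ≠ 0) (a : A) : rho k (σ e) (σ a) = rho k e a := by
  have key : ∀ c : k, IsNilpotent (σ e * σ a * σ e - c • σ e) ↔ IsNilpotent (e * a * e - c • e) :=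
    fun c => by
      rw [← map_mul, ← map_mul, ← map_smul, ← map_sub]
      exact ⟨fun h => by simpa using h.map σ.symm, fun h => h.map σ⟩
  by_cases h : ∃ c : k, IsNilpotent (e * a * e - c • e)
  · obtain ⟨c, hc⟩ := h
    rw [rho_eq he h0 hc, rho_eq (he.map σ) (by simpa using h0) ((key c).2 hc)]
  · rw [rho, rho, dif_neg h, dif_neg (by simpa only [key] using h)]

namespace Prim

theorem rho_self (he : Prim S e) : rho k e e = 1 :=
  rho_eq he.idem he.ne (by rw [he.idem.eq, he.idem.eq, one_smul, sub_self]; exact .zero)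

theorem rho_one (he : Prim S e) : rho k e 1 = 1 :=
  rho_eq he.idem he.ne (by rw [mul_one, he.idem.eq, one_smul, sub_self]; exact .zero)

theorem rho_of_nilpotent (he : Prim S e) (h : IsNilpotent (e * a * e)) : rho k e a = 0 :=
  rho_eq he.idem he.ne (by rwa [zero_smul, sub_zero])

theorem rho_zero (he : Prim S e) : rho k e 0 = 0 :=
  he.rho_of_nilpotent (by rw [mul_zero, zero_mul]; exact .zero)

theorem rho_of_mul_eq (he : Prim S e) (h : a * e = e) : rho k e a = 1 := by
  rw [← he.rho_self]; exact rho_congr (by rw [mul_assoc, h, he.idem.eq, he.idem.eq])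

theorem rho_of_mul_eq_zero (he : Prim S e) (h : a * e = 0) : rho k e a = 0 := by
  rw [← he.rho_zero]; exact rho_congr (by rw [mul_assoc, h, mul_zero, zero_mul])

theorem rho_mul_right (he : Prim S e) (h : b * e = e) : rho k e (a * b) = rho k e a :=
  rho_congr (by rw [mul_assoc, mul_assoc, h, mul_assoc])

theorem rho_mul_left (he : Prim S e) (h : e * b = e) : rho k e (b * a) = rho k e a :=
  rho_congr (by rw [← mul_assoc, h])

variable [Module.Finite k A]

theorem nil_or (he : Prim S e) (ha : a ∈ S) (h1 : e * a = a) (h2 : a * e = a) :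
    IsNilpotent a ∨ ∃ c ∈ S, a * c = e ∧ c * a = e ∧ e * c = c ∧ c * e = c := by
  obtain ⟨c, hc, h3, h4, h5⟩ := fitting ha
  rcases he.eq_or _ (mul_mem ha hc) h4 (by rw [← mul_assoc, h1])
    (by rw [h3.eq, mul_assoc, h2]) with h | h
  · left; rwa [h, sub_zero, mul_one] at h5
  · right
    refine ⟨e * c * e, mul_mem (mul_mem he.mem hc) he.mem, ?_, ?_, ?_, ?_⟩
    · rw [← mul_assoc, ← mul_assoc, h2, h, he.idem.eq]
    · rw [mul_assoc, h1, mul_assoc, ← h3.eq, h, he.idem.eq]
    · rw [← mul_assoc, ← mul_assoc, he.idem.eq]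
    · rw [mul_assoc, he.idem.eq]

theorem corner_left (he : Prim S e) (a : A) : e * (e * a * e) = e * a * e := by
  rw [← mul_assoc, ← mul_assoc, he.idem.eq]

theorem corner_right (he : Prim S e) (a : A) : e * a * e * e = e * a * e := by
  rw [mul_assoc, he.idem.eq]

theorem corner_mem (he : Prim S e) (ha : a ∈ S) : e * a * e ∈ S :=
  mul_mem (mul_mem he.mem ha) he.mem

/-- a nilpotent element of the corner generates a nil right ideal -/
theorem nil_mul (he : Prim S e) (ha : a ∈ S) (hb : b ∈ S) (h1 : e * a = a) (h2 : a * e = a)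
    (h3 : b * e = b) (hn : IsNilpotent a) : IsNilpotent (a * b) := by
  refine (he.nil_or (mul_mem ha hb) (by rw [← mul_assoc, h1]) (by rw [mul_assoc, h3])).resolve_right
    ?_
  rintro ⟨c, -, h4, -⟩
  obtain ⟨n, hn⟩ := hn
  apply he.ne
  have : ∀ m, a ^ m * e * (b * c) ^ m = e := fun m => by
    induction m with
    | zero => simp
    | succ m ih =>
      rw [pow_succ, pow_succ' (b * c), mul_assoc _ a, h2, ← mul_assoc, mul_assoc _ a, ← mul_assoc a,
        h4, ih]
  rw [← this n, hn, zero_mul, zero_mul]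

theorem nil_mul' (he : Prim S e) (ha : a ∈ S) (hb : b ∈ S) (h1 : e * a = a) (h2 : a * e = a)
    (h3 : e * b = b) (hn : IsNilpotent a) : IsNilpotent (b * a) := by
  have := he.nil_mul ha (mul_mem hb he.mem) h1 h2 (by rw [mul_assoc, he.idem.eq]) hn
  have h4 := isNilpotent_swap this
  rwa [mul_assoc, h1] at h4

theorem nil_add (he : Prim S e) (ha : a ∈ S) (hb : b ∈ S) (h1 : e * a = a) (h2 : a * e = a)
    (h3 : e * b = b) (h4 : b * e = b) (hn : IsNilpotent a) (hn' : IsNilpotent b) :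
    IsNilpotent (a + b) := by
  refine (he.nil_or (add_mem ha hb) (by rw [mul_add, h1, h3]) (by rw [add_mul, h2, h4])).resolve_right
    ?_
  rintro ⟨c, hc, h5, -, -, h6⟩
  have h7 := he.nil_mul ha hc h1 h2 h6 hn
  have h8 := he.nil_mul hb hc h3 h4 h6 hn'
  rw [add_mul] at h5
  apply he.not_nilpotent
  rw [← h5]
  refine Commute.isNilpotent_add ?_ h7 h8
  rw [← eq_sub_iff_add_eq'] at h5
  rw [h5]
  refine Commute.sub_right ?_ (Commute.refl _)
  show _ = _
  rw [mul_assoc, h6, ← mul_assoc, h1]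

variable [IsAlgClosed k]

theorem rho_spec (he : Prim S e) (ha : a ∈ S) : IsNilpotent (e * a * e - rho k e a • e) := by
  suffices h : ∃ c : k, IsNilpotent (e * a * e - c • e) by
    obtain ⟨c, hc⟩ := h
    rwa [rho_eq he.idem he.ne hc]
  let W : Submodule k A := LinearMap.range (LinearMap.mulLeft k e)
  have hW : ∀ v, v ∈ W ↔ e * v = v := fun v =>
    ⟨by rintro ⟨w, rfl⟩; simp only [LinearMap.mulLeft_apply]; rw [← mul_assoc, he.idem.eq],
      fun h => ⟨v, h⟩⟩
  haveI : Nontrivial W := ⟨⟨⟨e, (hW e).2 he.idem⟩, 0, fun h => he.ne (congrArg Subtype.val h)⟩⟩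
  let T : Module.End k W := (LinearMap.mulLeft k (e * a * e)).restrict fun v _ => (hW _).2 (by
    simp only [LinearMap.mulLeft_apply]; rw [← mul_assoc, he.corner_left])
  obtain ⟨c, hc⟩ := Module.End.exists_eigenvalue T
  obtain ⟨v, hv⟩ := hc.exists_hasEigenvector
  have h1 : e * a * e * v = c • v := congrArg Subtype.val hv.apply_eq_smul
  have h2 := (hW v).1 v.2
  refine ⟨c, (he.nil_or (sub_mem (he.corner_mem ha) (S.smul_mem he.mem c))
    (by rw [mul_sub, he.corner_left, mul_smul_comm, he.idem.eq])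
    (by rw [sub_mul, he.corner_right, smul_mul_assoc, he.idem.eq])).resolve_right ?_⟩
  rintro ⟨d, -, -, h3, -⟩
  apply hv.2
  apply Subtype.ext
  show (v : A) = 0
  rw [← h2, ← h3, mul_assoc, sub_mul, h1, smul_mul_assoc, h2, sub_self, mul_zero]

theorem rho_eq_zero_iff (he : Prim S e) (ha : a ∈ S) :
    rho k e a = 0 ↔ IsNilpotent (e * a * e) :=
  ⟨fun h => by simpa [h] using he.rho_spec ha, he.rho_of_nilpotent⟩

theorem exists_of_rho_ne_zero (he : Prim S e) (ha : a ∈ S) (h : rho k e a ≠ 0) :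
    ∃ c ∈ S, e * a * c = e ∧ c * a * e = e ∧ e * c = c ∧ c * e = c := by
  obtain ⟨c, hc, h1, h2, h3, h4⟩ := (he.nil_or (he.corner_mem ha) (he.corner_left a)
    (he.corner_right a)).resolve_left fun h' => h (he.rho_of_nilpotent h')
  exact ⟨c, hc, by rwa [mul_assoc, h3] at h1, by rwa [← mul_assoc, ← mul_assoc, h4] at h2, h3, h4⟩

theorem rho_add (he : Prim S e) (ha : a ∈ S) (hb : b ∈ S) :
    rho k e (a + b) = rho k e a + rho k e b := by
  refine rho_eq he.idem he.ne ?_
  have l : ∀ (x : A) (c : k), e * (e * x * e - c • e) = e * x * e - c • e := fun x c => by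
    rw [mul_sub, he.corner_left, mul_smul_comm, he.idem.eq]
  have r : ∀ (x : A) (c : k), (e * x * e - c • e) * e = e * x * e - c • e := fun x c => by
    rw [sub_mul, he.corner_right, smul_mul_assoc, he.idem.eq]
  have := he.nil_add (sub_mem (he.corner_mem ha) (S.smul_mem he.mem _))
    (sub_mem (he.corner_mem hb) (S.smul_mem he.mem _)) (l _ _) (r _ _) (l _ _) (r _ _)
    (he.rho_spec ha) (he.rho_spec hb)
  convert this using 1
  rw [mul_add, add_mul, add_smul]; abel

theorem rho_smul (he : Prim S e) (c : k) (ha : a ∈ S) : rho k e (c • a) = c * rho k e a := by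
  refine rho_eq he.idem he.ne ?_
  have := (he.rho_spec ha).smul c
  rwa [smul_sub, smul_smul, ← smul_mul_assoc, ← mul_smul_comm] at this

theorem rho_sub (he : Prim S e) (ha : a ∈ S) (hb : b ∈ S) :
    rho k e (a - b) = rho k e a - rho k e b := by
  rw [eq_sub_iff_add_eq, ← he.rho_add (sub_mem ha hb) hb, sub_add_cancel]

theorem rho_sum (he : Prim S e) {ι : Type*} (s : Finset ι) (f : ι → A) (hf : ∀ i ∈ s, f i ∈ S) :
    rho k e (∑ i ∈ s, f i) = ∑ i ∈ s, rho k e (f i) := by
  classical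
  induction s using Finset.induction_on with
  | empty => simpa using he.rho_zero
  | insert i s hi ih =>
    rw [Finset.sum_insert hi, Finset.sum_insert hi, he.rho_add (hf _ (Finset.mem_insert_self _ _))
      (sum_mem fun j hj => hf j (Finset.mem_insert_of_mem hj)),
      ih fun j hj => hf j (Finset.mem_insert_of_mem hj)]

theorem rho_mul (he : Prim S e) (ha : a ∈ S) (hb : b ∈ S) :
    rho k e (a * e * b) = rho k e a * rho k e b := by
  have h1 : a * e * b = (a - rho k e a • e) * e * b + rho k e a • (e * b) := by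
    rw [sub_mul, sub_mul, smul_mul_assoc, smul_mul_assoc, he.idem.eq, sub_add_cancel]
  have h2 := sub_mem ha (S.smul_mem he.mem (rho k e a))
  rw [h1, he.rho_add (mul_mem (mul_mem h2 he.mem) hb) (S.smul_mem (mul_mem he.mem hb) _),
    he.rho_smul _ (mul_mem he.mem hb), he.rho_mul_left he.idem, he.rho_of_nilpotent, zero_add]
  have := he.nil_mul (sub_mem (he.corner_mem ha) (S.smul_mem he.mem _)) (mul_mem hb he.mem)
    (by rw [mul_sub, he.corner_left, mul_smul_comm, he.idem.eq])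
    (by rw [sub_mul, he.corner_right, smul_mul_assoc, he.idem.eq])
    (by rw [mul_assoc, he.idem.eq]) (he.rho_spec ha)
  convert this using 1
  simp only [sub_mul, mul_sub, smul_mul_assoc, mul_smul_comm, ← mul_assoc, he.idem.eq]

/-- Rosenberg's lemma -/
theorem exists_rho_ne_zero (he : Prim S e) {ι : Type*} (s : Finset ι) (f : ι → A)
    (hf : ∀ i ∈ s, f i ∈ S) (h : (∑ i ∈ s, f i) * e = e) : ∃ i ∈ s, rho k e (f i) ≠ 0 := by
  by_contra hc
  push Not at hc
  have := he.rho_of_mul_eq h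
  rw [he.rho_sum s f hf, Finset.sum_eq_zero hc] at this
  exact zero_ne_one this

theorem eqv_of_rho (he : Prim S e) (hf : Prim S f) (ha : a ∈ S) (hb : b ∈ S)
    (h : rho k e (a * f * b) ≠ 0) : Eqv S e f ∧ rho k e (a * f * b) = rho k f (b * e * a) := by
  obtain ⟨d, hd, h1, h2, h3, h4⟩ := he.exists_of_rho_ne_zero (mul_mem (mul_mem ha hf.mem) hb) h
  obtain ⟨x, hx⟩ : ∃ x, x = e * a * f := ⟨_, rfl⟩
  obtain ⟨y, hy⟩ : ∃ y, y = f * b * e := ⟨_, rfl⟩
  have hxS : x ∈ S := hx ▸ mul_mem (mul_mem he.mem ha) hf.mem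
  have hyS : y ∈ S := hy ▸ mul_mem (mul_mem hf.mem hb) he.mem
  have hxy : x * y = e * (a * f * b) * e := by
    rw [hx, hy, ← mul_assoc, ← mul_assoc, mul_assoc _ f f, hf.idem.eq]; simp only [mul_assoc]
  have hyx : y * x = f * (b * e * a) * f := by
    rw [hx, hy, ← mul_assoc, ← mul_assoc, mul_assoc _ e e, he.idem.eq]; simp only [mul_assoc]
  have h5 : x * y * d = e := by rw [hxy, mul_assoc, h3, h1]
  have h6 : d * (x * y) = e := by rw [hxy, ← mul_assoc, ← mul_assoc, h4, h2]
  have hex : e * x = x := by rw [hx, ← mul_assoc, ← mul_assoc, he.idem.eq]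
  have hye : y * e = y := by rw [hy, mul_assoc, he.idem.eq]
  have h7 : y * d * x = f := by
    refine (hf.eq_or _ (mul_mem (mul_mem hyS hd) hxS) ?_ ?_ ?_).resolve_left fun h0 => he.ne ?_
    · show y * d * x * (y * d * x) = _
      calc _ = y * d * (x * y * d) * x := by simp only [mul_assoc]
        _ = _ := by rw [h5, mul_assoc y, h4]
    · rw [hy]; simp only [← mul_assoc, hf.idem.eq]
    · rw [hx]; simp only [mul_assoc, hf.idem.eq]
    · calc e = x * (y * d * x) * y * d := by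
            rw [← mul_assoc, ← mul_assoc, h5, hex, h5]
        _ = 0 := by rw [h0, mul_zero, zero_mul, zero_mul]
  refine ⟨⟨x, hxS, y * d, mul_mem hyS hd, by rw [← mul_assoc, h5], h7⟩, (rho_eq hf.idem hf.ne ?_).symm⟩
  have h8 := he.rho_spec (mul_mem (mul_mem ha hf.mem) hb)
  rw [← hxy] at h8
  set c := rho k e (a * f * b)
  have h9 : f * (b * e * a) * f - c • f = y * (d * (x * y - c • e) * x) := by
    rw [mul_sub, sub_mul, mul_sub, h6, hex, hyx, mul_smul_comm, h4, smul_mul_assoc, mul_smul_comm,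
      ← mul_assoc y, h7]
  rw [h9]
  apply isNilpotent_swap
  have : d * (x * y - c • e) * x * y = x * y - c • e := by
    rw [mul_sub, h6, mul_smul_comm, h4, mul_assoc, sub_mul, smul_mul_assoc, h6, ← mul_assoc, hex]
  rwa [this]

theorem key (he : Prim S e) (hf : Prim S f) (ha : a ∈ S) (hb : b ∈ S) {Φ Ψ : k}
    (hΦ : Eqv S e f → Φ = Ψ) : Φ * rho k e (a * f * b) = Ψ * rho k f (b * e * a) := by
  by_cases h : rho k e (a * f * b) = 0
  · by_cases h' : rho k f (b * e * a) = 0
    · rw [h, h', mul_zero, mul_zero]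
    · exact absurd ((hf.eqv_of_rho he hb ha h').2.trans h) h'
  · rw [hΦ (he.eqv_of_rho hf ha hb h).1, (he.eqv_of_rho hf ha hb h).2]

theorem rho_comm (he : Prim S e) (ha : a ∈ S) (hb : b ∈ S) :
    rho k e (a * e * b) = rho k e (b * e * a) := by
  rw [he.rho_mul ha hb, he.rho_mul hb ha, mul_comm]

theorem eqv_of_rho' (he : Prim S e) (hf : Prim S f) (h : rho k e f ≠ 0) : Eqv S e f :=
  (he.eqv_of_rho hf (one_mem S) (one_mem S) (by simpa using h)).1

end Prim

variable (S) in
/-- Decompositions into orthogonal primitive idempotents. -/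
structure Dec (e : A) (D : Finset A) : Prop where
  prim : ∀ j ∈ D, Prim S j
  orth : ∀ i ∈ D, ∀ j ∈ D, i ≠ j → i * j = 0
  sum : ∑ j ∈ D, j = e

namespace Dec
variable {D D' : Finset A} {j : A}

theorem mul_left (h : Dec S e D) (hj : j ∈ D) : e * j = j := by
  rw [← h.sum, Finset.sum_mul, Finset.sum_eq_single_of_mem j hj fun i hi hne => h.orth i hi j hj hne,
    (h.prim j hj).idem.eq]

theorem mul_right (h : Dec S e D) (hj : j ∈ D) : j * e = j := by
  rw [← h.sum, Finset.mul_sum,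
    Finset.sum_eq_single_of_mem j hj fun i hi hne => h.orth j hj i hi hne.symm,
    (h.prim j hj).idem.eq]

theorem mem (h : Dec S e D) : e ∈ S := h.sum ▸ sum_mem fun j hj => (h.prim j hj).mem

theorem idem (h : Dec S e D) : IsIdempotentElem e := by
  show e * e = e
  conv_lhs => rw [← h.sum, Finset.mul_sum, h.sum]
  rw [Finset.sum_congr rfl fun j hj => h.mul_left hj, h.sum]

theorem empty : Dec S 0 ∅ := ⟨by simp, by simp, by simp⟩

theorem single (he : Prim S e) : Dec S e {e} := ⟨by simpa using he, by simp, by simp⟩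

theorem disjoint (h : Dec S e D) (h' : Dec S f D') (h1 : e * f = 0) : Disjoint D D' :=
  Finset.disjoint_left.2 fun j hj hj' => (h.prim j hj).ne (by
    calc j = j * e * (f * j) := by rw [h.mul_right hj, h'.mul_left hj', (h.prim j hj).idem.eq]
      _ = 0 := by rw [mul_assoc, ← mul_assoc e, h1, zero_mul, mul_zero])

theorem union [DecidableEq A] (h : Dec S e D) (h' : Dec S f D') (h1 : e * f = 0) (h2 : f * e = 0) :
    Dec S (e + f) (D ∪ D') where
  prim j hj := (Finset.mem_union.1 hj).elim (h.prim j) (h'.prim j)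
  orth i hi j hj hne := by
    rcases Finset.mem_union.1 hi with hi | hi <;> rcases Finset.mem_union.1 hj with hj | hj
    · exact h.orth i hi j hj hne
    · rw [← h.mul_right hi, ← h'.mul_left hj, mul_assoc, ← mul_assoc e, h1, zero_mul, mul_zero]
    · rw [← h'.mul_right hi, ← h.mul_left hj, mul_assoc, ← mul_assoc f, h2, zero_mul, mul_zero]
    · exact h'.orth i hi j hj hne
  sum := by rw [Finset.sum_union (h.disjoint h' h1), h.sum, h'.sum]

theorem map {B : Type*} [Ring B] [Algebra k B] {T : Subalgebra k B} (σ : A ≃ₐ[k] B)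
    (hσ : ∀ a, σ a ∈ T ↔ a ∈ S) (h : Dec S e D) :
    Dec T (σ e) (D.map σ.toEquiv.toEmbedding) where
  prim j hj := by
    obtain ⟨i, hi, rfl⟩ := Finset.mem_map.1 hj
    exact (h.prim i hi).map σ hσ
  orth i hi j hj hne := by
    obtain ⟨i, hi', rfl⟩ := Finset.mem_map.1 hi
    obtain ⟨j, hj', rfl⟩ := Finset.mem_map.1 hj
    show σ i * σ j = 0
    rw [← map_mul, h.orth i hi' j hj' fun h => hne (by rw [h]), map_zero]
  sum := by rw [Finset.sum_map, ← h.sum, map_sum]; rfl

theorem idem_sum (h : Dec S e D) {s : Finset A} (hs : s ⊆ D) : Dec S (∑ j ∈ s, j) s :=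
  ⟨fun j hj => h.prim j (hs hj), fun i hi j hj => h.orth i (hs hi) j (hs hj), rfl⟩

end Dec

variable [Module.Finite k A]

theorem exists_dec (he : e ∈ S) (hi : IsIdempotentElem e) : ∃ D, Dec S e D := by
  classical
  induction hn : Module.finrank k (LinearMap.range (LinearMap.mulLeft k e)) using
    Nat.strong_induction_on generalizing e with
  | _ n ih =>
  by_cases h0 : e = 0
  · exact ⟨∅, h0 ▸ Dec.empty⟩
  by_cases hp : Prim S e
  · exact ⟨_, Dec.single hp⟩
  have : ∃ f ∈ S, IsIdempotentElem f ∧ e * f = f ∧ f * e = f ∧ f ≠ 0 ∧ f ≠ e := by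
    by_contra hc
    refine hp ⟨he, hi, h0, fun f hf h1 h2 h3 => ?_⟩
    by_contra h4
    push Not at h4
    exact hc ⟨f, hf, h1, h2, h3, h4⟩
  obtain ⟨f, hf, h1, h2, h3, h4, h5⟩ := this
  have lt : ∀ g : A, e * g = g → g * e = g → IsIdempotentElem g → g ≠ e →
      Module.finrank k (LinearMap.range (LinearMap.mulLeft k g)) < n := fun g g1 g2 g3 g4 => by
    rw [← hn]
    refine Submodule.finrank_lt_finrank_of_lt (lt_of_le_of_ne ?_ fun h => g4 ?_)
    · rintro _ ⟨v, rfl⟩
      exact ⟨g * v, by simp only [LinearMap.mulLeft_apply]; rw [← mul_assoc, g1]⟩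
    · have : e ∈ LinearMap.range (LinearMap.mulLeft k g) := h ▸ ⟨e, hi⟩
      obtain ⟨v, hv⟩ := this
      simp only [LinearMap.mulLeft_apply] at hv
      rw [← g2, ← hv, ← mul_assoc, g3.eq]
  have h6 : f * (e - f) = 0 := by rw [mul_sub, h3, h1.eq, sub_self]
  have h7 : (e - f) * f = 0 := by rw [sub_mul, h2, h1.eq, sub_self]
  have h8 : IsIdempotentElem (e - f) := by
    show _ = _
    rw [mul_sub, h7, sub_zero, sub_mul, hi.eq, h3]
  obtain ⟨D, hD⟩ := ih _ (lt f h2 h3 h1 h5) hf h1 rfl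
  obtain ⟨D', hD'⟩ := ih _ (lt (e - f) (by rw [mul_sub, hi.eq, h2]) (by rw [sub_mul, hi.eq, h3]) h8
    (by simpa using h4)) (sub_mem he hf) h8 rfl
  exact ⟨_, by simpa using hD.union hD' h6 h7⟩

theorem exists_prim_le (he : e ∈ S) (hi : IsIdempotentElem e) (h0 : e ≠ 0) :
    ∃ j, Prim S j ∧ e * j = j ∧ j * e = j := by
  obtain ⟨D, hD⟩ := exists_dec he hi
  obtain ⟨j, hj⟩ : D.Nonempty := Finset.nonempty_iff_ne_empty.2 fun h => h0 (by
    rw [← hD.sum, h, Finset.sum_empty])
  exact ⟨j, hD.prim j hj, hD.mul_left hj, hD.mul_right hj⟩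

variable [IsAlgClosed k] {D D' : Finset A}

theorem Dec.exists_eqv (h : Dec S e D) (hf : Prim S f) (h1 : e * f = f) :
    ∃ j ∈ D, Eqv S f j := by
  obtain ⟨j, hj, h2⟩ := hf.exists_rho_ne_zero D id (fun j hj => (h.prim j hj).mem)
    (by simpa [h.sum] using h1)
  exact ⟨j, hj, hf.eqv_of_rho' (h.prim j hj) h2⟩

theorem Dec.trace_comm (h : Dec S e D) (h' : Dec S f D') {Φ Ψ : A → k}
    (hΦ : ∀ i ∈ D, ∀ j ∈ D', Eqv S i j → Φ i = Ψ j) (hx : x ∈ S) (hy : y ∈ S) :
    ∑ i ∈ D, Φ i * rho k i (x * f * y) = ∑ j ∈ D', Ψ j * rho k j (y * e * x) := by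
  have h1 : ∀ i ∈ D, Φ i * rho k i (x * f * y) = ∑ j ∈ D', Φ i * rho k i (x * j * y) :=
    fun i hi => by
      rw [← Finset.mul_sum, ← (h.prim i hi).rho_sum _ _ fun j hj =>
        mul_mem (mul_mem hx (h'.prim j hj).mem) hy, ← Finset.sum_mul, ← Finset.mul_sum, h'.sum]
  have h2 : ∀ j ∈ D', Ψ j * rho k j (y * e * x) = ∑ i ∈ D, Ψ j * rho k j (y * i * x) :=
    fun j hj => by
      rw [← Finset.mul_sum, ← (h'.prim j hj).rho_sum _ _ fun i hi =>
        mul_mem (mul_mem hy (h.prim i hi).mem) hx, ← Finset.sum_mul, ← Finset.mul_sum, h.sum]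
  rw [Finset.sum_congr rfl h1, Finset.sum_congr rfl h2, Finset.sum_comm]
  exact Finset.sum_congr rfl fun j hj => Finset.sum_congr rfl fun i hi =>
    (h.prim i hi).key (h'.prim j hj) hx hy (hΦ i hi j hj)

theorem Dec.trace_indep (h : Dec S e D) (h' : Dec S e D') {Φ Ψ : A → k}
    (hΦ : ∀ i ∈ D, ∀ j ∈ D', Eqv S i j → Φ i = Ψ j) (ha : a ∈ S) :
    ∑ i ∈ D, Φ i * rho k i a = ∑ j ∈ D', Ψ j * rho k j a := by
  have := h.trace_comm h' hΦ ha (one_mem S)
  rw [Finset.sum_congr rfl fun i hi => by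
    rw [mul_one, (h.prim i hi).rho_mul_right (h.mul_left hi)]] at this
  rw [this]
  exact Finset.sum_congr rfl fun j hj => by
    rw [one_mul, (h'.prim j hj).rho_mul_left (h'.mul_right hj)]

theorem Dec.trace_sum (h : Dec S e D) (Φ : A → k) {ι : Type*} (s : Finset ι) (a : ι → A)
    (ha : ∀ i ∈ s, a i ∈ S) :
    ∑ j ∈ D, Φ j * rho k j (∑ i ∈ s, a i) = ∑ i ∈ s, ∑ j ∈ D, Φ j * rho k j (a i) := by
  rw [Finset.sum_comm]
  exact Finset.sum_congr rfl fun j hj => by rw [(h.prim j hj).rho_sum s a ha, Finset.mul_sum]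

theorem Dec.trace_self (h : Dec S e D) (Φ : A → k) :
    ∑ j ∈ D, Φ j * rho k j e = ∑ j ∈ D, Φ j :=
  Finset.sum_congr rfl fun j hj => by rw [(h.prim j hj).rho_of_mul_eq (h.mul_left hj), mul_one]

end Cfsg.Agent.Blk
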