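import Cfsg.Agent.Lib.Block.Syl1
import Cfsg.Agent.S0199

/-! Families of subgroups of prime order forming a polar space. -/

set_option autoImplicit false

namespace Cfsg.Agent.Blk

open Subgroup
open scoped commutatorElement

variable {G : Type*} [Group G] [Finite G] {p : ℕ} {K : Set (Subgroup G)} {a b c d e g u z : G}

structure Pol (p : ℕ) (K : Set (Subgroup G)) : Prop where
  prime : p.Prime
  card : ∀ X ∈ K, Nat.card ↥X = p
  cnj : ∀ X ∈ K, ∀ g : G, cs g X ∈ K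
  ex : ∃ X ∈ K, ∃ Y ∈ K, X ≠ Y ∧ ∀ x ∈ X, ∀ y ∈ Y, x * y = y * x
  ha : ∀ X ∈ K, ∀ Y ∈ K, X ≠ Y → (∀ x ∈ X, ∀ y ∈ Y, x * y = y * x) →
    ∀ Z : Subgroup G, Z ≤ X ⊔ Y → Nat.card ↥Z = p → Z ∈ K
  hb : ∀ X ∈ K, ∀ Y ∈ K, X ≠ Y → (∀ x ∈ X, ∀ y ∈ Y, x * y = y * x) → ∀ W ∈ K, (X ⊔ Y) ⊓ Ce W ≠ ⊥

structure Ln (K : Set (Subgroup G)) (a b : G) : Prop where
  l : zpowers a ∈ K
  r : zpowers b ∈ K
  cm : Commute a b
  nm : b ∉ zpowers a

omit [Finite G] in
theorem cm_zp (h : Commute g a) (hc : c ∈ zpowers a) : Commute g c := by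
  obtain ⟨k, rfl⟩ := hc
  exact h.zpow_right k

omit [Finite G] in
theorem cm_sup (h1 : Commute g a) (h2 : Commute g b) (hc : c ∈ zpowers a ⊔ zpowers b) : Commute g c :=
  (mem_Ce1.1 ((sup_le (zpowers_le.2 (mem_Ce1.2 h1.symm)) (zpowers_le.2 (mem_Ce1.2 h2.symm)) :
    _ ≤ Ce1 g) hc)).symm

omit [Finite G] in
theorem Ln.comm (l : Ln K a b) (hc : c ∈ zpowers a ⊔ zpowers b) (hd : d ∈ zpowers a ⊔ zpowers b) :
    Commute c d :=
  cm_sup (cm_sup (Commute.refl a) l.cm hc).symm (cm_sup l.cm.symm (Commute.refl b) hc).symm hd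

omit [Finite G] in
theorem Ln.args (l : Ln K a b) :
    zpowers a ≠ zpowers b ∧ ∀ x ∈ zpowers a, ∀ y ∈ zpowers b, x * y = y * x :=
  ⟨fun e => l.nm (e ▸ mem_zpowers b), fun _ hx _ hy => l.comm (mem_sup_left hx) (mem_sup_right hy)⟩

namespace Pol

variable (h : Pol p K)
include h

omit [Finite G] in
theorem ord (ha : zpowers a ∈ K) : orderOf a = p := (Nat.card_zpowers a).symm.trans (h.card _ ha)

omit [Finite G] in
theorem ne (ha : zpowers a ∈ K) : a ≠ 1 := fun e => h.prime.one_lt.ne (by rw [← h.ord ha, e, orderOf_one])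

theorem zp (ha : zpowers a ∈ K) (hc : c ∈ zpowers a) (h1 : c ≠ 1) : zpowers c = zpowers a :=
  haveI := Fact.mk h.prime
  zpowers_eq_of_card (h.card _ ha) hc h1

theorem gen {X : Subgroup G} (hX : X ∈ K) : ∃ a, zpowers a = X := by
  haveI := Fact.mk h.prime
  obtain ⟨x, h1, -, h2⟩ := Perm.SylNum.exists_gen (h.card X hX)
  exact ⟨x, zpowers_eq_of_card (h.card X hX) h1 h2⟩

omit [Finite G] in
theorem pt (l : Ln K a b) (hc : c ∈ zpowers a ⊔ zpowers b) (h1 : c ≠ 1) : zpowers c ∈ K := by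
  haveI := Fact.mk h.prime
  refine h.ha _ l.l _ l.r l.args.1 l.args.2 _ (zpowers_le.2 hc) ?_
  rw [Nat.card_zpowers]
  refine orderOf_eq_prime ?_ h1
  obtain ⟨x, hx, y, hy, rfl⟩ := (Solv.mem_sup_of_le_normalizer (H := zpowers a) (N := zpowers b)
    (le_trans (fun x hx => mem_Ce.2 fun y hy => (l.args.2 x hx y hy).symm) (Ce_le_No _))).1 hc
  rw [Commute.mul_pow (l.args.2 x hx y hy), orderOf_dvd_iff_pow_eq_one.1 (h.ord l.l ▸ orderOf_dvd_of_mem_zpowers hx),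
    orderOf_dvd_iff_pow_eq_one.1 (h.ord l.r ▸ orderOf_dvd_of_mem_zpowers hy), one_mul]

omit [Finite G] in
theorem meet (l : Ln K a b) (hg : zpowers g ∈ K) : ∃ c ∈ zpowers a ⊔ zpowers b, c ≠ 1 ∧ Commute g c := by
  obtain ⟨⟨c, hc⟩, h1⟩ := ne_bot_iff_exists_ne_one.1 (h.hb _ l.l _ l.r l.args.1 l.args.2 _ hg)
  exact ⟨c, hc.1, fun e => h1 (Subtype.ext e), mem_Ce.1 hc.2 g (mem_zpowers g)⟩

theorem card_ln (l : Ln K a b) : Nat.card (zpowers a ⊔ zpowers b : Subgroup G) = p * p := by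
  have h1 := Solv.card_sup_mul_card_inf (H := zpowers a) (N := zpowers b)
    (le_trans (fun x hx => mem_Ce.2 fun y hy => (l.args.2 x hx y hy).symm) (Ce_le_No _))
  have h2 : zpowers a ⊓ zpowers b = ⊥ := eq_bot_iff.2 fun c hc => by_contra fun n =>
    l.args.1 ((h.zp l.l hc.1 n).symm.trans (h.zp l.r hc.2 n))
  rwa [h2, card_bot, mul_one, h.card _ l.l, h.card _ l.r] at h1

theorem two (l : Ln K a b) (hc : c ∈ zpowers a ⊔ zpowers b) (hd : d ∈ zpowers a ⊔ zpowers b)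
    (he : e ∈ zpowers a ⊔ zpowers b) (c1 : c ≠ 1) (d1 : d ≠ 1) (h1 : Commute g c) (h2 : Commute g d)
    (h3 : ¬ Commute g e) : zpowers d = zpowers c := by
  refine h.zp (h.pt l hc c1) (by_contra fun n => h3 (cm_sup h1 h2 ?_)) d1
  have l' : Ln K c d := ⟨h.pt l hc c1, h.pt l hd d1, l.comm hc hd, n⟩
  exact (eq_of_le_of_card_ge (sup_le (zpowers_le.2 hc) (zpowers_le.2 hd))
    (by rw [h.card_ln l, h.card_ln l'])).ge he

theorem exists_ln (hz : zpowers z ∈ K) : ∃ x, Ln K z x := by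
  obtain ⟨X, hX, Y, hY, h1, h2⟩ := h.ex
  obtain ⟨a, rfl⟩ := h.gen hX
  obtain ⟨b, rfl⟩ := h.gen hY
  have l : Ln K a b := ⟨hX, hY, h2 a (mem_zpowers a) b (mem_zpowers b),
    fun k => h1 (h.zp hX k (h.ne hY)).symm⟩
  obtain ⟨c, hc, c1, h3⟩ := h.meet l hz
  by_cases k : c ∉ zpowers z
  · exact ⟨c, hz, h.pt l hc c1, h3, k⟩
  have h4 : z ∈ zpowers a ⊔ zpowers b :=
    zpowers_le.2 hc ((h.zp hz (not_not.1 k) c1).ge (mem_zpowers z))
  by_cases k : a ∈ zpowers z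
  · exact ⟨b, hz, hY, l.comm h4 (mem_sup_right (mem_zpowers b)),
      fun e => l.nm ((h.zp hz k (h.ne hX)).ge e)⟩
  · exact ⟨a, hz, hX, l.comm h4 (mem_sup_left (mem_zpowers a)), k⟩

omit [Finite G] in
theorem pt_cj (hu : zpowers u ∈ K) (g : G) : zpowers (g * u * g⁻¹) ∈ K := by
  have := h.cnj _ hu g
  rwa [cs, MonoidHom.map_zpowers] at this

variable (hr : ∀ x, zpowers x ∈ K → ∃ w, zpowers w ∈ K ∧ ¬ Commute x w)
include hr

theorem stepA (hu : zpowers u ∈ K) (hz : zpowers z ∈ K) (n : ¬ Commute u z) :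
    Commute (z * u * z⁻¹) u := by
  have ml : ∀ a b : G, a ∈ zpowers a ⊔ zpowers b := fun a b => mem_sup_left (mem_zpowers a)
  have mr : ∀ a b : G, b ∈ zpowers a ⊔ zpowers b := fun a b => mem_sup_right (mem_zpowers b)
  obtain ⟨x', l0⟩ := h.exists_ln hz
  obtain ⟨x, a1, x1, a2⟩ := h.meet l0 hu
  have l1 : Ln K z x := ⟨hz, h.pt l0 a1 x1, l0.comm (ml _ _) a1, fun k =>
    n (cm_zp a2 ((h.zp hz k x1).ge (mem_zpowers z)))⟩
  obtain ⟨w, hw, b1⟩ := hr x l1.r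
  obtain ⟨t, b2, t1, b3⟩ := h.meet l1 hw
  have b4 : ¬ Commute u t := fun k => b1
    (cm_zp b3 ((h.two l1 (mr _ _) b2 (ml _ _) x1 t1 a2 k n).ge (mem_zpowers x))).symm
  have b5 : Commute x t := l1.comm (mr _ _) b2
  have l2 : Ln K t w := ⟨h.pt l1 b2 t1, hw, b3.symm, fun k => b1 (cm_zp b5 k)⟩
  obtain ⟨s, c1, s1, c2⟩ := h.meet l2 hu
  have c3 : ¬ Commute x s := fun k => b4
    (cm_zp c2 ((h.two l2 (ml _ _) c1 (mr _ _) t1 s1 b5 k b1).ge (mem_zpowers t)))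
  have l3 : Ln K u s := ⟨hu, h.pt l2 c1 s1, c2, fun k => c3 (cm_zp a2.symm k)⟩
  have hy : zpowers (z * x) ∈ K := h.pt l1 (mul_mem (ml _ _) (mr _ _)) fun k =>
    l1.nm (by rw [eq_inv_of_mul_eq_one_right k]; exact inv_mem (mem_zpowers z))
  obtain ⟨v, d1, v1, d2⟩ := h.meet l3 hz
  obtain ⟨r, d3, r1, d4⟩ := h.meet l3 hy
  by_contra k
  have e1 : Commute (z * u * z⁻¹) v := (d2.mul_left (l3.comm (ml _ _) d1)).mul_left d2.inv_left
  have e2 : Commute (z * u * z⁻¹) r := by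
    have : z * u * z⁻¹ = z * x * u * (z * x)⁻¹ := by
      rw [mul_assoc z x u, ← a2.eq]; group
    rw [this]
    exact (d4.mul_left (l3.comm (ml _ _) d3)).mul_left d4.inv_left
  have e3 := cm_zp d4 ((h.two l3 d1 d3 (ml _ _) v1 r1 e1 e2 k).ge (mem_zpowers v))
  have e4 : Commute x v := by simpa using d2.inv_left.mul_left e3
  exact n (cm_zp d2 ((h.two l3 (ml _ _) d1 (mr _ _) (h.ne hu) v1 a2.symm e4 c3).ge (mem_zpowers u))).symm

theorem stepB (hu : zpowers u ∈ K) (hz : zpowers z ∈ K) (n : ¬ Commute u z) :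
    zpowers ⁅z, u⁆ ∈ K ∧ Commute ⁅z, u⁆ u ∧ Commute ⁅z, u⁆ z := by
  have a1 := h.stepA hr hu hz n
  have a2 := h.stepA hr hz hu fun k => n k.symm
  have l : Ln K u (z * u * z⁻¹) := ⟨hu, h.pt_cj hu z, a1.symm, fun k => n (mem_Ce.1
    (Perm.SylNum.mem_centralizer_of_coprime h.prime (h.card _ hu) (mem_No.2 (by
      rw [cs, MonoidHom.map_zpowers]; exact h.zp hu k (h.ne (h.pt_cj hu z)))) (by
        rw [h.ord hz]; exact (Nat.coprime_self_sub_right h.prime.one_le).2 (by simp))) u (mem_zpowers u))⟩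
  refine ⟨h.pt l (mul_mem (mem_sup_right (mem_zpowers _)) (inv_mem (mem_sup_left (mem_zpowers _))))
    fun k => n (commutatorElement_eq_one_iff_commute.1 k).symm,
    a1.mul_left (Commute.refl u).inv_left, ?_⟩
  rw [← commutatorElement_inv]
  exact (a2.mul_left (Commute.refl z).inv_left).inv_left

omit hr in
theorem le_core (hz : zpowers z ∈ K) (H : ∀ u, zpowers u ∈ K → ∃ t, (t = 1 ∨ zpowers t ∈ K) ∧
    t = ⁅z, u⁆ ∧ Commute t u ∧ Commute t z) : zpowers z ≤ pCore p G := by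
  haveI := Fact.mk h.prime
  have pg : ∀ a : G, a = 1 ∨ zpowers a ∈ K → IsPGroup p (zpowers a) := fun a k => k.elim
    (fun e => by rw [e, zpowers_one_eq_bot]; exact IsPGroup.of_bot)
    fun e => IsPGroup.of_card ((h.card _ e).trans (pow_one p).symm)
  obtain ⟨N, h1, h2, h3⟩ := S0199.result (zpowers z) (pg z (.inr hz)) fun g => by
    have hu := h.pt_cj hz g
    rw [MonoidHom.map_zpowers]
    change IsPGroup p (zpowers z ⊔ zpowers (g * z * g⁻¹) : Subgroup G)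
    generalize g * z * g⁻¹ = u at hu
    obtain ⟨t, t1, t2, t3, t4⟩ := H u hu
    refine isPGroup_le (isPGroup_sup (pg z (.inr hz)) (isPGroup_sup (pg t t1) (pg u (.inr hu))
      (zpowers_le.2 (Ce_le_No _ (by rw [Ce_zpowers]; exact mem_Ce1.2 t3)))) (zpowers_le.2
        (mem_No.2 (eq_of_le_of_card_ge ?_ (card_cs _ _).ge)))) (sup_le_sup_left le_sup_right _)
    rw [cs_sup, cs, cs, MonoidHom.map_zpowers, MonoidHom.map_zpowers]
    refine sup_le (zpowers_le.2 (mem_sup_left ?_)) (zpowers_le.2 ?_)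
    · change z * t * z⁻¹ ∈ _
      rw [← t4.eq, mul_inv_cancel_right]; exact mem_zpowers t
    · change z * u * z⁻¹ ∈ _
      rw [show z * u * z⁻¹ = t * u by rw [t2, commutatorElement_def]; group]
      exact mul_mem (mem_sup_left (mem_zpowers t)) (mem_sup_right (mem_zpowers u))
  exact h3.trans (Solv.le_pCore h2)

theorem false : False := by
  haveI := Fact.mk h.prime
  have h1 : ∀ z, zpowers z ∈ K → z ∈ pCore p G := fun z hz => h.le_core hz (fun u hu => by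
    by_cases k : Commute u z
    · exact ⟨1, .inl rfl, (commutatorElement_eq_one_iff_commute.2 k.symm).symm, by simp, by simp⟩
    · exact ⟨_, .inr (h.stepB hr hu hz k).1, rfl, (h.stepB hr hu hz k).2⟩) (mem_zpowers z)
  obtain ⟨n, hn⟩ := (Solv.isPGroup_pCore p G).isNilpotent.nilpotent'
  have h2 : ∀ i, ∀ z : pCore p G, zpowers (z : G) ∈ K → z ∉ Subgroup.upperCentralSeries (pCore p G) i := by
    intro i
    induction i with
    | zero => exact fun z hz k => h.ne hz (congrArg Subtype.val (mem_bot.1 k))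
    | succ i ih =>
      intro z hz k
      obtain ⟨w, hw, a1⟩ := hr z hz
      exact ih ⁅z, ⟨w, h1 w hw⟩⁆ (h.stepB hr hw hz fun e => a1 e.symm).1 (k ⟨w, h1 w hw⟩)
  obtain ⟨X, hX, -⟩ := h.ex
  obtain ⟨a, rfl⟩ := h.gen hX
  exact h2 n ⟨a, h1 a hX⟩ hX (hn ▸ mem_top _)

omit hr in
theorem main : (∃ V ∈ K, (∀ W ∈ K, ∀ v ∈ V, ∀ w ∈ W, v * w = w * v) ∧ V ≤ pCore p G) ∧
    ¬ IsSimpleGroup G := by
  haveI := Fact.mk h.prime
  obtain ⟨x, hx, h1⟩ : ∃ x, zpowers x ∈ K ∧ ∀ w, zpowers w ∈ K → Commute x w := by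
    by_contra k
    push Not at k
    exact h.false k
  have h2 := h.le_core hx fun u hu =>
    ⟨1, .inl rfl, (commutatorElement_eq_one_iff_commute.2 (h1 u hu)).symm, by simp, by simp⟩
  refine ⟨⟨_, hx, fun W hW v hv w hw => ?_, h2⟩, fun hs => ?_⟩
  · obtain ⟨a, rfl⟩ := h.gen hW
    exact cm_zp (cm_zp (h1 a hW).symm hv).symm hw
  · have h3 := (IsSimpleGroup.eq_bot_or_eq_top_of_normal (pCore p G) inferInstance).resolve_left
      fun e => h.ne hx (mem_bot.1 (e ▸ h2 (mem_zpowers x)))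
    haveI := (Solv.pCore_eq_top_iff.1 h3).isNilpotent
    have h4 := IsSimpleGroup.comm_iff_isSolvable.2 (inferInstance : Group.IsSolvable G)
    have h5 : ∀ X ∈ K, X = ⊤ := fun X hX => (IsSimpleGroup.eq_bot_or_eq_top_of_normal X
      ⟨fun n hn g => by rwa [h4 g n, mul_inv_cancel_right]⟩).resolve_left fun e =>
        h.prime.one_lt.ne (by rw [← h.card X hX, e, card_bot])
    obtain ⟨X, hX, Y, hY, h6, -⟩ := h.ex
    exact h6 ((h5 X hX).trans (h5 Y hY).symm)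

end Pol

end Cfsg.Agent.Blk
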