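import Cfsg.Agent.Lib.Block.Syl2

/-! Central extensions of generalized quaternion groups. -/

set_option autoImplicit false

namespace Cfsg.Agent.Blk

open Subgroup
open scoped commutatorElement

variable {S : Type*} [Group S] [Finite S]

theorem quat_gens (hQ : IsPGroup 2 S) (hn : ¬ IsMulCommutative S) (hu : ∃! x : S, orderOf x = 2) :
    ∃ (a b : S) (m : ℕ), 1 ≤ m ∧ orderOf a = 2 ^ (m + 1) ∧ b ∉ zpowers a ∧
      ⊤ = zpowers a ⊔ zpowers b ∧ Nat.card S = 2 ^ (m + 2) ∧ b ^ 2 = a ^ 2 ^ m ∧ b * a * b⁻¹ = a⁻¹ := by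
  rcases Solv.isCyclic_or_quaternion (S := ⊤) (hQ.to_subgroup ⊤) (fun E _ h1 _ h2 => by
    obtain ⟨t, ht, h3⟩ := hu
    have := card_le_of_le (show E ≤ zpowers t from fun x hx => by
      by_cases e : x = 1
      · exact e ▸ one_mem _
      · exact h3 x (orderOf_eq_prime (h2 x hx) e) ▸ mem_zpowers x)
    rw [h1, Nat.card_zpowers, ht] at this
    omega) with h | ⟨-, a, b, m, h⟩
  · exact absurd (isCyclic_of_surjective _ topEquiv.surjective).isMulCommutative hn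
  · exact ⟨a, b, m, by simpa only [card_top] using h⟩

theorem quat_lift {D : Subgroup S} [D.Normal] (hQ : IsPGroup 2 S) (hn : ¬ IsMulCommutative (S ⧸ D))
    (hu : ∃! x : S ⧸ D, orderOf x = 2) :
    ∃ (a b : S) (m : ℕ), 1 ≤ m ∧ orderOf (a : S ⧸ D) = 2 ^ (m + 1) ∧ (b : S ⧸ D) ∉ zpowers (a : S ⧸ D) ∧
      zpowers a ⊔ zpowers b ⊔ D = ⊤ ∧ Nat.card (S ⧸ D) = 2 ^ (m + 2) ∧
      (b : S ⧸ D) ^ 2 = (a : S ⧸ D) ^ 2 ^ m ∧ (b : S ⧸ D) * a * (b : S ⧸ D)⁻¹ = (a : S ⧸ D)⁻¹ := by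
  obtain ⟨a, b, m, h1, h2, h3, h4, h5⟩ := quat_gens (hQ.to_quotient D) hn hu
  obtain ⟨a, rfl⟩ := QuotientGroup.mk_surjective a
  obtain ⟨b, rfl⟩ := QuotientGroup.mk_surjective b
  refine ⟨a, b, m, h1, h2, h3, ?_, h5⟩
  have := comap_map_eq (QuotientGroup.mk' D) (zpowers a ⊔ zpowers b)
  rw [QuotientGroup.ker_mk', Subgroup.map_sup, MonoidHom.map_zpowers, MonoidHom.map_zpowers] at this
  rw [← this, ← comap_top (QuotientGroup.mk' D), h4]; rfl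

theorem cyc_comm {D : Subgroup S} [D.Normal] (hD : D ≤ center S) {a b : S}
    (h1 : zpowers a ⊔ zpowers b ⊔ D = ⊤) (h2 : (b : S ⧸ D) * a * (b : S ⧸ D)⁻¹ = (a : S ⧸ D)⁻¹) :
    IsCyclic (commutator S) := by
  obtain ⟨d, hd, e⟩ : ∃ d ∈ center S, b * a * b⁻¹ = a⁻¹ * d :=
    ⟨a * (b * a * b⁻¹), hD ((QuotientGroup.eq_one_iff _).1 (by
      simp only [QuotientGroup.mk_mul, QuotientGroup.mk_inv, h2, mul_inv_cancel])), by group⟩
  have hc := mem_center_iff.1 hd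
  have top : ∀ H : Subgroup S, a ∈ H → b ∈ H → center S ≤ H → ∀ x, x ∈ H := fun H k1 k2 k3 x =>
    (sup_le (sup_le (zpowers_le.2 k1) (zpowers_le.2 k2)) (hD.trans k3) : _ ≤ H) (h1 ▸ mem_top x)
  have e1 : ⁅b, a⁆ = a⁻¹ * a⁻¹ * d := by rw [commutatorElement_def, e, mul_assoc, ← hc, mul_assoc]
  have e2 : a * ⁅b, a⁆ * a⁻¹ = ⁅b, a⁆ := by
    rw [e1, mul_assoc, mul_assoc _ d, ← hc]; group
  have e3 : b * ⁅b, a⁆ * b⁻¹ = ⁅b, a⁆⁻¹ := by
    have : b * (a⁻¹ * a⁻¹ * d) * b⁻¹ = (b * a * b⁻¹)⁻¹ * (b * a * b⁻¹)⁻¹ * d := by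
      rw [mul_assoc, mul_assoc _ d, ← hc]; group
    rw [e1, this, e, mul_inv_rev, inv_inv, mul_assoc, mul_assoc d⁻¹ a d, hc a, inv_mul_cancel_left]
    simp [mul_assoc]
  have nz : ∀ g y : S, y ∈ zpowers ⁅b, a⁆ → g * ⁅b, a⁆ * g⁻¹ = y → g ∈ No (zpowers ⁅b, a⁆) :=
    fun g y hy e => mem_No.2 (eq_of_le_of_card_ge (by
      rw [cs, MonoidHom.map_zpowers]; exact zpowers_le.2 (show g * _ * g⁻¹ ∈ _ from e ▸ hy)) (card_cs _ _).ge)
  haveI : (zpowers ⁅b, a⁆).Normal := normalizer_eq_top_iff.1 (eq_top_iff.2 fun x _ =>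
    top _ (nz a _ (mem_zpowers _) e2) (nz b _ (inv_mem (mem_zpowers _)) e3)
      (fun z hz => nz z _ (mem_zpowers _) (by rw [← mem_center_iff.1 hz, mul_inv_cancel_right])) x)
  let π := QuotientGroup.mk' (zpowers ⁅b, a⁆)
  have cz : ∀ y, center S ≤ (Ce1 (π y)).comap π := fun y z hz => mem_Ce1.2 (by
    rw [← map_mul, ← map_mul, mem_center_iff.1 hz])
  have hab : π b * π a = π a * π b := commutatorElement_eq_one_iff_mul_comm.1 (by
    rw [← map_commutatorElement]; exact (QuotientGroup.eq_one_iff _).2 (mem_zpowers _))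
  have k1 := top ((Ce1 (π a)).comap π) (mem_Ce1.2 rfl) (mem_Ce1.2 hab) (cz a)
  have k2 := top ((Ce1 (π b)).comap π) (mem_Ce1.2 hab.symm) (mem_Ce1.2 rfl) (cz b)
  refine isCyclic_of_le (H' := zpowers ⁅b, a⁆) (commutator_le.2 fun x _ y _ =>
    (QuotientGroup.eq_one_iff _).1 ?_)
  change π _ = 1
  rw [map_commutatorElement, commutatorElement_eq_one_iff_mul_comm]
  exact mem_Ce1.1 (top ((Ce1 (π y)).comap π) (mem_Ce1.2 (mem_Ce1.1 (k1 y)).symm) (mem_Ce1.2 (mem_Ce1.1 (k2 y)).symm) (cz y) x)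

theorem quat_split (hS : IsPGroup 2 S) {ι : Type*} (i₀ : ι) (C : ι → Subgroup ↥(center S))
    (h1 : ∀ i, IsCoatom (C i)) (h2 : ⨅ i, C i = ⊥)
    (h3 : ∀ i, ∃ (_ : ((C i).map (center S).subtype).Normal),
      ¬ IsMulCommutative (S ⧸ (C i).map (center S).subtype) ∧
      ∃! x : S ⧸ (C i).map (center S).subtype, orderOf x = 2) :
    ∃ E Q : Subgroup S, IsInternalDirectProduct E Q ⊤ ∧ IsElementaryAbelian 2 E ∧
      ¬ IsMulCommutative ↥Q ∧ ∃! x : ↥Q, orderOf x = 2 := by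
  have ix : ∀ i, (C i).index = 2 := fun i =>
    Solv.index_eq_of_coatom_of_isPGroup (hS.to_subgroup _) (h1 i)
  have mm : ∀ i (z : center S), (z : S) ∈ (C i).map (center S).subtype ↔ z ∈ C i := fun i z =>
    mem_map_iff_mem (center S).subtype_injective
  have bot : ∀ z : center S, (∀ i, z ∈ C i) → (z : S) = 1 := fun z h =>
    congrArg Subtype.val (mem_bot.1 (h2 ▸ mem_iInf.2 h))
  have z2 : ∀ z ∈ center S, z ^ 2 = 1 := fun z hz =>
    bot (⟨z, hz⟩ ^ 2) fun i => sq_mem_of_index_two (ix i) _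
  have cen : ∀ i (_ : ((C i).map (center S).subtype).Normal) (x : S),
      (x : S ⧸ (C i).map (center S).subtype) ^ 2 = 1 → x ∈ center S := fun i _ x hx => by
    obtain ⟨_, -, t, -, ht⟩ := h3 i
    obtain ⟨z, -, hz⟩ := SetLike.not_le_iff_exists.1 (mt top_le_iff.1 (h1 i).1)
    by_cases e : (x : S ⧸ (C i).map (center S).subtype) = 1
    · exact map_subtype_le _ ((QuotientGroup.eq_one_iff _).1 e)
    have a1 := (ht ((z : S) : S ⧸ _) (orderOf_eq_prime (by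
      rw [← QuotientGroup.mk_pow, z2 _ z.2]; rfl) fun k =>
        hz ((mm i z).1 ((QuotientGroup.eq_one_iff _).1 k)))).trans (ht _ (orderOf_eq_prime hx e)).symm
    exact (mul_mem_cancel_left (inv_mem z.2)).1 (map_subtype_le _ (QuotientGroup.eq.1 a1))
  have sq : ∀ x y : S, x ∉ center S → y ∉ center S → x ^ 2 ∈ center S → y ^ 2 ∈ center S →
      x ^ 2 = y ^ 2 := fun x y a1 a2 a3 a4 => by
    have k : ∀ i x (h : x ^ 2 ∈ center S), x ∉ center S → (⟨_, h⟩ : center S) ∉ C i := fun i x h n e =>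
      let ⟨_, _⟩ := h3 i
      n (cen i inferInstance x ((QuotientGroup.eq_one_iff (x ^ 2)).2 ((mm i _).2 e)))
    exact mul_inv_eq_one.1 (bot (⟨_, a3⟩ * ⟨_, a4⟩⁻¹) fun i => (mul_mem_iff_of_index_two (ix i)).2
      (iff_of_false (k i x a3 a1) (mt inv_mem_iff.1 (k i y a4 a2))))
  obtain ⟨hN, b1, b2⟩ := h3 i₀
  set D := (C i₀).map (center S).subtype
  obtain ⟨a, b, m, c1, c2, c3, c4, c5, c6, c7⟩ := quat_lift hS b1 b2
  obtain ⟨m, rfl⟩ := Nat.exists_eq_add_of_le' c1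
  have d1 : ((a : S ⧸ D) ^ 2 ^ (m + 1)) ^ 2 = 1 := by rw [← pow_mul, ← pow_succ, ← c2, pow_orderOf_eq_one]
  have d2 : (a : S ⧸ D) ^ 2 ^ (m + 1) ≠ 1 := pow_ne_one_of_lt_orderOf (by positivity)
    (by rw [c2]; exact Nat.pow_lt_pow_right (by norm_num) (by omega))
  have d3 : ∀ x : S, (x : S ⧸ D) ^ 2 = (a : S ⧸ D) ^ 2 ^ (m + 1) → x ∉ center S ∧ x ^ 2 ∈ center S :=
    fun x e => ⟨fun k => d2 (by rw [← e, ← QuotientGroup.mk_pow, z2 x k]; rfl),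
      cen i₀ hN _ (by rw [QuotientGroup.mk_pow, e, d1])⟩
  have e1 := d3 b c6
  have e2 := d3 (b * a) (by
    rw [← c6, QuotientGroup.mk_mul, _root_.sq, _root_.sq]
    nth_rw 2 [mul_inv_eq_iff_eq_mul.1 c7]
    rw [mul_assoc, mul_inv_cancel_left])
  have e3 := d3 (a ^ 2 ^ m) (by rw [QuotientGroup.mk_pow, ← pow_mul, ← pow_succ])
  have f1 := sq _ _ e1.1 e3.1 e1.2 e3.2
  have f2 := sq _ _ e2.1 e1.1 e2.2 e1.2
  rw [← pow_mul, ← pow_succ] at f1 e3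
  have f3 : b * a * b⁻¹ = a⁻¹ := by
    rw [_root_.sq, _root_.sq, mul_assoc, mul_right_inj] at f2
    rw [mul_inv_eq_iff_eq_mul, eq_inv_mul_iff_mul_eq, f2]
  have f4 : orderOf a = 2 ^ (m + 1 + 1) := orderOf_eq_prime_pow
    (fun k => d2 (by rw [← QuotientGroup.mk_pow, k]; rfl)) (by rw [pow_succ, pow_mul, z2 _ e3.2])
  obtain ⟨e⟩ := Solv.nonempty_quaternion_of_gens f4 (fun ⟨k, hk⟩ => c3 ⟨k, by
    rw [← hk]; rfl⟩) rfl f1 f3
  let φ := (QuotientGroup.mk' D).comp (zpowers a ⊔ zpowers b).subtype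
  have g1 : Function.Bijective φ := (Nat.bijective_iff_surjective_and_card _).2 ⟨by
    rw [← MonoidHom.range_eq_top, MonoidHom.range_comp, range_subtype, eq_top_iff,
      ← map_top_of_surjective _ (QuotientGroup.mk'_surjective D), ← c4, Subgroup.map_sup _ D,
      QuotientGroup.map_mk'_self, sup_bot_eq], by
    rw [c5, Nat.card_congr e.toEquiv, Nat.card_eq_fintype_card, QuaternionGroup.card]; ring⟩
  let ψ := MulEquiv.ofBijective φ g1
  refine ⟨D, zpowers a ⊔ zpowers b, ⟨le_top, le_top, fun x hx y _ =>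
    (mem_center_iff.1 (map_subtype_le _ hx) y).symm, eq_bot_iff.2 fun x hx => ?_, (sup_comm _ _).trans c4⟩,
    ⟨⟨⟨fun x y => Subtype.ext (mem_center_iff.1 (map_subtype_le _ y.2) x)⟩⟩,
      fun x hx => z2 x (map_subtype_le _ hx)⟩, fun k => b1 ⟨⟨fun x y => ?_⟩⟩, ?_⟩
  · exact congrArg Subtype.val ((injective_iff_map_eq_one φ).1 g1.1 ⟨x, hx.2⟩
      ((QuotientGroup.eq_one_iff _).2 hx.1))
  · obtain ⟨x, rfl⟩ := g1.2 x
    obtain ⟨y, rfl⟩ := g1.2 y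
    rw [← map_mul, ← map_mul, k.is_comm.comm]
  · exact (ψ.toEquiv.existsUnique_congr fun x => by rw [← ψ.orderOf_eq x]; rfl).2 b2

end Cfsg.Agent.Blk
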