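import Cfsg.Agent.Lib.Block.Ker

/-! Blocks and quotient groups. -/

set_option autoImplicit false

namespace Cfsg.Agent.Blk

open MonoidAlgebra
open Cfsg.Agent.Char hiding cj cj_mul cj_inv_cj cj_cj_inv sum_cj_eq
open scoped ComplexConjugate

section
variable {G H : Type*} [Group G] [Group H] {k : Type*} [Field k] {p : ℕ} {φ : G →* H}
  {K D Q : Subgroup G} {e a : k[G]}

open Classical in
theorem coeff_emb_eq_sum {R : Type*} [CommRing R] [Fintype G] (φ : G →* H) (a : R[G]) (h : H) :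
    (emb φ a).coeff h = ∑ g, if φ g = h then a.coeff g else 0 := by
  conv_lhs => rw [eq_sum_single a]
  rw [map_sum, coeff_sum']
  refine Finset.sum_congr rfl fun g _ => ?_
  rw [map_smul, emb_single, coeff_smul', coeff_single', mul_ite, mul_one, mul_zero]

theorem map_Ce_le (φ : G →* H) (Q : Subgroup G) : (Ce Q).map φ ≤ Ce (Q.map φ) := by
  rintro _ ⟨g, hg, rfl⟩
  refine mem_Ce.2 ?_
  rintro _ ⟨q, hq, rfl⟩
  rw [← map_mul, mem_Ce.1 hg q hq, map_mul]

theorem map_No_le (φ : G →* H) (Q : Subgroup G) : (No Q).map φ ≤ No (Q.map φ) := by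
  rintro _ ⟨g, hg, rfl⟩
  rw [mem_No, ← map_cs, mem_No.1 hg]

theorem le_No_inf_ker (φ : G →* H) (K : Subgroup G) : K ≤ No (K ⊓ φ.ker) :=
  (le_inf (le_No K) (le_No_of_normal K _)).trans (No_inf_le _ _)

theorem preg_map (φ : G →* H) {g : G} (hg : ¬ p ∣ orderOf g) : ¬ p ∣ orderOf (φ g) :=
  fun h => hg (h.trans (orderOf_map_dvd φ g))

variable [Finite G] [hp : Fact p.Prime]

theorem exists_preg_map_eq {g : G} (hg : g ∈ K) (h : ¬ p ∣ orderOf (φ g)) :
    ∃ s ∈ K, ¬ p ∣ orderOf s ∧ φ s = φ g := by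
  obtain ⟨x, hx⟩ := exists_isPPart p g
  exact ⟨x⁻¹ * g, mul_mem (inv_mem (hx.mem hg)) hg, hx.preg, by
    rw [map_mul, map_inv, (hx.map φ).eq_one_iff.2 h, inv_one, one_mul]⟩

omit [Finite G] in
theorem eq_of_preg_map_eq (hN : IsPGroup p ↥(K ⊓ φ.ker)) {s t : G} (hs : s ∈ K) (ht : t ∈ K)
    (hs' : ¬ p ∣ orderOf s) (ht' : ¬ p ∣ orderOf t) (hc : s ∈ Ce (K ⊓ φ.ker)) (h : φ t = φ s) :
    t = s := by
  have h1 : t * s⁻¹ ∈ K ⊓ φ.ker :=
    mi (mul_mem ht (inv_mem hs)) (by rw [MonoidHom.mem_ker, map_mul, map_inv, h, mul_inv_cancel])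
  have h2 := isPPart_mul (p := p) (mem_Ce.1 hc _ h1) (pelt_of_mem hN h1) hs'
  rw [inv_mul_cancel_right] at h2
  exact mul_inv_eq_one.1 (h2.eq_one_iff.2 ht')

omit [Finite G] in
theorem isPGroup_inf_comap (hN : IsPGroup p ↥(K ⊓ φ.ker)) {E : Subgroup H} (hE : IsPGroup p E) :
    IsPGroup p ↥(K ⊓ E.comap φ) := by
  intro ⟨g, hg⟩
  obtain ⟨n, hn⟩ := hE ⟨φ g, (mi2 hg : g ∈ E.comap φ)⟩
  obtain ⟨m, hm⟩ := hN ⟨g ^ p ^ n, mi (pow_mem (mi1 hg) _) (by
    rw [MonoidHom.mem_ker, map_pow]; exact congrArg Subtype.val hn)⟩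
  exact ⟨n + m, Subtype.ext (by
    rw [pow_add, pow_mul]; exact (congrArg Subtype.val hm :))⟩

theorem exists_pgroup_map_eq {E : Subgroup H} (hE : IsPGroup p E) (h : E ≤ K.map φ) :
    ∃ Q ≤ K, IsPGroup p Q ∧ Q.map φ = E := by
  obtain ⟨Q, hQ⟩ := exists_isSyl p (K ⊓ E.comap φ)
  refine ⟨Q, hQ.le.trans inf_le_left, hQ.pg, ?_⟩
  have h0 : (K ⊓ E.comap φ).map φ = E := by rw [map_inf_comap', inf_eq_right.2 h]
  have : Finite E := h0 ▸ Finite.of_surjective _ (φ.subgroupMap_surjective (K ⊓ E.comap φ))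
  have h1 : Q.map φ ≤ E := h0 ▸ Subgroup.map_mono hQ.le
  obtain ⟨n, hn⟩ := hE.exists_card_eq
  have h2 : (Q.map φ).relIndex E ∣ Q.relIndex (K ⊓ E.comap φ) := by
    conv_lhs => rw [← h0, ← Subgroup.relIndex_comap]
    exact Subgroup.relIndex_dvd_of_le_left _ (Subgroup.le_comap_map φ Q)
  obtain ⟨m, -, hm⟩ := (Nat.dvd_prime_pow hp.out).1 (hn ▸ Subgroup.relIndex_dvd_card (Q.map φ) E)
  refine le_antisymm h1 (Subgroup.relIndex_eq_one.1 ?_)
  rcases m with _ | m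
  · exact hm
  · exact absurd (((dvd_pow_self p m.succ_ne_zero).trans (dvd_of_eq hm.symm)).trans h2)
      hQ.not_dvd_relIndex

variable [CharP k p]

theorem Br_map_emb (φ : G →* H) (hQ : IsPGroup p Q) (ha : a ∈ inv k Q) :
    Br (Q.map φ) (emb φ a) = emb φ (Br Q a) := by
  classical
  have := Fintype.ofFinite G
  refine ext' fun h => ?_
  by_cases h1 : h ∈ Ce (Q.map φ)
  · rw [coeff_Br _ h1, coeff_emb_eq_sum, coeff_emb_eq_sum, sum_eq_sum_Ce hQ _ fun x hx g => by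
      rw [mem_inv'.1 ha x hx g, map_mul, map_mul, map_inv]
      refine if_congr ?_ rfl rfl
      rw [mul_inv_eq_iff_eq_mul, ← mem_Ce.1 h1 _ ⟨x, hx, rfl⟩, mul_right_inj]]
    refine Finset.sum_congr rfl fun g _ => ?_
    by_cases h2 : g ∈ Ce Q
    · rw [if_pos h2, coeff_Br _ h2]
    · rw [if_neg h2, coeff_Br_of_notMem _ h2, ite_self]
  · rw [coeff_Br_of_notMem _ h1]
    exact (mem_sup.1 (emb_mem_sup φ (Br_mem_sup Q a)) h fun h2 => h1 (map_Ce_le φ Q h2)).symm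

theorem emb_ne_zero [Finite H] (hN : IsPGroup p ↥(K ⊓ φ.ker)) (h1 : e ∈ sup k K)
    (h2 : e ∈ inv k (K ⊓ φ.ker)) (he : IsIdempotentElem e) (h0 : e ≠ 0) : emb φ e ≠ 0 := by
  classical
  have := Fintype.ofFinite G
  have := Fintype.ofFinite H
  obtain ⟨v, hv0, hv, h3⟩ := exists_fixed_mul hN h2 he h0
  have h4 : ∀ h : H, ∃ w : k[G], ∀ g ∈ K, φ g = h → single g 1 * v = w := fun h => by
    by_cases h5 : ∃ g ∈ K, φ g = h
    · obtain ⟨g, hg, rfl⟩ := h5
      refine ⟨single g 1 * v, fun g' hg' h6 => ?_⟩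
      conv_rhs => rw [← h3 (g⁻¹ * g') (mi (mul_mem (inv_mem hg) hg') (by
        rw [MonoidHom.mem_ker, map_mul, map_inv, h6, inv_mul_cancel])), ← mul_assoc,
        single_mul_single, mul_inv_cancel_left, mul_one]
    · exact ⟨0, fun g hg h6 => (h5 ⟨g, hg, h6⟩).elim⟩
  choose W hW using h4
  intro h
  refine hv0 ?_
  calc v = ∑ g, ∑ h, (if φ g = h then e.coeff g else 0) • W h := by
        conv_lhs => rw [← hv, eq_sum_single e, Finset.sum_mul]
        refine Finset.sum_congr rfl fun g _ => ?_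
        simp only [ite_smul, zero_smul, Finset.sum_ite_eq, Finset.mem_univ, if_true]
        by_cases hg : g ∈ K
        · rw [smul_mul_assoc, hW _ g hg rfl]
        · rw [mem_sup.1 h1 g hg, zero_smul, zero_mul, zero_smul]
    _ = ∑ h, (emb φ e).coeff h • W h := by
        rw [Finset.sum_comm]
        exact Finset.sum_congr rfl fun h _ => by rw [coeff_emb_eq_sum, Finset.sum_smul]
    _ = 0 := by simp [h]

omit [CharP k p] in
theorem exists_emb_eq_of_preg (hN : IsPGroup p ↥(K ⊓ φ.ker)) {f : k[H]} (hf : f ∈ Z k (K.map φ))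
    (h1 : ∀ h, f.coeff h ≠ 0 → ¬ p ∣ orderOf h)
    (h2 : ∀ g ∈ K, ¬ p ∣ orderOf g → f.coeff (φ g) ≠ 0 → g ∈ Ce (K ⊓ φ.ker)) :
    ∃ z ∈ Z k K, emb φ z = f := by
  classical
  have := Fintype.ofFinite G
  refine ⟨ofFun fun g => if g ∈ K ∧ ¬ p ∣ orderOf g then f.coeff (φ g) else 0,
    mem_Z.2 ⟨mem_sup.2 fun g hg => by rw [coeff_ofFun, if_neg fun h => hg h.1],
      mem_inv'.2 fun x hx g => ?_⟩, ext' fun h => ?_⟩
  · rw [coeff_ofFun, coeff_ofFun, orderOf_conj', map_mul φ, map_mul φ, map_inv φ,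
      mem_inv'.1 (mem_Z.1 hf).2 _ ⟨x, hx, rfl⟩]
    refine if_congr (and_congr_left' ?_) rfl rfl
    rw [K.mul_mem_cancel_right (inv_mem hx), K.mul_mem_cancel_left hx]
  rw [coeff_emb_eq_sum]
  by_cases h3 : f.coeff h = 0
  · rw [h3]
    refine Finset.sum_eq_zero fun g _ => ?_
    split_ifs with h4
    · rw [coeff_ofFun, h4, h3, ite_self]
    · rfl
  obtain ⟨g, hg, rfl⟩ := mem_of_coeff_ne_zero (mem_Z.1 hf).1 h3
  obtain ⟨s, hs, hs', h4⟩ := exists_preg_map_eq hg (h1 _ h3)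
  rw [Finset.sum_eq_single s (fun t _ ht => ?_) (by simp), if_pos h4, coeff_ofFun,
    if_pos ⟨hs, hs'⟩, h4]
  split_ifs with h5
  · rw [coeff_ofFun, if_neg fun h6 => ht (eq_of_preg_map_eq hN hs h6.1 hs' h6.2
      (h2 s hs hs' (h4 ▸ h3)) (h5.trans h4.symm))]
  · rfl

omit hp [CharP k p] in
theorem emb_ofFun_comp {R : Type*} [CommRing R] [Finite H] (hφ : Function.Surjective φ) (f : R[H]) :
    emb φ (ofFun fun g => f.coeff (φ g)) = (Nat.card φ.ker : R) • f := by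
  classical
  have := Fintype.ofFinite G
  refine ext' fun h => ?_
  obtain ⟨g, rfl⟩ := hφ h
  rw [coeff_emb_eq_sum, coeff_smul', ← Equiv.sum_comp (Equiv.mulLeft g)]
  simp only [coeff_ofFun, Equiv.coe_mulLeft, map_mul, mul_eq_left]
  rw [Finset.sum_congr rfl fun x _ => show (if φ x = 1 then f.coeff (φ g * φ x) else 0) =
    if x ∈ φ.ker then f.coeff (φ g) else 0 by
      split_ifs with h1 h2 h2
      · rw [h1, mul_one]
      · exact (h2 h1).elim
      · exact (h1 h2).elim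
      · rfl, ← sum_subgroup φ.ker fun _ => f.coeff (φ g), Finset.sum_const, Finset.card_univ,
    ← Nat.card_eq_fintype_card, nsmul_eq_mul]

theorem exists_emb_eq_of_not_dvd [Finite H] (hφ : Function.Surjective φ)
    (hN : ¬ p ∣ Nat.card φ.ker) {f : k[H]} (hf : f ∈ Z k (⊤ : Subgroup H)) :
    ∃ z ∈ Z k (⊤ : Subgroup G), emb φ z = f :=
  ⟨(Nat.card φ.ker : k)⁻¹ • ofFun fun g => f.coeff (φ g), Subalgebra.smul_mem _
    (ofFun_mem_Z fun x g => by rw [map_mul φ, map_mul φ, map_inv φ, mem_Z_top.1 hf]) _, by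
    rw [map_smul, emb_ofFun_comp hφ, smul_smul, inv_mul_cancel₀ (card_ne_zero_of_not_dvd hN),
      one_smul]⟩

theorem BrSub.emb (h : BrSub p K D a) (ha : a ∈ inv k K) :
    BrSub p (K.map φ) (D.map φ) (emb φ a) := fun E hE hE' h1 => by
  obtain ⟨Q, hQ, hQ', rfl⟩ := exists_pgroup_map_eq hE' hE
  rw [Br_map_emb φ hQ' (inv_anti hQ ha)] at h1
  obtain ⟨x, hx, h2⟩ := h Q hQ hQ' fun h0 => h1 (by rw [h0, map_zero])
  exact ⟨φ x, ⟨x, hx, rfl⟩, by rw [← map_cs]; exact Subgroup.map_mono h2⟩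

variable [Finite H] [IsAlgClosed k]

theorem IsDef.emb (he : IsBlock K e) (hD : IsDef p K e D) (hN : IsPGroup p ↥(K ⊓ φ.ker)) :
    IsDef p (K.map φ) (emb φ e) (D.map φ) := by
  refine ⟨Subgroup.map_mono hD.le, hD.pg.map φ, ?_, hD.sub.emb he.inv⟩
  rw [Br_map_emb φ hD.pg (inv_anti hD.le he.inv)]
  exact emb_ne_zero hN (sup_mono inf_le_left (Br_mem_sup_inf D he.sup))
    (Br_mem_inv (inv_anti inf_le_left he.inv) ((he.le_of_isDef hD hN inf_le_left
      (le_No_inf_ker φ K)).trans (le_No D))) (Br_idem hD.pg (inv_anti hD.le he.inv) he.idem) hD.ne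

omit hp [CharP k p] in
theorem IsBlock.isBlock_emb (he : IsBlock K e) (h0 : emb φ e ≠ 0)
    (h : ∀ f, IsBlock (K.map φ) f → ∃ z ∈ Z k K, emb φ z = f) : IsBlock (K.map φ) (emb φ e) := by
  have h1 := emb_mem_Z φ he.mem
  have h2 : IsIdempotentElem (emb φ e) := he.idem.map _
  obtain ⟨f, hf, h3⟩ := exists_block_mul_eq h1 h2 h0
  obtain ⟨z, hz, rfl⟩ := h f hf
  have h4 := (he.lam_spec hz).map (emb φ)
  rw [map_mul, map_sub, AlgHom.commutes] at h4
  have h5 : lam e z = 1 := by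
    rw [← hf.lam_self]
    refine (hf.lam_eq hf.mem ?_).symm
    rw [← h3, ← mul_assoc, h3]
    exact (Z_comm (mul_mem (sub_mem hf.mem (Subalgebra.algebraMap_mem _ _)) h1)
      hf.mem).isNilpotent_mul_right h4
  rw [h5, map_one, sub_mul, one_mul, (Z_comm hf.mem h1).eq, h3] at h4
  rw [← idem_eq_of_nilpotent_sub hf.idem h2 (Z_comm hf.mem h1) h4]
  exact hf

omit hp [CharP k p] [IsAlgClosed k] [Finite H] in
theorem exists_block_emb_mul (φ : G →* H) (K : Subgroup G) {f : k[H]} (hf : IsBlock (K.map φ) f) :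
    ∃ e, IsBlock K e ∧ emb φ e * f = f := by
  by_contra h
  push Not at h
  refine hf.ne ?_
  rw [← one_mul f, ← map_one (emb φ), ← sum_blocks K, map_sum, Finset.sum_mul]
  exact Finset.sum_eq_zero fun e he => (hf.prim _ (emb_mem_Z φ (mem_blocks.1 he).mem)
    ((mem_blocks.1 he).idem.map _)).resolve_right (h e (mem_blocks.1 he))

theorem IsDef.exists_le_map {f : k[H]} {E : Subgroup H} (he : IsBlock K e)
    (hf : IsBlock (K.map φ) f) (h : Blk.emb φ e * f = f) (hE : IsDef p (K.map φ) f E) :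
    ∃ D, IsDef p K e D ∧ E ≤ D.map φ := by
  obtain ⟨Q, hQ, hQ', rfl⟩ := exists_pgroup_map_eq hE.pg hE.le
  have h1 := hE.ne
  rw [← h, Br_mul hE.pg (inv_anti hE.le (mem_Z.1 (emb_mem_Z φ he.mem)).2) (inv_anti hE.le hf.inv),
    Br_map_emb φ hQ' (inv_anti hQ he.inv)] at h1
  obtain ⟨D, hD, h2⟩ := he.exists_isDef_ge hQ hQ' fun h0 => h1 (by rw [h0, map_zero, zero_mul])
  exact ⟨D, hD, Subgroup.map_mono h2⟩

theorem IsDef.exists_block_map (he : IsBlock K e) (hD : IsDef p K e D)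
    (hN : IsPGroup p ↥(K ⊓ φ.ker)) :
    ∃ f, IsBlock (K.map φ) f ∧ Blk.emb φ e * f = f ∧ IsDef p (K.map φ) f (D.map φ) := by
  classical
  have h1 := hD.emb he hN
  have h2 := h1.ne
  have hZ := emb_mem_Z φ he.mem
  rw [idem_eq_sum hZ (he.idem.map _), map_sum] at h2
  obtain ⟨f, hf, h3⟩ := Finset.exists_ne_zero_of_sum_ne_zero h2
  rw [Finset.mem_filter, mem_blocks] at hf
  exact ⟨f, hf.1, hf.2, h1.le, h1.pg, h3, hf.2 ▸ h1.sub.mul_right (mem_Z.1 hZ).2 hf.1.inv⟩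

end

section
variable {G H : Type*} [Group G] [Group H] {φ : G →* H}

/-- Inflation of an irreducible character. -/
def infl (hφ : Function.Surjective φ) (χ : IrrCharacter H) : IrrCharacter G :=
  ⟨fun g => χ.1 (φ g), χ.2.comp_surjective φ hφ⟩

theorem infl_apply (hφ : Function.Surjective φ) (χ : IrrCharacter H) (g : G) :
    (infl hφ χ : G → ℂ) g = (χ : H → ℂ) (φ g) := rfl

theorem infl_injective (hφ : Function.Surjective φ) : Function.Injective (infl hφ) :=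
  fun _ _ h => Subtype.ext (funext fun x => by
    obtain ⟨g, rfl⟩ := hφ x; exact congrFun (congrArg Subtype.val h) g)

theorem infl_irrOne (hφ : Function.Surjective φ) : infl hφ (irrOne H) = irrOne G := rfl

theorem charDegree_infl (hφ : Function.Surjective φ) (χ : IrrCharacter H) :
    charDegree (infl hφ χ : G → ℂ) = charDegree (χ : H → ℂ) := by
  have : ((charDegree (infl hφ χ : G → ℂ) : ℕ) : ℂ) = charDegree (χ : H → ℂ) := by
    rw [(infl hφ χ).2.isCharacter.cast_charDegree, χ.2.isCharacter.cast_charDegree, infl_apply,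
      map_one]
  exact_mod_cast this

theorem om_infl (hφ : Function.Surjective φ) (χ : IrrCharacter H) (a : ℂ[G]) :
    om (infl hφ χ) a = om χ (emb φ a) := by
  rw [Blk.om, Blk.om, ch_emb, infl_apply, map_one]; rfl

theorem top_map_surj (hφ : Function.Surjective φ) : (⊤ : Subgroup G).map φ = ⊤ :=
  Subgroup.map_top_of_surjective φ hφ

theorem emb_mem_Z_top {R : Type*} [CommRing R] (hφ : Function.Surjective φ) {a : R[G]}
    (ha : a ∈ Z R (⊤ : Subgroup G)) : emb φ a ∈ Z R (⊤ : Subgroup H) :=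
  top_map_surj hφ ▸ emb_mem_Z φ ha

variable [Finite G]

theorem exists_infl_eq (hφ : Function.Surjective φ) {χ : IrrCharacter G}
    (h : φ.ker ≤ charKer (χ : G → ℂ)) : ∃ ψ, infl hφ ψ = χ := by
  obtain ⟨ψ, h1, h2⟩ := χ.2.exists_descend φ hφ h
  exact ⟨⟨ψ, h1⟩, Subtype.ext (funext h2)⟩

omit [Finite G] in
theorem ker_le_charKer_infl (hφ : Function.Surjective φ) (χ : IrrCharacter H) :
    φ.ker ≤ charKer (infl hφ χ : G → ℂ) := fun g hg => mem_charKer.2 fun x => by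
  rw [infl_apply, infl_apply, map_mul, hg, one_mul]

variable [Finite H] {M : Ideal AlgInt} {p : ℕ}

section
variable [M.IsMaximal]

theorem lam_blk_infl (hφ : Function.Surjective φ) (χ : IrrCharacter H) {z : (kk M)[G]}
    (hz : z ∈ Z (kk M) (⊤ : Subgroup G)) : lam (blk M (infl hφ χ)) z = lam (blk M χ) (emb φ z) := by
  obtain ⟨w, hw, rfl⟩ := exists_toK_eq_Z hz
  rw [lam_blk _ hw, om_infl, ← cf_emb, ← cf_emb, lam_blk _ (emb_mem_Z_top hφ hw)]

theorem emb_mul_blk_iff (hφ : Function.Surjective φ) (χ : IrrCharacter H) {z : (kk M)[G]}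
    (hz : z ∈ Z (kk M) (⊤ : Subgroup G)) (hzi : IsIdempotentElem z) :
    emb φ z * blk M χ = blk M χ ↔ z * blk M (infl hφ χ) = blk M (infl hφ χ) := by
  rw [← (isBlock_blk χ).lam_idem_eq_one_iff (emb_mem_Z_top hφ hz) (hzi.map _),
    ← (isBlock_blk _).lam_idem_eq_one_iff hz hzi, lam_blk_infl hφ χ hz]

theorem IsUB.infl_mem_iff {A : Set (IrrCharacter G)} (hA : IsUB M A) (hφ : Function.Surjective φ)
    (χ : IrrCharacter H) : infl hφ χ ∈ A ↔ emb φ (bar M A) * blk M χ = blk M χ := by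
  rw [emb_mul_blk_iff hφ χ (bar_mem _) hA.bar_idem, hA.mem_iff]

theorem blk_infl_congr (hφ : Function.Surjective φ) {χ ψ : IrrCharacter H}
    (h : blk M χ = blk M ψ) : blk M (infl hφ χ) = blk M (infl hφ ψ) :=
  (isBlock_blk _).ext_lam (isBlock_blk _) fun z hz => by
    rw [lam_blk_infl hφ χ hz, lam_blk_infl hφ ψ hz, h]

theorem IsUB.preimage_infl {A : Set (IrrCharacter G)} (hA : IsUB M A)
    (hφ : Function.Surjective φ) : IsUB M (infl hφ ⁻¹' A) :=
  fun _ hχ _ h => hA _ hχ _ (blk_infl_congr hφ h)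

theorem blk_infl_eq_iff (hφ : Function.Surjective φ)
    (h : ∀ f : (kk M)[H], IsBlock ⊤ f → ∃ z ∈ Z (kk M) (⊤ : Subgroup G), emb φ z = f)
    {χ ψ : IrrCharacter H} : blk M (infl hφ χ) = blk M (infl hφ ψ) ↔ blk M χ = blk M ψ := by
  refine ⟨fun h1 => ?_, blk_infl_congr hφ⟩
  obtain ⟨z, hz, h2⟩ := h _ (isBlock_blk χ)
  refine (isBlock_blk ψ).eq_of_lam_ne_zero (isBlock_blk χ) ?_
  rw [← h2, ← lam_blk_infl hφ ψ hz, ← h1, lam_blk_infl hφ χ hz, h2, (isBlock_blk χ).lam_self]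
  exact one_ne_zero

theorem preimage_principal (hφ : Function.Surjective φ)
    (h : ∀ f : (kk M)[H], IsBlock ⊤ f → ∃ z ∈ Z (kk M) (⊤ : Subgroup G), emb φ z = f) :
    infl hφ ⁻¹' principalBlock M G = principalBlock M H := by
  ext χ
  rw [Set.mem_preimage, principalBlock_eq, principalBlock_eq, mem_blockOf, mem_blockOf,
    ← infl_irrOne hφ, blk_infl_eq_iff hφ h]

end

variable [PMod M p]

theorem _root_.Cfsg.IsPBlock.exists_infl_mem {B : Set (IrrCharacter G)} (hB : IsPBlock M B)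
    (hφ : Function.Surjective φ) (hN : IsPGroup p φ.ker) {D : Subgroup G}
    (hD : IsDef p ⊤ (bar M B) D) :
    ∃ χ : IrrCharacter H, infl hφ χ ∈ B ∧ IsDef p ⊤ (blk M χ) (D.map φ) := by
  have := Fact.mk (PMod.prime M)
  obtain ⟨f, hf, h1, h2⟩ := hD.exists_block_map (φ := φ) hB.isBlock (by rwa [top_inf_eq])
  rw [top_map_surj hφ] at hf h2
  obtain ⟨χ, rfl⟩ := exists_blk_eq hf
  exact ⟨χ, (hB.isUB.infl_mem_iff hφ χ).2 h1, h2⟩

theorem exists_lift_of_preg {K : Subgroup G} (hN : IsPGroup p ↥(K ⊓ φ.ker))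
    (h : ∀ g ∈ K, ¬ p ∣ orderOf g → g ∈ Ce (K ⊓ φ.ker)) (f : (kk M)[H])
    (hf : IsBlock (K.map φ) f) : ∃ z ∈ Z (kk M) K, emb φ z = f :=
  have := Fact.mk (PMod.prime M)
  exists_emb_eq_of_preg hN hf.mem (fun _ => preg_of_coeff_idem hf.mem hf.idem)
    fun g hg h1 _ => h g hg h1

theorem IsBlock.isBlock_emb_of_preg {K : Subgroup G} {e : (kk M)[G]} (he : IsBlock K e)
    (hN : IsPGroup p ↥(K ⊓ φ.ker)) (h : ∀ g ∈ K, ¬ p ∣ orderOf g → g ∈ Ce (K ⊓ φ.ker)) :
    IsBlock (K.map φ) (emb φ e) :=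
  have := Fact.mk (PMod.prime M)
  he.isBlock_emb (emb_ne_zero hN he.sup (inv_anti inf_le_left he.inv) he.idem he.ne)
    (exists_lift_of_preg hN h)

theorem exists_lift_top_of_preg (hφ : Function.Surjective φ) (hN : IsPGroup p φ.ker)
    (h : ∀ g, ¬ p ∣ orderOf g → g ∈ Ce φ.ker) (f : (kk M)[H]) (hf : IsBlock ⊤ f) :
    ∃ z ∈ Z (kk M) (⊤ : Subgroup G), emb φ z = f :=
  exists_lift_of_preg (by rwa [top_inf_eq]) (fun g _ => by rw [top_inf_eq]; exact h g) f
    (by rwa [top_map_surj hφ])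

omit [Finite H] in
theorem IsUB.eq_zero_of_mem_regSpan {A : Set (IrrCharacter G)} (hA : IsUB M A) {f : G → ℂ}
    (h1 : f ∈ regSpan p A) (h2 : f ∈ regSpan p Aᶜ) : f = 0 := by
  rw [← hA.reg_blockPart_of_mem h1, ← hA.compl.reg_blockPart_of_mem h2,
    hA.blockPart_reg (isClassFunction_blockPart _ _), blockPart_blockPart, Set.inter_compl_self,
    blockPart_empty, reg_zero, reg_zero]

theorem IsUB.blockRank_preimage {A : Set (IrrCharacter G)} (hA : IsUB M A)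
    (hφ : Function.Surjective φ) (hN : IsPGroup p φ.ker)
    (h : ∀ g, ¬ p ∣ orderOf g → g ∈ Ce φ.ker) :
    blockRank p (infl hφ ⁻¹' A) = blockRank p A := by
  classical
  have := Fact.mk (PMod.prime M)
  let T : (H → ℂ) →ₗ[ℂ] (G → ℂ) := (regL p).comp (LinearMap.funLeft ℂ ℂ φ)
  have hT : ∀ f, T f = reg p fun g => f (φ g) := fun f => rfl
  have hT' : ∀ f, T (reg p f) = T f := fun f =>
    reg_congr fun x hx => reg_of_preg (preg_map φ hx)
  have h1 : ∀ A : Set (IrrCharacter G), (regSpan p (infl hφ ⁻¹' A)).map T ≤ regSpan p A := by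
    intro A
    rw [regSpan, Submodule.map_span, Submodule.span_le]
    rintro _ ⟨_, ⟨χ, hχ, rfl⟩, rfl⟩
    rw [hT']
    exact reg_mem_regSpan (A := A) (χ := infl hφ χ) hχ
  have h2 : ∀ x : H, ¬ p ∣ orderOf x → ∃ s, ¬ p ∣ orderOf s ∧ φ s = x := fun x hx => by
    obtain ⟨g, rfl⟩ := hφ x
    obtain ⟨s, -, h3⟩ := exists_preg_map_eq (Subgroup.mem_top g) hx
    exact ⟨s, h3⟩
  have h3 : ∀ s t, ¬ p ∣ orderOf s → ¬ p ∣ orderOf t → φ t = φ s → t = s := fun s t hs ht =>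
    eq_of_preg_map_eq (K := ⊤) (by rwa [top_inf_eq]) trivial trivial hs ht
      (by rw [top_inf_eq]; exact h s hs)
  choose! σ hσ hσ' using h2
  have h4 : (regSpan p (infl hφ ⁻¹' A)).map T = regSpan p A := by
    refine le_antisymm (h1 A) ?_
    rw [regSpan, Submodule.span_le]
    rintro _ ⟨χ, hχ, rfl⟩
    have h5 : IsClassFunction H (reg p fun x => χ.1 (σ x)) := fun x y => by
      by_cases hx : p ∣ orderOf x
      · rw [reg_of_dvd hx, reg_of_dvd (by rwa [orderOf_conj'])]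
      obtain ⟨c, rfl⟩ := hφ y
      have hx' : ¬ p ∣ orderOf (φ c * x * (φ c)⁻¹) := by rwa [orderOf_conj']
      rw [reg_of_preg hx, reg_of_preg hx', ← χ.2.isCharacter.apply_conj (σ x) c,
        h3 (c * σ x * c⁻¹) _ (by rw [orderOf_conj']; exact hσ x hx) (hσ _ hx')
          (by rw [hσ' _ hx', map_mul, map_mul, map_inv, hσ' _ hx])]
    have h6 : T (reg p fun x => χ.1 (σ x)) = reg p χ.1 := by
      rw [hT']
      exact reg_congr fun g hg => by
        change χ.1 (σ (φ g)) = _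
        rw [h3 g _ hg (hσ _ (preg_map φ hg)) (hσ' _ (preg_map φ hg))]
    have h7 := blockPart_add_compl (infl hφ ⁻¹' A) h5
    rw [← h7, map_add, ← hT', ← hT' (blockPart _ᶜ _)] at h6
    have h8 := h1 A ⟨_, reg_blockPart_mem (infl hφ ⁻¹' A) (reg p fun x => χ.1 (σ x)), rfl⟩
    have h9 := h1 Aᶜ ⟨_, reg_blockPart_mem (infl hφ ⁻¹' Aᶜ) (reg p fun x => χ.1 (σ x)), rfl⟩
    rw [Set.preimage_compl] at h9
    have h10 := sub_mem (reg_mem_regSpan (p := p) hχ) h8
    rw [← h6, add_sub_cancel_left] at h10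
    rw [hA.eq_zero_of_mem_regSpan h10 h9, add_zero] at h6
    exact ⟨_, reg_blockPart_mem _ _, h6⟩
  have h5 : Function.Injective (T.domRestrict (regSpan p (infl hφ ⁻¹' A))) := by
    rw [injective_iff_map_eq_zero]
    intro ⟨f, hf⟩ h6
    refine Subtype.ext (funext fun x => ?_)
    change f x = 0
    rw [← (hA.preimage_infl hφ).reg_blockPart_of_mem hf]
    by_cases hx : p ∣ orderOf x
    · exact reg_of_dvd hx
    rw [(hA.preimage_infl hφ).reg_blockPart_of_mem hf, ← hσ' x hx]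
    exact (reg_of_preg (θ := fun g => f (φ g)) (hσ x hx)).symm.trans (congrFun h6 (σ x))
  rw [blockRank_eq, blockRank_eq, ← h4, ← LinearMap.finrank_range_of_inj h5,
    LinearMap.range_domRestrict]

end

end Cfsg.Agent.Blk
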