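import Cfsg.Agent.Lib.Block.Contrib

/-!
The rank `l(B)`, subsections and their contributions.
-/

namespace Cfsg.Agent.Blk

open MonoidAlgebra
open Cfsg.Agent.Char hiding cj cj_mul cj_inv_cj cj_cj_inv sum_cj_eq
open scoped ComplexConjugate

section CM

/-- Complex numbers at which every automorphism commutes with complex conjugation. -/
def CM : Subring ℂ where
  carrier := {z | ∀ σ : ℂ ≃+* ℂ, σ (conj z) = conj (σ z)}
  mul_mem' := fun ha hb σ => by simp only [map_mul, ha σ, hb σ]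
  one_mem' := fun σ => by simp
  add_mem' := fun ha hb σ => by simp only [map_add, ha σ, hb σ]
  zero_mem' := fun σ => by simp
  neg_mem' := fun ha σ => by simp only [map_neg, ha σ]

theorem conj_mem_CM {z : ℂ} (h : z ∈ CM) : conj z ∈ CM := fun σ => by
  rw [h σ, Complex.conj_conj, Complex.conj_conj]

theorem inv_mem_CM {z : ℂ} (h : z ∈ CM) : z⁻¹ ∈ CM := fun σ => by
  rw [map_inv₀, map_inv₀, map_inv₀, map_inv₀, h σ]

theorem conj_eq_inv_of_pow {z : ℂ} {n : ℕ} (hn : n ≠ 0) (h : z ^ n = 1) : conj z = z⁻¹ :=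
  (Complex.inv_eq_conj (norm_eq_one_of_pow hn h)).symm

theorem mem_CM_of_pow {z : ℂ} {n : ℕ} (hn : n ≠ 0) (h : z ^ n = 1) : z ∈ CM := fun σ => by
  rw [conj_eq_inv_of_pow hn h, conj_eq_inv_of_pow hn (by rw [← map_pow, h, map_one]), map_inv₀]

theorem char_mem_CM {G : Type*} [Group G] [Finite G] {χ : G → ℂ} (h : IsGeneralizedCharacter G χ)
    (g : G) : χ g ∈ CM := fun σ => by
  rw [← h.apply_inv]; exact (h.map_ringHom (σ : ℂ →+* ℂ)).apply_inv g

/-- Nonzero cyclotomic integers have mean square at least one. -/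
theorem sum_le_of_CM {ι : Type*} (s : Finset ι) (c : ι → ℕ) (f : ι → ℂ)
    (hf : ∀ i ∈ s, IsIntegral ℤ (f i)) (hc : ∀ i ∈ s, f i ∈ CM) (h0 : ∀ i ∈ s, f i ≠ 0) {r : ℚ}
    (h : ∑ i ∈ s, c i * (f i * conj (f i)) = r) : ((∑ i ∈ s, c i : ℕ) : ℚ) ≤ r := by
  by_contra hlt
  push Not at hlt
  have key : ∀ σ : ℂ ≃+* ℂ, ‖σ (∏ i ∈ s, f i ^ c i)‖ < 1 := fun σ => by
    have h1 : ∑ i ∈ s, (c i : ℝ) * ‖σ (f i)‖ ^ 2 = r := by
      have h2 := congrArg σ h
      rw [map_ratCast, map_sum] at h2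
      apply Complex.ofReal_injective
      push_cast
      rw [← h2]
      refine Finset.sum_congr rfl fun i hi => ?_
      rw [map_mul, map_mul, map_natCast, hc i hi σ, Complex.mul_conj, Complex.normSq_eq_norm_sq]
      push_cast; rfl
    rw [← sq_lt_one_iff₀ (norm_nonneg _), map_prod, norm_prod, ← Finset.prod_pow]
    calc ∏ i ∈ s, ‖σ (f i ^ c i)‖ ^ 2 ≤ ∏ i ∈ s, Real.exp (c i * (‖σ (f i)‖ ^ 2 - 1)) := by
          refine Finset.prod_le_prod (fun _ _ => by positivity) fun i _ => ?_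
          rw [map_pow, norm_pow, ← pow_mul, mul_comm, pow_mul, Real.exp_nat_mul]
          exact pow_le_pow_left₀ (by positivity)
            (by linarith [Real.add_one_le_exp (‖σ (f i)‖ ^ 2 - 1)]) _
      _ = Real.exp (r - (∑ i ∈ s, c i : ℕ)) := by
          rw [← Real.exp_sum, ← h1]; congr 1
          push_cast
          rw [← Finset.sum_sub_distrib]
          exact Finset.sum_congr rfl fun i _ => by ring
      _ < 1 := Real.exp_lt_one_iff.2 (by
          have : (r : ℝ) < ((∑ i ∈ s, c i : ℕ) : ℝ) := by exact_mod_cast hlt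
          linarith)
  have h1 := norm_eq_one_of_forall_conj_le (IsIntegral.prod _ fun i hi => (hf i hi).pow (c i))
    (Finset.prod_ne_zero_iff.2 fun i hi => pow_ne_zero _ (h0 i hi)) fun σ => (key σ).le
  exact (key (RingEquiv.refl ℂ)).ne h1

theorem card_le_of_CM {ι : Type*} (s : Finset ι) (f : ι → ℂ)
    (hf : ∀ i ∈ s, IsIntegral ℤ (f i)) (hc : ∀ i ∈ s, f i ∈ CM) (h0 : ∀ i ∈ s, f i ≠ 0) {n : ℕ}
    (h : ∑ i ∈ s, f i * conj (f i) = n) : s.card ≤ n := by
  have := sum_le_of_CM s (fun _ => 1) f hf hc h0 (r := n) (by simpa using h)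
  simpa using this

end CM

variable {G : Type*} [Group G] {M : Ideal AlgInt} {p : ℕ}

section BP

variable [Fintype G]

theorem classInner_blockPart_left (A : Set (IrrCharacter G)) (θ φ : G → ℂ) :
    classInner (blockPart A θ) φ = ∑ χ ∈ fs A, classInner θ χ * conj (classInner φ χ) := by
  rw [blockPart_fs, classInner_sum_left]
  exact Finset.sum_congr rfl fun χ _ => by rw [classInner_smul_left, conj_classInner]

theorem classInner_blockPart_comm (A : Set (IrrCharacter G)) (θ φ : G → ℂ) :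
    classInner (blockPart A θ) φ = classInner θ (blockPart A φ) := by
  rw [← conj_classInner (blockPart A φ), classInner_blockPart_left, classInner_blockPart_left,
    map_sum]
  exact Finset.sum_congr rfl fun χ _ => by rw [map_mul, Complex.conj_conj, mul_comm]

/-- The part in a set of characters as a linear map. -/
noncomputable def bpL (A : Set (IrrCharacter G)) : (G → ℂ) →ₗ[ℂ] (G → ℂ) where
  toFun := blockPart A
  map_add' θ φ := by
    simp only [blockPart_fs, classInner_add_left, add_smul, Finset.sum_add_distrib]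
  map_smul' c θ := by
    simp only [blockPart_fs, classInner_smul_left, mul_smul, Finset.smul_sum, RingHom.id_apply]

end BP

variable [Finite G]

theorem blockPart_add (A : Set (IrrCharacter G)) (θ φ : G → ℂ) :
    blockPart A (θ + φ) = blockPart A θ + blockPart A φ := by
  have := Fintype.ofFinite G; exact map_add (bpL A) θ φ

theorem blockPart_sub (A : Set (IrrCharacter G)) (θ φ : G → ℂ) :
    blockPart A (θ - φ) = blockPart A θ - blockPart A φ := by
  have := Fintype.ofFinite G; exact map_sub (bpL A) θ φ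

theorem blockPart_smul (A : Set (IrrCharacter G)) (c : ℂ) (θ : G → ℂ) :
    blockPart A (c • θ) = c • blockPart A θ := by
  have := Fintype.ofFinite G; exact map_smul (bpL A) c θ

theorem blockPart_zero (A : Set (IrrCharacter G)) : blockPart A 0 = 0 := by
  have := Fintype.ofFinite G; exact map_zero (bpL A)

theorem blockPart_sum (A : Set (IrrCharacter G)) {ι : Type*} (s : Finset ι) (f : ι → G → ℂ) :
    blockPart A (∑ i ∈ s, f i) = ∑ i ∈ s, blockPart A (f i) := by
  have := Fintype.ofFinite G; exact map_sum (bpL A) f s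

theorem isClassFunction_blockPart (A : Set (IrrCharacter G)) (θ : G → ℂ) :
    IsClassFunction G (blockPart A θ) := by
  have := Fintype.ofFinite G
  rw [blockPart_fs]
  exact IsClassFunction.sum fun χ _ => χ.2.isClassFunction.smul _

theorem isGen_blockPart (A : Set (IrrCharacter G)) {θ : G → ℂ} (hθ : IsGeneralizedCharacter G θ) :
    IsGeneralizedCharacter G (blockPart A θ) := by
  have := Fintype.ofFinite G
  rw [blockPart_fs]
  refine IsGeneralizedCharacter.sum fun χ _ => ?_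
  obtain ⟨n, hn⟩ := hθ.classInner_eq_int χ.2.isGen
  rw [hn]; exact χ.2.isGen.intCast_smul n

theorem isCharacter_blockPart (A : Set (IrrCharacter G)) {θ : G → ℂ} (hθ : IsCharacter G θ) :
    IsCharacter G (blockPart A θ) := by
  have := Fintype.ofFinite G
  rw [blockPart_fs]
  refine IsCharacter.sum fun χ _ => ?_
  obtain ⟨n, hn⟩ := hθ.classInner_eq_nat χ.2.isCharacter
  rw [hn]; exact χ.2.isCharacter.natCast_smul n

theorem blockPart_blockPart (A B : Set (IrrCharacter G)) (θ : G → ℂ) :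
    blockPart A (blockPart B θ) = blockPart (A ∩ B) θ := by
  classical
  have := Fintype.ofFinite G
  funext g
  rw [blockPart_eq, blockPart_eq]
  refine Finset.sum_congr rfl fun χ _ => ?_
  rw [classInner_blockPart]
  by_cases h1 : χ ∈ A <;> by_cases h2 : χ ∈ B <;> simp [h1, h2]

theorem blockPart_idem (A : Set (IrrCharacter G)) (θ : G → ℂ) :
    blockPart A (blockPart A θ) = blockPart A θ := by rw [blockPart_blockPart, Set.inter_self]

theorem blockPart_empty (θ : G → ℂ) : blockPart ∅ θ = 0 := by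
  have := Fintype.ofFinite G
  rw [blockPart_fs, Finset.sum_eq_zero fun χ h => absurd (mem_fs.1 h) (Set.notMem_empty χ)]

theorem blockPart_add_compl (A : Set (IrrCharacter G)) {θ : G → ℂ} (hθ : IsClassFunction G θ) :
    blockPart A θ + blockPart Aᶜ θ = θ := by
  classical
  have := Fintype.ofFinite G
  funext g
  rw [Pi.add_apply, blockPart_eq, blockPart_eq, hθ.apply_eq_sum g, ← Finset.sum_add_distrib]
  refine Finset.sum_congr rfl fun χ _ => ?_
  by_cases h1 : χ ∈ A <;> simp [h1]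

theorem blockPart_univ {θ : G → ℂ} (hθ : IsClassFunction G θ) : blockPart Set.univ θ = θ := by
  have := blockPart_add_compl Set.univ hθ
  rwa [Set.compl_univ, blockPart_empty, add_zero] at this

theorem blockPart_eq_self_iff [Fintype G] {A : Set (IrrCharacter G)} {θ : G → ℂ}
    (hθ : IsClassFunction G θ) :
    blockPart A θ = θ ↔ ∀ χ : IrrCharacter G, χ ∉ A → classInner θ χ = 0 := by
  classical
  refine ⟨fun h χ hχ => by rw [← h, classInner_blockPart, if_neg hχ], fun h => ?_⟩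
  refine (isClassFunction_blockPart A θ).ext_classInner hθ fun χ hχ => ?_
  rw [show χ = (⟨χ, hχ⟩ : IrrCharacter G).1 from rfl, classInner_blockPart]
  split_ifs with h1
  · rfl
  · exact (h _ h1).symm

theorem blockPart_conj_inv (A : Set (IrrCharacter G)) (θ : G → ℂ) (g : G) :
    blockPart A (fun x => conj (θ x⁻¹)) g⁻¹ = conj (blockPart A θ g) := by
  have := Fintype.ofFinite G
  simp only [blockPart_fs, Finset.sum_apply, Pi.smul_apply, smul_eq_mul, map_sum, map_mul]
  refine Finset.sum_congr rfl fun χ _ => ?_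
  rw [χ.2.isCharacter.apply_inv]
  congr 1
  rw [conj_classInner, classInner, classInner]
  congr 1
  exact Fintype.sum_equiv (Equiv.inv G) _ _ fun x => by
    simp [χ.2.isCharacter.apply_inv, mul_comm]

/-- The span of the truncations of a set of characters. -/
noncomputable def regSpan (p : ℕ) (A : Set (IrrCharacter G)) : Submodule ℂ (G → ℂ) :=
  Submodule.span ℂ ((fun χ : IrrCharacter G => reg p χ.1) '' A)

omit [Finite G] in
theorem blockRank_eq (A : Set (IrrCharacter G)) :
    blockRank p A = Module.finrank ℂ (regSpan p A) := by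
  rw [blockRank, regSpan, show (fun χ : IrrCharacter G => pRegularPart p χ.1) =
    fun χ : IrrCharacter G => reg p χ.1 from funext fun χ => pRegularPart_eq _]

omit [Finite G] in
theorem reg_mem_regSpan {A : Set (IrrCharacter G)} {χ : IrrCharacter G} (h : χ ∈ A) :
    reg p χ.1 ∈ regSpan p A := Submodule.subset_span ⟨χ, h, rfl⟩

theorem reg_blockPart_mem (A : Set (IrrCharacter G)) (θ : G → ℂ) :
    reg p (blockPart A θ) ∈ regSpan p A := by
  have := Fintype.ofFinite G
  rw [blockPart_fs, reg_sum]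
  exact Submodule.sum_mem _ fun χ hχ => by
    rw [reg_smul]; exact Submodule.smul_mem _ _ (reg_mem_regSpan (mem_fs.1 hχ))

theorem blockRank_le_card (A : Set (IrrCharacter G)) : blockRank p A ≤ (fs A).card := by
  classical
  rw [blockRank_eq, regSpan, ← coe_fs A, ← Finset.coe_image, coe_fs]
  exact (finrank_span_finset_le_card _).trans Finset.card_image_le

theorem blockRank_pos [Fact p.Prime] {A : Set (IrrCharacter G)} (h : A.Nonempty) :
    0 < blockRank p A := by
  obtain ⟨χ, hχ⟩ := h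
  rw [blockRank_eq, Module.finrank_pos_iff_exists_ne_zero]
  refine ⟨⟨_, reg_mem_regSpan hχ⟩, fun h => χ.2.apply_one_ne_zero ?_⟩
  rw [← reg_of_preg (p := p) (θ := χ.1) preg_one]
  exact congrFun (congrArg Subtype.val h) 1

section Rank

variable [PMod M p] {A : Set (IrrCharacter G)}

theorem IsUB.reg_blockPart_of_mem (hA : IsUB M A) {f : G → ℂ} (hf : f ∈ regSpan p A) :
    reg p (blockPart A f) = f := by
  induction hf using Submodule.span_induction with
  | mem x hx =>
    obtain ⟨χ, hχ, rfl⟩ := hx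
    rw [hA.blockPart_reg χ.2.isClassFunction, reg_reg, blockPart_irr_of_mem hχ]
  | zero => rw [blockPart_zero, reg_zero]
  | add x y _ _ hx hy => rw [blockPart_add, reg_add, hx, hy]
  | smul c x _ hx => rw [blockPart_smul, reg_smul, hx]

theorem IsUB.blockRank_eq_sum [Fintype G] (hA : IsUB M A) :
    (blockRank p A : ℂ) = ∑ χ ∈ fs A, classInner (reg p χ.1) χ.1 := by
  have h : LinearMap.IsProj (regSpan p A) (regL p ∘ₗ bpL A) :=
    ⟨fun θ => reg_blockPart_mem A θ, fun _ hf => hA.reg_blockPart_of_mem hf⟩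
  let ci : IrrCharacter G → (G → ℂ) →ₗ[ℂ] ℂ := fun χ =>
    { toFun := fun θ => classInner θ χ.1
      map_add' := fun θ φ => classInner_add_left _ _ _
      map_smul' := fun c θ => classInner_smul_left _ _ _ }
  have h1 : regL p ∘ₗ bpL A = ∑ χ ∈ fs A, (ci χ).smulRight (reg p χ.1) := by
    refine LinearMap.ext fun θ => ?_
    rw [LinearMap.sum_apply]
    change reg p (blockPart A θ) = _
    rw [blockPart_fs, reg_sum]
    exact Finset.sum_congr rfl fun χ _ => reg_smul _ _
  rw [blockRank_eq, ← h.trace, h1, map_sum]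
  exact Finset.sum_congr rfl fun χ _ => LinearMap.trace_smulRight _ _

theorem classInner_reg_self_re_le [Fintype G] (χ : IrrCharacter G) :
    (classInner (reg p χ.1) χ.1).re ≤ 1 ∧
      ((classInner (reg p χ.1) χ.1).re = 1 → ∀ x, p ∣ orderOf x → χ.1 x = 0) := by
  have h1 : classInner (χ.1 - reg p χ.1) (χ.1 - reg p χ.1) = 1 - classInner (reg p χ.1) χ.1 := by
    rw [classInner_sub_left, classInner_sub_right, classInner_sub_right, classInner_reg_reg,
      χ.2.classInner_self, ← classInner_reg_comm]; ring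
  have h2 := classInner_self_re_nonneg (χ.1 - reg p χ.1)
  refine ⟨by rw [h1, Complex.sub_re, Complex.one_re] at h2; linarith, fun h x hx => ?_⟩
  have h3 : classInner (χ.1 - reg p χ.1) (χ.1 - reg p χ.1) = 0 :=
    Complex.ext (by rw [h1, Complex.sub_re, Complex.one_re, h, sub_self, Complex.zero_re])
      (classInner_self_im _)
  have := congrFun (classInner_self_eq_zero.1 h3) x
  rwa [Pi.sub_apply, reg_of_dvd hx, sub_zero] at this

theorem IsUB.apply_eq_zero_of_rank (hA : IsUB M A) (h : (fs A).card = blockRank p A)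
    {χ : IrrCharacter G} (hχ : χ ∈ A) {x : G} (hx : p ∣ orderOf x) : χ.1 x = 0 := by
  have := Fintype.ofFinite G
  have h1 := congrArg Complex.re (hA.blockRank_eq_sum (p := p))
  rw [← h, Complex.natCast_re, Complex.re_sum, Finset.card_eq_sum_ones, Nat.cast_sum] at h1
  refine (classInner_reg_self_re_le χ).2 ?_ x hx
  have := (Finset.sum_eq_sum_iff_of_le fun χ _ => (classInner_reg_self_re_le (p := p) χ).1).1
    (h1.symm.trans (by simp)) χ (mem_fs.2 hχ)
  exact this

open Classical in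
variable (M) in
/-- The blocks contained in a union of blocks. -/
noncomputable def blocksIn (A : Set (IrrCharacter G)) : Finset (Set (IrrCharacter G)) :=
  (fs A).image fun χ => blockOf M χ.1

omit [PMod M p] in
theorem IsUB.mem_blocksIn [M.IsMaximal] (hA : IsUB M A) {b : Set (IrrCharacter G)} :
    b ∈ blocksIn M A ↔ IsPBlock M b ∧ b ⊆ A := by
  classical
  rw [blocksIn, Finset.mem_image]
  constructor
  · rintro ⟨χ, hχ, rfl⟩
    exact ⟨isPBlock_blockOf χ, hA.eq_of_forall (mem_fs.1 hχ)⟩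
  · rintro ⟨⟨χ, rfl⟩, h⟩
    exact ⟨χ, mem_fs.2 (h (mem_blockOf_self χ)), rfl⟩

omit [PMod M p] in
theorem IsUB.sum_blocksIn [M.IsMaximal] (hA : IsUB M A) {β : Type*} [AddCommMonoid β]
    (f : IrrCharacter G → β) : ∑ b ∈ blocksIn M A, ∑ χ ∈ fs b, f χ = ∑ χ ∈ fs A, f χ := by
  classical
  rw [← Finset.sum_fiberwise_of_maps_to (s := fs A) (t := blocksIn M A)
    (g := fun χ => blockOf M χ.1) fun χ hχ => Finset.mem_image_of_mem _ hχ]
  refine Finset.sum_congr rfl fun b hb => Finset.sum_congr ?_ fun _ _ => rfl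
  obtain ⟨h1, h2⟩ := hA.mem_blocksIn.1 hb
  ext χ
  simp only [mem_fs, Finset.mem_filter]
  exact ⟨fun h => ⟨h2 h, (h1.eq_blockOf h).symm⟩, fun h => h.2 ▸ mem_blockOf_self χ⟩

theorem IsUB.blockRank_eq_sum_blocksIn (hA : IsUB M A) :
    blockRank p A = ∑ b ∈ blocksIn M A, blockRank p b := by
  have := Fintype.ofFinite G
  apply Nat.cast_injective (R := ℂ)
  rw [hA.blockRank_eq_sum, ← hA.sum_blocksIn, Nat.cast_sum]
  exact Finset.sum_congr rfl fun b hb => (hA.mem_blocksIn.1 hb).1.isUB.blockRank_eq_sum.symm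

end Rank

/-! ### Subsections -/

section Sec

/-- An element inside its own centralizer. -/
def uC (u : G) : Ce1 u := ⟨u, mem_Ce1.2 rfl⟩

omit [Finite G] in
@[simp] theorem coe_uC (u : G) : (uC u : G) = u := rfl

/-- Values on the elements `u c` with `c` centralizing `u`. -/
def Ru (u : G) (θ : G → ℂ) : Ce1 u → ℂ := fun c => θ (u * c)

omit [Finite G] in
theorem commute_Ce1 {u : G} (c : Ce1 u) : Commute u c := (mem_Ce1.1 c.2).symm

omit [Finite G] in
theorem isClassFunction_Ru (u : G) {θ : G → ℂ} (hθ : IsClassFunction G θ) :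
    IsClassFunction (Ce1 u) (Ru u θ) := fun g x => by
  simp only [Ru, Subgroup.coe_mul, Subgroup.coe_inv]
  rw [← hθ.apply_conj (u * g) x, ← mul_assoc, ← mul_assoc, (commute_Ce1 x).eq, mul_assoc (x : G) u]

/-- `Ru` as a linear map. -/
def RuL (u : G) : (G → ℂ) →ₗ[ℂ] (Ce1 u → ℂ) where
  toFun := Ru u
  map_add' _ _ := rfl
  map_smul' _ _ := rfl

omit [Finite G] in
theorem Ru_sum (u : G) {ι : Type*} (s : Finset ι) (f : ι → G → ℂ) :
    Ru u (∑ i ∈ s, f i) = ∑ i ∈ s, Ru u (f i) := map_sum (RuL u) f s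

omit [Finite G] in
theorem isPPart_Ce1 {u : G} (hu : ∃ k : ℕ, orderOf u = p ^ k) {s : Ce1 u} (hs : ¬ p ∣ orderOf s) :
    IsPPart p (u * s) u :=
  isPPart_mul (commute_Ce1 s) hu (by rwa [Subgroup.orderOf_coe])

theorem blockPart_Ru (u : G) (e : Set (IrrCharacter (Ce1 u))) {θ : G → ℂ}
    (hθ : IsClassFunction G θ) (s : Ce1 u) :
    blockPart e (Ru u θ) s = ch θ (es (Ce1 u) (fC e) * single (u * s) 1) := by
  have := Fintype.ofFinite (Ce1 u)
  rw [blockPart_eq_ch (isClassFunction_Ru u hθ), show u * s = (uC u * s : Ce1 u) from rfl,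
    ← es_single, ← map_mul (es (Ce1 u)), ch_es, ch_mul_single, ch_mul_single]
  refine Finset.sum_congr rfl fun g _ => ?_
  simp only [Ru, Subgroup.coe_mul, coe_uC]
  rw [← mul_assoc, ← mul_assoc, (commute_Ce1 g).eq]

/-- The local component of a class function at a subsection. -/
noncomputable def loc (p : ℕ) (u : G) (e : Set (IrrCharacter (Ce1 u))) (θ : G → ℂ) : Ce1 u → ℂ :=
  reg p (blockPart e (Ru u θ))

theorem isClassFunction_loc (u : G) (e : Set (IrrCharacter (Ce1 u))) (θ : G → ℂ) :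
    IsClassFunction (Ce1 u) (loc p u e θ) :=
  isClassFunction_reg p (isClassFunction_blockPart _ _)

theorem loc_mem (u : G) (e : Set (IrrCharacter (Ce1 u))) (θ : G → ℂ) :
    loc p u e θ ∈ regSpan p e := reg_blockPart_mem _ _

theorem reg_loc (u : G) (e : Set (IrrCharacter (Ce1 u))) (θ : G → ℂ) :
    reg p (loc p u e θ) = loc p u e θ := reg_reg _

theorem loc_add (u : G) (e : Set (IrrCharacter (Ce1 u))) (θ φ : G → ℂ) :
    loc p u e (θ + φ) = loc p u e θ + loc p u e φ := by
  rw [loc, loc, loc, ← reg_add, ← blockPart_add]; rfl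

theorem loc_sub (u : G) (e : Set (IrrCharacter (Ce1 u))) (θ φ : G → ℂ) :
    loc p u e (θ - φ) = loc p u e θ - loc p u e φ := by
  rw [loc, loc, loc, ← reg_sub, ← blockPart_sub]; rfl

theorem loc_smul (u : G) (e : Set (IrrCharacter (Ce1 u))) (c : ℂ) (θ : G → ℂ) :
    loc p u e (c • θ) = c • loc p u e θ := by
  rw [loc, loc, ← reg_smul, ← blockPart_smul]; rfl

theorem loc_zero (u : G) (e : Set (IrrCharacter (Ce1 u))) : loc p u e 0 = 0 := by
  rw [loc, show Ru u 0 = 0 from rfl, blockPart_zero, reg_zero]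

theorem loc_sum (u : G) (e : Set (IrrCharacter (Ce1 u))) {ι : Type*} (s : Finset ι)
    (f : ι → G → ℂ) : loc p u e (∑ i ∈ s, f i) = ∑ i ∈ s, loc p u e (f i) := by
  simp only [loc, Ru_sum, blockPart_sum, reg_sum]

theorem loc_apply {u : G} (e : Set (IrrCharacter (Ce1 u))) {θ : G → ℂ}
    (hθ : IsClassFunction G θ) {s : Ce1 u} (hs : ¬ p ∣ orderOf s) :
    loc p u e θ s = ch θ (es (Ce1 u) (fC e) * single (u * s) 1) := by
  rw [loc, reg_of_preg hs, blockPart_Ru u e hθ]

theorem exists_coeff_Ru {u : G} [Fintype (Ce1 u)] (ξ : IrrCharacter (Ce1 u)) : ∃ ω : ℂ,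
    ω ^ orderOf u = 1 ∧ (∀ c, ξ.1 (uC u * c) = ω * ξ.1 c) ∧
      ∀ θ : G → ℂ, classInner (Ru u θ) ξ = ω * classInner (fun c : Ce1 u => θ c) ξ := by
  obtain ⟨ω, h1, h2⟩ := exists_root_mul ξ.2 (mem_center_Ce1 u)
  have h3 : ω ^ orderOf u = 1 := by rwa [← Subgroup.orderOf_coe] at h1
  have h0 : orderOf u ≠ 0 := (orderOf_pos u).ne'
  refine ⟨ω, h3, h2, fun θ => ?_⟩
  have h4 : ω * conj ω = 1 := by
    rw [conj_eq_inv_of_pow h0 h3]
    exact mul_inv_cancel₀ fun h => by simp [h, h0] at h3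
  rw [classInner, classInner, mul_left_comm, Finset.mul_sum (a := ω)]
  congr 1
  refine Fintype.sum_equiv (Equiv.mulLeft (uC u)) _ _ fun c => ?_
  simp only [Ru, Equiv.coe_mulLeft, Subgroup.coe_mul, coe_uC]
  rw [show ξ.1 (uC u * c) = ω * ξ.1 c from h2 c, map_mul]
  linear_combination -(θ (u * c) * conj (ξ.1 c)) * h4

section Iu

variable [Fintype G]

/-- The class function on `G` supported on the `p`-section of `u` with given local values. -/
noncomputable def Iu (p : ℕ) (u : G) (φ : Ce1 u → ℂ) : G → ℂ :=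
  indFun (Ce1 u) fun c => reg p φ ((uC u)⁻¹ * c)

theorem isClassFunction_Iu (u : G) (φ : Ce1 u → ℂ) : IsClassFunction G (Iu p u φ) :=
  isClassFunction_indFun _ _

theorem Iu_reg (u : G) (φ : Ce1 u → ℂ) : Iu p u (reg p φ) = Iu p u φ := by rw [Iu, reg_reg, Iu]

theorem Iu_add (u : G) (φ ψ : Ce1 u → ℂ) : Iu p u (φ + ψ) = Iu p u φ + Iu p u ψ := by
  rw [Iu, Iu, Iu, ← indFun_add, reg_add]; rfl

theorem Iu_sub (u : G) (φ ψ : Ce1 u → ℂ) : Iu p u (φ - ψ) = Iu p u φ - Iu p u ψ := by
  rw [Iu, Iu, Iu, ← indFun_sub, reg_sub]; rfl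

theorem Iu_smul (u : G) (c : ℂ) (φ : Ce1 u → ℂ) : Iu p u (c • φ) = c • Iu p u φ := by
  rw [Iu, Iu, ← indFun_smul, reg_smul]; rfl

theorem Iu_zero (u : G) : Iu p u 0 = 0 := by
  rw [Iu, reg_zero]; exact indFun_zero _

theorem Iu_sum (u : G) {ι : Type*} (s : Finset ι) (f : ι → Ce1 u → ℂ) :
    Iu p u (∑ i ∈ s, f i) = ∑ i ∈ s, Iu p u (f i) := by
  classical
  induction s using Finset.induction_on with
  | empty => simp [Iu_zero]
  | insert a s h ih => rw [Finset.sum_insert h, Finset.sum_insert h, Iu_add, ih]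

theorem classInner_Iu_left {u : G} [Fintype (Ce1 u)] (φ : Ce1 u → ℂ) {θ : G → ℂ}
    (hθ : IsClassFunction G θ) : classInner (Iu p u φ) θ = classInner (reg p φ) (Ru u θ) := by
  rw [Iu, frobenius_left _ _ hθ, classInner, classInner]
  congr 1
  exact (Fintype.sum_equiv (Equiv.mulLeft (uC u)) _ _ fun c => by simp [Ru]).symm

theorem classInner_Iu_right {u : G} [Fintype (Ce1 u)] (φ : Ce1 u → ℂ) {θ : G → ℂ}
    (hθ : IsClassFunction G θ) : classInner θ (Iu p u φ) = classInner (Ru u θ) (reg p φ) := by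
  rw [← conj_classInner, classInner_Iu_left φ hθ, conj_classInner]

variable [Fact p.Prime] {u : G}

theorem Iu_eq_zero (hu : ∃ k : ℕ, orderOf u = p ^ k) (φ : Ce1 u → ℂ) {g x : G}
    (hx : IsPPart p g x) (h : ¬ IsConj u x) : Iu p u φ g = 0 := by
  refine indFun_eq_zero _ _ _ fun y hy => reg_of_dvd (by_contra fun hs => h ?_)
  have h1 := isPPart_Ce1 hu hs
  simp only [Subgroup.coe_mul, Subgroup.coe_inv, coe_uC, mul_inv_cancel_left] at h1
  rw [h1.unique (hx.conj y)]
  exact (isConj_iff.2 ⟨y, rfl⟩ : IsConj x _).symm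

theorem Iu_apply (hu : ∃ k : ℕ, orderOf u = p ^ k) {φ : Ce1 u → ℂ}
    (hφ : IsClassFunction (Ce1 u) φ) {s : Ce1 u} (hs : ¬ p ∣ orderOf s) :
    Iu p u φ (u * s) = φ s := by
  classical
  have := Fintype.ofFinite (Ce1 u)
  have h1 : ∀ y : G, extendByZero (Ce1 u) (fun c => reg p φ ((uC u)⁻¹ * c)) (y * (u * s) * y⁻¹) =
      extendByZero (Ce1 u) (fun _ => φ s) y := fun y => by
    by_cases hy : y ∈ Ce1 u
    · have h2 : y * (u * s) * y⁻¹ = ↑(uC u * ((⟨y, hy⟩ : Ce1 u) * s * (⟨y, hy⟩ : Ce1 u)⁻¹)) := by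
        simp only [Subgroup.coe_mul, Subgroup.coe_inv, coe_uC]
        rw [← mul_assoc y, mem_Ce1.1 hy]; group
      rw [h2, extendByZero_coe, extendByZero_of_mem _ _ hy, inv_mul_cancel_left,
        reg_of_preg (by rwa [orderOf_conj']), hφ.apply_conj]
    · rw [extendByZero_of_not_mem _ _ hy, extendByZero_eq]
      split_ifs with h
      · refine reg_of_dvd (by_contra fun hs' => hy ?_)
        have h2 := isPPart_Ce1 hu hs'
        simp only [Subgroup.coe_mul, Subgroup.coe_inv, coe_uC, mul_inv_cancel_left] at h2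
        have h3 := h2.unique ((isPPart_Ce1 hu hs).conj y)
        rw [mem_Ce1]
        conv_rhs => rw [h3]
        group
      · rfl
  rw [Iu, indFun_apply', Finset.sum_congr rfl fun y _ => h1 y, sum_extendByZero, Finset.sum_const,
    Finset.card_univ, ← Nat.card_eq_fintype_card, nsmul_eq_mul,
    inv_mul_cancel_left₀ (card_ne_zero' _)]

theorem reg_Ru_Iu (hu : ∃ k : ℕ, orderOf u = p ^ k) {φ : Ce1 u → ℂ}
    (hφ : IsClassFunction (Ce1 u) φ) : reg p (Ru u (Iu p u φ)) = reg p φ :=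
  reg_congr fun _ hs => Iu_apply hu hφ hs

theorem reg_Ru_Iu_of_not_conj (hu : ∃ k : ℕ, orderOf u = p ^ k) (φ : Ce1 u → ℂ) {v : G}
    (hv : ∃ k : ℕ, orderOf v = p ^ k) (h : ¬ IsConj u v) : reg p (Ru v (Iu p u φ)) = 0 := by
  rw [← reg_zero (p := p)]
  exact reg_congr fun _ hs => Iu_eq_zero hu φ (isPPart_Ce1 hv hs) h

theorem Iu_Ru_apply (hu : ∃ k : ℕ, orderOf u = p ^ k) {θ : G → ℂ} (hθ : IsClassFunction G θ)
    {g x : G} (hx : IsPPart p g x) (h : IsConj u x) : Iu p u (Ru u θ) g = θ g := by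
  obtain ⟨y, rfl⟩ := isConj_iff.1 h
  have h1 := hx.conj y⁻¹
  simp only [inv_inv, mul_assoc, inv_mul_cancel_left, inv_mul_cancel, mul_one] at h1
  have h2 := Iu_apply hu (isClassFunction_Ru u hθ)
    (s := ⟨u⁻¹ * (y⁻¹ * (g * y)), h1.Ce1_le.trans' le_rfl
      (by rw [mem_Ce1]; exact ((h1.commute.inv_left.mul_left (Commute.refl _))).eq)⟩)
    (by rw [← Subgroup.orderOf_coe]; exact h1.preg)
  simp only [Ru, mul_inv_cancel_left] at h2
  rw [← mul_assoc, (isClassFunction_Iu u _).apply_conj', hθ.apply_conj'] at h2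
  exact h2

theorem sum_Iu_Ru {X : Finset G} (hX : ∀ x ∈ X, ∃ k : ℕ, orderOf x = p ^ k)
    (hrep : ∀ g : G, (∃ k : ℕ, orderOf g = p ^ k) → ∃! x, x ∈ X ∧ IsConj g x) {θ : G → ℂ}
    (hθ : IsClassFunction G θ) : ∑ u ∈ X, Iu p u (Ru u θ) = θ := by
  funext g
  obtain ⟨x, hx⟩ := exists_isPPart p g
  obtain ⟨u, ⟨h1, h2⟩, h3⟩ := hrep x hx.pelt
  rw [Finset.sum_apply, Finset.sum_eq_single_of_mem u h1 fun v hv hne =>
    Iu_eq_zero (hX v hv) _ hx fun h => hne (h3 v ⟨hv, h.symm⟩), Iu_Ru_apply (hX u h1) hθ hx h2.symm]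

omit [Fintype G] in
theorem exists_pelt_reps (p : ℕ) (G : Type*) [Group G] [Finite G] : ∃ X : Finset G,
    (∀ x ∈ X, ∃ k : ℕ, orderOf x = p ^ k) ∧
      ∀ g : G, (∃ k : ℕ, orderOf g = p ^ k) → ∃! x, x ∈ X ∧ IsConj g x := by
  classical
  have := Fintype.ofFinite G
  refine ⟨Finset.univ.filter fun x => (∃ k : ℕ, orderOf x = p ^ k) ∧
    (ConjClasses.mk x).out = x, fun x hx => (Finset.mem_filter.1 hx).2.1, fun g hg => ?_⟩
  have h1 : ConjClasses.mk (ConjClasses.mk g).out = ConjClasses.mk g := Quotient.out_eq _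
  have h2 : IsConj g (ConjClasses.mk g).out := ConjClasses.mk_eq_mk_iff_isConj.1 h1.symm
  refine ⟨(ConjClasses.mk g).out, ⟨Finset.mem_filter.2 ⟨Finset.mem_univ _,
    by rwa [← orderOf_of_isConj h2], by rw [h1]⟩, h2⟩, fun y ⟨hy, hc⟩ => ?_⟩
  rw [ConjClasses.mk_eq_mk_iff_isConj.2 hc, (Finset.mem_filter.1 hy).2.2]

end Iu

end Sec

end Cfsg.Agent.Blk
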