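import Cfsg.Agent.Lib.Block.Wat

set_option autoImplicit false

namespace Cfsg.Agent.Blk

open MonoidAlgebra
open Cfsg.Agent.Char hiding cj cj_mul cj_inv_cj cj_cj_inv sum_cj_eq om
open scoped ComplexConjugate
attribute [local instance] _root_.Classical.propDecidable
open Subgroup (zpowers mem_zpowers)

variable {G : Type*} [Group G] [Finite G] {M : Ideal AlgInt} {p : ℕ} [PMod M p]
  {B : Set (IrrCharacter G)} {θ : G → ℂ} {u : G}

theorem dc_comp {H : Type*} [Group H] [Finite H] (τ : H →* G) (hθ : IsClassFunction G θ)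
    {i : (kk M)[H]} (hi : IsIdempotentElem i) : dc (fun h => θ (τ h)) i = dc θ (emb τ i) := by
  obtain ⟨h1, h2⟩ := il_top hi
  rw [← h2, dc_eq (hθ.comp τ) h1, ← cf_emb, dc_eq hθ (h1.map (emb τ)), cf_emb, ch_emb]

omit [PMod M p] in
theorem sum_fs_eq_blockPart [Fintype G] (B : Set (IrrCharacter G)) (θ : G → ℂ) :
    ∑ χ ∈ fs B, classInner θ χ.1 • χ.1 = blockPart B θ := by
  funext g
  rw [blockPart_eq, Finset.sum_apply, ← Finset.sum_filter]
  exact Finset.sum_congr (by ext; simp [mem_fs]) fun _ _ => rfl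

theorem Iu_one_Ru [Fintype G] [Fact p.Prime] (hθ : IsClassFunction G θ) :
    Iu p 1 (Ru 1 θ) = reg p θ := by
  funext g
  obtain ⟨x, hx⟩ := exists_isPPart p g
  by_cases h1 : x = 1
  · rw [Iu_Ru_apply pelt_one hθ hx (h1 ▸ IsConj.refl _), reg_of_preg (hx.eq_one_iff.1 h1)]
  · rw [Iu_eq_zero pelt_one _ hx fun h => h1 (isConj_one_right.1 h),
      reg_of_dvd (not_not.1 (mt hx.eq_one_iff.2 h1))]

theorem IsUB.exists_nat_sec [Fintype G] (hB : IsUB M B) (hu : ∃ k : ℕ, orderOf u = p ^ k) {k : ℕ}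
    (hk : ∀ s : G, ¬ p ∣ orderOf s → s ^ k = s)
    (hB' : ∀ χ ∈ B, ∃ ψ ∈ B, ∀ g, ψ.1 g = χ.1 (g ^ k)) :
    ∃ n : ℕ, ∑ χ ∈ fs B, classInner (Iu p u (Ru u fun g => χ.1 (g ^ k))) χ.1 = n := by
  haveI : Fact p.Prime := ⟨PMod.prime M⟩
  have := Fintype.ofFinite (Ce1 u)
  have hA := isUB_locSet (M := M) (Ce1 u) B
  obtain ⟨I, hI⟩ := hA.exists_pts
  set A := locSet M (Ce1 u) B
  have h1 : ∀ χ ∈ fs B, classInner (Iu p u (Ru u fun g => χ.1 (g ^ k))) χ.1 =
      ∑ i : I, dc (classInner (Iu p u (ibr A I i)) χ.1 • reg p (Ru u fun g => χ.1 (g ^ k))) i.1 := by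
    intro χ hχ
    obtain ⟨ψ, h2, h3⟩ := hB' χ (mem_fs.1 hχ)
    rw [← funext h3, ← Iu_reg, ← hB.loc_locSet hu h2]
    conv_lhs => rw [hI.eq_sum (loc_mem u _ ψ.1), Iu_sum, classInner_sum_left]
    exact Finset.sum_congr rfl fun i _ => by
      rw [Iu_smul, classInner_smul_left, dc_smul_left, mul_comm]
  rw [Finset.sum_congr rfl h1, Finset.sum_comm]
  have h2 : ∀ i : I, ∃ n : ℕ, ∑ χ ∈ fs B, dc (classInner (Iu p u (ibr A I i)) χ.1 •
      reg p (Ru u fun g => χ.1 (g ^ k))) i.1 = n := by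
    intro i
    have h3 := sum_fs_eq_blockPart B (Iu p u (ibr A I i))
    rw [hB.blockPart_Iu hu (hI.isClassFunction_ibr i), hA.blockPart_of_mem (hI.ibr_mem i)] at h3
    have h4 : ∀ s : Ce1 u, ¬ p ∣ orderOf s → (u * s) ^ k = u ^ k * s := fun s hs => by
      rw [(commute_Ce1 s).mul_pow, hk s (by rwa [Subgroup.orderOf_coe])]
    have h5 : ∑ χ ∈ fs B, classInner (Iu p u (ibr A I i)) χ.1 • reg p (Ru u fun g => χ.1 (g ^ k)) =
        reg p fun s : Ce1 u => Iu p u (ibr A I i) (u ^ k * s) := by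
      funext s
      rw [Finset.sum_apply]
      by_cases hs : p ∣ orderOf s
      · simp [reg_of_dvd hs]
      · rw [reg_of_preg hs, ← congrFun h3, Finset.sum_apply]
        simp [reg_of_preg hs, Ru, h4 s hs]
    rw [← dc_sum_left, h5]
    have h6 : ∀ s : Ce1 u, ¬ p ∣ orderOf s → IsPPart p (u ^ k * s) (u ^ k) := fun s hs =>
      isPPart_mul ((commute_Ce1 s).pow_left k) (pelt_of_dvd hu (orderOf_pow_dvd k))
        (by rwa [Subgroup.orderOf_coe])
    by_cases hc : IsConj u (u ^ k)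
    · obtain ⟨t, ht⟩ := isConj_iff.1 hc
      let τ : Ce1 u →* Ce1 u := ((MulAut.conj t⁻¹).toMonoidHom.comp (Ce1 u).subtype).codRestrict _
        fun s => by
          have := ((commute_Ce1 s).pow_left k).map (MulAut.conj t⁻¹)
          rw [← ht] at this
          rw [mem_Ce1]
          simpa [mul_assoc] using this.symm.eq
      have h7 : (reg p fun s : Ce1 u => Iu p u (ibr A I i) (u ^ k * s)) =
          reg p fun s => ibr A I i (τ s) := reg_congr fun s hs => by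
        rw [← Iu_apply hu (hI.isClassFunction_ibr i) (s := τ s) fun h => hs
          (h.trans (orderOf_map_dvd τ s)), ← ht, ← (isClassFunction_Iu u _).apply_conj (u * τ s) t]
        simp [τ, mul_assoc]
      rw [h7, dc_reg ((hI.isClassFunction_ibr i).comp τ) (hI.idem i),
        dc_comp τ (hI.isClassFunction_ibr i) (hI.idem i)]
      exact (hI.exists_nat_dc_ibr i ((hI.idem i).map (emb τ))).imp fun _ h => h.1
    · refine ⟨0, ?_⟩
      rw [show (reg p fun s : Ce1 u => Iu p u (ibr A I i) (u ^ k * s)) = 0 from ?_, dc_zero_left,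
        Nat.cast_zero]
      funext s
      by_cases hs : p ∣ orderOf s
      · exact reg_of_dvd hs
      · rw [reg_of_preg hs, Iu_eq_zero hu _ (h6 s hs) hc]; rfl
  choose n hn using h2
  exact ⟨∑ i, n i, by rw [Nat.cast_sum]; exact Finset.sum_congr rfl fun i _ => hn i⟩

theorem IsUB.rank_le_card_fixed (hB : IsUB M B) {k : ℕ}
    (hk : ∀ s : G, ¬ p ∣ orderOf s → s ^ k = s)
    (hB' : ∀ χ ∈ B, ∃ ψ ∈ B, ∀ g, ψ.1 g = χ.1 (g ^ k)) :
    blockRank p B ≤ Nat.card {χ : IrrCharacter G // χ ∈ B ∧ ∀ g, χ.1 (g ^ k) = χ.1 g} := by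
  haveI : Fact p.Prime := ⟨PMod.prime M⟩
  have := Fintype.ofFinite G
  obtain ⟨X, hX, hrep⟩ := exists_pelt_reps p G
  obtain ⟨x, ⟨h1, h2⟩, -⟩ := hrep 1 pelt_one
  obtain rfl := isConj_one_right.1 h2
  choose n hn using fun u : X => hB.exists_nat_sec (hX u u.2) hk hB'
  have h3 : (Nat.card {χ : IrrCharacter G // χ ∈ B ∧ ∀ g, χ.1 (g ^ k) = χ.1 g} : ℂ) = ∑ u, n u := by
    rw [Nat.cast_sum, ← Finset.sum_congr rfl fun u _ => hn u, Finset.sum_comm, Nat.card_eq_fintype_card,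
      Fintype.card_subtype, show (Finset.univ.filter fun χ : IrrCharacter G => χ ∈ B ∧
        ∀ g, χ.1 (g ^ k) = χ.1 g) = (fs B).filter fun χ => ∀ g, χ.1 (g ^ k) = χ.1 g by
          ext; simp [mem_fs], Finset.card_filter, Nat.cast_sum]
    refine Finset.sum_congr rfl fun χ hχ => ?_
    obtain ⟨ψ, -, h3⟩ := hB' χ (mem_fs.1 hχ)
    rw [← classInner_sum_left, Finset.sum_coe_sort X (fun u => Iu p u (Ru u fun g => χ.1 (g ^ k))),
      sum_Iu_Ru hX hrep (χ.2.isClassFunction.comp_pow k), ← funext h3, classInner_irr]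
    have : (∀ g, χ.1 (g ^ k) = χ.1 g) ↔ ψ = χ :=
      ⟨fun h => Subtype.ext (funext fun g => (h3 g).trans (h g)), fun h g => by rw [← h3, h]⟩
    simp [this]
  have h4 : (blockRank p B : ℂ) = n ⟨1, h1⟩ := by
    rw [← hn, hB.blockRank_eq_sum]
    refine Finset.sum_congr rfl fun χ _ => ?_
    rw [Iu_one_Ru (χ.2.isClassFunction.comp_pow k),
      reg_congr (θ := fun g => χ.1 (g ^ k)) (φ := χ.1) fun s hs => by rw [hk s hs]]
  rw [Nat.cast_injective h4, Nat.cast_injective h3]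
  exact Finset.single_le_sum (fun _ _ => Nat.zero_le _) (Finset.mem_univ _)

end Cfsg.Agent.Blk
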