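import Cfsg.Agent.Lib.Block.Ord4

/-! Sylow subgroups of prime order and prime graph arguments. -/

set_option autoImplicit false

namespace Cfsg.Agent.Blk

open MonoidAlgebra Subgroup
open Cfsg.Agent.Char hiding cj cj_mul cj_inv_cj cj_cj_inv sum_cj_eq
open scoped ComplexConjugate
attribute [local instance] _root_.Classical.propDecidable

variable {G : Type*} [Group G] [Finite G] {p q r : ℕ} {x y g : G} {P H S N : Subgroup G}

/-- a generator of a Sylow subgroup of prime order -/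
structure S1 (p : ℕ) (x : G) : Prop where
  prime : p.Prime
  ord : orderOf x = p
  nsq : ¬ p ^ 2 ∣ Nat.card G

theorem exists_S1 (hp : p.Prime) (h1 : p ∣ Nat.card G) (h2 : ¬ p ^ 2 ∣ Nat.card G) :
    ∃ x : G, S1 p x :=
  haveI := Fact.mk hp
  (exists_prime_orderOf_dvd_card' p h1).imp fun _ h => ⟨hp, h, h2⟩

namespace S1

variable (h : S1 p x)
include h

theorem card : Nat.card (zpowers x) = p := by rw [Nat.card_zpowers, h.ord]

omit [Finite G] in
theorem of_ord (hg : orderOf g = p) : S1 p g := ⟨h.prime, hg, h.nsq⟩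

theorem isSyl : IsSyl p (zpowers x) ⊤ := by
  have := Fact.mk h.prime
  refine isSyl_of_not_dvd le_top (IsPGroup.of_card (h.card.trans (pow_one p).symm)) fun k => h.nsq ?_
  rw [relIndex_top_right] at k
  rw [← (zpowers x).card_mul_index, h.card, sq]
  exact Nat.mul_dvd_mul_left _ k

theorem exists_cs (hH : Nat.card H = p) : ∃ g, cs g H = zpowers x := by
  have := Fact.mk h.prime
  obtain ⟨g, -, hg⟩ := h.isSyl.exists_cs_le (IsPGroup.of_card (hH.trans (pow_one p).symm)) le_top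
  exact ⟨g, eq_of_le_of_card_ge hg (by rw [card_cs, hH, h.card])⟩

theorem card_No (hg : orderOf g = p) : Nat.card (No (zpowers g)) = Nat.card (No (zpowers x)) := by
  obtain ⟨k, hk⟩ := h.exists_cs (h.of_ord hg).card
  rw [← hk, ← cs_No, card_cs]

theorem card_Ce1 (hg : orderOf g = p) : Nat.card (Ce1 g) = Nat.card (Ce1 x) := by
  obtain ⟨k, hk⟩ := h.exists_cs (h.of_ord hg).card
  rw [← Ce_zpowers, ← Ce_zpowers, ← hk, ← cs_Ce, card_cs]

theorem index_modEq : (No (zpowers x)).index ≡ 1 [MOD p] := by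
  have := Fact.mk h.prime
  simpa using h.isSyl.relIndex_No

theorem No_eq : ∃ e, e ∣ p - 1 ∧ Nat.card (No (zpowers x)) = Nat.card (Ce1 x) * e :=
  haveI := Fact.mk h.prime
  ⟨_, relIndex_dvd_of_card_prime h.card le_rfl, by
    rw [← Ce_zpowers, Solv.card_mul_relIndex (Ce_le_No _)]⟩

theorem dvd_Ce1 : p ∣ Nat.card (Ce1 x) := h.ord ▸ Blk.dvd_Ce1 (Commute.refl x)

theorem cnt : Nat.card {g : G // orderOf g = p} = (No (zpowers x)).index * (p - 1) := by
  have := Fact.mk h.prime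
  obtain ⟨Q, hQ⟩ := isSyl_top_iff.1 h.isSyl
  have h1 : ∀ R : Sylow p G, Nat.card (R : Subgroup G) = p := fun R => by
    rw [R.card_eq_multiplicity, ← Q.card_eq_multiplicity, hQ, h.card]
  rw [← hQ, show (No (Q : Subgroup G)).index = _ from Q.card_eq_index_normalizer.symm,
    ← Transfer.cnt_true (α := Sylow p G), ← mul_one
    (Nat.card {g : G // orderOf g = p})]
  refine Transfer.cnt_mul_eq (fun g (R : Sylow p G) => g ∈ (R : Subgroup G)) (fun g hg => ?_) fun R _ => ?_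
  · obtain ⟨R, hR⟩ := isSyl_top_iff.1 (h.of_ord hg).isSyl
    rw [← Transfer.cnt_eq_one R]
    refine Transfer.cnt_congr fun T => ⟨fun k => Sylow.ext ?_, fun k => ⟨trivial, ?_⟩⟩
    · rw [hR, zpowers_eq_of_card (h1 T) k.2 fun e => h.prime.one_lt.ne (by
        rw [← hg, e, orderOf_one])]
    · rw [k, hR]; exact mem_zpowers g
  · have := Transfer.cnt_erase (p := fun g : G => g ∈ (R : Subgroup G)) (one_mem _)
    rw [show Nat.card {g : G // g ∈ (R : Subgroup G)} = p from h1 R] at this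
    refine Eq.trans (Transfer.cnt_congr fun g => ⟨fun k => ⟨k.2, fun e => h.prime.one_lt.ne (by
      rw [← k.1, e, orderOf_one])⟩, fun k => ⟨?_, k.1⟩⟩) (Nat.eq_sub_of_add_eq this)
    rw [← Nat.card_zpowers, zpowers_eq_of_card (h1 R) k.1 k.2, h1]

theorem le_of_dvd [S.Normal] (hS : p ∣ Nat.card S) : zpowers x ≤ S := by
  have := Fact.mk h.prime
  obtain ⟨y, hy⟩ := exists_prime_orderOf_dvd_card' p hS
  obtain ⟨g, hg⟩ := h.exists_cs (H := zpowers (y : G)) (by rw [Nat.card_zpowers, orderOf_coe, hy])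
  exact hg ▸ (cs_mono g (zpowers_le.2 y.2)).trans (cs_normal g S).le

theorem frat [S.Normal] (hS : p ∣ Nat.card S) : S.index * p ∣ Nat.card (No (zpowers x)) := by
  have := Fact.mk h.prime
  obtain ⟨Q, hQ⟩ := isSyl_top_iff.1 h.isSyl
  have h1 := h.le_of_dvd hS
  have h2 := Solv.card_sup_mul_card_inf (H := No (zpowers x)) (N := S) le_normalizer_of_normal
  have h3 : No (zpowers x) ⊔ S = ⊤ := by
    rw [← hQ] at h1 ⊢
    exact Q.normalizer_sup_eq_top' h1
  obtain ⟨m, hm⟩ := h.card ▸ card_dvd_of_le (le_inf (le_No _) h1)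
  rw [h3, card_top, ← S.card_mul_index, hm] at h2
  exact ⟨m, Nat.eq_of_mul_eq_mul_left (Nat.card_pos (α := S)) (by linarith)⟩

theorem sc (h1 : Nat.card (Ce1 x) = p) : SC p x :=
  ⟨h.prime, h.ord, Ce1_eq_of_card (h1.trans h.ord.symm)⟩

end S1

theorem exists_norm_syl [N.Normal] (hr : r.Prime) (q : ℕ) [Fact q.Prime] (h1 : r ∣ Nat.card G)
    (h2 : ¬ r ∣ Nat.card N) : ∃ (Q : Subgroup G) (a : G), IsSyl q Q N ∧ orderOf a = r ∧ a ∈ No Q := by
  have := Fact.mk hr
  obtain ⟨Q⟩ : Nonempty (Sylow q N) := inferInstance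
  have h3 := Solv.card_sup_mul_card_inf (H := No ((Q : Subgroup N).map N.subtype)) (N := N)
    le_normalizer_of_normal
  rw [Q.normalizer_sup_eq_top, card_top] at h3
  obtain ⟨a, ha⟩ := exists_prime_orderOf_dvd_card' r
    ((hr.dvd_mul.1 (h3 ▸ h1.mul_right _)).resolve_right h2)
  exact ⟨_, a, isSyl_map Q, by rw [orderOf_coe, ha], a.2⟩

/-- an element of prime order `r` normalizing `Q` centralizes an element of prime order in `Q`
unless `|Q| ≡ 1 mod r` -/
theorem modEq_of_norm (hr : r.Prime) (hx : orderOf x = r) (h1 : x ∈ No P)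
    (h : ∀ b ∈ P, Commute x b → b = 1) : Nat.card P ≡ 1 [MOD r] := by
  have := Fact.mk hr
  have h2 := cnt_mod (k := x) (p := r) (hx ▸ pow_orderOf_eq_one x) (A := fun g => g ∈ P)
    fun g hg => (mem_No.1 h1).le (conj_mem_cs.2 hg)
  rwa [Transfer.cnt_congr (p := fun g => g ∈ P ∧ Commute x g) (q := fun g => g = 1) fun g => ⟨fun k => h g k.1 k.2, by
    rintro rfl; exact ⟨one_mem _, Commute.one_right _⟩⟩, Transfer.cnt_eq_one] at h2

theorem lemL [N.Normal] (hr : r.Prime) (hq : q.Prime) (h1 : r ∣ Nat.card G)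
    (h2 : ¬ r ∣ Nat.card N) (h : ∀ a : G, orderOf a = r → ¬ q ∣ Nat.card (Ce1 a)) :
    q ^ (Nat.card N).factorization q ≡ 1 [MOD r] := by
  have := Fact.mk hq
  obtain ⟨Q, a, h3, h4, h5⟩ := exists_norm_syl hr q h1 h2
  rw [← h3.card_eq]
  refine modEq_of_norm hr h4 h5 fun b hb k => ?_
  obtain ⟨n, hn⟩ := (IsPGroup.iff_orderOf.1 h3.pg) ⟨b, hb⟩
  rw [← orderOf_coe] at hn
  by_contra k1
  refine h a h4 (Dvd.dvd.trans ?_ (dvd_Ce1 k))
  rw [hn]
  refine dvd_pow_self _ ?_
  rintro rfl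
  exact k1 (orderOf_eq_one_iff.1 hn)

end Cfsg.Agent.Blk
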