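import Cfsg.Agent.Lib.Block.More

/-! Counting blocks: class sums, Robinson's matrix, real `2`-blocks. -/

set_option autoImplicit false

namespace Cfsg.Agent.Blk

open MonoidAlgebra
open Cfsg.Agent.Char hiding cj cj_mul cj_inv_cj cj_cj_inv sum_cj_eq
open scoped ComplexConjugate

section
variable {G : Type*} [Group G] [Finite G] {M : Ideal AlgInt}

theorem not_dvd_index_Ce1 {p : ℕ} [Fact p.Prime] {P : Subgroup G} (hP : IsSyl p P ⊤) {g : G}
    (hg : g ∈ Ce P) : ¬ p ∣ (Ce1 g).index := by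
  have := not_dvd_relIndex_of_isSyl hP (mem_Ce_iff_le.1 hg)
  rwa [Subgroup.relIndex_top_right] at this

theorem mem_principal_of_real [PMod M 2] {χ ψ : IrrCharacter G}
    (hodd : ¬ 2 ∣ charDegree (χ : G → ℂ)) (h : blk M ψ = blk M χ)
    (hr : ∀ g, ¬ 2 ∣ orderOf g → (ψ : G → ℂ) g = (χ : G → ℂ) g⁻¹) : χ ∈ principalBlock M G := by
  classical
  have := Fintype.ofFinite G
  have : Fact (Nat.Prime 2) := ⟨Nat.prime_two⟩
  have hB := isPBlock_blockOf (M := M) χ
  suffices h1 : ¬ MemLocalIdeal M (om χ (zr 2 (irrOne G).1)) by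
    rw [← hB.eq_of_mem isPBlock_principal ((hB.not_LI_om_zr_iff (mem_blockOf_self χ)).1 h1).1
      irrOne_mem_principal]
    exact mem_blockOf_self χ
  have hd : ¬ MemLocalIdeal M ((χ : G → ℂ) 1) := by rwa [← cast_deg, LI_natCast_iff]
  have hreg : ∀ x, reg 2 χ.1 x ∈ O M := fun x => by
    by_cases hx : 2 ∣ orderOf x
    · rw [reg_of_dvd hx]; exact zero_mem _
    · rw [reg_of_preg hx]; exact irr_mem_O M χ x
  rw [om, ch_zr, div_eq_mul_inv, LI_mul_unit_iff (inv_mem_O_of_not_LI (irr_mem_O M χ 1) hd)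
    (not_LI_inv (irr_mem_O M χ 1) χ.2.apply_one_ne_zero), mul_comm,
    LI_mul_unit_iff (pu_mem M G) (not_LI_pu M G)]
  simp only [irrOne_apply, mul_one]
  rw [← rd_eq_zero_iff (sum_mem fun x _ => hreg x), rd_sum _ _ fun x _ => hreg x]
  obtain ⟨P, hP⟩ := exists_isSyl 2 (⊤ : Subgroup G)
  rw [sum_eq_sum_Ce hP.pg _ fun x _ g => by
    rw [(isClassFunction_reg 2 χ.2.isClassFunction).apply_conj]]
  rw [← Finset.add_sum_erase _ _ (Finset.mem_univ 1), if_pos (one_mem _), reg_of_preg preg_one,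
    Finset.sum_involution (fun g _ => g⁻¹), add_zero]
  · rwa [rd_eq_zero_iff (irr_mem_O M χ 1)]
  · intro g _
    by_cases hg : g ∈ Ce P
    · rw [if_pos hg, if_pos (inv_mem hg)]
      by_cases hx : 2 ∣ orderOf g
      · rw [reg_of_dvd hx, reg_of_dvd (by rwa [orderOf_inv]), rd_zero, add_zero]
      rw [reg_of_preg hx, reg_of_preg (by rwa [orderOf_inv]), ← hr g hx]
      have h1 := sameBlock_iff.2 h g
      have h2 : (ψ : G → ℂ) 1 = (χ : G → ℂ) 1 := by rw [hr 1 preg_one, inv_one]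
      rw [centralChar, centralChar, h2, ← sub_div, ← mul_sub, div_eq_mul_inv,
        LI_mul_unit_iff (inv_mem_O_of_not_LI (irr_mem_O M χ 1) hd)
          (not_LI_inv (irr_mem_O M χ 1) χ.2.apply_one_ne_zero), mul_comm,
        LI_mul_unit_iff (natCast_mem _ _) (by rw [LI_natCast_iff]; exact not_dvd_index_Ce1 hP hg),
        ← rd_eq_iff (irr_mem_O M ψ g) (irr_mem_O M χ g)] at h1
      rw [h1]
      exact CharTwo.add_self_eq_zero _
    · rw [if_neg hg, if_neg (by rwa [inv_mem_iff]), add_zero]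
  · intro g hg h0 h1
    apply h0
    have h2 : orderOf g = 2 := orderOf_eq_prime (by rw [sq]; nth_rw 1 [← h1]; simp)
      (Finset.ne_of_mem_erase hg)
    rw [reg_of_dvd (by rw [h2]), rd_zero, ite_self]
  · intro g hg; simpa using hg
  · intro g _; exact inv_inv g

end

section
variable {G : Type*} [Group G]

/-- A representative of a conjugacy class. -/
noncomputable def rp (C : ConjClasses G) : G := (ConjClasses.mk_surjective C).choose

@[simp] theorem mk_rp (C : ConjClasses G) : ConjClasses.mk (rp C) = C :=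
  (ConjClasses.mk_surjective C).choose_spec

theorem isConj_rp_iff {C : ConjClasses G} {g : G} : IsConj (rp C) g ↔ ConjClasses.mk g = C := by
  rw [← ConjClasses.mk_eq_mk_iff_isConj, mk_rp, eq_comm]

theorem isConj_rp_mk (g : G) : IsConj (rp (ConjClasses.mk g)) g := isConj_rp_iff.2 rfl

theorem coeff_eq_of_isConj {R : Type*} [CommRing R] {z : R[G]} (hz : z ∈ Z R (⊤ : Subgroup G))
    {g h : G} (hc : IsConj g h) : z.coeff g = z.coeff h := by
  obtain ⟨c, rfl⟩ := isConj_iff.1 hc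
  rw [mem_Z_top.1 hz]

theorem card_Ce1_of_isConj {g h : G} (hc : IsConj g h) : Nat.card (Ce1 g) = Nat.card (Ce1 h) := by
  obtain ⟨c, rfl⟩ := isConj_iff.1 hc
  rw [← cs_Ce1, card_cs]

variable [Finite G]

open Classical in
theorem coeff_cls_top {R : Type*} [CommRing R] (g h : G) :
    (cls R ⊤ g).coeff h = if IsConj g h then 1 else 0 := by
  rw [coeff_cls]; simp only [exists_conj_top_iff]

theorem cls_top_congr {R : Type*} [CommRing R] {g h : G} (hc : IsConj g h) :
    cls R ⊤ g = cls R ⊤ h := ext' fun x => by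
  classical
  rw [coeff_cls_top, coeff_cls_top]
  exact if_congr ⟨fun h' => hc.symm.trans h', fun h' => hc.trans h'⟩ rfl rfl

theorem cls_mem_top {R : Type*} [CommRing R] (g : G) : cls R ⊤ g ∈ Z R (⊤ : Subgroup G) :=
  cls_mem_Z trivial

theorem Z_eq_sum_cls {R : Type*} [CommRing R] [Fintype (ConjClasses G)] {z : R[G]}
    (hz : z ∈ Z R (⊤ : Subgroup G)) : z = ∑ C, z.coeff (rp C) • cls R ⊤ (rp C) := by
  classical
  refine ext' fun g => ?_
  rw [coeff_sum', Finset.sum_eq_single (ConjClasses.mk g)]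
  · rw [coeff_smul', coeff_cls_top, if_pos (isConj_rp_mk g), mul_one,
      coeff_eq_of_isConj hz (isConj_rp_mk g)]
  · intro C _ hC
    rw [coeff_smul', coeff_cls_top, if_neg (fun h => hC (isConj_rp_iff.1 h).symm), mul_zero]
  · simp

theorem IsBlock.lam_eq_sum_cls {k : Type*} [Field k] [IsAlgClosed k] [Fintype (ConjClasses G)]
    {e z : k[G]} (he : IsBlock ⊤ e) (hz : z ∈ Z k (⊤ : Subgroup G)) :
    lam e z = ∑ C, z.coeff (rp C) * lam e (cls k ⊤ (rp C)) := by
  conv_lhs => rw [Z_eq_sum_cls hz]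
  rw [he.lam_sum _ _ fun C _ => Subalgebra.smul_mem _ (cls_mem_top _) _]
  exact Finset.sum_congr rfl fun C _ => he.lam_smul _ (cls_mem_Z trivial)

variable {k : Type*} [Field k] {p : ℕ} [Fact p.Prime] [CharP k p] [IsAlgClosed k]
  {H D E : Subgroup G} {e : k[G]} {g : G}

theorem IsBlock.exists_cs_le_of_lam (he : IsBlock H e) (hD : IsDef p H e D) (hg : g ∈ H)
    (h : lam e (cls k H g) ≠ 0) (hE : IsSyl p E (H ⊓ Ce1 g)) : ∃ x ∈ H, cs x D ≤ E :=
  he.brSub_of_lam (cls_mem_Z hg) h (brSub_cls hE) D hD.le hD.pg hD.ne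

omit [IsAlgClosed k] [CharP k p] [Finite G] [Fact p.Prime] in
theorem IsDef.exists_cs_le_of_coeff (hD : IsDef p H e D) (h : e.coeff g ≠ 0)
    (hE : IsSyl p E (H ⊓ Ce1 g)) : ∃ x ∈ H, Blk.cs x E ≤ D :=
  hD.sub E (hE.le.trans inf_le_left) hE.pg
    (Br_ne_zero_iff.2 ⟨g, mem_Ce_iff_le.2 (hE.le.trans inf_le_right), h⟩)

omit [Fact p.Prime] in
theorem card_le_of_cs_le {x : G} (h : cs x D ≤ E) : Nat.card D ≤ Nat.card E := by
  rw [← card_cs x D]; exact Subgroup.card_le_of_le h

theorem IsBlock.isDef_of_lam_of_card (he : IsBlock H e) (hD : IsDef p H e D) (hg : g ∈ H)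
    (h : lam e (cls k H g) ≠ 0) (hE : IsSyl p E (H ⊓ Ce1 g)) (hc : Nat.card E ≤ Nat.card D) :
    IsDef p H e E := by
  obtain ⟨x, hx, h1⟩ := he.exists_cs_le_of_lam hD hg h hE
  have := Subgroup.eq_of_le_of_card_ge h1 (by rwa [card_cs])
  rw [← this]
  exact hD.cs_of_mem he.inv hx

end

section
variable {G : Type*} [Group G] [Finite G] {M : Ideal AlgInt} {p : ℕ} [PMod M p]
  {B : Set (IrrCharacter G)} {χ : IrrCharacter G} {g : G}

/-- The defect of the class of `g`. -/
noncomputable abbrev cd (p : ℕ) {G : Type*} [Group G] (g : G) : ℕ :=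
  (Nat.card (Ce1 g)).factorization p

omit [PMod M p] in
theorem IsSyl.card_eq_cd [Fact p.Prime] {E : Subgroup G} (hE : IsSyl p E (⊤ ⊓ Ce1 g)) :
    Nat.card E = p ^ cd p g := by
  rw [hE.card_eq, top_inf_eq]

theorem _root_.Cfsg.IsPBlock.defect_le_cd (hB : IsPBlock M B)
    (h : lam (bar M B) (cls (kk M) ⊤ g) ≠ 0) : blockDefect p B ≤ cd p g := by
  have := Fact.mk (PMod.prime M)
  obtain ⟨D, hD⟩ := hB.isBlock.exists_isDef p
  obtain ⟨E, hE⟩ := exists_isSyl p (⊤ ⊓ Ce1 g)
  obtain ⟨x, -, h1⟩ := hB.isBlock.exists_cs_le_of_lam hD trivial h hE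
  have := card_le_of_cs_le h1
  rwa [hB.card_isDef hD, hE.card_eq_cd, Nat.pow_le_pow_iff_right (PMod.prime M).one_lt] at this

theorem _root_.Cfsg.IsPBlock.cd_le_defect (hB : IsPBlock M B) (h : (bar M B).coeff g ≠ 0) :
    cd p g ≤ blockDefect p B := by
  have := Fact.mk (PMod.prime M)
  obtain ⟨D, hD⟩ := hB.isBlock.exists_isDef p
  obtain ⟨E, hE⟩ := exists_isSyl p (⊤ ⊓ Ce1 g)
  obtain ⟨x, -, h1⟩ := hD.exists_cs_le_of_coeff h hE
  have := card_le_of_cs_le h1
  rwa [hB.card_isDef hD, hE.card_eq_cd, Nat.pow_le_pow_iff_right (PMod.prime M).one_lt] at this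

omit [PMod M p] in
theorem apply_eq_centralChar (χ : IrrCharacter G) (g : G) : (χ : G → ℂ) g =
    centralChar (χ : G → ℂ) g * ((charDegree (χ : G → ℂ) : ℂ) / (Ce1 g).index) := by
  have h1 : ((Ce1 g).index : ℂ) ≠ 0 := Nat.cast_ne_zero.2 Subgroup.index_ne_zero_of_finite
  have h2 := χ.2.apply_one_ne_zero
  rw [centralChar, cast_deg]
  field_simp

theorem deg_div_index_mem_O_iff (hχ : χ ∈ B) :
    (charDegree (χ : G → ℂ) : ℂ) / (Ce1 g).index ∈ O M ↔
      blockDefect p B ≤ cd p g + blockHeight p B χ := by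
  have := Fintype.ofFinite G
  rw [natDiv_mem_O_iff (charDegree_ne_zero χ) Subgroup.index_ne_zero_of_finite]
  have h1 := defect_eq_add (p := p) hχ
  have h2 := nu_le p χ
  have h3 := factorization_index_add p (Ce1 g)
  simp only [nu, cd] at *
  omega

theorem LI_deg_div_index_iff (hχ : χ ∈ B) :
    MemLocalIdeal M ((charDegree (χ : G → ℂ) : ℂ) / (Ce1 g).index) ↔
      blockDefect p B < cd p g + blockHeight p B χ := by
  have := Fintype.ofFinite G
  rw [LI_natDiv_iff (charDegree_ne_zero χ) Subgroup.index_ne_zero_of_finite]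
  have h1 := defect_eq_add (p := p) hχ
  have h2 := nu_le p χ
  have h3 := factorization_index_add p (Ce1 g)
  simp only [nu, cd] at *
  omega

theorem LI_apply_of_lt (hχ : χ ∈ B) (h : blockDefect p B < cd p g + blockHeight p B χ) :
    MemLocalIdeal M ((χ : G → ℂ) g) := by
  rw [apply_eq_centralChar]
  exact LI_mul_left (centralChar_mem_O χ.2 g) ((LI_deg_div_index_iff hχ).2 h)

end

section
variable {G : Type*} [Group G]

theorem sum_subgroup {β : Type*} [AddCommMonoid β] [Fintype G] (P : Subgroup G) [Fintype P]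
    [DecidablePred (· ∈ P)] (F : G → β) : ∑ h : P, F h = ∑ g, if g ∈ P then F g else 0 := by
  rw [← Finset.sum_filter]
  exact (Finset.sum_subtype _ (by simp) F).symm

/-- The number of pairs `(g, h)` conjugate to `(x, y)` with `h g⁻¹ ∈ P`. -/
noncomputable def pairCount (P : Subgroup G) (x y : G) : ℕ :=
  Nat.card {yz : G × G // IsConj x yz.1 ∧ IsConj y yz.2 ∧ yz.2 * yz.1⁻¹ ∈ P}

theorem isConj_inv_iff {x y : G} : IsConj x⁻¹ y⁻¹ ↔ IsConj x y := by
  simp only [isConj_iff]
  refine exists_congr fun c => ?_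
  rw [← inv_inj]; simp [mul_assoc]

theorem ch_one_rs_cls_mul [Finite G] (P : Subgroup G) (x y : G) :
    ch (fun _ : P => 1) (rs P (cls ℂ ⊤ y * cls ℂ ⊤ x⁻¹)) = pairCount P x y := by
  classical
  have := Fintype.ofFinite G
  rw [ch_eq_sum]
  simp only [coeff_rs, mul_one]
  rw [sum_subgroup P fun g => (cls ℂ ⊤ y * cls ℂ ⊤ x⁻¹).coeff g, pairCount,
    Nat.card_eq_fintype_card, Fintype.card_subtype, Finset.card_filter, Nat.cast_sum,
    Fintype.sum_prod_type, Finset.sum_comm]
  simp only [coeff_mul_left, coeff_cls_top]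
  have : ∀ (g : G) (F : G → ℂ), (if g ∈ P then ∑ h, F h else 0) = ∑ h, if g ∈ P then F h else 0 := by
    intro g F; split_ifs <;> simp
  simp only [this]
  rw [Finset.sum_comm]
  refine Finset.sum_congr rfl fun h _ => ?_
  rw [← ((Equiv.inv G).trans (Equiv.mulLeft h)).sum_comp]
  refine Finset.sum_congr rfl fun g _ => ?_
  simp only [Equiv.trans_apply, Equiv.inv_apply, Equiv.coe_mulLeft, inv_mul_cancel_left,
    isConj_inv_iff]
  by_cases h1 : IsConj x g <;> by_cases h2 : IsConj y h <;> by_cases h3 : h * g⁻¹ ∈ P <;>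
    simp only [h1, h2, h3, if_true, if_false, mul_one, mul_zero, and_self, and_true, and_false,
      true_and, false_and, Nat.cast_one, Nat.cast_zero]

/-- The multiplicity of `χ` in the permutation character on the cosets of `P`. -/
noncomputable def pm [Fintype G] (P : Subgroup G) (χ : IrrCharacter G) : ℕ :=
  ((isCharacter_one (G := P)).ind.classInner_eq_nat χ.2.isCharacter).choose

theorem pm_spec [Fintype G] (P : Subgroup G) (χ : IrrCharacter G) :
    classInner (indFun P fun _ => 1) χ = pm P χ :=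
  ((isCharacter_one (G := P)).ind.classInner_eq_nat χ.2.isCharacter).choose_spec

theorem ch_eq_sum_irr [Fintype G] {θ : G → ℂ} (hθ : IsClassFunction G θ) (a : ℂ[G]) :
    ch θ a = ∑ χ : IrrCharacter G, classInner θ χ * ch χ a := by
  conv_lhs => rw [hθ.eq_sum]
  rw [ch_sum_left]
  simp only [ch_smul_left]

theorem index_Ce1_inv (x : G) : (Ce1 x⁻¹).index = (Ce1 x).index := by
  congr 1
  ext y
  rw [mem_Ce1, mem_Ce1]
  exact (Commute.inv_right_iff (a := y) (b := x))

theorem robinson [Fintype G] (P : Subgroup G) (x y : G) :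
    (P.index : ℂ) * pairCount P x y = (Ce1 x).index * ∑ χ : IrrCharacter G,
      pm P χ * centralChar (χ : G → ℂ) y * conj ((χ : G → ℂ) x) := by
  have hz : cls ℂ ⊤ y * cls ℂ ⊤ x⁻¹ ∈ Z ℂ (⊤ : Subgroup G) :=
    mul_mem (cls_mem_Z trivial) (cls_mem_Z trivial)
  rw [← ch_one_rs_cls_mul, ← ch_indFun P _ hz, ch_eq_sum_irr (isClassFunction_indFun _ _),
    Finset.mul_sum]
  refine Finset.sum_congr rfl fun χ _ => ?_
  rw [pm_spec, ch_central_mul χ.2 (cls_mem_Z trivial), om_cls χ.2.isClassFunction,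
    ch_cls χ.2.isClassFunction, χ.2.isCharacter.apply_inv, index_Ce1_inv]
  ring

theorem pairCount_of_sep [Finite G] {P : Subgroup G} {x y : G} [Decidable (IsConj x y)]
    (h : ∀ g h, IsConj x g → IsConj y h → h * g⁻¹ ∈ P → g = h) :
    pairCount P x y = if IsConj x y then (Ce1 x).index else 0 := by
  split_ifs with hc
  · rw [← card_isConj_eq_index]
    refine Nat.card_congr ⟨fun a => ⟨a.1.1, a.2.1⟩, fun a => ⟨(a.1, a.1), a.2, hc.symm.trans a.2,
      by simp⟩, fun a => Subtype.ext (Prod.ext rfl ?_), fun a => rfl⟩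
    exact h _ _ a.2.1 a.2.2.1 a.2.2.2
  · rw [pairCount, Nat.card_eq_zero]
    exact Or.inl ⟨fun a => hc (a.2.1.trans (h _ _ a.2.1 a.2.2.1 a.2.2.2 ▸ a.2.2.1.symm))⟩

theorem robinson_sep [Fintype G] {P : Subgroup G} {x y : G} [Decidable (IsConj x y)]
    (h : ∀ g h, IsConj x g → IsConj y h → h * g⁻¹ ∈ P → g = h) :
    ∑ χ : IrrCharacter G, pm P χ * centralChar (χ : G → ℂ) y * conj ((χ : G → ℂ) x) =
      if IsConj x y then (P.index : ℂ) else 0 := by
  have h1 := robinson P x y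
  have h0 : ((Ce1 x).index : ℂ) ≠ 0 := Nat.cast_ne_zero.2 Subgroup.index_ne_zero_of_finite
  rw [pairCount_of_sep h] at h1
  apply mul_left_cancel₀ h0
  rw [← h1]
  split_ifs <;> simp [mul_comm]

theorem exists_nu_ge_of_sep [Finite G] (p : ℕ) [Fact p.Prime] {P : Subgroup G} {x : G}
    (h : ∀ g h, IsConj x g → IsConj x h → h * g⁻¹ ∈ P → g = h) :
    ∃ χ : IrrCharacter G, (Ce1 x).index.factorization p ≤ nu p χ + P.index.factorization p := by
  classical
  have := Fintype.ofFinite G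
  obtain ⟨M, hM⟩ := exists_pmod p
  have h1 := robinson_sep h
  have hP : P.index ≠ 0 := Subgroup.index_ne_zero_of_finite
  rw [if_pos (IsConj.refl x), ← div_eq_one_iff_eq (Nat.cast_ne_zero.2 hP), Finset.sum_div] at h1
  by_contra hn
  push Not at hn
  refine not_LI_one (M := M) (h1 ▸ LI_sum _ _ fun χ _ => ?_)
  have h2 : MemLocalIdeal M (((Ce1 x).index : ℂ) / (charDegree (χ : G → ℂ) * P.index : ℕ)) := by
    rw [LI_natDiv_iff Subgroup.index_ne_zero_of_finite (mul_ne_zero (charDegree_ne_zero χ) hP),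
      Nat.factorization_mul (charDegree_ne_zero χ) hP]
    exact hn χ
  convert LI_mul_left (mul_mem (mul_mem (natCast_mem (O M) (pm P χ)) (irr_mem_O M χ x))
    (conj_irr_mem_O M χ x)) h2 using 1
  rw [centralChar, Nat.cast_mul, cast_deg]
  ring

theorem exists_defect_zero_of_sep [Finite G] (p : ℕ) [hp : Fact p.Prime] {x : G}
    (hx : ¬ p ∣ Nat.card (Ce1 x))
    (h : ∀ g h, IsConj x g → IsConj x h → (∃ n : ℕ, orderOf (h * g⁻¹) = p ^ n) → g = h) :
    ∃ χ : IrrCharacter G, nu p χ = (Nat.card G).factorization p := by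
  obtain ⟨P, hP⟩ := exists_isSyl p (⊤ : Subgroup G)
  obtain ⟨χ, hχ⟩ := exists_nu_ge_of_sep p (P := P) fun g k h1 h2 h3 =>
    h g k h1 h2 (pelt_of_mem hP.pg h3)
  have h1 := factorization_index_add p (Ce1 x)
  have h2 := hP.not_dvd_relIndex
  rw [Subgroup.relIndex_top_right] at h2
  rw [Nat.factorization_eq_zero_of_not_dvd h2] at hχ
  rw [Nat.factorization_eq_zero_of_not_dvd hx] at h1
  exact ⟨χ, le_antisymm (nu_le p χ) (by omega)⟩

end

section
variable {k : Type*} [Field k]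

theorem card_le_of_mul_eq_one {ι κ : Type*} [Fintype ι] [Fintype κ] [DecidableEq ι]
    (X : Matrix ι κ k) (Y : Matrix κ ι k) (h : X * Y = 1) : Fintype.card ι ≤ Fintype.card κ := by
  have h1 := Matrix.rank_mul_le_left X Y
  rw [h, Matrix.rank_one] at h1
  exact h1.trans X.rank_le_card_width

theorem exists_minor_ne_zero {ι κ : Type*} [Fintype ι] [Fintype κ] [DecidableEq ι]
    (Y : Matrix ι κ k) (X : Matrix κ ι k) (h : (Y * X).det ≠ 0) :
    ∃ f : ι → κ, Function.Injective f ∧ (∀ i, Y i (f i) ≠ 0) ∧ (X.submatrix f id).det ≠ 0 := by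
  classical
  have h1 : (Y * X).det = ∑ f : ι → κ, (∏ i, Y i (f i)) * (X.submatrix f id).det := by
    have h2 : Y * X = fun i => ∑ b, Y i b • X b := by
      ext i j; simp [Matrix.mul_apply]
    rw [h2]
    change Matrix.detRowAlternating _ = _
    rw [← AlternatingMap.coe_multilinearMap, MultilinearMap.map_sum]
    refine Finset.sum_congr rfl fun f _ => ?_
    rw [MultilinearMap.map_smul_univ]
    rfl
  rw [h1] at h
  obtain ⟨f, -, hf⟩ := Finset.exists_ne_zero_of_sum_ne_zero h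
  refine ⟨f, fun i j hij => ?_, fun i => ?_, right_ne_zero_of_mul hf⟩
  · by_contra hne
    exact right_ne_zero_of_mul hf (Matrix.det_zero_of_row_eq hne (by ext; simp [hij]))
  · exact Finset.prod_ne_zero_iff.1 (left_ne_zero_of_mul hf) i (Finset.mem_univ i)

end

section
variable {G : Type*} [Group G] [Finite G] {M : Ideal AlgInt} {p : ℕ} [PMod M p]

theorem finite_isPBlock (M : Ideal AlgInt) (G : Type*) [Group G] [Finite G]
    (P : Set (IrrCharacter G) → Prop) : Finite {B : Set (IrrCharacter G) // P B} := inferInstance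

theorem card_blocks_le (Q : Set (IrrCharacter G) → Prop) (hQ : ∀ B, Q B → IsPBlock M B)
    (R : ConjClasses G → Prop)
    (h : ∀ B B' g, Q B → Q B' → lam (bar M B) (cls (kk M) ⊤ g) ≠ 0 → (bar M B').coeff g ≠ 0 →
      R (ConjClasses.mk g)) : Nat.card {B // Q B} ≤ Nat.card {C // R C} := by
  classical
  have := Fintype.ofFinite (ConjClasses G)
  have := Fintype.ofFinite {B // Q B}
  rw [Nat.card_eq_fintype_card, Nat.card_eq_fintype_card]
  refine card_le_of_mul_eq_one (k := kk M)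
    (Matrix.of fun B C => lam (bar M B.1) (cls (kk M) ⊤ (rp C.1)))
    (Matrix.of fun C B => (bar M B.1).coeff (rp C.1)) ?_
  ext B B'
  have hB := hQ _ B.2
  have hB' := hQ _ B'.2
  have h1 := hB.isBlock.lam_eq_sum_cls hB'.isBlock.mem
  rw [← Finset.sum_filter_of_ne (p := R) fun C _ hC => by
    simpa using h B B' (rp C) B.2 B'.2 (right_ne_zero_of_mul hC) (left_ne_zero_of_mul hC),
    Finset.sum_subtype (p := R) _ (by simp)] at h1
  simp only [Matrix.mul_apply, Matrix.of_apply]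
  rw [Finset.sum_congr rfl fun _ _ => mul_comm _ _, ← h1, Matrix.one_apply]
  split_ifs with h2
  · rw [h2, hB'.isBlock.lam_self]
  · exact hB.isBlock.lam_of_ne hB'.isBlock fun h3 => h2 (Subtype.ext (hB'.bar_inj hB h3).symm)

end

end Cfsg.Agent.Blk
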