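import Cfsg.Agent.Lib.Block.Height

/-!
Consequences of the second main theorem; induction and heights; the third main theorem.
-/

namespace Cfsg.Agent.Blk

open MonoidAlgebra Cfsg.Agent.Char
open scoped ComplexConjugate

variable {G : Type*} [Group G] [Finite G] {M : Ideal AlgInt} {p : ℕ}

omit [Finite G] in
theorem ch_es (K : Subgroup G) (χ : G → ℂ) (a : ℂ[K]) : ch χ (es K a) = ch (fun h : K => χ h) a :=
  ch_emb _ _ _

omit [Finite G] in
theorem es_single {R : Type*} [CommRing R] (K : Subgroup G) (h : K) (r : R) :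
    es K (single h r) = single (h : G) r := emb_single _ _ _

theorem ch_indFun [Fintype G] (K : Subgroup G) (ξ : K → ℂ) {z : ℂ[G]}
    (hz : z ∈ Z ℂ (⊤ : Subgroup G)) : ch (indFun K ξ) z = K.index * ch ξ (rs K z) := by
  have := Fintype.ofFinite K
  rw [ch_eq_sum, ch_eq_sum]
  simp only [mul_comm (z.coeff _), coeff_rs]
  exact sum_indFun_mul K ξ (isClassFunction_coeff hz)

theorem om_indFun [Fintype G] (K : Subgroup G) (ξ : K → ℂ) {z : ℂ[G]}
    (hz : z ∈ Z ℂ (⊤ : Subgroup G)) : om (indFun K ξ) z = om ξ (rs K z) := by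
  rw [om, om, ch_indFun K ξ hz, indFun_one,
    mul_div_mul_left _ _ (Nat.cast_ne_zero.2 K.index_ne_zero_of_finite)]

section

variable [M.IsMaximal]

theorem isBlock_es_blk {K : Subgroup G} (ξ : IrrCharacter K) : IsBlock K (es K (blk M ξ)) :=
  isBlock_es_iff.2 (isBlock_blk ξ)

theorem barS_blockOf {K : Subgroup G} (ξ : IrrCharacter K) :
    barS M K (blockOf M (ξ : K → ℂ)) = es K (blk M ξ) := by rw [barS, bar_blockOf]

theorem exists_es_blk_eq {K : Subgroup G} {e : (kk M)[G]} (he : IsBlock K e) :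
    ∃ ξ : IrrCharacter K, es K (blk M ξ) = e := by
  obtain ⟨b, ⟨ξ, rfl⟩, h⟩ := exists_isPBlock_barS_eq he
  exact ⟨ξ, by rw [← h, barS_blockOf]⟩

theorem IsUB.lam_barS_of_mem {K : Subgroup G} {A : Set (IrrCharacter K)} (h : IsUB M A)
    {ξ : IrrCharacter K} (hξ : ξ ∈ A) : lam (es K (blk M ξ)) (barS M K A) = 1 := by
  rw [barS, lam_emb K.subtype_injective, h.lam_bar_of_mem hξ]

theorem IsUB.lam_barS_of_notMem {K : Subgroup G} {A : Set (IrrCharacter K)} (h : IsUB M A)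
    {ξ : IrrCharacter K} (hξ : ξ ∉ A) : lam (es K (blk M ξ)) (barS M K A) = 0 := by
  rw [barS, lam_emb K.subtype_injective, h.lam_bar_of_notMem hξ]

theorem IsUB.mem_iffS {K : Subgroup G} {A : Set (IrrCharacter K)} (h : IsUB M A)
    {ξ : IrrCharacter K} : ξ ∈ A ↔ barS M K A * es K (blk M ξ) = es K (blk M ξ) := by
  rw [h.mem_iff, barS, ← map_mul, (es_injective K).eq_iff]

theorem _root_.Cfsg.IsPBlock.es_blk_eq {K : Subgroup G} {b : Set (IrrCharacter K)}
    (hb : IsPBlock M b) {ξ : IrrCharacter K} (hξ : ξ ∈ b) : es K (blk M ξ) = barS M K b := by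
  rw [hb.blk_eq hξ, barS]

theorem _root_.Cfsg.IsPBlock.mem_iffS {K : Subgroup G} {b : Set (IrrCharacter K)}
    (hb : IsPBlock M b) {ξ : IrrCharacter K} : ξ ∈ b ↔ es K (blk M ξ) = barS M K b := by
  rw [hb.mem_iff, barS, (es_injective K).eq_iff]

theorem lam_es_blk_tr {K : Subgroup G} (ξ : IrrCharacter K) {z : (O M)[G]}
    (hz : z ∈ inv (O M) K) :
    lam (es K (blk M ξ)) (tr (K : Set G) (toK M z)) = rd M (om ξ (rs K (toC M z))) := by
  rw [← barS_blockOf, (isPBlock_blockOf ξ).lam_tr (mem_blockOf_self ξ) hz]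

theorem om_rs_mem_O' {K : Subgroup G} (ξ : IrrCharacter K) {z : ℂ[G]}
    (hz : z ∈ Z ℂ (⊤ : Subgroup G)) (hi : IsInt M z) : om ξ (rs K z) ∈ O M := by
  rw [← toC_liftO hi]
  refine om_rs_mem_O ξ (inv_anti le_top (toC_mem_Z_iff.1 ?_).2)
  rwa [toC_liftO hi]

/-- Induced blocks: congruence of central characters on all integral central elements. -/
theorem _root_.Cfsg.IsInducedBlock.LI_om_rs_sub {K : Subgroup G} {b : Set (IrrCharacter K)}
    {B : Set (IrrCharacter G)} (h : IsInducedBlock M K b B) {ξ : IrrCharacter K} (hξ : ξ ∈ b)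
    {χ : IrrCharacter G} (hχ : χ ∈ B) {z : ℂ[G]} (hz : z ∈ Z ℂ (⊤ : Subgroup G))
    (hi : IsInt M z) : MemLocalIdeal M (om ξ (rs K z) - om χ z) := by
  obtain ⟨hb, hB, h⟩ := isInducedBlock_iff.1 h
  obtain ⟨w, rfl⟩ := isInt_iff.1 hi
  have hw := toC_mem_Z_iff.1 hz
  have hw' : w ∈ inv (O M) K := inv_anti le_top hw.2
  rw [← rd_eq_iff (om_rs_mem_O ξ hw') (om_toC_mem_O χ.2 hw), ← hb.lam_tr hξ hw',
    ← hB.lam_toK hχ hw, h _ (toK_mem_Z hw)]

theorem _root_.Cfsg.IsInducedBlock.LI_om_rs_iff {K : Subgroup G} {b : Set (IrrCharacter K)}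
    {B : Set (IrrCharacter G)} (h : IsInducedBlock M K b B) {ξ : IrrCharacter K} (hξ : ξ ∈ b)
    {χ : IrrCharacter G} (hχ : χ ∈ B) {z : ℂ[G]} (hz : z ∈ Z ℂ (⊤ : Subgroup G))
    (hi : IsInt M z) : MemLocalIdeal M (om ξ (rs K z)) ↔ MemLocalIdeal M (om χ z) := by
  have := h.LI_om_rs_sub hξ hχ hz hi
  exact ⟨fun h1 => by simpa using LI_sub h1 this, fun h1 => by simpa using LI_add this h1⟩

theorem _root_.Cfsg.IsInducedBlock.unique {K : Subgroup G} {b : Set (IrrCharacter K)}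
    {B B' : Set (IrrCharacter G)} (h : IsInducedBlock M K b B) (h' : IsInducedBlock M K b B') :
    B = B' := by
  obtain ⟨-, hB, h⟩ := isInducedBlock_iff.1 h
  obtain ⟨-, hB', h'⟩ := isInducedBlock_iff.1 h'
  exact hB.bar_inj hB' (h.unique h' hB.isBlock hB'.isBlock)

variable (M) in
/-- The characters of `K` whose block meets the truncation to `K` of the idempotent of `A`. -/
def locSet (K : Subgroup G) (A : Set (IrrCharacter G)) : Set (IrrCharacter K) :=
  {ξ | lam (es K (blk M ξ)) (tr (K : Set G) (bar M A)) ≠ 0}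

theorem isUB_locSet (K : Subgroup G) (A : Set (IrrCharacter G)) : IsUB M (locSet M K A) :=
  fun _ hχ _ h => by rw [locSet, Set.mem_ofPred_eq, h]; exact hχ

end

variable [PMod M p]

theorem second_main_UB {H : Subgroup G} {A : Set (IrrCharacter G)} (hA : IsUB M A)
    {A' : Set (IrrCharacter H)} (hA' : IsUB M A')
    (h0 : ∀ ξ ∈ A', lam (es H (blk M ξ)) (tr (H : Set G) (bar M A)) = 0) {χ : IrrCharacter G}
    (hχ : χ ∈ A) {h x : G} (hh : h ∈ H) (hx : IsPPart p h x) (hC : Ce1 x ≤ H) :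
    ch χ (es H (fC A') * single h 1) = 0 := by
  have h1 : tr (H : Set G) (bar M A) ∈ Z (kk M) H := tr_mem_Z le_top (bar_mem A)
  have := second_main (L := ⊤) (mem_sup_top _) (inv_anti le_top (fO_mem A).2) hA.fO_idem
    (fOS_mem H A') hA'.fOS_idem (by
      rw [map_mul, cf_tr, toK_fO, toK_fOS]
      refine nilpotent_of_forall_lam (mul_mem h1 (barS_mem H A')) fun e he => ?_
      obtain ⟨ξ, rfl⟩ := exists_es_blk_eq he
      rw [he.lam_mul h1 (barS_mem H A')]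
      by_cases hξ : ξ ∈ A'
      · rw [h0 ξ hξ, zero_mul]
      · rw [hA'.lam_barS_of_notMem hξ, mul_zero]) hh hx (inf_le_right.trans hC)
    χ.2.isClassFunction
  rwa [map_mul (toC M), hA.toC_fO, hA'.toC_fOS, mul_assoc, ch_fC_mul_of_mem hχ] at this

theorem second_main_ind {H : Subgroup G} {b : Set (IrrCharacter H)} {B : Set (IrrCharacter G)}
    (hind : IsInducedBlock M H b B) {χ : IrrCharacter G} (hχ : χ ∉ B) {h x : G} (hh : h ∈ H)
    (hx : IsPPart p h x) (hC : Ce1 x ≤ H) : ch χ (es H (fC b) * single h 1) = 0 := by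
  obtain ⟨hb, hB, h⟩ := isInducedBlock_iff.1 hind
  refine second_main_UB (isUB_blockOf χ) hb.isUB (fun ξ hξ => ?_) (mem_blockOf_self χ) hh hx hC
  rw [hb.es_blk_eq hξ, bar_blockOf]
  exact h.lam_tr_of_ne hB.isBlock (isBlock_blk χ) fun h' => hχ (hB.mem_iff.2 h')

theorem apply_eq_ch_locSet {H : Subgroup G} {A : Set (IrrCharacter G)} (hA : IsUB M A)
    {χ : IrrCharacter G} (hχ : χ ∈ A) {h x : G} (hh : h ∈ H) (hx : IsPPart p h x)
    (hC : Ce1 x ≤ H) : (χ : G → ℂ) h = ch χ (es H (fC (locSet M H A)) * single h 1) := by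
  have := second_main_UB hA (isUB_locSet H A).compl (fun ξ hξ => not_not.1 hξ) hχ hh hx hC
  rw [fC_compl, map_sub, map_one, sub_mul, one_mul, map_sub, ch_single, one_mul] at this
  exact sub_eq_zero.1 this

theorem tr_Ce1 {R : Type*} [CommRing R] (x : G) (a : R[G]) :
    tr (Ce1 x : Set G) a = Br (Subgroup.zpowers x) a := by rw [Br, Ce_zpowers]

theorem zpowers_le_Ce1 (x : G) : Subgroup.zpowers x ≤ Ce1 x :=
  Subgroup.zpowers_le.2 (mem_Ce1.2 rfl)

theorem Ce1_le_No (x : G) : Ce1 x ≤ No (Subgroup.zpowers x) := by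
  rw [← Ce_zpowers]; exact Ce_le_No _

theorem top_inf_Ce_le (x : G) : ⊤ ⊓ Ce (Subgroup.zpowers x) ≤ Ce1 x := by
  rw [Ce_zpowers]; exact inf_le_right

theorem exists_inducedBlock_Ce1 {x : G} (hx : ∃ k : ℕ, orderOf x = p ^ k)
    {b : Set (IrrCharacter (Ce1 x))} (hb : IsPBlock M b) :
    ∃ B, IsInducedBlock M (Ce1 x) b B := by
  haveI : Fact p.Prime := ⟨PMod.prime M⟩
  obtain ⟨e, he, h⟩ := exists_ind (H := ⊤) (isPGroup_zpowers hx) (zpowers_le_Ce1 x)
    (top_inf_Ce_le x) le_top (Ce1_le_No x) hb.isBlockS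
  obtain ⟨B, hB, rfl⟩ := exists_isPBlock_bar_eq he
  exact ⟨B, isInducedBlock_iff.2 ⟨hb, hB, h⟩⟩

/-- If the block of `ξ` induces `B`, membership in `locSet` is decided by `B`. -/
theorem mem_locSet_iff {K : Subgroup G} {A B : Set (IrrCharacter G)} (hA : IsUB M A)
    {b : Set (IrrCharacter K)} (h : IsInducedBlock M K b B) {ξ : IrrCharacter K} (hξ : ξ ∈ b) :
    ξ ∈ locSet M K A ↔ B ⊆ A := by
  obtain ⟨hb, hB, h⟩ := isInducedBlock_iff.1 h
  obtain ⟨χ, hχ⟩ := hB.nonempty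
  rw [locSet, Set.mem_ofPred_eq, hb.es_blk_eq hξ, h _ (bar_mem A), ← hB.blk_eq hχ]
  constructor
  · intro h1 ψ hψ
    refine hA χ (by_contra fun hn => h1 (hA.lam_bar_of_notMem hn)) ψ ?_
    rw [hB.blk_eq hψ, hB.blk_eq hχ]
  · intro h1
    rw [hA.lam_bar_of_mem (h1 hχ)]; exact one_ne_zero

theorem mem_locSet_Ce1_iff {x : G} (hx : ∃ k : ℕ, orderOf x = p ^ k) {B : Set (IrrCharacter G)}
    (hB : IsPBlock M B) {ξ : IrrCharacter (Ce1 x)} :
    ξ ∈ locSet M (Ce1 x) B ↔ IsInducedBlock M (Ce1 x) (blockOf M (ξ : Ce1 x → ℂ)) B := by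
  obtain ⟨B', hB'⟩ := exists_inducedBlock_Ce1 hx (isPBlock_blockOf (M := M) ξ)
  rw [mem_locSet_iff hB.isUB hB' (mem_blockOf_self ξ)]
  constructor
  · intro h
    obtain ⟨χ, hχ⟩ := hB'.2.1.nonempty
    rwa [← hB'.2.1.eq_of_mem hB hχ (h hχ)]
  · intro h; rw [hB'.unique h]

theorem locSet_Ce1_compl {x : G} (hx : ∃ k : ℕ, orderOf x = p ^ k) {A : Set (IrrCharacter G)}
    (hA : IsUB M A) : locSet M (Ce1 x) Aᶜ = (locSet M (Ce1 x) A)ᶜ := by
  ext ξ
  obtain ⟨B, hB⟩ := exists_inducedBlock_Ce1 hx (isPBlock_blockOf (M := M) ξ)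
  rw [Set.mem_compl_iff, mem_locSet_iff hA hB (mem_blockOf_self ξ),
    mem_locSet_iff hA.compl hB (mem_blockOf_self ξ)]
  obtain ⟨χ, hχ⟩ := hB.2.1.nonempty
  constructor
  · intro h1 h2; exact h1 hχ (h2 hχ)
  · intro h1 ψ hψ h2
    exact h1 fun φ hφ => hA ψ h2 φ ((hB.2.1.blk_eq hφ).trans (hB.2.1.blk_eq hψ).symm)

theorem barS_locSet_Ce1 {x : G} (hx : ∃ k : ℕ, orderOf x = p ^ k) {A : Set (IrrCharacter G)}
    (hA : IsUB M A) :
    barS M (Ce1 x) (locSet M (Ce1 x) A) = Br (Subgroup.zpowers x) (bar M A) := by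
  haveI : Fact p.Prime := ⟨PMod.prime M⟩
  have h1 : Br (Subgroup.zpowers x) (bar M A) ∈ Z (kk M) (Ce1 x) := by
    rw [← tr_Ce1]; exact tr_mem_Z le_top (bar_mem A)
  have h2 := Br_idem (isPGroup_zpowers hx) (inv_anti le_top (bar_mem (M := M) A).2) hA.bar_idem
  refine idem_ext (barS_mem _ _) (isUB_locSet _ _).barS_idem h1 h2 fun e he => ?_
  obtain ⟨ξ, rfl⟩ := exists_es_blk_eq he
  rw [← (isUB_locSet _ _).mem_iffS, ← he.lam_idem_ne_zero_iff h1 h2, ← tr_Ce1]; rfl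

theorem Br_ne_zero_of_apply_ne_zero {A : Set (IrrCharacter G)} (hA : IsUB M A)
    {χ : IrrCharacter G} (hχ : χ ∈ A) {g x : G} (hx : IsPPart p g x) (h : (χ : G → ℂ) g ≠ 0) :
    Br (Subgroup.zpowers x) (bar M A) ≠ 0 := by
  intro h0
  apply h
  have : locSet M (Ce1 x) A = ∅ := Set.eq_empty_of_forall_notMem fun ξ hξ => hξ (by
    rw [tr_Ce1, h0, (isBlock_es_blk ξ).lam_zero])
  rw [apply_eq_ch_locSet hA hχ (mem_Ce1.2 hx.commute.symm) hx le_rfl, this, fC_empty, map_zero,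
    zero_mul, map_zero]

theorem _root_.Cfsg.IsPBlock.exists_isDef_mem {B : Set (IrrCharacter G)} (hB : IsPBlock M B)
    {χ : IrrCharacter G} (hχ : χ ∈ B) {g x : G} (hx : IsPPart p g x) (h : (χ : G → ℂ) g ≠ 0) :
    ∃ D, IsDef p ⊤ (bar M B) D ∧ x ∈ D := by
  haveI : Fact p.Prime := ⟨PMod.prime M⟩
  obtain ⟨D, hD, h1⟩ := hB.isBlock.exists_isDef_ge le_top hx.isPGroup
    (Br_ne_zero_of_apply_ne_zero hB.isUB hχ hx h)
  exact ⟨D, hD, h1 (Subgroup.mem_zpowers x)⟩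

/-- With a normal defect group, characters vanish on elements whose `p`-part is outside. -/
theorem _root_.Cfsg.IsPBlock.mem_of_apply_ne_zero {B : Set (IrrCharacter G)} (hB : IsPBlock M B)
    {D : Subgroup G} [D.Normal] (hD : IsDef p ⊤ (bar M B) D)
    {χ : IrrCharacter G} (hχ : χ ∈ B) {g x : G} (hx : IsPPart p g x) (h : (χ : G → ℂ) g ≠ 0) :
    x ∈ D := by
  obtain ⟨E, hE, h1⟩ := hB.exists_isDef_mem hχ hx h
  obtain ⟨y, -, rfl⟩ := hE.exists_cs_eq hD
  rwa [cs_normal] at h1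

theorem sum_conj_avg [Fintype G] (K : Subgroup G) [Fintype K] (F : G → ℂ) (u : G) :
    ∑ g, F (g * u * g⁻¹) = (Nat.card K : ℂ)⁻¹ * ∑ g, ∑ c : K, F (c * (g * u * g⁻¹) * c⁻¹) := by
  rw [Finset.sum_comm]
  have : ∀ c : K, ∑ g, F (c * (g * u * g⁻¹) * c⁻¹) = ∑ g, F (g * u * g⁻¹) := fun c => by
    rw [← Equiv.sum_comp (Equiv.mulLeft (c : G)) (fun g => F (g * u * g⁻¹))]
    exact Finset.sum_congr rfl fun g _ => by simp [mul_assoc]
  simp only [this, Finset.sum_const, Finset.card_univ, nsmul_eq_mul, ← Nat.card_eq_fintype_card]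
  rw [← mul_assoc, inv_mul_cancel₀ (card_ne_zero' K), one_mul]

open Classical in
/-- Inner products on a `p`-section are computed in the centralizer. -/
theorem sum_mul_conj_eq_locSet {A : Set (IrrCharacter G)} (hA : IsUB M A) {x : G} {u v : Ce1 x}
    (hu : IsPPart p (u : G) x) (hv : IsPPart p (v : G) x) :
    (∑ χ : IrrCharacter G, if χ ∈ A then (χ : G → ℂ) u * conj ((χ : G → ℂ) v) else 0) =
      ∑ ξ : IrrCharacter (Ce1 x), if ξ ∈ locSet M (Ce1 x) A then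
        (ξ : Ce1 x → ℂ) u * conj ((ξ : Ce1 x → ℂ) v) else 0 := by
  haveI : Fact p.Prime := ⟨PMod.prime M⟩
  have := Fintype.ofFinite G
  have := Fintype.ofFinite (Ce1 x)
  set L := locSet M (Ce1 x) A with hL
  have hLU : IsUB M L := isUB_locSet _ _
  let a : ℂ[Ce1 x] := fC L * single u 1
  have h1 : ∀ χ : IrrCharacter G, (if χ ∈ A then (χ : G → ℂ) u * conj ((χ : G → ℂ) v) else 0) =
      ch χ (es _ a) * conj ((χ : G → ℂ) v) := fun χ => by
    rw [map_mul, es_single]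
    split_ifs with hχ
    · rw [← apply_eq_ch_locSet hA hχ u.2 hu le_rfl]
    · rw [second_main_UB hA.compl hLU (fun ξ hξ => ?_) hχ u.2 hu le_rfl, zero_mul]
      by_contra h
      have : ξ ∈ locSet M (Ce1 x) Aᶜ := h
      rw [locSet_Ce1_compl hu.pelt hA] at this
      exact this hξ
  have h2 : ∀ w : Ce1 x, ∑ c : Ce1 x, (es _ a).coeff (c * w * c⁻¹) =
      ∑ ξ : IrrCharacter (Ce1 x), if ξ ∈ L then
        (ξ : Ce1 x → ℂ) u * conj ((ξ : Ce1 x → ℂ) w) else 0 := fun w => by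
    have := sum_mul_conj_eq L (single u 1) w
    simp only [ch_single, one_mul] at this
    rw [this]
    exact Finset.sum_congr rfl fun c _ => coeff_es _ a (c * w * c⁻¹)
  simp only [h1]
  rw [sum_ch_mul_conj, sum_conj_avg (Ce1 x), ← h2,
    ← Finset.sum_subset (Finset.subset_univ (Finset.univ.filter (· ∈ Ce1 x)))]
  · rw [Finset.sum_subtype (p := (· ∈ Ce1 x)) (F := this) _ (by simp), Finset.sum_comm]
    have : ∀ c : Ce1 x, ∑ g : Ce1 x, (es _ a).coeff (c * (g * v * g⁻¹) * c⁻¹) =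
        ∑ g : Ce1 x, (es _ a).coeff (g * v * g⁻¹) := fun c => by
      rw [← Equiv.sum_comp (Equiv.mulLeft c) (fun g : Ce1 x => (es _ a).coeff (g * v * g⁻¹))]
      exact Finset.sum_congr rfl fun g _ => by simp [mul_assoc]
    simp only [← Subgroup.coe_inv, this, Finset.sum_const, Finset.card_univ, nsmul_eq_mul,
      ← Nat.card_eq_fintype_card]
    rw [← mul_assoc, inv_mul_cancel₀ (card_ne_zero' _), one_mul]
  · intro g _ hg
    have hg' : g ∉ Ce1 x := by simpa using hg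
    by_cases hw : g * v * g⁻¹ ∈ Ce1 x
    · have h3 := hv.conj g
      have h4 : g * x * g⁻¹ ∈ Ce1 x := h3.mem hw
      rw [show g * v * g⁻¹ = ((⟨_, hw⟩ : Ce1 x) : G) from rfl, h2]
      refine hLU.orthogonality (x' := ⟨x, mem_Ce1.2 rfl⟩) (y' := ⟨_, h4⟩) hu.of_coe h3.of_coe ?_
      intro hc
      obtain ⟨c, hc⟩ := isConj_iff.1 hc
      have h5 : (c : G) * x * (c : G)⁻¹ = g * x * g⁻¹ := congrArg Subtype.val hc
      rw [mem_Ce1.1 c.2, mul_inv_cancel_right, eq_mul_inv_iff_mul_eq] at h5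
      exact hg' (mem_Ce1.2 h5.symm)
    · refine Finset.sum_eq_zero fun c _ => coeff_es_of_notMem _ fun h => hw ?_
      have := mul_mem (mul_mem (inv_mem c.2) h) c.2
      simpa [mul_assoc] using this

theorem LI_om_zr_res_iff {K : Subgroup G} {b : Set (IrrCharacter K)} {B : Set (IrrCharacter G)}
    (h : IsInducedBlock M K b B) {ξ : IrrCharacter K} (hξ : ξ ∈ b) {χ : IrrCharacter G}
    (hχ : χ ∈ B) {θ : G → ℂ} (hθ : IsClassFunction G θ)
    (hi : ∀ x, ¬ p ∣ orderOf x → θ x ∈ O M) :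
    MemLocalIdeal M (om ξ (zr p fun h : K => θ h)) ↔ MemLocalIdeal M (om χ (zr p θ)) := by
  haveI : Fact p.Prime := ⟨PMod.prime M⟩
  rw [← h.LI_om_rs_iff hξ hχ (zr_mem hθ) (isInt_zr hi), rs_zr, om_smul, mul_comm, div_eq_mul_inv,
    LI_mul_unit_iff]
  · exact mul_mem (pu_mem M G) (inv_mem_O_of_not_LI (pu_mem M K) (not_LI_pu M K))
  · rw [LI_mul_iff (pu_mem M G) (inv_mem_O_of_not_LI (pu_mem M K) (not_LI_pu M K)), not_or]
    exact ⟨not_LI_pu M G, not_LI_inv (pu_mem M K) (ne_zero_of_not_LI (not_LI_pu M K))⟩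

theorem not_LI_om_zr_res_iff {K : Subgroup G} {b : Set (IrrCharacter K)}
    {B : Set (IrrCharacter G)} (h : IsInducedBlock M K b B) {ξ : IrrCharacter K} (hξ : ξ ∈ b)
    (χ : IrrCharacter G) : ¬ MemLocalIdeal M (om ξ (zr p fun h : K => (χ : G → ℂ) h)) ↔
      χ ∈ B ∧ blockHeight p B χ = 0 := by
  obtain ⟨ψ, hψ⟩ := h.2.1.nonempty
  rw [LI_om_zr_res_iff h hξ hψ χ.2.isClassFunction fun x _ => irr_mem_O M χ x,
    h.2.1.not_LI_om_zr_iff hψ]

/-- Okuyama's criterion. -/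
theorem okuyama {K : Subgroup G} {χ : IrrCharacter G} {ψ : IrrCharacter K}
    (hres : ∀ h : K, (ψ : K → ℂ) h = (χ : G → ℂ) h)
    (hχ0 : blockHeight p (blockOf M (χ : G → ℂ)) χ = 0)
    (hψ0 : blockHeight p (blockOf M (ψ : K → ℂ)) ψ = 0) {e : Set (IrrCharacter K)}
    {B : Set (IrrCharacter G)} (h : IsInducedBlock M K e B) :
    B = blockOf M (χ : G → ℂ) ↔ e = blockOf M (ψ : K → ℂ) := by
  obtain ⟨ξ, hξ⟩ := h.1.nonempty
  have h1 := not_LI_om_zr_res_iff h hξ χ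
  rw [← funext hres, h.1.not_LI_om_zr_iff hξ] at h1
  constructor
  · rintro rfl
    exact h.1.eq_blockOf (h1.2 ⟨mem_blockOf_self χ, hχ0⟩).1
  · rintro rfl
    exact h.2.1.eq_blockOf (h1.1 ⟨mem_blockOf_self ψ, hψ0⟩).1

omit [Finite G] in
theorem height_irrOne (p : ℕ) (B : Set (IrrCharacter G)) : blockHeight p B (irrOne G) = 0 := by
  simp [blockHeight, charDegree]

include p in
/-- Brauer's third main theorem. -/
theorem third_main {K : Subgroup G} {e : Set (IrrCharacter K)}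
    {B : Set (IrrCharacter G)} (h : IsInducedBlock M K e B) :
    B = principalBlock M G ↔ e = principalBlock M K :=
  okuyama (χ := irrOne G) (ψ := irrOne K) (fun _ => rfl) (height_irrOne p _) (height_irrOne p _) h

theorem locSet_Ce1_principal {x : G} (hx : ∃ k : ℕ, orderOf x = p ^ k) :
    locSet M (Ce1 x) (principalBlock M G) = principalBlock M (Ce1 x) := by
  ext ξ
  rw [mem_locSet_Ce1_iff hx isPBlock_principal]
  constructor
  · intro h; rw [← (third_main h).1 rfl]; exact mem_blockOf_self ξ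
  · intro h
    obtain ⟨B, hB⟩ := exists_inducedBlock_Ce1 hx (isPBlock_blockOf (M := M) ξ)
    rwa [← (third_main hB).2 (isPBlock_principal.eq_blockOf h).symm]

/-- A height zero character has a nonvanishing `b`-part on each subsection. -/
theorem exists_blockPart_ne_zero {K : Subgroup G} {b : Set (IrrCharacter K)}
    {B : Set (IrrCharacter G)} (h : IsInducedBlock M K b B) {χ : IrrCharacter G} (hχ : χ ∈ B)
    (h0 : blockHeight p B χ = 0) {x : K} (hx : ∃ k : ℕ, orderOf x = p ^ k)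
    (hxc : x ∈ Subgroup.center K) :
    ∃ y : K, ¬ p ∣ orderOf y ∧ blockPart b (fun c : K => (χ : G → ℂ) (x * c)) y ≠ 0 := by
  classical
  by_contra hn
  push Not at hn
  have := Fintype.ofFinite K
  obtain ⟨ξ, hξ⟩ := h.1.nonempty
  obtain ⟨k, hk⟩ := hx
  apply (not_LI_om_zr_res_iff h hξ χ).2 ⟨hχ, h0⟩
  choose ω hω1 hω using fun ψ : IrrCharacter K => exists_root_mul ψ.2 hxc
  obtain ⟨n, -, hn'⟩ := (χ.2.isCharacter.res K).exists_coeff
  have h1 : (fun c : K => (χ : G → ℂ) (x * c)) = ∑ ψ, ((n ψ : ℂ) * ω ψ) • (ψ : K → ℂ) := by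
    funext c
    have := congrFun hn' (x * c)
    simp only [Finset.sum_apply, Pi.smul_apply, smul_eq_mul, hω] at this ⊢
    rw [← Subgroup.coe_mul, this]
    exact Finset.sum_congr rfl fun ψ _ => by ring
  have h2 : blockPart b (fun c : K => (χ : G → ℂ) (x * c)) =
      ∑ ψ, (if ψ ∈ b then (n ψ : ℂ) * ω ψ else 0) • (ψ : K → ℂ) := by
    funext c
    rw [blockPart_eq, Finset.sum_apply]
    refine Finset.sum_congr rfl fun ψ _ => ?_
    rw [h1, classInner_sum_left, Finset.sum_eq_single ψ]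
    · rw [classInner_smul_left, ψ.2.classInner_self]; split_ifs <;> simp
    · intro φ _ hφ; rw [classInner_smul_left, classInner_irr, if_neg hφ, mul_zero]
    · simp
  have h3 := congrArg (om ξ) (zr_congr (p := p) (φ := 0) hn)
  rw [h2, zr_zero, om_zero, zr_sum, om_sum] at h3
  rw [hn', zr_sum, om_sum, ← sub_zero (Finset.sum _ _), ← h3, ← Finset.sum_sub_distrib]
  refine LI_sum _ _ fun ψ _ => ?_
  rw [zr_smul, zr_smul, om_smul, om_smul]
  split_ifs with hψ
  · rw [← sub_mul, ← mul_one_sub]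
    refine LI_mul_right (LI_mul_left (natCast_mem _ _) (LI_sub_comm.1
      (LI_sub_one_of_pow_eq_one (n := k) (by rw [← hk, hω1])))) (om_zr_mem M _ _)
  · rw [om_zr_eq_zero (M := M) fun h' => hψ (h.1.isUB ξ hξ ψ h'.symm)]
    simpa using LI_zero

end Cfsg.Agent.Blk
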