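import Cfsg.Agent.Lib.Block.Rank

/-!
Subsections of blocks: contribution matrices.
-/

namespace Cfsg.Agent.Blk

open MonoidAlgebra
open Cfsg.Agent.Char hiding cj cj_mul cj_inv_cj cj_cj_inv sum_cj_eq
open scoped ComplexConjugate

variable {G : Type*} [Group G] [Finite G] {M : Ideal AlgInt} {p : ℕ} [PMod M p] {u : G}
  {A B : Set (IrrCharacter G)} {e f b : Set (IrrCharacter (Ce1 u))}

theorem IsUB.loc_eq (he : IsUB M e) {θ : G → ℂ} (hθ : IsClassFunction G θ) :
    loc p u e θ = blockPart e (reg p (Ru u θ)) :=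
  (he.blockPart_reg (isClassFunction_Ru u hθ)).symm

theorem IsUB.blockPart_loc (hf : IsUB M f) (θ : G → ℂ) :
    blockPart f (loc p u e θ) = loc p u (f ∩ e) θ := by
  rw [loc, hf.blockPart_reg (isClassFunction_blockPart _ _), blockPart_blockPart, loc]

theorem IsUB.loc_eq_zero (hu : ∃ k : ℕ, orderOf u = p ^ k) (hA : IsUB M A) (he : IsUB M e)
    (h : ∀ ξ ∈ e, ξ ∉ locSet M (Ce1 u) A) {χ : IrrCharacter G} (hχ : χ ∈ A) :
    loc p u e χ.1 = 0 := funext fun s => by
  by_cases hs : p ∣ orderOf s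
  · exact reg_of_dvd hs
  · rw [loc_apply e χ.2.isClassFunction hs]
    exact second_main_UB hA he (fun ξ hξ => not_not.1 (h ξ hξ)) hχ
      (mul_mem (uC u).2 s.2) (isPPart_Ce1 hu hs) le_rfl

omit [PMod M p] in
theorem loc_add_compl (e : Set (IrrCharacter (Ce1 u))) {θ : G → ℂ} (hθ : IsClassFunction G θ) :
    loc p u e θ + loc p u eᶜ θ = reg p (Ru u θ) := by
  rw [loc, loc, ← reg_add, blockPart_add_compl _ (isClassFunction_Ru u hθ)]

theorem IsUB.loc_locSet (hu : ∃ k : ℕ, orderOf u = p ^ k) (hA : IsUB M A) {χ : IrrCharacter G}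
    (hχ : χ ∈ A) : loc p u (locSet M (Ce1 u) A) χ.1 = reg p (Ru u χ.1) := by
  rw [← loc_add_compl (locSet M (Ce1 u) A) χ.2.isClassFunction,
    hA.loc_eq_zero hu (isUB_locSet _ _).compl (fun ξ h => h) hχ, add_zero]

theorem IsUB.loc_eq_zero_of_notMem (hu : ∃ k : ℕ, orderOf u = p ^ k) (hA : IsUB M A)
    (he : IsUB M e) (h : e ⊆ locSet M (Ce1 u) A) {χ : IrrCharacter G} (hχ : χ ∉ A) :
    loc p u e χ.1 = 0 :=
  hA.compl.loc_eq_zero hu he (fun ξ hξ => by
    rw [locSet_Ce1_compl hu hA]; exact not_not.2 (h hξ)) hχ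

theorem IsUB.loc_blockPart (hu : ∃ k : ℕ, orderOf u = p ^ k) (hA : IsUB M A) (he : IsUB M e)
    {θ : G → ℂ} (hθ : IsClassFunction G θ) :
    loc p u e (blockPart A θ) = loc p u (e ∩ locSet M (Ce1 u) A) θ := by
  classical
  have := Fintype.ofFinite G
  conv_rhs => rw [← blockPart_add_compl A hθ, loc_add]
  have h1 : loc p u (e ∩ locSet M (Ce1 u) A) (blockPart Aᶜ θ) = 0 := by
    rw [blockPart_fs, loc_sum]
    exact Finset.sum_eq_zero fun χ hχ => by
      rw [loc_smul, hA.loc_eq_zero_of_notMem hu (he.inter (isUB_locSet _ _))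
        Set.inter_subset_right (mem_fs.1 hχ), smul_zero]
  rw [h1, add_zero, blockPart_fs, loc_sum, loc_sum]
  refine Finset.sum_congr rfl fun χ hχ => ?_
  rw [loc_smul, loc_smul, ← he.blockPart_loc, hA.loc_locSet hu (mem_fs.1 hχ),
    he.loc_eq χ.2.isClassFunction]

theorem subset_locSet_iff (hu : ∃ k : ℕ, orderOf u = p ^ k) (hB : IsPBlock M B)
    (hb : IsPBlock M b) : b ⊆ locSet M (Ce1 u) B ↔ IsInducedBlock M (Ce1 u) b B := by
  constructor
  · intro h
    obtain ⟨ξ, hξ⟩ := hb.nonempty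
    rw [hb.eq_blockOf hξ]; exact (mem_locSet_Ce1_iff hu hB).1 (h hξ)
  · intro h ξ hξ
    exact (mem_locSet_iff hB.isUB h hξ).2 subset_rfl

theorem _root_.Cfsg.IsInducedBlock.subset_locSet {K : Subgroup G} {b : Set (IrrCharacter K)}
    (h : IsInducedBlock M K b B) : b ⊆ locSet M K B := fun _ hξ =>
  (mem_locSet_iff h.2.1.isUB h hξ).2 subset_rfl

theorem _root_.Cfsg.IsInducedBlock.loc_eq_zero (hu : ∃ k : ℕ, orderOf u = p ^ k)
    (h : IsInducedBlock M (Ce1 u) b B) {χ : IrrCharacter G} (hχ : χ ∉ B) : loc p u b χ.1 = 0 :=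
  h.2.1.isUB.loc_eq_zero_of_notMem hu h.1.isUB h.subset_locSet hχ

theorem coe_blocksIn_locSet (hu : ∃ k : ℕ, orderOf u = p ^ k) (hB : IsPBlock M B) :
    (blocksIn M (locSet M (Ce1 u) B) : Set (Set (IrrCharacter (Ce1 u)))) =
      {b | IsInducedBlock M (Ce1 u) b B} := by
  ext b
  rw [Finset.mem_coe, (isUB_locSet _ _).mem_blocksIn, Set.mem_ofPred_eq]
  exact ⟨fun h => (subset_locSet_iff hu hB h.1).1 h.2, fun h => ⟨h.1, h.subset_locSet⟩⟩

theorem isInducedBlock_Ce1_iff (hu : ∃ k : ℕ, orderOf u = p ^ k) (hB : IsPBlock M B)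
    (hb : IsPBlock M b) : IsInducedBlock M (Ce1 u) b B ↔
      Br (Subgroup.zpowers u) (bar M B) * barS M (Ce1 u) b = barS M (Ce1 u) b := by
  obtain ⟨ξ, hξ⟩ := hb.nonempty
  rw [← barS_locSet_Ce1 hu hB.isUB, ← hb.es_blk_eq hξ, ← (isUB_locSet _ _).mem_iffS,
    mem_locSet_Ce1_iff hu hB, ← hb.eq_blockOf hξ]

theorem IsUB.sum_loc_blocksIn (he : IsUB M e) (θ : G → ℂ) :
    ∑ b ∈ blocksIn M e, loc p u b θ = loc p u e θ := by
  have := Fintype.ofFinite (Ce1 u)
  simp only [loc, blockPart_fs]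
  rw [← reg_sum, he.sum_blocksIn]

section Inner

variable [Fintype (Ce1 u)]

theorem IsUB.classInner_loc_loc (he : IsUB M e) {θ φ : G → ℂ} (hθ : IsClassFunction G θ) :
    classInner (loc p u e θ) (loc p u e φ) = classInner (loc p u e θ) (Ru u φ) := by
  conv_lhs => rw [loc, loc, classInner_reg_reg, ← loc, ← classInner_blockPart_comm,
    he.blockPart_loc, Set.inter_self]

theorem IsUB.classInner_loc_of_disjoint (hf : IsUB M f) (h : e ∩ f = ∅) (θ φ : G → ℂ) :
    classInner (loc p u e θ) (loc p u f φ) = 0 := by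
  conv_lhs => rw [loc, loc, classInner_reg_reg, ← loc, ← classInner_blockPart_comm,
    hf.blockPart_loc, Set.inter_comm, h, loc, blockPart_empty, reg_zero, classInner_zero_left]

omit [PMod M p] in
theorem classInner_loc_eq_sum (e : Set (IrrCharacter (Ce1 u))) (θ φ : G → ℂ) :
    classInner (loc p u e θ) (loc p u e φ) = ∑ ξ ∈ fs e, ∑ η ∈ fs e,
      classInner (Ru u θ) ξ * conj (classInner (Ru u φ) η) * classInner (reg p ξ.1) η := by
  rw [loc, loc, classInner_reg_reg, blockPart_fs, blockPart_fs, reg_sum, classInner_sum_left]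
  refine Finset.sum_congr rfl fun ξ _ => ?_
  rw [classInner_sum_right]
  refine Finset.sum_congr rfl fun η _ => ?_
  rw [reg_smul, classInner_smul_left, classInner_smul_right, mul_assoc]

variable [Fintype G]

/-- The sum of the norms of the local components is the rank of the local block. -/
theorem IsUB.sum_classInner_loc (hu : ∃ k : ℕ, orderOf u = p ^ k) (he : IsUB M e) :
    ∑ χ : IrrCharacter G, classInner (loc p u e χ.1) (loc p u e χ.1) = blockRank p e := by
  have := Fact.mk (PMod.prime M)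
  have h1 : ∀ χ : IrrCharacter G, classInner (loc p u e χ.1) (loc p u e χ.1) =
      ∑ ξ ∈ fs e, classInner (Iu p u ξ.1) χ * conj (classInner (Iu p u ξ.1) χ) := fun χ => by
    rw [he.loc_eq χ.2.isClassFunction, ← classInner_blockPart_comm, blockPart_idem,
      classInner_blockPart_left]
    refine Finset.sum_congr rfl fun ξ _ => ?_
    rw [classInner_Iu_left _ χ.2.isClassFunction, classInner_reg_comm,
      ← conj_classInner (reg p ξ.1), Complex.conj_conj, mul_comm]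
  simp only [h1]
  rw [Finset.sum_comm, he.blockRank_eq_sum]
  refine Finset.sum_congr rfl fun ξ _ => ?_
  rw [← (isClassFunction_Iu u _).classInner_eq_sum, classInner_Iu_left _ (isClassFunction_Iu u _),
    ← classInner_reg_reg, reg_Ru_Iu hu ξ.2.isClassFunction, classInner_reg_reg]

theorem _root_.Cfsg.IsInducedBlock.sum_classInner_loc (hu : ∃ k : ℕ, orderOf u = p ^ k)
    (h : IsInducedBlock M (Ce1 u) b B) :
    ∑ χ ∈ fs B, classInner (loc p u b χ.1) (loc p u b χ.1) = blockRank p b := by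
  rw [← h.1.isUB.sum_classInner_loc hu]
  exact sum_fs_eq_univ _ fun χ hχ => by rw [h.loc_eq_zero hu hχ, classInner_zero_left]

end Inner

section Sec

variable [Fintype G]

/-- The component of a class function at a subsection, as a class function on `G`. -/
noncomputable def sec (p : ℕ) (u : G) (e : Set (IrrCharacter (Ce1 u))) (θ : G → ℂ) : G → ℂ :=
  Iu p u (loc p u e θ)

omit [PMod M p] in
theorem isClassFunction_sec (e : Set (IrrCharacter (Ce1 u))) (θ : G → ℂ) :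
    IsClassFunction G (sec p u e θ) := isClassFunction_Iu _ _

theorem IsUB.loc_Iu (hu : ∃ k : ℕ, orderOf u = p ^ k) (he : IsUB M e) {φ : Ce1 u → ℂ}
    (hφ : IsClassFunction (Ce1 u) φ) : loc p u e (Iu p u φ) = reg p (blockPart e φ) := by
  have := Fact.mk (PMod.prime M)
  rw [he.loc_eq (isClassFunction_Iu u φ), reg_Ru_Iu hu hφ, he.blockPart_reg hφ]

theorem IsUB.loc_Iu_of_not_conj (hu : ∃ k : ℕ, orderOf u = p ^ k) (he : IsUB M e) {v : G}
    (hv : ∃ k : ℕ, orderOf v = p ^ k) (h : ¬ IsConj v u) (φ : Ce1 v → ℂ) :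
    loc p u e (Iu p v φ) = 0 := by
  have := Fact.mk (PMod.prime M)
  rw [he.loc_eq (isClassFunction_Iu v φ), reg_Ru_Iu_of_not_conj hv φ hu h, blockPart_zero]

theorem IsUB.loc_sec (hu : ∃ k : ℕ, orderOf u = p ^ k) (hf : IsUB M f) (θ : G → ℂ) :
    loc p u f (sec p u e θ) = loc p u (f ∩ e) θ := by
  rw [sec, hf.loc_Iu hu (isClassFunction_loc _ _ _), hf.blockPart_loc, reg_loc]

theorem IsUB.classInner_sec [Fintype (Ce1 u)] (he : IsUB M e) {θ φ : G → ℂ}
    (hθ : IsClassFunction G θ) (hφ : IsClassFunction G φ) :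
    classInner (sec p u e θ) φ = classInner (loc p u e θ) (loc p u e φ) := by
  rw [sec, classInner_Iu_left _ hφ, reg_loc, he.classInner_loc_loc hθ]

theorem IsUB.classInner_sec_sec [Fintype (Ce1 u)] (hu : ∃ k : ℕ, orderOf u = p ^ k)
    (he : IsUB M e) {θ : G → ℂ} (hθ : IsClassFunction G θ) (φ : G → ℂ) :
    classInner (sec p u e θ) (sec p u e φ) = classInner (loc p u e θ) (loc p u e φ) := by
  rw [he.classInner_sec hθ (isClassFunction_sec _ _), he.loc_sec hu, Set.inter_self]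

/-- The contribution matrix is idempotent. -/
theorem IsUB.sum_classInner_loc_mul [Fintype (Ce1 u)] (hu : ∃ k : ℕ, orderOf u = p ^ k)
    (he : IsUB M e) {θ φ : G → ℂ} (hθ : IsClassFunction G θ) (hφ : IsClassFunction G φ) :
    ∑ χ : IrrCharacter G, classInner (loc p u e θ) (loc p u e χ.1) *
      conj (classInner (loc p u e φ) (loc p u e χ.1)) =
        classInner (loc p u e θ) (loc p u e φ) := by
  rw [← he.classInner_sec_sec hu hθ φ, (isClassFunction_sec e θ).classInner_eq_sum]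
  exact Finset.sum_congr rfl fun χ _ => by
    rw [he.classInner_sec hθ χ.2.isClassFunction, he.classInner_sec hφ χ.2.isClassFunction]

/-- `I_u` of a function in the local blocks lies in the global blocks. -/
theorem IsUB.blockPart_Iu (hu : ∃ k : ℕ, orderOf u = p ^ k) (hA : IsUB M A) {φ : Ce1 u → ℂ}
    (hφ : IsClassFunction (Ce1 u) φ) :
    blockPart A (Iu p u φ) = Iu p u (blockPart (locSet M (Ce1 u) A) φ) := by
  classical
  have := Fintype.ofFinite (Ce1 u)
  refine (isClassFunction_blockPart _ _).ext_classInner (isClassFunction_Iu _ _) fun χ hχ => ?_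
  rw [classInner_blockPart_comm, classInner_Iu_left _ (isClassFunction_blockPart _ _),
    classInner_Iu_left _ hχ.isClassFunction, classInner_reg_comm, classInner_reg_comm,
    classInner_blockPart_comm, ← (isUB_locSet _ _).loc_eq hχ.isClassFunction,
    ← blockPart_univ (isClassFunction_Ru u (isClassFunction_blockPart A χ)), ← loc,
    hA.loc_blockPart hu isUB_univ hχ.isClassFunction, Set.univ_inter]

theorem IsUB.card_eq_sum_rank (hA : IsUB M A) {X : Finset G}
    (hX : ∀ x ∈ X, ∃ k : ℕ, orderOf x = p ^ k)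
    (hrep : ∀ g : G, (∃ k : ℕ, orderOf g = p ^ k) → ∃! x, x ∈ X ∧ IsConj g x) :
    (fs A).card = ∑ u ∈ X, blockRank p (locSet M (Ce1 u) A) := by
  have := Fact.mk (PMod.prime M)
  apply Nat.cast_injective (R := ℂ)
  rw [Finset.card_eq_sum_ones, Nat.cast_sum, Nat.cast_sum]
  have h1 : ∀ χ ∈ fs A, ((1 : ℕ) : ℂ) = ∑ u ∈ X, classInner (Iu p u (Ru u χ.1)) χ.1 :=
    fun χ _ => by
      rw [← classInner_sum_left, sum_Iu_Ru hX hrep χ.2.isClassFunction, χ.2.classInner_self,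
        Nat.cast_one]
  rw [Finset.sum_congr rfl h1, Finset.sum_comm]
  refine Finset.sum_congr rfl fun u hu => ?_
  have := Fintype.ofFinite (Ce1 u)
  rw [← (isUB_locSet _ A).sum_classInner_loc (hX u hu), ← sum_fs_eq_univ A fun χ hχ => by
    rw [hA.loc_eq_zero_of_notMem (hX u hu) (isUB_locSet _ A) subset_rfl hχ, classInner_zero_left]]
  refine Finset.sum_congr rfl fun χ hχ => ?_
  rw [classInner_Iu_left _ χ.2.isClassFunction, hA.loc_locSet (hX u hu) (mem_fs.1 hχ),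
    classInner_reg_reg]

end Sec

/-! ### Integrality of contributions -/

section Ctr

variable [Fintype (Ce1 u)]

/-- The normalized contribution of a subsection. -/
noncomputable def cm (p : ℕ) (u : G) [Fintype (Ce1 u)] (b : Set (IrrCharacter (Ce1 u)))
    (θ φ : G → ℂ) : ℂ :=
  (p : ℂ) ^ blockDefect p b * classInner (loc p u b θ) (loc p u b φ)

omit [PMod M p] in
theorem conj_cm (θ φ : G → ℂ) : conj (cm p u b θ φ) = cm p u b φ θ := by
  rw [cm, cm, map_mul, conj_classInner, map_pow, Complex.conj_natCast]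

omit [PMod M p] in
theorem cm_eq_sum [Fact p.Prime] (θ φ : G → ℂ) : cm p u b θ φ = ∑ ξ ∈ fs b, ∑ η ∈ fs b,
    classInner (Ru u θ) ξ * conj (classInner (Ru u φ) η) * am p b ξ η := by
  rw [cm, classInner_loc_eq_sum, Finset.mul_sum]
  refine Finset.sum_congr rfl fun ξ hξ => ?_
  rw [Finset.mul_sum]
  exact Finset.sum_congr rfl fun η _ => by rw [am_cast (mem_fs.1 hξ)]; ring

omit [PMod M p] in
theorem cm_mem [Fact p.Prime] (R : Subring ℂ) (hR : ∀ z : ℂ, z ^ orderOf u = 1 → z ∈ R)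
    {θ φ : G → ℂ} (hθ : IsGeneralizedCharacter G θ) (hφ : IsGeneralizedCharacter G φ) :
    cm p u b θ φ ∈ R := by
  rw [cm_eq_sum]
  refine sum_mem fun ξ _ => sum_mem fun η _ => mul_mem (mul_mem ?_ ?_) (intCast_mem _ _)
  · obtain ⟨ω, h1, -, h2⟩ := exists_coeff_Ru ξ
    obtain ⟨n, hn⟩ := (hθ.res (Ce1 u)).classInner_eq_int ξ.2.isGen
    rw [h2, hn]; exact mul_mem (hR ω h1) (intCast_mem _ _)
  · obtain ⟨ω, h1, -, h2⟩ := exists_coeff_Ru η
    obtain ⟨n, hn⟩ := (hφ.res (Ce1 u)).classInner_eq_int η.2.isGen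
    rw [h2, hn, map_mul, map_intCast]
    exact mul_mem (hR _ (by rw [← map_pow, h1, map_one])) (intCast_mem _ _)

omit [PMod M p] in
theorem isIntegral_cm [Fact p.Prime] {θ φ : G → ℂ} (hθ : IsGeneralizedCharacter G θ)
    (hφ : IsGeneralizedCharacter G φ) : IsIntegral ℤ (cm p u b θ φ) :=
  cm_mem (integralClosure ℤ ℂ).toSubring
    (fun _ h => isIntegral_of_pow_eq_one (orderOf_pos u).ne' h) hθ hφ

omit [PMod M p] in
theorem cm_mem_CM [Fact p.Prime] {θ φ : G → ℂ} (hθ : IsGeneralizedCharacter G θ)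
    (hφ : IsGeneralizedCharacter G φ) : cm p u b θ φ ∈ CM :=
  cm_mem CM (fun _ h => mem_CM_of_pow (orderOf_pos u).ne' h) hθ hφ

theorem IsUB.sum_cm_mul [Fintype G] (hu : ∃ k : ℕ, orderOf u = p ^ k) (hb : IsUB M b)
    {θ φ : G → ℂ} (hθ : IsClassFunction G θ) (hφ : IsClassFunction G φ) :
    ∑ χ : IrrCharacter G, cm p u b θ χ.1 * conj (cm p u b φ χ.1) =
      (p : ℂ) ^ blockDefect p b * cm p u b θ φ := by
  rw [cm, ← hb.sum_classInner_loc_mul hu hθ hφ, Finset.mul_sum, Finset.mul_sum]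
  refine Finset.sum_congr rfl fun χ _ => ?_
  rw [cm, cm, map_mul, map_pow, Complex.conj_natCast]; ring

theorem _root_.Cfsg.IsInducedBlock.sum_cm_mul (hu : ∃ k : ℕ, orderOf u = p ^ k)
    (h : IsInducedBlock M (Ce1 u) b B) {θ φ : G → ℂ} (hθ : IsClassFunction G θ)
    (hφ : IsClassFunction G φ) : ∑ χ ∈ fs B, cm p u b θ χ.1 * conj (cm p u b φ χ.1) =
      (p : ℂ) ^ blockDefect p b * cm p u b θ φ := by
  have := Fintype.ofFinite G
  rw [← h.1.isUB.sum_cm_mul hu hθ hφ]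
  exact sum_fs_eq_univ _ fun χ hχ => by
    rw [cm, h.loc_eq_zero hu hχ, classInner_zero_right, mul_zero, zero_mul]

theorem _root_.Cfsg.IsInducedBlock.sum_cm_self (hu : ∃ k : ℕ, orderOf u = p ^ k)
    (h : IsInducedBlock M (Ce1 u) b B) : ∑ χ ∈ fs B, cm p u b χ.1 χ.1 =
      (p : ℂ) ^ blockDefect p b * blockRank p b := by
  have := Fintype.ofFinite G
  rw [← h.sum_classInner_loc hu, Finset.mul_sum]; rfl

end Ctr

theorem _root_.Cfsg.IsPBlock.dvd_am_sub [Fintype G] (hB : IsPBlock M B) {χ ψ : IrrCharacter G}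
    (hχ : χ ∈ B) (hψ : ψ ∈ B) (η : IrrCharacter G) :
    (p : ℤ) ∣ am p B ψ ψ * am p B χ η - am p B χ ψ * am p B ψ η := by
  have hp := PMod.prime M
  have := Fact.mk hp
  have h1 : ∀ η : IrrCharacter G, MemLocalIdeal M (om χ (zr p η.1) - om ψ (zr p η.1)) := fun η =>
    LI_om_sub_om ((hB.blk_eq hχ).trans (hB.blk_eq hψ).symm) (zr_mem η.2.isClassFunction)
      (isInt_zr_irr η)
  obtain ⟨g, hg⟩ := pow_mnu_dvd (p := p) hχ
  obtain ⟨g', hg'⟩ := pow_mnu_dvd (p := p) hψ
  have h2 := LI_mul_left (natCast_mem (O M) (g * g')) (LI_sub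
    (LI_mul_left (om_zr_mem M ψ ψ) (h1 η)) (LI_mul_left (om_zr_mem M ψ η) (h1 ψ)))
  rw [← LI_intCast_iff (M := M)]
  convert h2 using 1
  have h3 := p_ne_zero M
  have h4 : (g : ℂ) ≠ 0 := by
    have := charDegree_ne_zero χ; rw [hg] at this; exact_mod_cast right_ne_zero_of_mul this
  have h5 : (g' : ℂ) ≠ 0 := by
    have := charDegree_ne_zero ψ; rw [hg'] at this; exact_mod_cast right_ne_zero_of_mul this
  simp only [om_zr_eq_am hχ, om_zr_eq_am hψ, hg, hg']
  push_cast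
  field_simp
  ring

/-- A normalized contribution is a unit exactly at pairs of characters of height zero. -/
theorem _root_.Cfsg.IsInducedBlock.not_LI_cm_iff [Fintype (Ce1 u)]
    (hu : ∃ k : ℕ, orderOf u = p ^ k) (h : IsInducedBlock M (Ce1 u) b B) (χ ψ : IrrCharacter G) :
    ¬ MemLocalIdeal M (cm p u b χ.1 ψ.1) ↔
      (χ ∈ B ∧ blockHeight p B χ = 0) ∧ ψ ∈ B ∧ blockHeight p B ψ = 0 := by
  have hp := PMod.prime M
  have := Fact.mk hp
  obtain ⟨k, hk⟩ := hu
  obtain ⟨ζ, hζ, h0⟩ := exists_height_zero p h.1.nonempty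
  choose ω hω hω' hω'' using fun ξ : IrrCharacter (Ce1 u) => exists_coeff_Ru ξ
  have hn : ∀ χ : IrrCharacter G, ∃ n : IrrCharacter (Ce1 u) → ℤ,
      ∀ ξ : IrrCharacter (Ce1 u), classInner (fun c : Ce1 u => χ.1 c) ξ = n ξ := fun χ => by
    choose n hn using fun ξ : IrrCharacter (Ce1 u) =>
      (χ.2.isGen.res (Ce1 u)).classInner_eq_int ξ.2.isGen
    exact ⟨n, hn⟩
  choose n hn using hn
  have h1 : ∀ χ : IrrCharacter G, ¬ (p : ℤ) ∣ ∑ ξ ∈ fs b, n χ ξ * am p b ζ ξ ↔
      χ ∈ B ∧ blockHeight p B χ = 0 := fun χ => by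
    rw [← not_LI_om_zr_res_iff h hζ χ, (χ.2.isClassFunction.res (Ce1 u)).eq_sum, zr_sum, om_sum,
      ← sum_fs_eq_univ b fun ξ hξ => by
        rw [zr_smul, om_smul, om_zr_eq_zero (M := M) fun e => hξ (h.1.mem_iff.2
          (e ▸ h.1.blk_eq hζ)), mul_zero]]
    have h2 : ∑ ξ ∈ fs b, om ζ (zr p (classInner (fun c : Ce1 u => χ.1 c) ξ • ξ.1)) =
        ((p ^ mnu p b * ∑ ξ ∈ fs b, n χ ξ * am p b ζ ξ : ℤ) : ℂ) / charDegree ζ.1 := by
      push_cast
      rw [Finset.mul_sum, Finset.sum_div]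
      exact Finset.sum_congr rfl fun ξ _ => by
        rw [zr_smul, om_smul, om_zr_eq_am hζ, hn]; push_cast; ring
    rw [h2, LI_intDiv_iff (charDegree_ne_zero ζ), show (charDegree ζ.1).factorization p = mnu p b
      from (height_eq_zero_iff hζ).1 h0, pow_succ,
      mul_dvd_mul_iff_left (pow_ne_zero _ (by exact_mod_cast hp.ne_zero))]
  have h2 : MemLocalIdeal M (cm p u b χ.1 ψ.1 -
      ((∑ ξ ∈ fs b, ∑ η ∈ fs b, n χ ξ * n ψ η * am p b ξ η : ℤ) : ℂ)) := by
    rw [cm_eq_sum]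
    push_cast
    rw [← Finset.sum_sub_distrib]
    refine LI_sum _ _ fun ξ _ => ?_
    rw [← Finset.sum_sub_distrib]
    refine LI_sum _ _ fun η _ => ?_
    have h3 : (ω ξ * conj (ω η)) ^ p ^ k = 1 := by
      rw [mul_pow, ← map_pow, ← hk, hω, hω, map_one, mul_one]
    convert LI_mul_left (intCast_mem (O M) (n χ ξ * n ψ η * am p b ξ η))
      (LI_sub_one_of_pow_eq_one h3) using 1
    rw [hω'', hω'', hn, hn, map_mul, map_intCast]; push_cast; ring
  have h3 : MemLocalIdeal M (cm p u b χ.1 ψ.1) ↔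
      (p : ℤ) ∣ ∑ ξ ∈ fs b, ∑ η ∈ fs b, n χ ξ * n ψ η * am p b ξ η := by
    rw [← LI_intCast_iff (M := M)]
    exact ⟨fun h => by simpa using LI_sub h h2, fun h => by simpa using LI_add h2 h⟩
  have hpi : Prime (p : ℤ) := Nat.prime_iff_prime_int.1 hp
  have h4 : ¬ (p : ℤ) ∣ am p b ζ ζ := fun h' => (h.1.pow_succ_dvd_am_iff hζ hζ).1
    (by rwa [h0, zero_add, pow_one]) h0
  have h5 : (p : ℤ) ∣ am p b ζ ζ * (∑ ξ ∈ fs b, ∑ η ∈ fs b, n χ ξ * n ψ η * am p b ξ η) -
      (∑ ξ ∈ fs b, n χ ξ * am p b ζ ξ) * ∑ ξ ∈ fs b, n ψ ξ * am p b ζ ξ := by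
    rw [Finset.sum_mul_sum, Finset.mul_sum, ← Finset.sum_sub_distrib]
    refine Finset.dvd_sum fun ξ hξ => ?_
    rw [Finset.mul_sum, ← Finset.sum_sub_distrib]
    refine Finset.dvd_sum fun η _ => ?_
    convert (h.1.dvd_am_sub (mem_fs.1 hξ) hζ η).mul_left
      (n χ ξ * n ψ η) using 1
    rw [am_comm ζ ξ]; ring
  rw [h3, ← h1, ← h1, ← not_or, ← hpi.dvd_mul, ← dvd_iff_dvd_of_dvd_sub h5, hpi.dvd_mul]
  tauto

open Classical in
/-- The bound on the number of characters of height zero by a subsection. -/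
theorem _root_.Cfsg.IsInducedBlock.card_height_zero_sq_le (hu : ∃ k : ℕ, orderOf u = p ^ k)
    (h : IsInducedBlock M (Ce1 u) b B) :
    ((fs B).filter fun χ : IrrCharacter G => blockHeight p B χ = 0).card ^ 2 ≤
      p ^ (2 * blockDefect p b) * blockRank p b := by
  have := Fact.mk (PMod.prime M)
  have := Fintype.ofFinite (Ce1 u)
  set S := ((fs B) ×ˢ (fs B)).filter fun x => cm p u b x.1.1 x.2.1 ≠ 0 with hS
  have h1 := card_le_of_CM S (fun x => cm p u b x.1.1 x.2.1)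
    (fun x _ => isIntegral_cm x.1.2.isGen x.2.2.isGen) (fun x _ => cm_mem_CM x.1.2.isGen x.2.2.isGen)
    (fun x hx => (Finset.mem_filter.1 hx).2) (n := p ^ (2 * blockDefect p b) * blockRank p b) (by
      rw [hS, Finset.sum_filter_of_ne fun x _ hx => left_ne_zero_of_mul hx, Finset.sum_product,
        Finset.sum_congr rfl fun χ _ => h.sum_cm_mul hu χ.2.isClassFunction χ.2.isClassFunction,
        ← Finset.mul_sum, h.sum_cm_self hu]
      push_cast; ring)
  refine le_trans ?_ h1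
  rw [sq, ← Finset.card_product]
  refine Finset.card_le_card fun x hx => ?_
  obtain ⟨h2, h3⟩ := Finset.mem_product.1 hx
  obtain ⟨h4, h5⟩ := Finset.mem_filter.1 h2
  obtain ⟨h6, h7⟩ := Finset.mem_filter.1 h3
  exact Finset.mem_filter.2 ⟨Finset.mem_product.2 ⟨h4, h6⟩, ne_zero_of_not_LI
    ((h.not_LI_cm_iff hu _ _).2 ⟨⟨mem_fs.1 h4, h5⟩, mem_fs.1 h6, h7⟩)⟩

end Cfsg.Agent.Blk
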