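import Cfsg.Agent.Lib.Block.Pairs

/-!
Stabilisers of blocks, the index lemma for stable blocks and the theorems of Fong and Knörr on
defect groups of covering blocks (abstract form).
-/

namespace Cfsg.Agent.Blk

open MonoidAlgebra

variable {G : Type*} [Group G] {k : Type*} [Field k] {p : ℕ}

section grp
variable {C N K L D T : Subgroup G}

theorem exists_mul_of_mem_sup (h : C ≤ No N) {x : G} (hx : x ∈ C ⊔ N) :
    ∃ c ∈ C, ∃ n ∈ N, x = c * n := by
  have : x ∈ ((C ⊔ N : Subgroup G) : Set G) := hx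
  rw [Subgroup.coe_mul_of_left_le_normalizer_right C N h] at this
  obtain ⟨c, hc, n, hn, rfl⟩ := this
  exact ⟨c, hc, n, hn, rfl⟩

theorem conj_mem_of_No {x n : G} (hx : x ∈ No N) (hn : n ∈ N) : x * n * x⁻¹ ∈ N := by
  rw [← mem_No.1 hx]; exact conj_mem_cs.2 hn

theorem conj_mem_of_No' {x n : G} (hx : x ∈ No N) (hn : n ∈ N) : x⁻¹ * n * x ∈ N := by
  simpa using conj_mem_of_No ((No N).inv_mem hx) hn

theorem exists_mul_of_mem_sup' (h : C ≤ No N) {x : G} (hx : x ∈ C ⊔ N) :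
    ∃ n ∈ N, ∃ c ∈ C, x = n * c := by
  obtain ⟨c, hc, n, hn, rfl⟩ := exists_mul_of_mem_sup h hx
  exact ⟨c * n * c⁻¹, conj_mem_of_No (h hc) hn, c, hc, by group⟩

theorem relIndex_eq_of_forall (hCL : C ≤ L) (h : ∀ l ∈ L, ∃ c ∈ C, c⁻¹ * l ∈ K) :
    K.relIndex L = K.relIndex C := by
  refine (Nat.card_congr (Equiv.ofBijective (Subgroup.quotientSubgroupOfEmbeddingOfLE K hCL)
    ⟨(Subgroup.quotientSubgroupOfEmbeddingOfLE K hCL).injective, fun q => ?_⟩)).symm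
  induction q using QuotientGroup.induction_on with | _ l =>
  obtain ⟨c, hc, h1⟩ := h l l.2
  refine ⟨(⟨c, hc⟩ : C), ?_⟩
  rw [Subgroup.quotientSubgroupOfEmbeddingOfLE_apply_mk, QuotientGroup.eq]
  exact h1

theorem relIndex_sup_eq (h : C ≤ No N) (hNK : N ≤ K) : K.relIndex (C ⊔ N) = K.relIndex C :=
  relIndex_eq_of_forall le_sup_left fun l hl => by
    obtain ⟨c, hc, n, hn, rfl⟩ := exists_mul_of_mem_sup h hl
    exact ⟨c, hc, by simpa using hNK hn⟩

theorem relIndex_sup_sup_dvd (h : C ≤ No N) : (D ⊔ N).relIndex (C ⊔ N) ∣ D.relIndex C := by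
  rw [relIndex_sup_eq h le_sup_right]
  exact Subgroup.relIndex_dvd_of_le_left _ le_sup_left

theorem relIndex_cs (x : G) (K L : Subgroup G) : (cs x K).relIndex (cs x L) = K.relIndex L :=
  Subgroup.relIndex_map_map_of_injective _ _ (MulAut.conj x).injective

theorem card_inf_mul_relIndex' (K L : Subgroup G) :
    Nat.card ↥(L ⊓ K) * K.relIndex L = Nat.card L := by
  rw [← Subgroup.inf_relIndex_left, Subgroup.relIndex, ← (L ⊓ K).subgroupOf L |>.card_mul_index]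
  congr 1
  exact (Nat.card_congr (Subgroup.subgroupOfEquivOfLe inf_le_left).toEquiv).symm

variable [Finite G] [hp : Fact p.Prime]

theorem not_dvd_relIndex_of_isSyl {S : Subgroup G} (hS : IsSyl p S T) (h : S ≤ K) :
    ¬ p ∣ K.relIndex T := fun h1 =>
  hS.not_dvd_relIndex (h1.trans (Subgroup.relIndex_dvd_of_le_left _ h))

theorem not_dvd_relIndex_trans (h1 : K ≤ L) (h2 : L ≤ T) (h3 : ¬ p ∣ K.relIndex L)
    (h4 : ¬ p ∣ L.relIndex T) : ¬ p ∣ K.relIndex T := by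
  rw [← Subgroup.relIndex_mul_relIndex K L T h1 h2, hp.out.dvd_mul]
  exact fun h => h.elim h3 h4

theorem exists_isSyl_le_of_not_dvd (h1 : K ≤ T) (h : ¬ p ∣ K.relIndex T) :
    ∃ S, IsSyl p S T ∧ S ≤ K := by
  obtain ⟨S, hS⟩ := exists_isSyl p K
  exact ⟨S, isSyl_of_not_dvd (hS.le.trans h1) hS.pg
    (not_dvd_relIndex_trans hS.le h1 hS.not_dvd_relIndex h), hS.le⟩

theorem le_of_not_dvd_relIndex {R : Subgroup G} (h1 : K ≤ T) (h2 : T ≤ No K)
    (h : ¬ p ∣ K.relIndex T) (hR : IsPGroup p R) (hRT : R ≤ T) : R ≤ K := by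
  obtain ⟨S, hS, hSK⟩ := exists_isSyl_le_of_not_dvd h1 h
  obtain ⟨x, hx, h3⟩ := hS.exists_cs_le hR hRT
  have := cs_le_iff.1 (h3.trans hSK)
  rwa [mem_No.1 (h2 (T.inv_mem hx))] at this

theorem eq_of_relIndex_pow (h1 : N ≤ K) (h2 : K ≤ T) {n : ℕ} (h3 : N.relIndex T = p ^ n)
    (h : ¬ p ∣ K.relIndex T) : K = T := by
  have h4 : K.relIndex T ∣ p ^ n := h3 ▸ Subgroup.relIndex_dvd_of_le_left _ h1
  obtain ⟨m, -, h5⟩ := (Nat.dvd_prime_pow hp.out).1 h4
  rcases m with _ | m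
  · exact le_antisymm h2 (Subgroup.relIndex_eq_one.1 h5)
  · exact absurd (h5 ▸ dvd_pow_self p m.succ_ne_zero) h

/-- A `p`-regular element some `p`-power of which lies in `K` lies in `K`. -/
theorem mem_of_preg_of_pow_mem {x : G} (hx : ¬ p ∣ orderOf x) {n : ℕ} (h : x ^ p ^ n ∈ K) :
    x ∈ K := (Subgroup.zpowers_le.2 h) (preg_mem_zpowers_pow hx n)

/-- If conjugation by the `p`-regular element `x` agrees on `Q` with conjugation by a
`p`-element, then `x` centralises `Q`. -/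
theorem mem_Ce_of_preg_of_conj_eq {Q : Subgroup G} {x s : G} (hx : ¬ p ∣ orderOf x)
    (hs : ∃ n, orderOf s = p ^ n) (hxQ : x ∈ No Q) (h : ∀ u ∈ Q, x * u * x⁻¹ = s * u * s⁻¹) :
    x ∈ Ce Q := by
  obtain ⟨n, hn⟩ := hs
  have key : ∀ m : ℕ, ∀ u ∈ Q, x ^ m * u * (x ^ m)⁻¹ = s ^ m * u * (s ^ m)⁻¹ := by
    intro m
    induction m with
    | zero => simp
    | succ m ih =>
      intro u hu
      have h1 := ih _ (conj_mem_of_No hxQ hu)
      calc x ^ (m + 1) * u * (x ^ (m + 1))⁻¹ = x ^ m * (x * u * x⁻¹) * (x ^ m)⁻¹ := by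
            rw [pow_succ]; group
        _ = s ^ (m + 1) * u * (s ^ (m + 1))⁻¹ := by rw [h1, h u hu, pow_succ]; group
  refine mem_of_preg_of_pow_mem hx (n := n) (mem_Ce.2 fun u hu => ?_)
  have := key (p ^ n) u hu
  rw [← hn, pow_orderOf_eq_one, one_mul, inv_one, mul_one, hn] at this
  exact (mul_inv_eq_iff_eq_mul.1 this).symm

end grp

section stab
variable {R : Type*} [CommRing R]

/-- The stabiliser in `N` of an element of the group algebra. -/
def stab (N : Subgroup G) (a : R[G]) : Subgroup G where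
  carrier := {x | x ∈ N ∧ cj x a = a}
  one_mem' := ⟨N.one_mem, cj_one' a⟩
  mul_mem' := fun hx hy => ⟨N.mul_mem hx.1 hy.1, by rw [cj_mul, hy.2, hx.2]⟩
  inv_mem' := fun {x} hx => ⟨N.inv_mem hx.1, by conv_lhs => rw [← hx.2, cj_inv_cj]⟩

theorem mem_stab {N : Subgroup G} {a : R[G]} {x : G} : x ∈ stab N a ↔ x ∈ N ∧ cj x a = a :=
  Iff.rfl

theorem stab_le (N : Subgroup G) (a : R[G]) : stab N a ≤ N := fun _ h => h.1

theorem mem_inv_stab (N : Subgroup G) (a : R[G]) : a ∈ inv R (stab N a) :=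
  mem_inv.2 fun _ h => h.2

theorem le_stab {N K : Subgroup G} {a : R[G]} : K ≤ stab N a ↔ K ≤ N ∧ a ∈ inv R K :=
  ⟨fun h => ⟨h.trans (stab_le N a), inv_anti h (mem_inv_stab N a)⟩,
    fun h x hx => ⟨h.1 hx, mem_inv.1 h.2 x hx⟩⟩

theorem cs_stab (x : G) (N : Subgroup G) (a : R[G]) :
    cs x (stab N a) = stab (cs x N) (cj x a) := by
  ext y
  rw [mem_cs, mem_stab, mem_stab, mem_cs, cj_mul, cj_mul]
  refine and_congr_right fun _ => ⟨fun h => ?_, fun h => by rw [h, cj_inv_cj]⟩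
  conv_rhs => rw [← h, cj_cj_inv]

variable [Finite G]

theorem cj_cls (x : G) (N : Subgroup G) (g : G) :
    cj x (cls R N g) = cls R (cs x N) (x * g * x⁻¹) := by
  have h := emb_cls (R := R) (φ := (MulAut.conj x).toMonoidHom) (MulAut.conj x).injective N g
  refine Eq.trans ?_ h
  refine ext' fun y => ?_
  have := coeff_emb (φ := (MulAut.conj x).toMonoidHom) (MulAut.conj x).injective (cls R N g)
    (x⁻¹ * y * x)
  rw [coeff_cj, ← this]
  congr 1
  simp [mul_assoc]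

theorem cls_eq_of_coeff {N : Subgroup G} {g h : G} (hh : (cls R N g).coeff h ≠ 0) :
    cls R N h = cls R N g := by
  classical
  obtain ⟨x, hx, rfl⟩ := exists_of_coeff_cls_ne_zero hh
  rw [← cs_eq_of_mem hx, ← cj_cls, cs_eq_of_mem hx, mem_inv.1 (cls_mem_inv N g) x hx]

theorem cls_eq_orb [Nontrivial R] {N T : Subgroup G} (h1 : N ≤ T) (h2 : T ≤ No N) (g : G) :
    cls R T g = orb T (cls R N g) := by
  classical
  refine ext' fun h => ?_
  rw [orb, coeff_sum', coeff_cls]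
  split_ifs with hh
  · obtain ⟨t, ht, rfl⟩ := hh
    rw [Finset.sum_eq_single (cls R N (t * g * t⁻¹))]
    · exact (coeff_cls_self _ _).symm
    · intro z hz hne
      obtain ⟨s, hs, rfl⟩ := mem_orbit.1 hz
      by_contra h0
      rw [cj_cls, mem_No.1 (h2 hs)] at h0 hne
      exact hne (cls_eq_of_coeff h0).symm
    · intro h0
      exfalso; apply h0
      have := cj_mem_orbit ht (cls R N g)
      rwa [cj_cls, mem_No.1 (h2 ht)] at this
  · refine (Finset.sum_eq_zero fun z hz => ?_).symm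
    obtain ⟨s, hs, rfl⟩ := mem_orbit.1 hz
    by_contra h0
    rw [cj_cls, mem_No.1 (h2 hs)] at h0
    obtain ⟨x, hx, rfl⟩ := exists_of_coeff_cls_ne_zero h0
    exact hh ⟨x * s, T.mul_mem (h1 hx) hs, by group⟩

theorem cj_orb (x : G) (N : Subgroup G) (a : R[G]) :
    cj x (orb N a) = orb (cs x N) (cj x a) := by
  classical
  rw [orb, orb, map_sum]
  refine Finset.sum_bij (fun f _ => cj x f) ?_ ?_ ?_ (fun _ _ => rfl)
  · intro f hf
    obtain ⟨y, hy, rfl⟩ := mem_orbit.1 hf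
    exact mem_orbit.2 ⟨x * y * x⁻¹, conj_mem_cs.2 hy, by rw [cj_mul, cj_mul, cj_inv_cj]⟩
  · intro f _ g _ h
    exact (cj x).injective h
  · intro f hf
    obtain ⟨y, hy, rfl⟩ := mem_orbit.1 hf
    exact ⟨cj (x⁻¹ * y * x) a, cj_mem_orbit (mem_cs.1 hy) a, by
      rw [cj_mul, cj_mul, cj_cj_inv]⟩

open Classical in
theorem sum_cj_eq [Fintype G] (N : Subgroup G) (a : R[G]) :
    ∑ x ∈ Finset.univ.filter (· ∈ N), cj x a = Nat.card (stab N a) • orb N a := by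
  rw [orb, Finset.smul_sum, ← Finset.sum_fiberwise_of_maps_to (t := orbit N a)
    (g := fun x => cj x a) (fun x hx => cj_mem_orbit (Finset.mem_filter.1 hx).2 a)]
  refine Finset.sum_congr rfl fun f hf => ?_
  obtain ⟨y, hy, rfl⟩ := mem_orbit.1 hf
  rw [Finset.sum_congr rfl (g := fun _ => cj y a) (fun x hx => (Finset.mem_filter.1 hx).2),
    Finset.sum_const]
  congr 1
  rw [Nat.card_eq_fintype_card, Fintype.card_subtype]
  refine Finset.card_bij (fun x _ => y⁻¹ * x) ?_ ?_ ?_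
  · intro x hx
    simp only [Finset.mem_filter, Finset.mem_univ, true_and] at hx ⊢
    exact ⟨N.mul_mem (N.inv_mem hy) hx.1, by rw [cj_mul, hx.2, cj_inv_cj]⟩
  · intro x _ x' _ h
    exact mul_left_cancel h
  · intro x hx
    simp only [Finset.mem_filter, Finset.mem_univ, true_and] at hx
    refine ⟨y * x, ?_, by simp⟩
    simp only [Finset.mem_filter, Finset.mem_univ, true_and]
    exact ⟨N.mul_mem hy hx.1, by rw [cj_mul, hx.2]⟩

end stab

variable [Finite G] [hp : Fact p.Prime] [CharP k p] [IsAlgClosed k]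
  {N L T P Q D H : Subgroup G} {b B e f : k[G]}

theorem IsBlock.not_dvd_of_lam_cls (hb : IsBlock N b) (h1 : N ≤ T) (h2 : T ≤ No N)
    (hbT : b ∈ Blk.inv k T) {g : G} (hg : g ∈ N) (h : lam b (cls k T g) ≠ 0) :
    ¬ p ∣ ((T ⊓ Ce1 g) ⊔ N).relIndex T := by
  classical
  obtain ⟨S, hS⟩ := exists_isSyl p T
  have hZ : ∀ z ∈ orbit T (cls k N g), z ∈ Z k N := fun z hz => by
    obtain ⟨t, ht, rfl⟩ := mem_orbit.1 hz
    have := cj_mem_Z (R := k) t (cls_mem_Z hg)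
    rwa [mem_No.1 (h2 ht)] at this
  rw [cls_eq_orb h1 h2, orb, hb.lam_sum _ _ hZ, sum_cj_fixed hS.pg _
    (fun x hx a ha => cj_mem_orbit_of_mem (hS.le hx) ha) (lam b) (fun x hx a ha => by
      conv_lhs => rw [← mem_inv.1 hbT x (hS.le hx)]
      exact hb.lam_cj (hZ a ha) x)] at h
  obtain ⟨z, hz, -⟩ := Finset.exists_ne_zero_of_sum_ne_zero h
  rw [Finset.mem_filter] at hz
  obtain ⟨t, ht, rfl⟩ := mem_orbit.1 hz.1
  have h3 := hS.cs t⁻¹
  rw [cs_eq_of_mem (T.inv_mem ht)] at h3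
  refine not_dvd_relIndex_of_isSyl h3 fun s hs => ?_
  have h4 : Blk.cj s (cls k N g) = cls k N g := by
    have := mem_inv.1 hz.2 _ (mem_cs.1 hs)
    rw [inv_inv, cj_mul, cj_mul, cj_inv_cj] at this
    exact (Blk.cj t).injective this
  have hsT := h3.le hs
  rw [cj_cls, mem_No.1 (h2 hsT)] at h4
  obtain ⟨n, hn, h5⟩ := exists_of_coeff_cls_ne_zero (R := k) (H := N) (g := g) (h := s * g * s⁻¹)
    (by rw [← h4, coeff_cls_self]; exact one_ne_zero)
  have h6 : n⁻¹ * s ∈ T ⊓ Ce1 g := ⟨T.mul_mem (T.inv_mem (h1 hn)) hsT, mem_Ce1.2 (by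
    calc n⁻¹ * s * g = n⁻¹ * (s * g * s⁻¹) * s := by group
      _ = g * (n⁻¹ * s) := by rw [← h5]; group)⟩
  have : s = n * (n⁻¹ * s) := by group
  rw [this]
  exact Subgroup.mul_mem _ (Subgroup.mem_sup_right hn) (Subgroup.mem_sup_left h6)

/-- A stable block of a normal subgroup is not killed by a `p`-subgroup covering a Sylow
subgroup of the quotient. -/
theorem IsBlock.exists_Br_ne_zero_index (hb : IsBlock N b) (h1 : N ≤ T) (h2 : T ≤ No N)
    (hbT : b ∈ Blk.inv k T) :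
    ∃ D, D ≤ T ∧ IsPGroup p D ∧ Br D b ≠ 0 ∧ ¬ p ∣ (D ⊔ N).relIndex T := by
  have key : ∃ g, b.coeff g ≠ 0 ∧ lam b (cls k T g) ≠ 0 := by
    by_contra hcon
    push Not at hcon
    have : b ∈ Blk.sup k N → lam b b = 0 := by
      have hh : (∀ g, b.coeff g ≠ 0 → b.coeff g ≠ 0) → (b ∈ Blk.sup k N ∧ lam b b = 0) := by
        intro _
        refine inv_induction (P := fun z => z ∈ Blk.sup k N ∧ lam b z = 0) hbT
          ⟨zero_mem _, hb.lam_zero⟩ ?_ ?_
        · intro a c ha hc h3 h4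
          refine ⟨add_mem h3.1 h4.1, ?_⟩
          rw [hb.lam_add (mem_Z.2 ⟨h3.1, inv_anti h1 ha⟩) (mem_Z.2 ⟨h4.1, inv_anti h1 hc⟩),
            h3.2, h4.2, add_zero]
        · intro g hg
          have h3 : cls k T g ∈ Z k N := mem_Z.2 ⟨cls_mem_sup h2 (mem_of_coeff_ne_zero hb.sup hg),
            inv_anti h1 (cls_mem_inv T g)⟩
          exact ⟨Subalgebra.smul_mem _ (mem_Z.1 h3).1 _, by
            rw [hb.lam_smul _ h3, hcon g hg, mul_zero]⟩
      exact fun _ => (hh fun _ h => h).2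
    exact one_ne_zero (hb.lam_self.symm.trans (this hb.sup))
  obtain ⟨g, hg, h3⟩ := key
  have hgN := mem_of_coeff_ne_zero hb.sup hg
  obtain ⟨D, hD⟩ := exists_isSyl p (T ⊓ Ce1 g)
  refine ⟨D, hD.le.trans inf_le_left, hD.pg, Br_ne_zero_iff.2
    ⟨g, mem_Ce_iff_le.2 (hD.le.trans inf_le_right), hg⟩, ?_⟩
  refine not_dvd_relIndex_trans (sup_le_sup_right hD.le N) (sup_le inf_le_left h1) (fun h4 => ?_)
    (hb.not_dvd_of_lam_cls h1 h2 hbT hgN h3)
  exact hD.not_dvd_relIndex (h4.trans (relIndex_sup_sup_dvd (inf_le_left.trans h2)))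

omit [Finite G] hp [CharP k p] [IsAlgClosed k] in
theorem relIndex_sup_cs (h2 : T ≤ No N) {x : G} (hx : x ∈ T) (D : Subgroup G) :
    (cs x D ⊔ N).relIndex T = (D ⊔ N).relIndex T := by
  rw [← relIndex_cs x (D ⊔ N), cs_sup, mem_No.1 (h2 hx), cs_eq_of_mem hx]

theorem IsDef.not_dvd_index (hb : IsBlock N b) (h1 : N ≤ T) (h2 : T ≤ No N)
    (hbT : b ∈ Blk.inv k T) (hP : IsDef p T b P) : ¬ p ∣ (P ⊔ N).relIndex T := by
  obtain ⟨D, hDT, hD, h3, h4⟩ := hb.exists_Br_ne_zero_index (p := p) h1 h2 hbT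
  obtain ⟨x, hx, h5⟩ := hP.sub D hDT hD h3
  rw [← relIndex_sup_cs h2 hx] at h4
  exact fun h6 => h4 (h6.trans (Subgroup.relIndex_dvd_of_le_left _ (sup_le_sup_right h5 N)))

/-- Homogeneous elements for the grading by cosets of `N`. -/
def Homog (N : Subgroup G) (d : G) (a : k[G]) : Prop :=
  a ∈ inv k N ∧ ∀ g, a.coeff g ≠ 0 → d⁻¹ * g ∈ N

omit hp [CharP k p] [IsAlgClosed k] in
theorem Homog.mul {d e : G} {a c : k[G]} (ha : Homog N d a) (hc : Homog N e c) (he : e ∈ No N) :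
    Homog N (d * e) (a * c) := by
  classical
  have := Fintype.ofFinite G
  refine ⟨mul_mem ha.1 hc.1, fun g hg => ?_⟩
  rw [coeff_mul_left] at hg
  obtain ⟨h, -, h1⟩ := Finset.exists_ne_zero_of_sum_ne_zero hg
  have h2 := N.mul_mem (conj_mem_of_No' he (ha.2 h (left_ne_zero_of_mul h1)))
    (hc.2 _ (right_ne_zero_of_mul h1))
  convert h2 using 1
  group

omit [Finite G] hp [CharP k p] [IsAlgClosed k] in
theorem nilpotent_add_mul {y u z : k[G]} (hy : y ∈ inv k N) (hu : u ∈ inv k N) (hz : z ∈ Z k N)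
    (hyn : IsNilpotent y) (hzn : IsNilpotent z) : IsNilpotent (y + u * z) := by
  have key : ∀ m : ℕ, ∃ c ∈ inv k N, (y + u * z) ^ m = y ^ m + c * z := by
    intro m
    induction m with
    | zero => exact ⟨0, zero_mem _, by simp⟩
    | succ m ih =>
      obtain ⟨c, hc, h⟩ := ih
      refine ⟨y ^ m * u + c * y + c * z * u, add_mem (add_mem (mul_mem (pow_mem hy m) hu)
        (mul_mem hc hy)) (mul_mem (mul_mem hc (mem_Z.1 hz).2) hu), ?_⟩
      have h1 := (commute_of_mem hy (mem_Z.1 hz).1).eq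
      rw [pow_succ, h, pow_succ]
      simp only [add_mul, mul_add, mul_assoc, h1]
      abel
  obtain ⟨m, hm⟩ := hyn
  obtain ⟨c, hc, h⟩ := key m
  rw [hm, zero_add] at h
  exact IsNilpotent.of_pow (m := m)
    (h ▸ (commute_of_mem hc (mem_Z.1 hz).1).isNilpotent_mul_left hzn)

/-- The key step of Knörr's theorem. -/
theorem IsBlock.Br_ne_zero_of_idem (hb : IsBlock N b) (hQ : IsPGroup p Q) (hQN : Q ≤ N)
    (hQb : Br Q b ≠ 0) {i : k[G]} (hi : IsIdempotentElem i) (hi0 : i ≠ 0)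
    (h1 : i ∈ Blk.sup k (No N)) (h2 : i ∈ Blk.inv k N) (h3 : i * b = i) : Br Q i ≠ 0 := by
  classical
  intro h0
  let S : ℕ → Set k[G] := fun n => {x | (∃ u ∈ Blk.inv k N, ∃ z ∈ Z k N, IsNilpotent z ∧ x = u * z) ∨
    (x ∈ Blk.inv k N ∧ ∃ (T : Finset (G ⧸ N)) (d : G), T.card = n ∧ ∀ τ ∈ T, ∃ t : G,
      (t : G ⧸ N) = τ ∧ ∃ u ∈ Blk.inv k N, ∃ v, Homog N (t⁻¹ * d) v ∧ x = u * v)}
  have step : ∀ n, ∀ x ∈ S n, ∀ e ∈ No N, ∀ y, Homog N e y → Br Q y = 0 → y * b = y →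
      x * y ∈ S (n + 1) := by
    intro n x hx e he y hy hy0 hyb
    rcases hx with ⟨u, hu, z, hz, hzn, rfl⟩ | ⟨hx, T, d, hT, hx'⟩
    · refine Or.inl ⟨u * y, mul_mem hu hy.1, z, hz, hzn, ?_⟩
      rw [mul_assoc, mul_assoc, (commute_of_mem hy.1 (mem_Z.1 hz).1).eq]
    · by_cases hmem : ((d * e : G) : G ⧸ N) ∈ T
      · obtain ⟨t, ht, u, hu, v, hv, rfl⟩ := hx' _ hmem
        have h4 := hv.mul hy he
        have h5 : t⁻¹ * d * e ∈ N := by rw [mul_assoc]; exact QuotientGroup.eq.1 ht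
        have h6 : v * y ∈ Z k N := mem_Z.2 ⟨mem_sup.2 fun g hg => by
          by_contra h7
          exact hg (by simpa only [mul_inv_cancel_left] using N.mul_mem h5 (h4.2 g h7)), h4.1⟩
        refine Or.inl ⟨u, hu, v * y, h6, ?_, mul_assoc _ _ _⟩
        have h7 : lam b (v * y) = 0 := by
          by_contra h7
          refine hb.Br_ne_zero_of_lam h6 h7 hQN hQ hQb ?_
          rw [Br_mul hQ (inv_anti hQN hv.1) (inv_anti hQN hy.1), hy0, mul_zero]
        have := (hb.lam_eq_zero_iff h6).1 h7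
        rwa [mul_assoc, hyb] at this
      · refine Or.inr ⟨mul_mem hx hy.1, insert ((d * e : G) : G ⧸ N) T, d * e,
          by rw [Finset.card_insert_of_notMem hmem, hT], fun τ hτ => ?_⟩
        rcases Finset.mem_insert.1 hτ with rfl | hτ
        · refine ⟨d * e, rfl, x * y, mul_mem hx hy.1, 1, ⟨one_mem _, fun g hg => ?_⟩,
            (mul_one _).symm⟩
          rw [coeff_one'] at hg
          have : 1 = g := by by_contra h; exact hg (if_neg h)
          rw [← this]; simp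
        · obtain ⟨t, ht, u, hu, v, hv, rfl⟩ := hx' _ hτ
          exact ⟨t, ht, u, hu, v * y, by rw [← mul_assoc]; exact hv.mul hy he, mul_assoc _ _ _⟩
  have step2 : ∀ n, ∀ x ∈ S n, x * i ∈ AddSubmonoid.closure (S (n + 1)) := by
    intro n x hx
    rw [← h3]
    refine inv_induction (P := fun z => x * (z * b) ∈ AddSubmonoid.closure (S (n + 1))) h2
      (by simp) (fun a c _ _ ha hc => by rw [add_mul, mul_add]; exact add_mem ha hc) ?_
    intro g hg
    have hgN := mem_of_coeff_ne_zero h1 hg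
    refine AddSubmonoid.subset_closure (step n x hx g hgN _ ?_ ?_ ?_)
    · have h4 : Homog N g (i.coeff g • cls k N g) := ⟨Subalgebra.smul_mem _ (cls_mem_inv N g) _,
        fun h hh => by
          rw [coeff_smul'] at hh
          obtain ⟨x, hx, rfl⟩ := exists_of_coeff_cls_ne_zero (right_ne_zero_of_mul hh)
          have := N.mul_mem (conj_mem_of_No' hgN hx) (N.inv_mem hx)
          convert this using 1
          group⟩
      have h5 : Homog N 1 b := ⟨hb.inv, fun h hh => by simpa using mem_of_coeff_ne_zero hb.sup hh⟩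
      simpa using h4.mul h5 (one_mem _)
    · rw [Br_mul hQ (Subalgebra.smul_mem _ (inv_anti hQN (cls_mem_inv N g)) _)
        (inv_anti hQN hb.inv), map_smul]
      have : Br Q (cls k N g) = 0 := by
        by_contra h4
        obtain ⟨h, hh, h5⟩ := Br_ne_zero_iff.1 h4
        obtain ⟨x, hx, rfl⟩ := exists_of_coeff_cls_ne_zero h5
        exact Br_ne_zero_iff.2 ⟨_, hh, by rwa [mem_inv'.1 h2 x hx]⟩ h0
      rw [this, smul_zero, zero_mul]
    · rw [mul_assoc, hb.mul_self]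
  have step3 : ∀ n, i ^ n ∈ AddSubmonoid.closure (S n) := by
    intro n
    induction n with
    | zero => exact AddSubmonoid.subset_closure (Or.inr ⟨by simp, ∅, 1, rfl, by simp⟩)
    | succ n ih =>
      rw [pow_succ]
      refine AddSubmonoid.closure_induction (motive := fun x _ =>
        x * i ∈ AddSubmonoid.closure (S (n + 1))) (step2 n) (by simp)
        (fun a c _ _ ha hc => by rw [add_mul]; exact add_mem ha hc) ih
  have := Fintype.ofFinite (G ⧸ N)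
  have key : i ^ (Fintype.card (G ⧸ N) + 1) ∈ Blk.inv k N ∧ ∀ y ∈ Blk.inv k N, IsNilpotent y →
      IsNilpotent (y + i ^ (Fintype.card (G ⧸ N) + 1)) := by
    refine AddSubmonoid.closure_induction (motive := fun x _ => x ∈ Blk.inv k N ∧
      ∀ y ∈ Blk.inv k N, IsNilpotent y → IsNilpotent (y + x)) ?_ ⟨zero_mem _, by simp⟩ ?_ (step3 _)
    · rintro x (⟨u, hu, z, hz, hzn, rfl⟩ | ⟨-, T, d, hT, -⟩)
      · exact ⟨mul_mem hu (mem_Z.1 hz).2, fun y hy hyn => nilpotent_add_mul hy hu hz hyn hzn⟩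
      · exact absurd (T.card_le_univ) (by omega)
    · intro a c _ _ ha hc
      exact ⟨add_mem ha.1 hc.1, fun y hy hyn => by
        rw [← add_assoc]; exact hc.2 _ (add_mem hy ha.1) (ha.2 y hy hyn)⟩
  have h4 := key.2 0 (zero_mem _) IsNilpotent.zero
  rw [zero_add, hi.pow_succ_eq] at h4
  exact hi0 (idem_eq_zero_of_nilpotent hi h4)

theorem IsBlock.Br_mul_Br_ne_zero (hb : IsBlock N b) (h1 : N ≤ L) (h2 : L ≤ No N)
    (hB : IsBlock L B) (h : B * b ≠ 0) (hQ : IsPGroup p Q) (hQN : Q ≤ N) (hQb : Br Q b ≠ 0) :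
    Br Q B * Br Q b ≠ 0 := by
  have hBN := inv_anti h1 hB.inv
  rw [← Br_mul hQ (inv_anti hQN hBN) (inv_anti hQN hb.inv)]
  exact hb.Br_ne_zero_of_idem hQ hQN hQb (hB.idem.mul_of_commute (commute_of_mem hBN hb.sup) hb.idem)
    h (mul_mem (sup_mono h2 hB.sup) (sup_mono (le_No N) hb.sup)) (mul_mem hBN hb.inv)
    (by rw [mul_assoc, hb.mul_self])

omit [IsAlgClosed k] in
theorem IsBlock.exists_stable_conj (hb : IsBlock N b) (h1 : N ≤ L) (h2 : L ≤ No N)
    (hB : IsBlock L B) (h : B * b ≠ 0) (hP : IsPGroup p P) (hPL : P ≤ L) (hPB : Br P B ≠ 0) :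
    ∃ x ∈ L, Blk.cj x b ∈ Blk.inv k P ∧ Br P (Blk.cj x b) * Br P B ≠ 0 := by
  refine exists_fixed_of_Br_orb hP hPL ?_
  rwa [← Br_mul hP (inv_anti hPL (orb_mem_inv L b)) (inv_anti hPL hB.inv),
    (hb.cover_iff h1 h2 hB).1 h]

omit [IsAlgClosed k] in
theorem IsBlock.card_inf_le (hb : IsBlock N b) (h1 : N ≤ L) (h2 : L ≤ No N)
    (hB : IsBlock L B) (h : B * b ≠ 0) (hP : IsPGroup p P) (hPL : P ≤ L) (hPB : Br P B ≠ 0)
    (hQ : IsDef p N b Q) : Nat.card ↥(P ⊓ N) ≤ Nat.card Q := by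
  obtain ⟨x, hx, -, h3⟩ := hb.exists_stable_conj h1 h2 hB h hP hPL hPB
  have h4 := hQ.cs x
  rw [mem_No.1 (h2 hx)] at h4
  rw [← card_cs x Q]
  exact h4.card_le inf_le_right (isPGroup_le hP inf_le_left)
    (Br_ne_zero_of_le inf_le_left (left_ne_zero_of_mul h3))

/-- Knörr's theorem. -/
theorem IsBlock.knorr_exists (hb : IsBlock N b) (h1 : N ≤ L) (h2 : L ≤ No N)
    (hB : IsBlock L B) (h : B * b ≠ 0) (hQ : IsDef p N b Q) : ∃ P, IsDef p L B P ∧ P ⊓ N = Q := by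
  obtain ⟨P, hP, hQP⟩ := hB.exists_isDef_ge (hQ.le.trans h1) hQ.pg
    (left_ne_zero_of_mul (hb.Br_mul_Br_ne_zero h1 h2 hB h hQ.pg hQ.le hQ.ne))
  exact ⟨P, hP, (Subgroup.eq_of_le_of_card_ge (le_inf hQP hQ.le)
    (hb.card_inf_le h1 h2 hB h hP.pg hP.le hP.ne hQ)).symm⟩

theorem IsBlock.knorr_card (hb : IsBlock N b) (h1 : N ≤ L) (h2 : L ≤ No N)
    (hB : IsBlock L B) (h : B * b ≠ 0) (hP : IsDef p L B P) (hQ : IsDef p N b Q) :
    Nat.card ↥(P ⊓ N) = Nat.card Q := by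
  obtain ⟨P', hP', rfl⟩ := hb.knorr_exists h1 h2 hB h hQ
  obtain ⟨x, hx, rfl⟩ := hP.exists_cs_eq hP'
  rw [← card_cs x (P' ⊓ N), cs_inf, mem_No.1 (h2 hx)]

theorem IsBlock.knorr_isDef (hb : IsBlock N b) (h1 : N ≤ L) (h2 : L ≤ No N)
    (hB : IsBlock L B) (h : B * b ≠ 0) (hP : IsDef p L B P) (h3 : Br (P ⊓ N) b ≠ 0) :
    IsDef p N b (P ⊓ N) := by
  obtain ⟨Q, hQ⟩ := hb.exists_isDef p
  exact hQ.of_card hb.inv inf_le_right (isPGroup_le hP.pg inf_le_left) h3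
    (hb.knorr_card h1 h2 hB h hP hQ).ge

omit [Finite G] hp [CharP k p] [IsAlgClosed k] in
theorem IsBlock.mul_eq_of_stable (hb : IsBlock N b) (h1 : N ≤ L) (hB : IsBlock L B)
    (h : B * b ≠ 0) (hbL : b ∈ Blk.inv k L) : b * B = B :=
  hB.mul_eq_self_of_ne_zero (mem_Z.2 ⟨sup_mono h1 hb.sup, hbL⟩) hb.idem
    (by rwa [← (commute_of_mem (inv_anti h1 hB.inv) hb.sup).eq])

theorem IsBlock.knorr_stable (hb : IsBlock N b) (h1 : N ≤ L) (h2 : L ≤ No N)
    (hB : IsBlock L B) (h : B * b ≠ 0) (hbL : b ∈ Blk.inv k L) (hP : IsDef p L B P) :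
    IsDef p N b (P ⊓ N) := by
  refine hb.knorr_isDef h1 h2 hB h hP (Br_ne_zero_of_le (P := P) inf_le_left fun h0 => hP.ne ?_)
  rw [← hb.mul_eq_of_stable h1 hB h hbL, Br_mul hP.pg (inv_anti hP.le hbL) (inv_anti hP.le hB.inv),
    h0, zero_mul]

theorem IsBlock.knorr_conj (hb : IsBlock N b) (h1 : N ≤ L) (h2 : L ≤ No N)
    (hB : IsBlock L B) (h : B * b ≠ 0) (hP : IsDef p L B P) :
    ∃ x ∈ L, Blk.cj x b ∈ Blk.inv k P ∧ Br P (Blk.cj x b) * Br P B ≠ 0 ∧
      IsDef p N (Blk.cj x b) (P ⊓ N) := by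
  obtain ⟨x, hx, h3, h4⟩ := hb.exists_stable_conj h1 h2 hB h hP.pg hP.le hP.ne
  exact ⟨x, hx, h3, h4, (hb.cj_of_mem_No (h2 hx)).knorr_isDef h1 h2 hB
    (mul_ne_zero_of_mem_orbit hB.inv (cj_mem_orbit hx b) h) hP
    (Br_ne_zero_of_le inf_le_left (left_ne_zero_of_mul h4))⟩

/-- Fong's existence theorem for blocks covering a stable block. -/
theorem IsBlock.exists_cover_index (hb : IsBlock N b) (h1 : N ≤ L) (h2 : L ≤ No N)
    (hbL : b ∈ Blk.inv k L) :
    ∃ B P, IsBlock L B ∧ B * b ≠ 0 ∧ IsDef p L B P ∧ ¬ p ∣ (P ⊔ N).relIndex L := by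
  obtain ⟨D, hDL, hD, h3, h4⟩ := hb.exists_Br_ne_zero_index (p := p) h1 h2 hbL
  rw [eq_sum_blocks_mul L b, map_sum] at h3
  obtain ⟨B, hB, h5⟩ := Finset.exists_ne_zero_of_sum_ne_zero h3
  rw [mem_blocks] at hB
  have h6 : B * b ≠ 0 := fun h0 => h5 (by rw [h0, map_zero])
  rw [Br_mul hD (inv_anti hDL hB.inv) (inv_anti hDL hbL)] at h5
  obtain ⟨P, hP, hDP⟩ := hB.exists_isDef_ge hDL hD (left_ne_zero_of_mul h5)
  exact ⟨B, P, hB, h6, hP, fun h7 => h4 (h7.trans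
    (Subgroup.relIndex_dvd_of_le_left _ (sup_le_sup_right hDP N)))⟩

omit hp [CharP k p] [IsAlgClosed k] [Finite G] in
theorem IsBP.sup_le_stab (he : IsBP p H P e) : P ⊔ H ⊓ Ce P ≤ stab (H ⊓ No P) e :=
  le_stab.2 ⟨he.sup_le, mem_inv_sup.2 ⟨he.mem_inv, he.blk.inv⟩⟩

theorem IsBP.isBlock_stab (he : IsBP p H P e) : IsBlock (stab (H ⊓ No P) e) e :=
  he.isBlock_of_inv he.sup_le_stab (stab_le _ _) (mem_inv_stab _ _)

theorem IsBP.isBlock_sup (he : IsBP p H P e) : IsBlock (P ⊔ H ⊓ Ce P) e :=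
  (isBlock_sup_iff he.pg he.le).2 he.blk

theorem IsMP.isDef_of_le (h : IsMP p H B P e) (h1 : P ≤ T) (h2 : T ≤ H ⊓ No P)
    (h3 : IsBlock T e) : IsDef p T e P := by
  have := h.isDef_self h2 h3
  rwa [inf_eq_left.2 h1] at this

theorem IsMP.not_dvd_index (h : IsMP p H B P e) :
    ¬ p ∣ (P ⊔ H ⊓ Ce P).relIndex (stab (H ⊓ No P) e) :=
  IsDef.not_dvd_index h.bp.blk (le_sup_right.trans h.bp.sup_le_stab)
    ((stab_le _ _).trans (inf_No_le_No_inf_Ce H P)) (mem_inv_stab _ _)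
    (h.isDef_of_le (le_sup_left.trans h.bp.sup_le_stab) (stab_le _ _) h.bp.isBlock_stab)

omit hp [CharP k p] [IsAlgClosed k] [Finite G] in
theorem inf_No_le_No_sup (H P : Subgroup G) : H ⊓ No P ≤ No (P ⊔ H ⊓ Ce P) :=
  le_trans (le_inf inf_le_right (inf_No_le_No_inf_Ce H P)) (No_sup_le _ _)

theorem IsMP.le_sup (h : IsMP p H B P e) {R : Subgroup G} (hR : IsPGroup p R)
    (hRT : R ≤ stab (H ⊓ No P) e) : R ≤ P ⊔ H ⊓ Ce P :=
  le_of_not_dvd_relIndex h.bp.sup_le_stab ((stab_le _ _).trans (inf_No_le_No_sup H P))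
    h.not_dvd_index hR hRT

theorem isMP_of_index (he : IsBP p H P e) (hB : IsBlock H B) (h : Br P B * e = e)
    (hD : IsDef p (P ⊔ H ⊓ Ce P) e P)
    (hi : ¬ p ∣ (P ⊔ H ⊓ Ce P).relIndex (stab (H ⊓ No P) e)) : IsMP p H B P e :=
  isMP_of_max he hB h fun R g hR => hD.eq_of_le (le_of_not_dvd_relIndex he.sup_le_stab
    ((stab_le _ _).trans (inf_No_le_No_sup H P)) hi hR.pg
    (le_stab.2 ⟨le_inf hR.leH hR.no, hR.inv⟩)) hR.pg hR.Br_ne hR.le

end Cfsg.Agent.Blk
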