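import Cfsg.Agent.Lib.Block.Lift

set_option autoImplicit false

namespace Cfsg.Agent.Blk

open MonoidAlgebra
open Cfsg.Agent.Char hiding cj cj_mul cj_inv_cj cj_cj_inv sum_cj_eq
open scoped ComplexConjugate

section Grp
variable {G : Type*} [Group G] [Finite G] {p : ℕ} [hp : Fact p.Prime]

theorem exists_index_p {D Q : Subgroup G} (hQ : IsPGroup p Q) (h : D < Q) :
    ∃ R, D ≤ R ∧ R < Q ∧ Q ≤ No R ∧ Nat.card Q = p * Nat.card R := by
  obtain ⟨m, hm⟩ := IsPGroup.iff_card.1 hQ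
  obtain ⟨n, hn⟩ := IsPGroup.iff_card.1 (isPGroup_le hQ h.le)
  have lt : ∀ {A B : Subgroup G}, A < B → Nat.card A < Nat.card B := fun h =>
    Set.ncard_lt_ncard (SetLike.coe_ssubset_coe.2 h) (Set.toFinite _)
  have hnm : n < m := by
    have := lt h
    rwa [hm, hn, Nat.pow_lt_pow_iff_right hp.out.one_lt] at this
  obtain ⟨m, rfl⟩ : ∃ m', m = m' + 1 := ⟨m - 1, by omega⟩
  obtain ⟨K, hK, hDK⟩ := Sylow.exists_subgroup_card_pow_prime_le (G := Q) p (n := n) (m := m)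
    (by rw [hm]; exact pow_dvd_pow _ (by omega)) (D.subgroupOf Q)
    (by rw [Nat.card_congr (Subgroup.subgroupOfEquivOfLe h.le).toEquiv, hn]) (by omega)
  have hR : Nat.card (K.map Q.subtype) = p ^ m := by
    rw [Subgroup.card_map_of_injective Q.subtype_injective, hK]
  have hRQ : K.map Q.subtype < Q := lt_of_le_of_ne (Subgroup.map_subtype_le K) fun h => by
    rw [h, hm] at hR
    exact absurd (Nat.pow_right_injective hp.out.two_le hR) (by omega)
  refine ⟨K.map Q.subtype, fun x hx => ⟨⟨x, h.le hx⟩, hDK hx, rfl⟩, hRQ, ?_, by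
    rw [hR, hm, pow_succ']⟩
  have h1 := lt (lt_inf_No hQ hRQ)
  obtain ⟨j, hj⟩ := IsPGroup.iff_card.1 (isPGroup_le hQ (inf_le_left : Q ⊓ No (K.map Q.subtype) ≤ Q))
  rw [hR, hj, Nat.pow_lt_pow_iff_right hp.out.one_lt] at h1
  rw [← inf_eq_left]
  exact Subgroup.eq_of_le_of_card_ge inf_le_left (by
    rw [hm, hj]; exact Nat.pow_le_pow_right hp.out.pos h1)

end Grp

section Pure
variable {G : Type*} [Group G] [Finite G] {k : Type*} [Field k] {p : ℕ} [Fact p.Prime] [CharP k p]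
  {Q R : Subgroup G} {j e f : k[G]}

omit [Fact p.Prime] [CharP k p] in
theorem Br_cls_eq_zero {g : G} (h : ∀ x ∈ Q, x * g * x⁻¹ ∉ Ce R) : Br R (cls k Q g) = 0 :=
  tr_eq_zero_iff.2 fun _ hy => by_contra fun h0 => by
    obtain ⟨x, hx, rfl⟩ := exists_of_coeff_cls_ne_zero h0
    exact h x hx hy

theorem Prim.Br_eq_zero (hj : Prim (inv k Q) j) (hQ : IsPGroup p Q) (hRQ : R ≤ Q)
    (he : e ∈ Z k (Ce Q)) (h : Br Q j * e ≠ 0) {a : k[G]} (ha : a ∈ inv k Q) (h1 : Br Q a * e = 0)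
    (hi : IsIdempotentElem (Br R j * Br R a * Br R j)) : Br R j * Br R a * Br R j = 0 := by
  have hR := isPGroup_le hQ hRQ
  rcases hj.nil_or (hj.corner_mem ha) (hj.corner_left a) (hj.corner_right a) with h2 | ⟨c, hc, -, h2, -⟩
  · have := Br_nilpotent hR (inv_anti hRQ (hj.corner_mem ha)) h2
    rw [Br_mul hR (inv_anti hRQ (mul_mem hj.mem ha)) (inv_anti hRQ hj.mem),
      Br_mul hR (inv_anti hRQ hj.mem) (inv_anti hRQ ha)] at this
    exact idem_eq_zero_of_nilpotent hi this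
  · refine absurd ?_ h
    rw [← h2, Br_mul hQ hc (hj.corner_mem ha), Br_mul hQ (mul_mem hj.mem ha) hj.mem,
      Br_mul hQ hj.mem ha, mul_assoc, mul_assoc, ← (commute_of_mem he.2 (Br_mem_sup Q j)).eq,
      mul_assoc, ← mul_assoc (Br Q a), h1, zero_mul, mul_zero, mul_zero]

theorem Prim.pure (hj : Prim (inv k Q) j) (he : IsBP p ⊤ Q e) (h : Br Q j * e ≠ 0)
    (hle : PLe p ⊤ R f Q e) : Br R j * f = Br R j := by
  induction R using subgroup_induction generalizing f with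
  | _ R ih =>
  have hf := hle.left he
  have hRQ := hle.le
  have hfZ : f ∈ Z k (Ce R) := by simpa using hf.blk.mem
  have heZ : e ∈ Z k (Ce Q) := by simpa using he.blk.mem
  have hc : Commute f (Br R j) := commute_of_mem hfZ.2 (Br_mem_sup R j)
  have hji := Br_idem hf.pg (inv_anti hRQ hj.mem) hj.idem
  obtain ⟨ι, hι⟩ : ∃ ι, ι = Br R j * (1 - f) := ⟨_, rfl⟩
  have hc' : Commute (Br R j) (1 - f) := (Commute.one_right _).sub_right hc.symm
  have hιi : IsIdempotentElem ι := hι ▸ hji.mul_of_commute hc' hf.blk.idem.one_sub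
  have hιs : ι ∈ sup k (Ce R) := hι ▸ mul_mem (Br_mem_sup R j) (sub_mem (one_mem _) hfZ.1)
  have key : ∃ a ∈ inv k Q, Br R a = ι ∧ Br Q a * e = 0 := by
    rcases hRQ.eq_or_lt with rfl | hlt
    · obtain rfl := hle.eq_of_eq
      refine ⟨ι, sup_le_inv_Ce _ hιs, Br_of_mem_sup hιs, ?_⟩
      rw [Br_of_mem_sup hιs, hι, mul_assoc, sub_mul, one_mul, he.blk.idem.eq, sub_self, mul_zero]
    have hιN : ι ∈ inv k (Q ⊓ No R) := hι ▸ mul_mem (Br_mem_inv (inv_anti inf_le_left hj.mem)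
      inf_le_right) (sub_mem (one_mem _) (hle.mem_inv he))
    refine inv_induction (P := fun z => ∃ a ∈ inv k Q, Br R a = z ∧ Br Q a * e = 0) hιN
      ⟨0, zero_mem _, map_zero _, by rw [map_zero, zero_mul]⟩ ?_ fun g hg => ?_
    · rintro _ _ - - ⟨a, ha, rfl, h1⟩ ⟨b, hb, rfl, h2⟩
      exact ⟨a + b, add_mem ha hb, map_add _ _ _, by rw [map_add, add_mul, h1, h2, add_zero]⟩
    have hgR : g ∈ Ce R := mem_of_coeff_ne_zero hιs hg
    have h1 : Q ⊓ Ce1 g = R := by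
      refine (le_inf hRQ (mem_Ce_iff_le.1 hgR)).eq_or_lt.elim Eq.symm fun h2 => absurd ?_ hg
      have h3 := lt_inf_No (isPGroup_le he.pg inf_le_left) h2
      set S := Q ⊓ Ce1 g ⊓ No R
      have hSQ : S ≤ Q := inf_le_left.trans inf_le_left
      obtain ⟨g', hg'⟩ := he.exists_PLe hSQ
      have h4 := hle.nsub_of_le he hg' h3.le inf_le_right
      have hS := isPGroup_le he.pg hSQ
      have h5 : Br S ι = 0 := by
        have hg'Z : g' ∈ Z k (Ce S) := by simpa using h4.blke.mem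
        rw [hι, Br_mul hS (Br_mem_inv (inv_anti hSQ hj.mem) inf_le_right)
          (sub_mem (one_mem _) h4.inv), Br_Br_of_le h3.le, ← ih S h3 hg', map_sub, Br_one, mul_assoc,
          mul_sub, mul_one, (commute_of_mem hg'Z.2 (Br_mem_sup S f)).eq, h4.eq, sub_self, mul_zero]
      rw [← coeff_Br (K := S) ι (mem_Ce_iff_le.2 (inf_le_left.trans inf_le_right)), h5]; rfl
    refine ⟨ι.coeff g • cls k Q g, Subalgebra.smul_mem _ (cls_mem_inv Q g) _, ?_, ?_⟩
    · rw [map_smul, Br_cls (p := p) ⟨h1.ge, hf.pg, fun S h2 _ h3 => le_antisymm (h1 ▸ h2) h3⟩]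
    · rw [map_smul, Br_cls_eq_zero, smul_zero, zero_mul]
      intro x hx h2
      refine hlt.ne (le_antisymm hlt.le (h1 ▸ le_inf le_rfl (mem_Ce_iff_le.1 ?_)))
      have := mem_Ce.1 h2 x hx
      rw [inv_mul_cancel_right, mul_right_inj] at this
      rwa [this] at h2
  obtain ⟨a, ha, h1, h2⟩ := key
  have h3 : Br R j * Br R a * Br R j = ι := by
    rw [h1, hι, ← mul_assoc, hji.eq, mul_assoc, ← hc'.eq, ← mul_assoc, hji.eq]
  have := hj.Br_eq_zero he.pg hRQ heZ h ha h2 (by rwa [h3])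
  rw [h3, hι, mul_sub, mul_one, sub_eq_zero] at this
  exact this.symm

end Pure

variable {G : Type*} [Group G] [Finite G] {M : Ideal AlgInt} {p : ℕ} [PMod M p]
  {w : G → (kk M)[G] → ℂ} {χ : G → ℂ} {u : G} {ε ε' : (kk M)[G]} {Q R : Subgroup G}

/-- the local pieces of the star construction -/
noncomputable def Fw (w : G → (kk M)[G] → ℂ) (χ : G → ℂ) (u : G) (ε : (kk M)[G]) : ℂ :=
  ∑ f ∈ blocks (kk M) (Ce1 u), w u f * TT χ u (f * Br (Subgroup.zpowers u) ε)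

theorem Br_zpowers_mem {R : Type*} [CommRing R] (u : G) (a : R[G]) :
    Br (Subgroup.zpowers u) a ∈ sup R (Ce1 u) := by
  rw [← Ce_zpowers]; exact Br_mem_sup _ _

theorem zpowers_le' (hu : u ∈ Q) : Subgroup.zpowers u ≤ Q := Subgroup.zpowers_le_of_mem hu

theorem Fw_of_Br (h : Br (Subgroup.zpowers u) ε = 0) : Fw w χ u ε = 0 :=
  Finset.sum_eq_zero fun f _ => by rw [h, mul_zero, TT_zero, mul_zero]

theorem Fw_sum (hχ : IsClassFunction G χ) (hQ : IsPGroup p Q) (hu : u ∈ Q) {D : Finset (kk M)[G]}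
    (hD : Dec (inv (kk M) Q) ε D) : Fw w χ u ε = ∑ j ∈ D, Fw w χ u j := by
  haveI : Fact p.Prime := ⟨PMod.prime M⟩
  have hU := isPGroup_le hQ (zpowers_le' hu)
  have m : ∀ j ∈ D, j ∈ inv (kk M) (Subgroup.zpowers u) := fun j hj =>
    inv_anti (zpowers_le' hu) (hD.prim j hj).mem
  simp only [Fw]
  rw [Finset.sum_comm]
  refine Finset.sum_congr rfl fun f hf => ?_
  rw [mem_blocks] at hf
  have hc : ∀ a, Commute f (Br (Subgroup.zpowers u) a) := fun a =>
    commute_of_mem hf.inv (Br_zpowers_mem u a)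
  rw [← Finset.mul_sum, ← hD.sum, map_sum, Finset.mul_sum, TT_sum (pelt_of_mem hQ hu) hχ]
  · exact fun j _ => mul_mem hf.sup (Br_zpowers_mem u j)
  · exact fun j hj => hf.idem.mul_of_commute (hc j) (Br_idem hU (m j hj) (hD.prim j hj).idem)
  · intro i hi j hj hne
    rw [mul_assoc, ← mul_assoc _ f, ← (hc i).eq, mul_assoc, ← Br_mul hU (m i hi) (m j hj),
      hD.orth i hi j hj hne, map_zero, mul_zero, mul_zero]

theorem Fw_eqv (hχ : IsClassFunction G χ) (hQ : IsPGroup p Q) (hu : u ∈ Q)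
    (h : Eqv (inv (kk M) Q) ε ε') (hi : IsIdempotentElem ε) (hi' : IsIdempotentElem ε') :
    Fw w χ u ε = Fw w χ u ε' := by
  haveI : Fact p.Prime := ⟨PMod.prime M⟩
  have hU := isPGroup_le hQ (zpowers_le' hu)
  have m : ∀ {j}, j ∈ inv (kk M) Q → j ∈ inv (kk M) (Subgroup.zpowers u) := fun hj =>
    inv_anti (zpowers_le' hu) hj
  refine Finset.sum_congr rfl fun f hf => ?_
  rw [mem_blocks] at hf
  have hc : ∀ a, Commute f (Br (Subgroup.zpowers u) a) := fun a =>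
    commute_of_mem hf.inv (Br_zpowers_mem u a)
  rw [TT_eqv (pelt_of_mem hQ hu) hχ _ (hf.idem.mul_of_commute (hc _) (Br_idem hU (m h.mem_left) hi))
    (hf.idem.mul_of_commute (hc _) (Br_idem hU (m h.mem_right) hi'))]
  obtain ⟨x, hx, y, hy, rfl, rfl⟩ := h
  exact ⟨_, mul_mem hf.sup (Br_zpowers_mem u x), _, Br_zpowers_mem u y,
    by rw [Br_mul hU (m hx) (m hy), mul_assoc],
    by rw [Br_mul hU (m hy) (m hx), ← mul_assoc, ← (hc y).eq, mul_assoc]⟩

theorem cs_zpowers (x u : G) : cs x (Subgroup.zpowers u) = Subgroup.zpowers (x * u * x⁻¹) :=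
  MonoidHom.map_zpowers _ _

theorem sum_blocks_cj {k β : Type*} [Field k] [AddCommMonoid β] {K L : Subgroup G} {x : G}
    (h : cs x K = L) (F : k[G] → β) :
    ∑ f ∈ blocks k L, F f = ∑ f ∈ blocks k K, F (cj x f) := by
  subst h
  symm
  refine Finset.sum_bij (fun f _ => cj x f) (fun f hf => mem_blocks.2 ((mem_blocks.1 hf).cj x))
    (fun _ _ _ _ h => (cj x).injective h) (fun f hf => ⟨cj x⁻¹ f, mem_blocks.2 ?_, cj_cj_inv _ _⟩)
    fun _ _ => rfl
  simpa using (mem_blocks.1 hf).cj x⁻¹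

theorem Fw_cj (hw : ∀ x u f, w (x * u * x⁻¹) (cj x f) = w u f) (hχ : IsClassFunction G χ)
    (hu : ∃ k : ℕ, orderOf u = p ^ k) (hε : ε ∈ inv (kk M) (Subgroup.zpowers u))
    (hi : IsIdempotentElem ε) (x : G) : Fw w χ (x * u * x⁻¹) (cj x ε) = Fw w χ u ε := by
  haveI : Fact p.Prime := ⟨PMod.prime M⟩
  rw [Fw, sum_blocks_cj (cs_Ce1 x u)]
  refine Finset.sum_congr rfl fun f hf => ?_
  rw [mem_blocks] at hf
  rw [hw, ← cs_zpowers, ← cj_Br, ← map_mul, TT_cj hu hχ (mul_mem hf.sup (Br_zpowers_mem u ε))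
    (hf.idem.mul_of_commute (commute_of_mem hf.inv (Br_zpowers_mem u ε))
      (Br_idem (isPGroup_zpowers hu) hε hi))]

theorem isBP_zpowers_iff {f : (kk M)[G]} : IsBP p ⊤ (Subgroup.zpowers u) f ↔
    IsPGroup p (Subgroup.zpowers u) ∧ IsBlock (Ce1 u) f := by
  rw [isBP_top_iff, Ce_zpowers]

theorem isGen_Fw_local (hχ : IsGeneralizedCharacter G χ)
    (hw : ∀ Q e, IsBP p ⊤ Q e → ∃ η : Q → ℂ, IsGeneralizedCharacter Q η ∧
      ∀ (u : Q) f, PLe p ⊤ (Subgroup.zpowers (u : G)) f Q e → w u f = η u)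
    (hQ : IsPGroup p Q) (hj : Prim (inv (kk M) Q) ε) (h : Br Q ε ≠ 0) :
    IsGeneralizedCharacter Q fun u : Q => Fw w χ u ε := by
  haveI : Fact p.Prime := ⟨PMod.prime M⟩
  obtain ⟨e, he, h1⟩ := exists_block_mul_ne_zero (Ce Q) h
  have he' : IsBP p ⊤ Q e := isBP_top_iff.2 ⟨hQ, he⟩
  obtain ⟨η, hη, h2⟩ := hw Q e he'
  obtain ⟨i, -, hi, h3, rfl⟩ := exists_idem_lift_of_mem (K := ⊤) (mem_sup_top _) hj.mem hj.idem
  convert hη.mul (isGen_idem hχ (cf_mem_inv (O M).subtype hi) (h3.map (toC M))) using 1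
  funext u
  obtain ⟨f, hf⟩ := he'.exists_PLe (zpowers_le' u.2)
  have hf' := (isBP_zpowers_iff.1 (hf.left he')).2
  have h4 := hj.pure he' h1 hf
  rw [← (commute_of_mem hf'.inv (Br_zpowers_mem _ _)).eq] at h4
  rw [Fw, Finset.sum_eq_single_of_mem f (mem_blocks.2 hf'), h2 u f hf, h4,
    TT_eq (pelt_of_mem hQ u.2) hχ.isClassFunction (inv_anti (zpowers_le' u.2) hi) h3]
  · rfl
  · intro f' h5 h6
    rw [← h4, ← mul_assoc, (mem_blocks.1 h5).mul_eq_zero hf' h6, zero_mul, TT_zero, mul_zero]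

theorem classInner_res_of_vanish {Q R : Subgroup G} [Fintype Q] [Fintype R] (h : R ≤ Q)
    (F : G → ℂ) (ν : Q → ℂ) (h0 : ∀ u ∈ Q, u ∉ R → F u = 0) :
    Nat.card Q * classInner (fun u : Q => F u) ν =
      Nat.card R * classInner (fun u : R => F u) fun u : R => ν ⟨u, h u.2⟩ := by
  classical
  simp only [classInner]
  rw [mul_inv_cancel_left₀ (card_ne_zero' Q), mul_inv_cancel_left₀ (card_ne_zero' R)]
  symm
  refine Finset.sum_of_injOn (fun u : R => (⟨u, h u.2⟩ : Q)) (fun a _ b _ hab => Subtype.ext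
    (congrArg Subtype.val hab :)) (fun _ _ => Finset.mem_univ _) (fun u _ hu => ?_) fun _ _ => rfl
  rw [h0 u u.2 fun hR => hu ⟨⟨u, hR⟩, by simp, rfl⟩, zero_mul]

theorem isGen_Fw_nonlocal (hw : ∀ x u f, w (x * u * x⁻¹) (cj x f) = w u f)
    (hχ : IsClassFunction G χ) (hQ : IsPGroup p Q)
    (ih : ∀ R < Q, ∀ ε ∈ inv (kk M) R, IsIdempotentElem ε →
      IsGeneralizedCharacter R fun u : R => Fw w χ u ε)
    (hj : Prim (inv (kk M) Q) ε) (h : Br Q ε = 0) :
    IsGeneralizedCharacter Q fun u : Q => Fw w χ u ε := by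
  classical
  haveI : Fact p.Prime := ⟨PMod.prime M⟩
  have := Fintype.ofFinite Q
  obtain ⟨g, hg, h1⟩ : ∃ g, g ∉ Ce Q ∧ rho (kk M) ε (cls (kk M) Q g) ≠ 0 := by
    by_contra hc
    push Not at hc
    refine one_ne_zero (hj.rho_self.symm.trans ?_)
    refine inv_induction (P := fun z => rho (kk M) ε z = 0) hj.mem hj.rho_zero
      (fun a b ha hb h1 h2 => by rw [hj.rho_add ha hb, h1, h2, add_zero]) fun g hg => ?_
    rw [hj.rho_smul _ (cls_mem_inv Q g), hc g fun h2 => hg ?_, mul_zero]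
    rw [← coeff_Br ε h2, h]; rfl
  obtain ⟨c, hc, -, h2, -, -⟩ := hj.exists_of_rho_ne_zero (cls_mem_inv Q g) h1
  obtain ⟨R, h3, hRQ, hN, hcard⟩ := exists_index_p hQ (D := Q ⊓ Ce1 g)
    (lt_of_le_of_ne inf_le_left fun h => hg (mem_Ce_iff_le.2 (inf_eq_left.1 h)))
  have := Fintype.ofFinite R
  have hR := isPGroup_le hQ hRQ.le
  have hconj : ∀ x ∈ Q, ∀ u ∈ Q, u * (x * g * x⁻¹) = x * g * x⁻¹ * u → u ∈ R := fun x hx u hu h => by
    have : x⁻¹ * u * x ∈ R := h3 (mi (Q.mul_mem (Q.mul_mem (Q.inv_mem hx) hu) hx) (mem_Ce1.2 (by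
      calc x⁻¹ * u * x * g = x⁻¹ * (u * (x * g * x⁻¹)) * x := by group
        _ = _ := by rw [h]; group)))
    simpa [mul_assoc] using conj_mem_of_No (hN hx) this
  have h4 : ∀ u ∈ Q, u ∉ R → Fw w χ u ε = 0 := fun u hu hu' => Fw_of_Br (by
    have hU := isPGroup_le hQ (zpowers_le' hu)
    have m : ∀ {j}, j ∈ inv (kk M) Q → j ∈ inv (kk M) (Subgroup.zpowers u) := fun hj =>
      inv_anti (zpowers_le' hu) hj
    rw [← h2, Br_mul hU (m (mul_mem hc (cls_mem_inv Q g))) (m hj.mem),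
      Br_mul hU (m hc) (m (cls_mem_inv Q g)), Br_cls_eq_zero, mul_zero, zero_mul]
    intro x hx h5
    exact hu' (hconj x hx u hu (mem_Ce.1 h5 u (Subgroup.mem_zpowers u))))
  have hcf : IsClassFunction Q fun u : Q => Fw w χ u ε := fun u x => by
    have := Fw_cj hw hχ (pelt_of_mem hQ u.2) (inv_anti (zpowers_le' u.2) hj.mem) hj.idem x
    rwa [mem_inv.1 hj.mem x x.2] at this
  refine hcf.isGen_of_int fun ν hν => ?_
  let ν' : R → ℂ := fun u => ν ⟨u, hRQ.le u.2⟩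
  have hν' : IsGeneralizedCharacter R ν' := (hν.isCharacter.res_le hRQ.le).isGen
  let Φ : (kk M)[G] → kk M := fun i => rd M (classInner (fun u : R => Fw w χ u i) ν')
  obtain ⟨D, hD⟩ := exists_dec (inv_anti hRQ.le hj.mem) hj.idem
  have hcjS : ∀ x ∈ Q, ∀ a : (kk M)[G], cj x a ∈ inv (kk M) R ↔ a ∈ inv (kk M) R := fun x hx a => by
    rw [← cj_mem_inv_iff (K := R) (a := a) x, mem_No.1 (hN hx)]
  have hΦ : ∀ i i', Prim (inv (kk M) R) i → Prim (inv (kk M) R) i' → Eqv (inv (kk M) R) i i' →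
      Φ i = Φ i' := fun i i' hi hi' h => by
    simp only [Φ]
    rw [show (fun u : R => Fw w χ u i) = fun u : R => Fw w χ u i' from
      funext fun u => Fw_eqv hχ hR u.2 h hi.idem hi'.idem]
  have hΦ' : ∀ x ∈ Q, ∀ i, Prim (inv (kk M) R) i → Φ (cj x i) = Φ i := fun x hx i hi => by
    simp only [Φ]
    rw [← classInner_comp_equiv (conjIso (mem_No.1 (hN hx)))]
    have e1 : (fun u : R => Fw w χ (conjIso (mem_No.1 (hN hx)) u : R) (cj x i)) =
        fun u : R => Fw w χ u i := funext fun u =>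
      Fw_cj hw hχ (pelt_of_mem hR u.2) (inv_anti (zpowers_le' u.2) hi.mem) hi.idem x
    have e2 : (fun u : R => ν' (conjIso (mem_No.1 (hN hx)) u)) = ν' := funext fun u =>
      hν.isClassFunction ⟨u, hRQ.le u.2⟩ ⟨x, hx⟩
    rw [e1, e2]
  let φ : (kk M)[G] → kk M := fun a => ∑ i ∈ D, Φ i * rho (kk M) i a
  have hφ : ∀ x ∈ Q, ∀ a ∈ inv (kk M) R, φ (cj x a) = φ a := fun x hx a ha => by
    have hD' := hD.map (cj x) (hcjS x hx)
    rw [mem_inv.1 hj.mem x hx] at hD'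
    simp only [φ]
    rw [hD.trace_indep hD' (fun i hi j hj => hΦ i j (hD.prim i hi) (hD'.prim j hj))
      ((hcjS x hx a).2 ha), Finset.sum_map]
    refine Finset.sum_congr rfl fun i hi => ?_
    show Φ (cj x i) * rho _ (cj x i) (cj x a) = _
    rw [hΦ' x hx i (hD.prim i hi), rho_map _ (hD.prim i hi).idem (hD.prim i hi).ne]
  have horb : ∀ a ∈ orbit Q (cls (kk M) R g), a ∈ inv (kk M) R := fun a ha => by
    obtain ⟨x, hx, rfl⟩ := mem_orbit.1 ha
    exact (hcjS x hx _).2 (cls_mem_inv R g)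
  have hm : ∀ a ∈ inv (kk M) R, c * a * ε ∈ inv (kk M) R := fun a ha =>
    mul_mem (mul_mem (inv_anti hRQ.le hc) ha) (inv_anti hRQ.le hj.mem)
  have h5 : ∑ i ∈ D, Φ i = 0 := by
    rw [← hD.trace_self]
    conv_lhs => rw [← h2, cls_eq_orb hRQ.le hN, orb, Finset.mul_sum, Finset.sum_mul]
    rw [hD.trace_sum Φ _ _ fun a ha => hm a (horb a ha)]
    rw [sum_cj_fixed hQ _ (fun x hx a ha => cj_mem_orbit_of_mem hx ha) (fun a => φ (c * a * ε))
      fun x hx a ha => by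
        rw [← hφ x hx _ (hm a (horb a ha)), map_mul, map_mul, mem_inv.1 hc x hx,
          mem_inv.1 hj.mem x hx]]
    refine Finset.sum_eq_zero fun a ha => ?_
    obtain ⟨ha, ha'⟩ := Finset.mem_filter.1 ha
    obtain ⟨x, hx, rfl⟩ := mem_orbit.1 ha
    obtain ⟨t, ht, ht'⟩ := SetLike.exists_of_lt hRQ
    rw [cj_cls, mem_No.1 (hN hx)] at ha'
    have h6 := mem_inv'.1 ha' t ht (x * g * x⁻¹)
    rw [coeff_cls_self] at h6
    obtain ⟨r, hr, h7⟩ := exists_of_coeff_cls_ne_zero (h6.trans_ne one_ne_zero)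
    refine absurd ?_ ht'
    have := hconj x hx (r⁻¹ * t) (mul_mem (inv_mem (hRQ.le hr)) ht) (by
      calc r⁻¹ * t * (x * g * x⁻¹) = r⁻¹ * (t * (x * g * x⁻¹) * t⁻¹) * t := by group
        _ = _ := by rw [← h7]; group)
    simpa using mul_mem hr this
  choose n hn using fun (i) (hi : i ∈ D) =>
    (ih R hRQ i (hD.prim i hi).mem (hD.prim i hi).idem).classInner_eq_int hν'
  have h6 : classInner (fun u : R => Fw w χ u ε) ν' = ((∑ i ∈ D.attach, n i.1 i.2 : ℤ) : ℂ) := by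
    rw [show (fun u : R => Fw w χ u ε) = ∑ i ∈ D, fun u : R => Fw w χ u i from funext fun u => by
      rw [Finset.sum_apply, Fw_sum hχ hR u.2 hD], classInner_sum_left, ← Finset.sum_attach]
    push_cast
    exact Finset.sum_congr rfl fun i _ => hn i.1 i.2
  have h7 : (p : ℤ) ∣ ∑ i ∈ D.attach, n i.1 i.2 := by
    rw [← CharP.intCast_eq_zero_iff (kk M) p, ← h5, ← Finset.sum_attach D]
    push_cast
    exact Finset.sum_congr rfl fun i _ => by simp only [Φ]; rw [hn i.1 i.2, rd_intCast]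
  obtain ⟨m, hm⟩ := h7
  refine ⟨m, ?_⟩
  have h8 := classInner_res_of_vanish hRQ.le (fun u => Fw w χ u ε) ν h4
  rw [h6, hm, hcard] at h8
  apply mul_left_cancel₀ (mul_ne_zero (p_ne_zero M) (card_ne_zero' R))
  push_cast at h8
  rw [h8]; ring

theorem isGen_Fw (hw : ∀ x u f, w (x * u * x⁻¹) (cj x f) = w u f)
    (hw' : ∀ Q e, IsBP p ⊤ Q e → ∃ η : Q → ℂ, IsGeneralizedCharacter Q η ∧
      ∀ (u : Q) f, PLe p ⊤ (Subgroup.zpowers (u : G)) f Q e → w u f = η u)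
    (hχ : IsGeneralizedCharacter G χ) (hQ : IsPGroup p Q) (hε : ε ∈ inv (kk M) Q)
    (hi : IsIdempotentElem ε) : IsGeneralizedCharacter Q fun u : Q => Fw w χ u ε := by
  induction Q using WellFoundedLT.induction generalizing ε with
  | _ Q ih =>
  obtain ⟨D, hD⟩ := exists_dec hε hi
  rw [show (fun u : Q => Fw w χ u ε) = ∑ i ∈ D, fun u : Q => Fw w χ u i from funext fun u => by
    rw [Finset.sum_apply, Fw_sum hχ.isClassFunction hQ u.2 hD]]
  refine IsGeneralizedCharacter.sum fun j hj => ?_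
  by_cases h : Br Q j = 0
  · exact isGen_Fw_nonlocal hw hχ.isClassFunction hQ
      (fun R hR ε h1 h2 => ih R hR (isPGroup_le hQ hR.le) h1 h2) (hD.prim j hj) h
  · exact isGen_Fw_local hχ hw' hQ (hD.prim j hj) h

end Cfsg.Agent.Blk
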