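import Cfsg.Agent.Lib.Block.Star

/-! The star construction of generalized characters. -/

set_option autoImplicit false

namespace Cfsg.Agent.Blk

open MonoidAlgebra
open Cfsg.Agent.Char hiding cj cj_mul cj_inv_cj cj_cj_inv sum_cj_eq
open scoped ComplexConjugate

section Brauer
variable {G : Type*} [Group G] [Finite G]

theorem sum_map_subtype {β : Type*} [AddCommMonoid β] {E : Subgroup G} (A : Subgroup E) [Fintype A]
    [Fintype (A.map E.subtype)] (F : G → β) :
    ∑ a : A.map E.subtype, F a = ∑ a : A, F (a : E) :=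
  (Fintype.sum_equiv (A.equivMapOfInjective E.subtype E.subtype_injective).toEquiv _ _
    fun _ => rfl).symm

/-- Brauer's characterization, in terms of products of a `p`-group and a `p'`-group. -/
theorem brauer_char_split (p : ℕ) [hp : Fact p.Prime] {θ : G → ℂ} (hθ : IsClassFunction G θ)
    (h : ∀ (Q L : Subgroup G) [Fintype L], IsPGroup p Q → ¬ p ∣ Nat.card L → L ≤ Ce Q →
      ∀ μ : L →* ℂˣ, IsGeneralizedCharacter Q fun a : Q =>
        (Nat.card L : ℂ)⁻¹ * ∑ b : L, conj (μ b : ℂ) * θ (a * b)) :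
    IsGeneralizedCharacter G θ := by
  classical
  have := Fintype.ofFinite G
  refine brauer_char_of_int hθ fun E _ q hq hE lam => ?_
  have := hE.isNilpotent hq
  obtain ⟨A, B, -, -, h1, h2, h3, h4⟩ := nilpotent_split E {p}
  have hA : IsPGroup p (A.map E.subtype) := (Solv.isPGroup_of_forall_prime_dvd h3).map _
  have hB : ¬ p ∣ Nat.card (B.map E.subtype) := by
    rw [Subgroup.card_subtype]; exact fun h => h4 p hp.out h rfl
  have hc : B.map E.subtype ≤ Ce (A.map E.subtype) := by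
    rintro _ ⟨b, hb, rfl⟩
    refine mem_Ce.2 ?_
    rintro _ ⟨a, ha, rfl⟩
    exact congrArg Subtype.val (h2 a ha b hb).eq
  let l : G → ℂ := fun g => if hg : g ∈ E then lam ⟨g, hg⟩ else 0
  have hl : ∀ e : E, l e = lam e := fun e => dif_pos e.2
  have hl' : ∀ (K : Subgroup E) (e : K.map E.subtype),
      (lam.comp (Subgroup.inclusion (Subgroup.map_subtype_le K)) e : ℂ) = l e := fun K e =>
    (hl ⟨e, Subgroup.map_subtype_le K e.2⟩).symm
  obtain ⟨n, hn⟩ := (h _ _ hA hB hc (lam.comp (Subgroup.inclusion (Subgroup.map_subtype_le B)))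
    ).classInner_eq_int (isIrrCharacter_units
      (lam.comp (Subgroup.inclusion (Subgroup.map_subtype_le A)))).isGen
  refine ⟨n, hn ▸ ?_⟩
  simp only [classInner, hl']
  rw [sum_eq_sum_of_isComplement' h1, sum_map_subtype A fun a => (Nat.card (B.map E.subtype) : ℂ)⁻¹ *
    (∑ b : B.map E.subtype, conj (l b) * θ (a * b)) * conj (l a), ← h1.card_mul,
    Subgroup.card_subtype, Subgroup.card_subtype, Nat.cast_mul, mul_inv, mul_assoc, Finset.mul_sum]
  congr 1
  refine Finset.sum_congr rfl fun a _ => ?_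
  rw [sum_map_subtype B fun b => conj (l b) * θ ((a : E) * b), mul_assoc, Finset.sum_mul]
  congr 1
  refine Finset.sum_congr rfl fun b _ => ?_
  rw [hl, hl, map_mul lam, Units.val_mul, map_mul, Subgroup.coe_mul]; ring

/-- the `p`-part -/
noncomputable def pp (p : ℕ) (g : G) : G := Classical.epsilon (IsPPart p g)

theorem pp_spec (p : ℕ) [Fact p.Prime] (g : G) : IsPPart p g (pp p g) :=
  Classical.epsilon_spec (exists_isPPart p g)

theorem _root_.Cfsg.IsPPart.pp_eq {p : ℕ} [Fact p.Prime] {g x : G} (h : IsPPart p g x) :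
    pp p g = x := (pp_spec p g).unique h

end Brauer

variable {G : Type*} [Group G] [Finite G] {M : Ideal AlgInt} {p : ℕ}

section
variable [M.IsMaximal] {K : Subgroup G} {f : (kk M)[G]}

variable (M) in
/-- the set of characters of a block idempotent -/
def cb (K : Subgroup G) (f : (kk M)[G]) : Set (IrrCharacter K) := {ξ | es K (blk M ξ) = f}

theorem IsBlock.isPBlock_cb (hf : IsBlock K f) : IsPBlock M (cb M K f) ∧ barS M K (cb M K f) = f := by
  obtain ⟨b, hb, rfl⟩ := exists_isPBlock_barS_eq hf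
  have : cb M K (barS M K b) = b := Set.ext fun ξ => hb.mem_iffS.symm
  rw [this]; exact ⟨hb, rfl⟩

theorem _root_.Cfsg.IsPBlock.cb_barS {b : Set (IrrCharacter K)} (hb : IsPBlock M b) :
    cb M K (barS M K b) = b := Set.ext fun _ => hb.mem_iffS.symm

end

section
variable [PMod M p] {K : Subgroup G} {f : (kk M)[G]}

theorem IsBlock.il_eq (hf : IsBlock K f) : il K f = fOS M K (cb M K f) := by
  conv_lhs => rw [← hf.isPBlock_cb.2]
  exact il_barS hf.isPBlock_cb.1.isUB

theorem IsBlock.il_mem (hf : IsBlock K f) : il K f ∈ Z (O M) K := hf.il_eq ▸ fOS_mem _ _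

theorem IsBlock.toC_il (hf : IsBlock K f) : toC M (il K f) = es K (fC (cb M K f)) := by
  rw [hf.il_eq, hf.isPBlock_cb.1.isUB.toC_fOS]

theorem IsBlock.cj_il (hf : IsBlock K f) {x : G} {L : Subgroup G} (h : Blk.cs x K = L) :
    il L (Blk.cj x f) = Blk.cj x (il K f) := by
  obtain ⟨b, hb, rfl⟩ := exists_isPBlock_barS_eq hf
  rw [← barS_image_conj h, il_barS ((isUB_image_iff _).2 hb.isUB), il_barS hb.isUB, fOS_image_conj]

end

variable [PMod M p] {w w' : G → (kk M)[G] → ℂ} {χ θ φ : G → ℂ} {u g : G}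

variable (p) in
/-- the star construction -/
noncomputable def bst (w : G → (kk M)[G] → ℂ) (χ : G → ℂ) (g : G) : ℂ :=
  ∑ f ∈ blocks (kk M) (Ce1 (pp p g)),
    w (pp p g) f * ch χ (single g 1 * toC M (il (Ce1 (pp p g)) f))

theorem bst_apply (h : IsPPart p g u) : bst p w χ g =
    ∑ f ∈ blocks (kk M) (Ce1 u), w u f * ch χ (single g 1 * toC M (il (Ce1 u) f)) := by
  haveI : Fact p.Prime := ⟨PMod.prime M⟩
  rw [bst, h.pp_eq]

theorem isClassFunction_bst (hw : ∀ x u f, w (x * u * x⁻¹) (cj x f) = w u f)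
    (hχ : IsClassFunction G χ) : IsClassFunction G (bst p w χ) := fun g x => by
  haveI : Fact p.Prime := ⟨PMod.prime M⟩
  rw [bst_apply ((pp_spec p g).conj x), bst_apply (pp_spec p g), sum_blocks_cj (cs_Ce1 x _)]
  refine Finset.sum_congr rfl fun f hf => ?_
  rw [hw, (mem_blocks.1 hf).cj_il (cs_Ce1 x _), ← ch_cj hχ x (single g 1 * _), map_mul (cj x),
    cj_single, cf_cj]

variable (M) in
/-- the idempotent of a linear character of a `p'`-subgroup -/
theorem exists_lin_idem {L : Subgroup G} [Fintype L] (hL : ¬ p ∣ Nat.card L) (μ : L →* ℂˣ) :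
    ∃ j : (O M)[G], j ∈ sup (O M) L ∧ IsIdempotentElem j ∧
      toC M j = (Nat.card L : ℂ)⁻¹ • ∑ b : L, conj (μ b : ℂ) • single (b : G) (1 : ℂ) := by
  classical
  obtain ⟨χ, hχ⟩ : ∃ χ : IrrCharacter L, χ.1 = fun b => (μ b : ℂ) := ⟨⟨_, isIrrCharacter_units μ⟩, rfl⟩
  have h1 : ∀ b, blockCoeff {χ} b = (Nat.card L : ℂ)⁻¹ * conj (μ b : ℂ) := fun b => by
    rw [blockCoeff_fs, show fs {χ} = {χ} from Finset.ext fun _ => by simp, Finset.sum_singleton]
    change _ * (χ.1 1 * conj (χ.1 b)) = _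
    simp [hχ]
  have h2 : IsUB M {χ} := isUB_of_isInt fun b => by
    rw [coeff_fC, h1]
    exact mul_mem (natCast_inv_mem_O hL) (hχ ▸ conj_irr_mem_O M χ b :)
  refine ⟨fOS M L {χ}, (fOS_mem _ _).1, h2.fOS_idem, ?_⟩
  rw [h2.toC_fOS, eq_sum_single (fC {χ}), map_sum, Finset.smul_sum]
  refine Finset.sum_congr rfl fun b _ => ?_
  rw [map_smul, es_single, coeff_fC, h1, smul_smul]

theorem isGen_bst (hw : ∀ x u f, w (x * u * x⁻¹) (cj x f) = w u f)
    (hw' : ∀ Q e, IsBP p ⊤ Q e → ∃ η : Q → ℂ, IsGeneralizedCharacter Q η ∧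
      ∀ (u : Q) f, PLe p ⊤ (Subgroup.zpowers (u : G)) f Q e → w u f = η u)
    (hχ : IsGeneralizedCharacter G χ) : IsGeneralizedCharacter G (bst p w χ) := by
  haveI : Fact p.Prime := ⟨PMod.prime M⟩
  refine brauer_char_split p (isClassFunction_bst hw hχ.isClassFunction) fun Q L _ hQ hL hc μ => ?_
  obtain ⟨j, hj, hi, hjC⟩ := exists_lin_idem M hL μ
  have hjQ : j ∈ inv (O M) Q := sup_le_inv_Ce _ (sup_mono hc hj)
  convert isGen_Fw hw hw' hχ hQ (cf_mem_inv (res M) hjQ) (hi.map (toK M)) using 1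
  funext a
  have ha := pelt_of_mem hQ a.2
  have hLa : L ≤ Ce1 (a : G) := fun b hb => mem_Ce1.2 (mem_Ce.1 (hc hb) a a.2).symm
  have h1 : ∀ b : L, IsPPart p ((a : G) * b) a := fun b =>
    isPPart_mul (mem_Ce.1 (hc b.2) a a.2) ha fun h => hL (h.trans (by
      rw [Subgroup.orderOf_coe]; exact orderOf_dvd_natCard b))
  have hja := sup_mono hLa hj
  simp only [fun b => bst_apply (w := w) (χ := χ) (h1 b), Finset.mul_sum]
  rw [Finset.sum_comm]
  refine Finset.sum_congr rfl fun f hf => ?_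
  rw [mem_blocks] at hf
  obtain ⟨h2, h3, h4⟩ := il_spec hf.sup hf.idem
  have h5 := commute_of_mem hf.il_mem.2 hja
  rw [Br_of_mem_sup (by rw [Ce_zpowers]; exact cf_mem_sup _ hja)]
  conv_rhs => rw [← h4, ← map_mul, TT_eq' ha hχ.isClassFunction (mul_mem h2 hja)
    (h3.mul_of_commute h5 hi), h5.eq, map_mul (toC M), hjC]
  simp only [Finset.smul_sum, Finset.sum_mul, Finset.mul_sum, map_sum, smul_mul_assoc,
    mul_smul_comm, map_smul, smul_eq_mul, ← mul_assoc, single_mul_single, mul_one]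
  exact Finset.sum_congr rfl fun b _ => by rw [h4]; ring

theorem reg_Ru_bst (hu : ∃ k : ℕ, orderOf u = p ^ k) (hχ : IsClassFunction G χ) :
    reg p (Ru u (bst p w χ)) =
      ∑ f ∈ blocks (kk M) (Ce1 u), w u f • loc p u (cb M (Ce1 u) f) χ := by
  funext s
  rw [Finset.sum_apply]
  by_cases hs : p ∣ orderOf s
  · rw [reg_of_dvd hs]
    exact (Finset.sum_eq_zero fun f _ => by
      rw [Pi.smul_apply, ← reg_loc, reg_of_dvd hs, smul_zero]).symm
  · have hs' : ¬ p ∣ orderOf (s : G) := by rwa [Subgroup.orderOf_coe]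
    rw [reg_of_preg hs]
    refine (bst_apply (isPPart_Ce1 hu hs)).trans (Finset.sum_congr rfl fun f hf => ?_)
    rw [Pi.smul_apply, loc_apply _ hχ hs, ch_mul_comm hχ, (mem_blocks.1 hf).toC_il, smul_eq_mul]

theorem loc_bst (hw : ∀ x u f, w (x * u * x⁻¹) (cj x f) = w u f) (hu : ∃ k : ℕ, orderOf u = p ^ k)
    (hχ : IsClassFunction G χ) {b : Set (IrrCharacter (Ce1 u))} (hb : IsPBlock M b) :
    loc p u b (bst p w χ) = w u (barS M (Ce1 u) b) • loc p u b χ := by
  rw [hb.isUB.loc_eq (isClassFunction_bst hw hχ), reg_Ru_bst hu hχ, blockPart_sum,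
    Finset.sum_eq_single_of_mem _ (mem_blocks.2 hb.isBlockS), blockPart_smul,
    hb.isUB.blockPart_loc, hb.cb_barS, Set.inter_self]
  intro f hf hne
  have h1 := (mem_blocks.1 hf).isPBlock_cb
  rw [blockPart_smul, hb.isUB.blockPart_loc, Set.eq_empty_of_forall_notMem (s := b ∩ _)
    fun ξ h => hne (by rw [hb.eq_of_mem h1.1 h.1 h.2, h1.2]), loc, blockPart_empty, reg_zero,
    smul_zero]

theorem loc_univ (hθ : IsClassFunction G θ) : loc p u Set.univ θ = reg p (Ru u θ) := by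
  rw [loc, blockPart_univ (isClassFunction_Ru u hθ)]

variable (M p) in
theorem ext_loc (hθ : IsClassFunction G θ) (hφ : IsClassFunction G φ)
    (h : ∀ u : G, (∃ k : ℕ, orderOf u = p ^ k) → ∀ b : Set (IrrCharacter (Ce1 u)), IsPBlock M b →
      loc p u b θ = loc p u b φ) : θ = φ := by
  haveI : Fact p.Prime := ⟨PMod.prime M⟩
  funext g
  obtain ⟨u, hu⟩ := exists_isPPart p g
  have h1 : reg p (Ru u θ) = reg p (Ru u φ) := by
    rw [← loc_univ hθ, ← loc_univ hφ, ← (isUB_univ (M := M)).sum_loc_blocksIn,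
      ← (isUB_univ (M := M)).sum_loc_blocksIn]
    exact Finset.sum_congr rfl fun b hb => h u hu.pelt b (isUB_univ.mem_blocksIn.1 hb).1
  have hs : u⁻¹ * g ∈ Ce1 u := hu.Ce1_le (hu.reg_mem_zpowers |> zpowers_le_Ce1 g)
  have h2 : ¬ p ∣ orderOf (⟨_, hs⟩ : Ce1 u) := by rw [← Subgroup.orderOf_coe]; exact hu.preg
  have := congrFun h1 ⟨_, hs⟩
  rw [reg_of_preg h2, reg_of_preg h2] at this
  simpa [Ru] using this

end Cfsg.Agent.Blk
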