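import Cfsg.Agent.Lib.Block.Dict
import Cfsg.Prelude.Def_BrauerPairs

/-!
Dictionary for blocks of subgroups: induced blocks, Brauer pairs, conjugation.
-/

namespace Cfsg.Agent.Blk

open MonoidAlgebra Cfsg.Agent.Char
open scoped ComplexConjugate

variable {G H H' : Type*} [Group G] [Group H] [Group H']

/-! ### Transport along isomorphisms -/

/-- Transport of irreducible characters along an isomorphism. -/
def irrMap (ε : H ≃* H') : IrrCharacter H ≃ IrrCharacter H' where
  toFun χ := ⟨fun h => (χ : H → ℂ) (ε.symm h), χ.2.comp_equiv ε.symm⟩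
  invFun χ := ⟨fun h => (χ : H' → ℂ) (ε h), χ.2.comp_equiv ε⟩
  left_inv χ := Subtype.ext (funext fun h => by simp)
  right_inv χ := Subtype.ext (funext fun h => by simp)

theorem irrMap_apply (ε : H ≃* H') (χ : IrrCharacter H) (h : H') :
    (irrMap ε χ : H' → ℂ) h = (χ : H → ℂ) (ε.symm h) := rfl

theorem irrMap_apply' (ε : H ≃* H') (χ : IrrCharacter H) (h : H) :
    (irrMap ε χ : H' → ℂ) (ε h) = (χ : H → ℂ) h := by rw [irrMap_apply, ε.symm_apply_apply]

theorem irrMap_symm (ε : H ≃* H') : (irrMap ε).symm = irrMap ε.symm := rfl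

theorem irrMap_irrOne (ε : H ≃* H') : irrMap ε (irrOne H) = irrOne H' := rfl

theorem blockCoeff_image [Finite H] [Finite H'] (ε : H ≃* H') (A : Set (IrrCharacter H)) (h : H) :
    blockCoeff (irrMap ε '' A) (ε h) = blockCoeff A h := by
  classical
  rw [blockCoeff_eq, blockCoeff_eq, Nat.card_congr ε.toEquiv, ← (irrMap ε).sum_comp]
  congr 1
  refine Finset.sum_congr rfl fun χ _ => ?_
  rw [(irrMap ε).injective.mem_set_image, irrMap_apply', ← map_one ε, irrMap_apply']

theorem top_map_equiv (ε : H ≃* H') : (⊤ : Subgroup H).map ε.toMonoidHom = ⊤ :=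
  Subgroup.map_top_of_surjective _ ε.surjective

theorem fC_image [Finite H] [Finite H'] (ε : H ≃* H') (A : Set (IrrCharacter H)) :
    fC (irrMap ε '' A) = emb ε.toMonoidHom (fC A) := by
  refine ext' fun h => ?_
  obtain ⟨h, rfl⟩ := ε.surjective h
  rw [coeff_fC, blockCoeff_image, ← coeff_fC]
  exact (coeff_emb (φ := ε.toMonoidHom) ε.injective _ _).symm

theorem om_irrMap (ε : H ≃* H') (χ : IrrCharacter H) (a : ℂ[H]) :
    om (irrMap ε χ) (emb ε.toMonoidHom a) = om χ a := by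
  rw [om, om, ch_emb, ← map_one ε, irrMap_apply',
    show (fun h => (irrMap ε χ : H' → ℂ) (ε.toMonoidHom h)) = χ from
      funext fun h => irrMap_apply' ε χ h]

theorem centralChar_irrMap [Finite H] [Finite H'] (ε : H ≃* H') (χ : IrrCharacter H) (h : H) :
    centralChar (irrMap ε χ : H' → ℂ) (ε h) = centralChar (χ : H → ℂ) h := by
  rw [← om_cls (irrMap ε χ).2.isClassFunction, ← om_cls χ.2.isClassFunction, ← om_irrMap ε,
    emb_cls (φ := ε.toMonoidHom) ε.injective, top_map_equiv]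
  rfl

theorem charDegree_irrMap (ε : H ≃* H') (χ : IrrCharacter H) :
    charDegree (irrMap ε χ : H' → ℂ) = charDegree (χ : H → ℂ) := by
  rw [charDegree, charDegree, ← map_one ε, irrMap_apply']

theorem sameBlock_irrMap_iff [Finite H] [Finite H'] {M : Ideal AlgInt} (ε : H ≃* H')
    {χ ψ : IrrCharacter H} :
    SameBlock M (irrMap ε χ : H' → ℂ) (irrMap ε ψ : H' → ℂ) ↔
      SameBlock M (χ : H → ℂ) (ψ : H → ℂ) := by
  rw [SameBlock, ε.surjective.forall]
  simp only [centralChar_irrMap]; rfl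

theorem image_blockOf [Finite H] [Finite H'] {M : Ideal AlgInt} (ε : H ≃* H')
    (χ : IrrCharacter H) :
    irrMap ε '' blockOf M (χ : H → ℂ) = blockOf M (irrMap ε χ : H' → ℂ) := by
  ext ψ
  obtain ⟨ψ, rfl⟩ := (irrMap ε).surjective ψ
  rw [(irrMap ε).injective.mem_set_image]
  exact (sameBlock_irrMap_iff ε).symm

theorem image_principalBlock [Finite H] [Finite H'] {M : Ideal AlgInt} (ε : H ≃* H') :
    irrMap ε '' principalBlock M H = principalBlock M H' := image_blockOf ε (irrOne H)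

theorem isPBlock_image_iff [Finite H] [Finite H'] {M : Ideal AlgInt} (ε : H ≃* H')
    {A : Set (IrrCharacter H)} : IsPBlock M (irrMap ε '' A) ↔ IsPBlock M A := by
  constructor
  · rintro ⟨ψ, h⟩
    obtain ⟨ψ, rfl⟩ := (irrMap ε).surjective ψ
    rw [← image_blockOf] at h
    exact ⟨ψ, (irrMap ε).injective.image_injective h⟩
  · rintro ⟨ψ, rfl⟩
    exact ⟨_, image_blockOf ε ψ⟩

section

variable {M : Ideal AlgInt} [M.IsMaximal] [Finite H] [Finite H']

theorem fO_image (ε : H ≃* H') (A : Set (IrrCharacter H)) :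
    fO M (irrMap ε '' A) = emb ε.toMonoidHom (fO M A) := by
  refine ext' fun h => ?_
  obtain ⟨h, rfl⟩ := ε.surjective h
  rw [show (ε h) = ε.toMonoidHom h from rfl, coeff_emb (φ := ε.toMonoidHom) ε.injective]
  simp only [fO, liftO, coeff_ofFun, coeff_fC]
  exact congrArg _ (blockCoeff_image ε A h)

theorem bar_image (ε : H ≃* H') (A : Set (IrrCharacter H)) :
    bar M (irrMap ε '' A) = emb ε.toMonoidHom (bar M A) := by
  rw [bar, fO_image, cf_emb]; rfl

theorem blk_irrMap (ε : H ≃* H') (χ : IrrCharacter H) :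
    blk M (irrMap ε χ) = emb ε.toMonoidHom (blk M χ) := by
  rw [← bar_blockOf, ← bar_blockOf, ← bar_image, image_blockOf]

theorem isUB_image_iff (ε : H ≃* H') {A : Set (IrrCharacter H)} :
    IsUB M (irrMap ε '' A) ↔ IsUB M A := by
  rw [← isInt_fC_iff, ← isInt_fC_iff, IsInt, IsInt, ε.surjective.forall]
  simp only [coeff_fC, blockCoeff_image]

end

/-! ### Restriction of group algebra elements -/

section rs

variable {R S : Type*} [CommRing R] [CommRing S]

/-- Restriction of the coefficient function to a subgroup. -/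
noncomputable def rs (K : Subgroup G) : R[G] →ₗ[R] R[K] where
  toFun a := comapDomain K.subtype K.subtype_injective a
  map_add' _ _ := ext' fun _ => rfl
  map_smul' _ _ := ext' fun _ => rfl

@[simp] theorem coeff_rs (K : Subgroup G) (a : R[G]) (h : K) : (rs K a).coeff h = a.coeff h := rfl

/-- The embedding `R[K] → R[G]` for a subgroup. -/
noncomputable abbrev es (K : Subgroup G) : R[K] →ₐ[R] R[G] := emb K.subtype

theorem coeff_es (K : Subgroup G) (a : R[K]) (h : K) : (es K a).coeff h = a.coeff h :=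
  coeff_emb K.subtype_injective a h

theorem coeff_es_of_mem {K : Subgroup G} (a : R[K]) {g : G} (hg : g ∈ K) :
    (es K a).coeff g = a.coeff ⟨g, hg⟩ := coeff_es K a ⟨g, hg⟩

theorem coeff_es_of_notMem {K : Subgroup G} (a : R[K]) {g : G} (hg : g ∉ K) :
    (es K a).coeff g = 0 := coeff_emb_of_notMem _ _ (by rwa [K.range_subtype])

theorem es_rs (K : Subgroup G) (a : R[G]) : es K (rs K a) = tr (K : Set G) a := by
  refine ext' fun g => ?_
  by_cases hg : g ∈ K
  · rw [coeff_es_of_mem _ hg, coeff_rs, coeff_tr_of_mem _ hg]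
  · rw [coeff_es_of_notMem _ hg, coeff_tr_of_notMem _ hg]

@[simp] theorem rs_es (K : Subgroup G) (a : R[K]) : rs K (es K a) = a :=
  ext' fun h => by rw [coeff_rs, coeff_es]

theorem es_injective (K : Subgroup G) : Function.Injective (es K : R[K] → R[G]) :=
  emb_injective K.subtype_injective

theorem es_rs_of_mem {K : Subgroup G} {a : R[G]} (ha : a ∈ sup R K) : es K (rs K a) = a := by
  rw [es_rs, tr_of_mem_sup ha]

theorem rs_tr (K : Subgroup G) (a : R[G]) : rs K (tr (K : Set G) a) = rs K a :=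
  ext' fun h => by rw [coeff_rs, coeff_rs, coeff_tr_of_mem _ h.2]

theorem top_map_subtype (K : Subgroup G) : (⊤ : Subgroup K).map K.subtype = K := by
  rw [← MonoidHom.range_eq_map, K.range_subtype]

theorem es_mem_sup (K : Subgroup G) (a : R[K]) : es K a ∈ sup R K :=
  mem_sup.2 fun _ hg => coeff_es_of_notMem a hg

theorem es_mem_Z_iff {K : Subgroup G} {a : R[K]} :
    es K a ∈ Z R K ↔ a ∈ Z R (⊤ : Subgroup K) := by
  have := emb_mem_Z_iff (R := R) K.subtype_injective (K := ⊤) (a := a)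
  rwa [top_map_subtype] at this

theorem isBlock_es_iff {K : Subgroup G} {a : R[K]} :
    IsBlock K (es K a) ↔ IsBlock (⊤ : Subgroup K) a := by
  have := isBlock_emb_iff (R := R) K.subtype_injective (K := ⊤) (e := a)
  rwa [top_map_subtype] at this

theorem isDef_es_iff {k : Type*} [Field k] {p : ℕ} {K : Subgroup G} {a : k[K]} {D : Subgroup K} :
    IsDef p K (es K a) (D.map K.subtype) ↔ IsDef p (⊤ : Subgroup K) a D := by
  have := isDef_emb_iff (p := p) K.subtype_injective (K := ⊤) (e := a) (D := D)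
  rwa [top_map_subtype] at this

theorem es_cls [Finite G] (K : Subgroup G) (h : K) : es K (cls R ⊤ h) = cls R K h := by
  have := emb_cls (R := R) K.subtype_injective ⊤ h
  rwa [top_map_subtype] at this

theorem rs_cls [Finite G] (K : Subgroup G) (h : K) : rs K (cls R K h) = cls R ⊤ h := by
  rw [← es_cls, rs_es]

theorem rs_mem_Z {K : Subgroup G} {a : R[G]} (ha : a ∈ inv R K) :
    rs K a ∈ Z R (⊤ : Subgroup K) := by
  rw [← es_mem_Z_iff, es_rs]
  exact ⟨tr_mem_sup _ _, tr_mem_inv ha (le_No K)⟩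

theorem cf_rs (f : R →+* S) (K : Subgroup G) (a : R[G]) : cf f (rs K a) = rs K (cf f a) :=
  ext' fun h => by rw [coeff_cf, coeff_rs, coeff_rs, coeff_cf]

theorem rs_mul_left {K : Subgroup G} {a : R[G]} (ha : a ∈ sup R K) (b : R[G]) :
    rs K (a * b) = rs K a * rs K b :=
  es_injective K (by rw [map_mul (es K), es_rs, es_rs, es_rs, tr_mul_left ha, tr_of_mem_sup ha])

theorem rs_mul_right {K : Subgroup G} (a : R[G]) {b : R[G]} (hb : b ∈ sup R K) :
    rs K (a * b) = rs K a * rs K b :=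
  es_injective K (by rw [map_mul (es K), es_rs, es_rs, es_rs, tr_mul_right a hb, tr_of_mem_sup hb])

theorem rs_single (K : Subgroup G) (h : K) (r : R) : rs K (single (h : G) r) = single h r := by
  rw [← rs_es K (single h r), emb_single]; rfl

theorem rs_one (K : Subgroup G) : rs K (1 : R[G]) = 1 := by
  rw [← map_one (es K), rs_es]

theorem es_es_inclusion {K L : Subgroup G} (h : K ≤ L) (a : R[K]) :
    es L (emb (Subgroup.inclusion h) a) = es K a := by
  rw [emb_emb]; rfl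

theorem es_top_equiv (a : R[G]) :
    es (⊤ : Subgroup G) (emb Subgroup.topEquiv.symm.toMonoidHom a) = a := by
  rw [emb_emb]; exact emb_id a

end rs

section

variable (M : Ideal AlgInt) [M.IsMaximal] [Finite G]

/-- The block idempotent of a set of characters of a subgroup, in `k[G]`. -/
noncomputable def barS (K : Subgroup G) (b : Set (IrrCharacter K)) : (kk M)[G] := es K (bar M b)

/-- The block idempotent of a set of characters of a subgroup, in `O[G]`. -/
noncomputable def fOS (K : Subgroup G) (b : Set (IrrCharacter K)) : (O M)[G] := es K (fO M b)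

variable {M}

theorem toK_fOS (K : Subgroup G) (b : Set (IrrCharacter K)) : toK M (fOS M K b) = barS M K b :=
  cf_emb _ _ _

theorem fOS_mem (K : Subgroup G) (b : Set (IrrCharacter K)) : fOS M K b ∈ Z (O M) K :=
  es_mem_Z_iff.2 (fO_mem b)

theorem barS_mem (K : Subgroup G) (b : Set (IrrCharacter K)) : barS M K b ∈ Z (kk M) K :=
  es_mem_Z_iff.2 (bar_mem b)

theorem coeff_es_fC (K : Subgroup G) (b : Set (IrrCharacter K)) (g : G) :
    (es K (fC b)).coeff g = subgroupBlockCoeff K b g := by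
  unfold subgroupBlockCoeff
  split_ifs with hg
  · rw [coeff_es_of_mem _ hg, coeff_fC]
  · rw [coeff_es_of_notMem _ hg]

theorem IsUB.toC_fOS {K : Subgroup G} {b : Set (IrrCharacter K)} (hb : IsUB M b) :
    toC M (fOS M K b) = es K (fC b) := by
  rw [fOS, cf_emb, hb.toC_fO]

theorem IsUB.fOS_idem {K : Subgroup G} {b : Set (IrrCharacter K)} (hb : IsUB M b) :
    IsIdempotentElem (fOS M K b) := hb.fO_idem.map _

theorem IsUB.barS_idem {K : Subgroup G} {b : Set (IrrCharacter K)} (hb : IsUB M b) :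
    IsIdempotentElem (barS M K b) := hb.bar_idem.map _

theorem IsUB.barS_inj {K : Subgroup G} {b b' : Set (IrrCharacter K)} (hb : IsUB M b)
    (hb' : IsUB M b') (h : barS M K b = barS M K b') : b = b' :=
  hb.bar_inj hb' (es_injective K h)

theorem exists_isPBlock_barS_eq {K : Subgroup G} {e : (kk M)[G]} (he : IsBlock K e) :
    ∃ b : Set (IrrCharacter K), IsPBlock M b ∧ barS M K b = e := by
  have h1 := es_rs_of_mem he.sup
  rw [← h1] at he
  obtain ⟨b, hb, h⟩ := exists_isPBlock_bar_eq (isBlock_es_iff.1 he)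
  exact ⟨b, hb, by rw [barS, h, h1]⟩

theorem exists_isUB_bar_eq {e : (kk M)[G]} (he : e ∈ Z (kk M) (⊤ : Subgroup G))
    (hei : IsIdempotentElem e) : ∃ A : Set (IrrCharacter G), IsUB M A ∧ bar M A = e :=
  ⟨_, isUB_idem e, bar_idem_set he hei⟩

theorem exists_isUB_barS_eq {K : Subgroup G} {e : (kk M)[G]} (he : e ∈ Z (kk M) K)
    (hei : IsIdempotentElem e) : ∃ b : Set (IrrCharacter K), IsUB M b ∧ barS M K b = e := by
  have h1 := es_rs_of_mem he.1
  obtain ⟨b, hb, h⟩ := exists_isUB_bar_eq (rs_mem_Z he.2)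
    (es_injective K (by rw [map_mul, h1, hei.eq]))
  exact ⟨b, hb, by rw [barS, h, h1]⟩

theorem barS_top_image (A : Set (IrrCharacter G)) :
    barS M ⊤ (irrMap Subgroup.topEquiv.symm '' A) = bar M A := by
  rw [barS, bar_image, es_top_equiv]

theorem om_rs_mem_O {K : Subgroup G} (ξ : IrrCharacter K) {z : (O M)[G]} (hz : z ∈ inv (O M) K) :
    om ξ (rs K (toC M z)) ∈ O M := by
  rw [← cf_rs]; exact om_toC_mem_O ξ.2 (rs_mem_Z hz)

theorem om_rs_eq {K : Subgroup G} (ξ : K → ℂ) (a : ℂ[G]) :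
    om ξ (rs K a) = ∑ᶠ h : K, a.coeff h * ξ h / ξ 1 := by
  have := Fintype.ofFinite K
  rw [om_eq_sum, finsum_eq_sum_of_fintype]; rfl

theorem om_rs_eq_of_indicator {K : Subgroup G} (ξ : K → ℂ) (a : ℂ[G]) (S : Set K)
    (h1 : ∀ h ∈ S, a.coeff h = 1) (h0 : ∀ h ∉ S, a.coeff h = 0) :
    om ξ (rs K a) = ∑ᶠ h ∈ S, ξ h / ξ 1 := by
  classical
  rw [om_rs_eq, finsum_mem_def]
  refine finsum_congr fun h => ?_
  by_cases hh : h ∈ S
  · rw [Set.indicator_of_mem hh, h1 h hh, one_mul]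
  · rw [Set.indicator_of_notMem hh, h0 h hh, zero_mul, zero_div]

theorem inducedCentralChar_eq (K : Subgroup G) (ξ : K → ℂ) (g : G) :
    inducedCentralChar K ξ g = om ξ (rs K (cls ℂ ⊤ g)) := by
  classical
  refine (om_rs_eq_of_indicator ξ _ _ (fun h hh => ?_) (fun h hh => ?_)).symm
  · rw [coeff_cls, if_pos (exists_conj_top_iff.2 hh)]
  · rw [coeff_cls, if_neg (fun h' => hh (exists_conj_top_iff.1 h'))]

theorem inducedCentralCharIn_eq (L K : Subgroup G) (ξ : K → ℂ) (g : G) :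
    inducedCentralCharIn L K ξ g = om ξ (rs K (cls ℂ L g)) := by
  classical
  refine (om_rs_eq_of_indicator ξ _ _ (fun h hh => ?_) (fun h hh => ?_)).symm
  · obtain ⟨x, hx⟩ := hh
    rw [coeff_cls, if_pos ⟨x⁻¹, L.inv_mem x.2, by rw [← hx]; simp [mul_assoc]⟩]
  · rw [coeff_cls, if_neg]
    rintro ⟨x, hx, h'⟩
    exact hh ⟨⟨x⁻¹, L.inv_mem hx⟩, by rw [← h']; simp [mul_assoc]⟩

theorem brauerCentralChar_eq (P K : Subgroup G) (ξ : K → ℂ) (g : G) :
    brauerCentralChar P K ξ g = om ξ (rs K (Br P (cls ℂ ⊤ g))) := by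
  classical
  refine (om_rs_eq_of_indicator ξ _ _ (fun h hh => ?_) (fun h hh => ?_)).symm
  · rw [coeff_tr_of_mem _ hh.2, coeff_cls, if_pos (exists_conj_top_iff.2 hh.1)]
  · rw [coeff_tr]
    split_ifs with h1
    · rw [coeff_cls, if_neg (fun h' => hh ⟨exists_conj_top_iff.1 h', h1⟩)]
    · rfl

theorem brauerOmega_eq (P : Subgroup G) (a : ℂ[G]) (ξ : Ce P → ℂ) :
    brauerOmega P a.coeff ξ = om ξ (rs (Ce P) a) := (om_rs_eq ξ a).symm

theorem brauerOmega_blockCoeff (P : Subgroup G) (B : Set (IrrCharacter G)) (ξ : Ce P → ℂ) :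
    brauerOmega P (blockCoeff B) ξ = om ξ (rs (Ce P) (fC B)) := by
  rw [← brauerOmega_eq]; congr 1

theorem brauerOmega_subgroupBlockCoeff (P K : Subgroup G) (b : Set (IrrCharacter K))
    (ξ : Ce P → ℂ) :
    brauerOmega P (subgroupBlockCoeff K b) ξ = om ξ (rs (Ce P) (es K (fC b))) := by
  rw [← brauerOmega_eq]; congr 1; exact funext fun g => (coeff_es_fC K b g).symm

end

/-- Block induction from `K` to `L` in terms of central characters. -/
def Ind {k : Type*} [Field k] (L K : Subgroup G) (b B : k[G]) : Prop :=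
  ∀ z ∈ Z k L, lam b (tr (K : Set G) z) = lam B z

theorem ind_iff_cls {k : Type*} [Field k] [IsAlgClosed k] [Finite G] {L K : Subgroup G}
    (hKL : K ≤ L) {b B : k[G]} (hb : IsBlock K b) (hB : IsBlock L B) :
    Ind L K b B ↔ ∀ g ∈ L, lam b (tr (K : Set G) (cls k L g)) = lam B (cls k L g) := by
  refine ⟨fun h g hg => h _ (cls_mem_Z hg), fun h z hz => ?_⟩
  refine Z_ext_cls (φ := fun z => lam b (tr (K : Set G) z)) (ψ := lam B) ?_ ?_ ?_ hz
  · simp only [map_zero, hb.lam_zero, hB.lam_zero]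
  · intro a ha c hc h1 h2
    simp only [map_add] at h1 h2 ⊢
    rw [hb.lam_add (tr_mem_Z hKL ha) (tr_mem_Z hKL hc), hB.lam_add ha hc, h1, h2]
  · intro c g hg
    simp only [map_smul]
    rw [hb.lam_smul c (tr_mem_Z hKL (cls_mem_Z hg)), hB.lam_smul c (cls_mem_Z hg), h g hg]

end Cfsg.Agent.Blk

namespace Cfsg.IsPBlock

open Cfsg.Agent.Blk MonoidAlgebra

variable {G : Type*} [Group G] [Finite G] {M : Ideal AlgInt} [M.IsMaximal] {K : Subgroup G}
  {b b' : Set (IrrCharacter K)} {ξ : IrrCharacter K}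

theorem isBlockS (hb : IsPBlock M b) : IsBlock K (barS M K b) := isBlock_es_iff.2 hb.isBlock

theorem barS_inj (hb : IsPBlock M b) (hb' : IsPBlock M b') (h : barS M K b = barS M K b') :
    b = b' := hb.isUB.barS_inj hb'.isUB h

theorem lam_tr (hb : IsPBlock M b) (h : ξ ∈ b) {z : (O M)[G]} (hz : z ∈ inv (O M) K) :
    lam (barS M K b) (tr (K : Set G) (toK M z)) = rd M (om ξ (rs K (toC M z))) := by
  rw [← es_rs, barS, lam_emb K.subtype_injective, ← cf_rs, hb.lam_toK h (rs_mem_Z hz), cf_rs]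

theorem lam_clsS (hb : IsPBlock M b) (h : ξ ∈ b) (g : K) :
    lam (barS M K b) (cls (kk M) K g) = rd M (centralChar (ξ : K → ℂ) g) := by
  rw [← es_cls, barS, lam_emb K.subtype_injective, hb.lam_cls h]

theorem isDefectGroup_iffS {M : Ideal AlgInt} {p : ℕ} [PMod M p] (hb : IsPBlock M b)
    {D : Subgroup K} : IsDefectGroup p M b D ↔ IsDef p K (barS M K b) (D.map K.subtype) := by
  rw [hb.isDefectGroup_iff, barS, isDef_es_iff]

theorem exists_isDefectGroup_map {M : Ideal AlgInt} {p : ℕ} [PMod M p] (hb : IsPBlock M b)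
    {D : Subgroup G} (hD : IsDef p K (barS M K b) D) :
    ∃ E : Subgroup K, IsDefectGroup p M b E ∧ E.map K.subtype = D :=
  ⟨D.subgroupOf K, by rwa [hb.isDefectGroup_iffS, Subgroup.map_subgroupOf_eq_of_le hD.le],
    Subgroup.map_subgroupOf_eq_of_le hD.le⟩

theorem isDefectGroup_subgroupOf_iff {M : Ideal AlgInt} {p : ℕ} [PMod M p] (hb : IsPBlock M b)
    {D : Subgroup G} (hD : D ≤ K) :
    IsDefectGroup p M b (D.subgroupOf K) ↔ IsDef p K (barS M K b) D := by
  rw [hb.isDefectGroup_iffS, Subgroup.map_subgroupOf_eq_of_le hD]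

end Cfsg.IsPBlock

namespace Cfsg.Agent.Blk

open MonoidAlgebra Cfsg.Agent.Char

variable {G : Type*} [Group G] [Finite G] {M : Ideal AlgInt} [M.IsMaximal]

theorem isInducedBlock_iff {K : Subgroup G} {b : Set (IrrCharacter K)}
    {B : Set (IrrCharacter G)} : IsInducedBlock M K b B ↔
      IsPBlock M b ∧ IsPBlock M B ∧ Ind ⊤ K (barS M K b) (bar M B) := by
  refine and_congr_right fun hb => and_congr_right fun hB => ?_
  have key : ∀ ξ ∈ b, ∀ χ ∈ B, ∀ g, MemLocalIdeal M
      (inducedCentralChar K (ξ : K → ℂ) g - centralChar (χ : G → ℂ) g) ↔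
      lam (barS M K b) (tr (K : Set G) (cls (kk M) ⊤ g)) = lam (bar M B) (cls (kk M) ⊤ g) := by
    intro ξ hξ χ hχ g
    have h1 : cls (O M) ⊤ g ∈ inv (O M) K := inv_anti le_top (cls_mem_inv ⊤ g)
    rw [hB.lam_cls hχ, ← cf_cls (res M), hb.lam_tr hξ h1,
      rd_eq_iff (om_rs_mem_O ξ h1) (centralChar_mem_O χ.2 g), cf_cls, inducedCentralChar_eq]
  rw [ind_iff_cls le_top hb.isBlockS hB.isBlock]
  constructor
  · intro h g _
    obtain ⟨ξ, hξ⟩ := hb.nonempty
    obtain ⟨χ, hχ⟩ := hB.nonempty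
    exact (key ξ hξ χ hχ g).1 (h ξ hξ χ hχ g)
  · intro h ξ hξ χ hχ g
    exact (key ξ hξ χ hχ g).2 (h g trivial)

theorem isInducedBlockIn_iff {L K : Subgroup G} (hKL : K ≤ L) {b : Set (IrrCharacter K)}
    {B : Set (IrrCharacter L)} : IsInducedBlockIn M L K b B ↔
      IsPBlock M b ∧ IsPBlock M B ∧ Ind L K (barS M K b) (barS M L B) := by
  refine and_congr_right fun hb => and_congr_right fun hB => ?_
  have key : ∀ ξ ∈ b, ∀ χ ∈ B, ∀ g : L, MemLocalIdeal M
      (inducedCentralCharIn L K (ξ : K → ℂ) g - centralChar (χ : L → ℂ) g) ↔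
      lam (barS M K b) (tr (K : Set G) (cls (kk M) L g)) = lam (barS M L B) (cls (kk M) L g) := by
    intro ξ hξ χ hχ g
    have h1 : cls (O M) L g ∈ inv (O M) K := inv_anti hKL (cls_mem_inv L g)
    rw [hB.lam_clsS hχ, ← cf_cls (res M), hb.lam_tr hξ h1,
      rd_eq_iff (om_rs_mem_O ξ h1) (centralChar_mem_O χ.2 g), cf_cls, inducedCentralCharIn_eq]
  rw [ind_iff_cls hKL hb.isBlockS hB.isBlockS]
  constructor
  · intro h g hg
    obtain ⟨ξ, hξ⟩ := hb.nonempty
    obtain ⟨χ, hχ⟩ := hB.nonempty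
    exact (key ξ hξ χ hχ ⟨g, hg⟩).1 (h ξ hξ χ hχ ⟨g, hg⟩)
  · intro h ξ hξ χ hχ g
    exact (key ξ hξ χ hχ g).2 (h g g.2)

theorem forall_LI_om_sub_one_iff {M : Ideal AlgInt} {p : ℕ} [PMod M p] {Q : Subgroup G}
    (hQ : IsPGroup p Q) {e : Set (IrrCharacter (Ce Q))} (he : IsPBlock M e) {z : (O M)[G]}
    (hz : z ∈ inv (O M) Q) (hz' : z ∈ inv (O M) (Ce Q)) (hzi : IsIdempotentElem (toK M z)) :
    (∀ ξ ∈ e, MemLocalIdeal M (om (ξ : Ce Q → ℂ) (rs (Ce Q) (toC M z)) - 1)) ↔
      Br Q (toK M z) * barS M (Ce Q) e = barS M (Ce Q) e := by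
  haveI : Fact p.Prime := ⟨PMod.prime M⟩
  have h1 : Br Q (toK M z) ∈ Z (kk M) (Ce Q) :=
    ⟨Br_mem_sup _ _, Br_mem_inv (cf_mem_inv _ hz') (Ce_le_No Q)⟩
  rw [← he.isBlockS.lam_idem_eq_one_iff h1 (Br_idem hQ (cf_mem_inv _ hz) hzi)]
  have key : ∀ ξ ∈ e, MemLocalIdeal M (om (ξ : Ce Q → ℂ) (rs (Ce Q) (toC M z)) - 1) ↔
      lam (barS M (Ce Q) e) (Br Q (toK M z)) = 1 := fun ξ hξ => by
    rw [he.lam_tr hξ hz', ← rd_eq_iff (om_rs_mem_O ξ hz') (one_mem _), rd_one]
  obtain ⟨ξ, hξ⟩ := he.nonempty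
  exact ⟨fun h => (key ξ hξ).1 (h ξ hξ), fun h ξ hξ => (key ξ hξ).2 h⟩

theorem isBrauerPairOf_iff {M : Ideal AlgInt} {p : ℕ} [PMod M p] {B : Set (IrrCharacter G)}
    {Q : Subgroup G} {e : Set (IrrCharacter (Ce Q))} : IsBrauerPairOf p M B Q e ↔
      IsPGroup p Q ∧ IsPBlock M e ∧ IsPBlock M B ∧
        Br Q (bar M B) * barS M (Ce Q) e = barS M (Ce Q) e := by
  rw [IsBrauerPairOf, IsBrauerPair, and_assoc]
  refine and_congr_right fun hQ => and_congr_right fun he => and_congr_right fun hB => ?_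
  rw [bar, ← forall_LI_om_sub_one_iff hQ he (inv_anti le_top (fO_mem B).2)
    (inv_anti le_top (fO_mem B).2) hB.isUB.bar_idem, hB.isUB.toC_fO]
  simp only [brauerOmega_blockCoeff]

/-- The isomorphism `K ≃* L` given by conjugation when `x K x⁻¹ = L`. -/
def conjIso {K L : Subgroup G} {x : G} (h : cs x K = L) : K ≃* L where
  toFun k := ⟨x * k * x⁻¹, h ▸ conj_mem_cs.2 k.2⟩
  invFun l := ⟨x⁻¹ * l * x, mem_cs.1 (h.symm ▸ l.2)⟩
  left_inv k := Subtype.ext (by simp [mul_assoc])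
  right_inv l := Subtype.ext (by simp [mul_assoc])
  map_mul' a b := Subtype.ext (by simp [mul_assoc])

omit [Finite G] in
theorem coe_conjIso {K L : Subgroup G} {x : G} (h : cs x K = L) (k : K) :
    (conjIso h k : G) = x * k * x⁻¹ := rfl

omit [Finite G] in
theorem coe_conjIso_symm {K L : Subgroup G} {x : G} (h : cs x K = L) (l : L) :
    ((conjIso h).symm l : G) = x⁻¹ * l * x := rfl

omit [Finite G] in
theorem es_emb_conjIso {R : Type*} [CommRing R] {K L : Subgroup G} {x : G} (h : cs x K = L)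
    (a : R[K]) : es L (emb (conjIso h).toMonoidHom a) = cj x (es K a) := by
  induction a using MonoidAlgebra.induction_linear with
  | zero => simp only [map_zero]
  | add a b ha hb => simp only [map_add, ha, hb]
  | single g r => rw [emb_single, emb_single, emb_single, cj_single]; rfl

omit [Finite G] in
theorem conj_iff_eq_irrMap {K L : Subgroup G} {x : G} (h : cs x K = L) {ξ : IrrCharacter K}
    {ξ' : IrrCharacter L} :
    (∀ (c : K) (c' : L), (c' : G) = x * c * x⁻¹ → (ξ' : L → ℂ) c' = (ξ : K → ℂ) c) ↔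
      ξ' = irrMap (conjIso h) ξ := by
  constructor
  · intro h1
    refine Subtype.ext (funext fun c' => ?_)
    obtain ⟨c, rfl⟩ := (conjIso h).surjective c'
    rw [irrMap_apply']; exact h1 c _ rfl
  · rintro rfl c c' hc
    rw [show c' = conjIso h c from Subtype.ext hc, irrMap_apply']

theorem barS_image_conj {K L : Subgroup G} {x : G} (h : cs x K = L) (b : Set (IrrCharacter K)) :
    barS M L (irrMap (conjIso h) '' b) = cj x (barS M K b) := by
  rw [barS, bar_image, es_emb_conjIso]; rfl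

theorem fOS_image_conj {K L : Subgroup G} {x : G} (h : cs x K = L) (b : Set (IrrCharacter K)) :
    fOS M L (irrMap (conjIso h) '' b) = cj x (fOS M K b) := by
  rw [fOS, fO_image, es_emb_conjIso]; rfl

omit [Finite G] in
theorem conjBlock_eq (Q : Subgroup G) (x : G) (f : Set (IrrCharacter (Ce Q))) :
    conjBlock Q x f = irrMap (conjIso (cs_Ce x Q)) '' f := by
  ext ξ'
  simp only [conjBlock, Set.mem_ofPred_eq, conj_iff_eq_irrMap (cs_Ce x Q), Set.mem_image, eq_comm]

theorem barS_conjBlock (Q : Subgroup G) (x : G) (f : Set (IrrCharacter (Ce Q))) :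
    barS M (Ce (cs x Q)) (conjBlock Q x f) = cj x (barS M (Ce Q) f) := by
  rw [conjBlock_eq, barS_image_conj]

omit [M.IsMaximal] in
theorem isPBlock_conjBlock_iff {Q : Subgroup G} {x : G} {f : Set (IrrCharacter (Ce Q))} :
    IsPBlock M (conjBlock Q x f) ↔ IsPBlock M f := by
  rw [conjBlock_eq, isPBlock_image_iff]

theorem stabilizesBlock_iff_image {K : Subgroup G} {e : Set (IrrCharacter K)} {x : G}
    (hx : x ∈ No K) : StabilizesBlock K e x ↔ irrMap (conjIso (mem_No.1 hx)) '' e = e := by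
  rw [StabilizesBlock, and_iff_right hx]
  simp only [IsConjCharOf, conj_iff_eq_irrMap (mem_No.1 hx), exists_eq_right]
  constructor
  · intro h
    refine Set.eq_of_subset_of_ncard_le ?_ ?_ (Set.toFinite _)
    · rintro _ ⟨χ, hχ, rfl⟩; exact h χ hχ
    · rw [Set.ncard_image_of_injective _ (irrMap _).injective]
  · intro h χ hχ
    rw [← h]; exact ⟨χ, hχ, rfl⟩

theorem IsUB.stabilizesBlock_iff {K : Subgroup G} {e : Set (IrrCharacter K)} (he : IsUB M e)
    {x : G} : StabilizesBlock K e x ↔ x ∈ No K ∧ cj x (barS M K e) = barS M K e := by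
  constructor
  · intro h
    refine ⟨h.1, ?_⟩
    rw [← barS_image_conj (mem_No.1 h.1), (stabilizesBlock_iff_image h.1).1 h]
  · rintro ⟨hx, h⟩
    rw [← barS_image_conj (mem_No.1 hx)] at h
    exact (stabilizesBlock_iff_image hx).2 (((isUB_image_iff _).2 he).barS_inj he h)

theorem IsUB.cj_fOS {K : Subgroup G} {e : Set (IrrCharacter K)} (he : IsUB M e)
    {x : G} (hx : x ∈ No K) (h : cj x (barS M K e) = barS M K e) :
    cj x (fOS M K e) = fOS M K e := by
  have := (stabilizesBlock_iff_image hx).1 (he.stabilizesBlock_iff.2 ⟨hx, h⟩)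
  rw [← fOS_image_conj (mem_No.1 hx), this]

theorem IsUB.fOS_mem_inv {K L : Subgroup G} {e : Set (IrrCharacter K)} (he : IsUB M e)
    (hL : L ≤ No K) (h : barS M K e ∈ inv (kk M) L) : fOS M K e ∈ inv (O M) L :=
  mem_inv.2 fun x hx => he.cj_fOS (hL hx) (mem_inv.1 h x hx)

theorem isNormalSubpair_iff {M : Ideal AlgInt} {p : ℕ} [PMod M p] {Q P : Subgroup G}
    {f : Set (IrrCharacter (Ce Q))} {e : Set (IrrCharacter (Ce P))} :
    IsNormalSubpair p M Q f P e ↔ IsPGroup p P ∧ IsPBlock M f ∧ IsPBlock M e ∧ Q ≤ P ∧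
      P ≤ No Q ∧ barS M (Ce Q) f ∈ inv (kk M) P ∧
      Br P (barS M (Ce Q) f) * barS M (Ce P) e = barS M (Ce P) e := by
  have key : IsPGroup p P → IsPBlock M f → IsPBlock M e → Q ≤ P → P ≤ No Q →
      barS M (Ce Q) f ∈ inv (kk M) P → ((∀ ξ ∈ e, MemLocalIdeal M
      (brauerOmega P (subgroupBlockCoeff (Ce Q) f) (ξ : Ce P → ℂ) - 1)) ↔
      Br P (barS M (Ce Q) f) * barS M (Ce P) e = barS M (Ce P) e) := by
    intro hP hf he h1 h2 h3
    rw [← toK_fOS (Ce Q), ← forall_LI_om_sub_one_iff hP he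
      (hf.isUB.fOS_mem_inv (h2.trans (No_le_No_Ce Q)) h3)
      (inv_anti (Ce_anti h1) (fOS_mem _ f).2) (hf.isUB.fOS_idem.map _), hf.isUB.toC_fOS]
    simp only [brauerOmega_subgroupBlockCoeff]
  constructor
  · rintro ⟨⟨-, hf⟩, ⟨hP, he⟩, h1, h2, h3, h4⟩
    have h5 : barS M (Ce Q) f ∈ inv (kk M) P :=
      mem_inv.2 fun x hx => (hf.isUB.stabilizesBlock_iff.1 (h3 x hx)).2
    exact ⟨hP, hf, he, h1, h2, h5, (key hP hf he h1 h2 h5).1 h4⟩
  · rintro ⟨hP, hf, he, h1, h2, h3, h4⟩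
    exact ⟨⟨isPGroup_le hP h1, hf⟩, ⟨hP, he⟩, h1, h2, fun x hx => hf.isUB.stabilizesBlock_iff.2
      ⟨No_le_No_Ce Q (h2 hx), mem_inv.1 h3 x hx⟩, (key hP hf he h1 h2 h3).2 h4⟩

end Cfsg.Agent.Blk
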