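import Cfsg.Agent.Lib.Block.Star2

/-! Subsections of a block and the action of stable generalized characters. -/

set_option autoImplicit false

namespace Cfsg.Agent.Blk

open MonoidAlgebra
open Cfsg.Agent.Char hiding cj cj_mul cj_inv_cj cj_cj_inv sum_cj_eq
open scoped ComplexConjugate

section FC
variable {G : Type*} [Group G] {k : Type*} [Field k] {p : ℕ} {P : Subgroup G} {e f : k[G]}
  {u v t x : G}

theorem Ce1_one : Ce1 (1 : G) = ⊤ := eq_top_iff.2 fun _ _ => mem_Ce1.2 (by simp)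

variable (p) in
/-- fusion of elements -/
def FC (P : Subgroup G) (e : k[G]) (u v : G) : Prop :=
  ∃ x, Fus p ⊤ P e (Subgroup.zpowers u) x ∧ x * u * x⁻¹ = v

theorem FC.left (h : FC p P e u v) : u ∈ P := let ⟨_, h1, _⟩ := h; h1.le (Subgroup.mem_zpowers u)

theorem FC.symm [Finite G] (h : FC p P e u v) : FC p P e v u := by
  obtain ⟨x, h1, rfl⟩ := h
  exact ⟨x⁻¹, cs_zpowers x u ▸ h1.inv, by group⟩

theorem FC.right [Finite G] (h : FC p P e u v) : v ∈ P := h.symm.left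

theorem FC.isConj (h : FC p P e u v) : IsConj u v := let ⟨x, _, h2⟩ := h; isConj_iff.2 ⟨x, h2⟩

variable [Finite G] [Fact p.Prime] [CharP k p]

theorem IsBP.fc_conj (he : IsBP p ⊤ P e) (hu : u ∈ P) (hx : x ∈ P) : FC p P e u (x * u * x⁻¹) :=
  ⟨x, he.fus_of_mem (zpowers_le' hu) hx, rfl⟩

theorem IsBP.fc_refl (he : IsBP p ⊤ P e) (hu : u ∈ P) : FC p P e u u := by
  simpa using he.fc_conj hu (one_mem P)

theorem FC.trans (he : IsBP p ⊤ P e) (h1 : FC p P e u v) (h2 : FC p P e v t) : FC p P e u t := by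
  obtain ⟨x, h1, rfl⟩ := h1
  obtain ⟨y, h2, rfl⟩ := h2
  exact ⟨y * x, h1.mul he h2 (cs_zpowers x u).le, by group⟩

theorem PLe.fc {y : G} (he : IsBP p ⊤ P e) (h1 : PLe p ⊤ (Subgroup.zpowers (x * u * x⁻¹)) (cj x f) P e)
    (h2 : PLe p ⊤ (Subgroup.zpowers (y * u * y⁻¹)) (cj y f) P e) :
    FC p P e (x * u * x⁻¹) (y * u * y⁻¹) := by
  refine ⟨y * x⁻¹, (h1.fus_iff he).2 ⟨Subgroup.mem_top _, ?_⟩, by group⟩
  rw [cs_zpowers, ← cj_mul, inv_mul_cancel_right]
  convert h2 using 2; group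

theorem FC.eq_of_one (h : FC p P e 1 v) : v = 1 := by
  obtain ⟨x, -, rfl⟩ := h; simp

variable (p) in
/-- the size of a fusion class -/
noncomputable def nF (P : Subgroup G) (e : k[G]) (u : G) : ℕ := Nat.card {v // FC p P e u v}

theorem IsBP.nF_pos (he : IsBP p ⊤ P e) (hu : u ∈ P) : 0 < nF p P e u :=
  Nat.card_pos_iff.2 ⟨⟨⟨u, he.fc_refl hu⟩⟩, inferInstance⟩

theorem FC.nF_eq (he : IsBP p ⊤ P e) (h : FC p P e u v) : nF p P e u = nF p P e v :=
  Nat.card_congr (Equiv.subtypeEquivRight fun _ => ⟨h.symm.trans he, h.trans he⟩)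

theorem IsBP.nF_one (he : IsBP p ⊤ P e) : nF p P e 1 = 1 :=
  Nat.card_eq_one_iff_exists.2 ⟨⟨1, he.fc_refl (one_mem P)⟩, fun v => Subtype.ext v.2.eq_of_one⟩

open Classical in
theorem card_filter_FC [Fintype P] (u : G) :
    (Finset.univ.filter fun v : P => FC p P e u v).card = nF p P e u := by
  rw [nF, ← Fintype.card_subtype, ← Nat.card_eq_fintype_card]
  exact Nat.card_congr ⟨fun v => ⟨v.1, v.2⟩, fun v => ⟨⟨v.1, v.2.right⟩, v.2⟩, fun _ => rfl,
    fun _ => rfl⟩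

open Classical in
theorem IsBP.sum_inv_nF [Fintype P] (he : IsBP p ⊤ P e) (hu : u ∈ P) :
    ∑ v : P, (if FC p P e u v then (nF p P e v : ℂ)⁻¹ else 0) = 1 := by
  rw [← Finset.sum_filter, Finset.sum_congr rfl fun v hv => by
    rw [← (Finset.mem_filter.1 hv).2.nF_eq he], Finset.sum_const, card_filter_FC, nsmul_eq_mul,
    mul_inv_cancel₀ (by exact_mod_cast (he.nF_pos hu).ne')]

variable (p) in
/-- fusion stable functions -/
def Stable (P : Subgroup G) (e : k[G]) (η : P → ℂ) : Prop := ∀ u v : P, FC p P e u v → η v = η u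

omit [Finite G] [Fact p.Prime] [CharP k p] in
theorem Stable.mul {η η' : P → ℂ} (h : Stable p P e η) (h' : Stable p P e η') :
    Stable p P e (η * η') := fun u v huv => by rw [Pi.mul_apply, Pi.mul_apply, h u v huv, h' u v huv]

open Classical in
variable (p) in
/-- the weight attached to a stable function -/
noncomputable def wB (P : Subgroup G) (e : k[G]) (η : P → ℂ) (u : G) (f : k[G]) : ℂ :=
  if h : ∃ x, PLe p ⊤ (Subgroup.zpowers (x * u * x⁻¹)) (cj x f) P e then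
    η ⟨_, h.choose_spec.le (Subgroup.mem_zpowers _)⟩ else 0

variable {η : P → ℂ}

theorem wB_eq (he : IsBP p ⊤ P e) (hη : Stable p P e η)
    (h : PLe p ⊤ (Subgroup.zpowers (x * u * x⁻¹)) (cj x f) P e) (v : P) (hv : x * u * x⁻¹ = v) :
    wB p P e η u f = η v := by
  have h1 : ∃ x, PLe p ⊤ (Subgroup.zpowers (x * u * x⁻¹)) (cj x f) P e := ⟨x, h⟩
  rw [wB, dif_pos h1]
  exact hη _ _ (hv ▸ h.fc he h1.choose_spec)

omit [Finite G] [Fact p.Prime] [CharP k p] in
theorem wB_eq_zero (h : ¬ ∃ x, PLe p ⊤ (Subgroup.zpowers (x * u * x⁻¹)) (cj x f) P e) :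
    wB p P e η u f = 0 := dif_neg h

theorem wB_cj (he : IsBP p ⊤ P e) (hη : Stable p P e η) (x u : G) (f : k[G]) :
    wB p P e η (x * u * x⁻¹) (cj x f) = wB p P e η u f := by
  have e1 : ∀ y : G, y * (x * u * x⁻¹) * y⁻¹ = y * x * u * (y * x)⁻¹ := fun y => by group
  by_cases h : ∃ y, PLe p ⊤ (Subgroup.zpowers (y * u * y⁻¹)) (cj y f) P e
  · obtain ⟨y, h⟩ := h
    have e2 : y * x⁻¹ * (x * u * x⁻¹) * (y * x⁻¹)⁻¹ = y * u * y⁻¹ := by group
    rw [wB_eq he hη h ⟨_, h.le (Subgroup.mem_zpowers _)⟩ rfl,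
      wB_eq (x := y * x⁻¹) he hη (by rwa [e2, ← cj_mul, inv_mul_cancel_right])
        ⟨_, h.le (Subgroup.mem_zpowers _)⟩ e2]
  · rw [wB_eq_zero h, wB_eq_zero]
    rintro ⟨y, hy⟩
    exact h ⟨y * x, by rwa [e1, ← cj_mul] at hy⟩

theorem IsMP.wB_gen [IsAlgClosed k] {B : k[G]} (hm : IsMP p ⊤ B P e) (hη : Stable p P e η)
    (hη' : IsGeneralizedCharacter P η) (Q : Subgroup G) (g : k[G]) (hg : IsBP p ⊤ Q g) :
    ∃ ν : Q → ℂ, IsGeneralizedCharacter Q ν ∧
      ∀ (u : Q) f, PLe p ⊤ (Subgroup.zpowers (u : G)) f Q g → wB p P e η u f = ν u := by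
  by_cases h : Br Q B * g = g
  · obtain ⟨x, -, hx⟩ := hm.exists_cs_PLe hg h
    refine ⟨_, hη'.comp ((Subgroup.inclusion hx.le).comp (conjIso (x := x) rfl).toMonoidHom),
      fun u f hf => wB_eq (x := x) hm.bp hη ?_ _ rfl⟩
    rw [← cs_zpowers]
    exact (hf.cs (Subgroup.mem_top x)).trans hx
  · refine ⟨0, IsGeneralizedCharacter.zero, fun u f hf => wB_eq_zero ?_⟩
    rintro ⟨x, hx⟩
    have h1 := hm.eq_of_PLe hx
    rw [← cs_zpowers, ← hm.blkB.cj_eq (Subgroup.mem_top x), ← cj_Br, ← map_mul] at h1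
    exact h ((hf.Br_mul_iff_Z le_top hm.blkB.mem hm.blkB.idem).2 ((cj x).injective h1))

end FC

variable {G : Type*} [Group G] [Finite G] {M : Ideal AlgInt} {p : ℕ} [PMod M p]
  {B : Set (IrrCharacter G)} {P : Subgroup G} {e : (kk M)[G]} {u v x : G} {θ φ : G → ℂ}
  {η η' : P → ℂ}

variable (p) in
/-- a block with a maximal Brauer pair -/
structure MP (B : Set (IrrCharacter G)) (P : Subgroup G) (e : (kk M)[G]) : Prop where
  blk : IsPBlock M B
  mp : IsMP p ⊤ (bar M B) P e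

theorem _root_.Cfsg.IsMaximalBrauerPair.mp {e : Set (IrrCharacter (Ce P))}
    (h : IsMaximalBrauerPair p M B P e) : MP p B P (barS M (Ce P) e) := ⟨h.blockB, h.isMP⟩

theorem _root_.Cfsg.IsPBlock.exists_mp (hB : IsPBlock M B) (hP : IsDef p ⊤ (bar M B) P) :
    ∃ e : (kk M)[G], MP p B P e := by
  haveI : Fact p.Prime := ⟨PMod.prime M⟩
  obtain ⟨e, he⟩ := hP.exists_isMP hB.isBlock
  exact ⟨e, hB, he⟩

variable (p) in
/-- the block of `C(u)` below a Brauer pair -/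
def sb (P : Subgroup G) (e : (kk M)[G]) (u : G) : Set (IrrCharacter (Ce1 u)) :=
  {ξ | PLe p ⊤ (Subgroup.zpowers u) (es (Ce1 u) (blk M ξ)) P e}

theorem IsBP.sb_eq (he : IsBP p ⊤ P e) {b : Set (IrrCharacter (Ce1 u))} (hb : IsPBlock M b)
    (h : PLe p ⊤ (Subgroup.zpowers u) (barS M (Ce1 u) b) P e) : sb p P e u = b := by
  haveI : Fact p.Prime := ⟨PMod.prime M⟩
  ext ξ
  rw [hb.mem_iffS]
  exact ⟨fun h1 => PLe.unique he h1 h, fun h1 => by rwa [sb, Set.mem_setOf_eq, h1]⟩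

theorem IsBP.sb_spec (he : IsBP p ⊤ P e) (hu : u ∈ P) : IsPBlock M (sb p P e u) ∧
    PLe p ⊤ (Subgroup.zpowers u) (barS M (Ce1 u) (sb p P e u)) P e := by
  haveI : Fact p.Prime := ⟨PMod.prime M⟩
  obtain ⟨f, hf⟩ := he.exists_PLe (zpowers_le' hu)
  obtain ⟨b, hb, rfl⟩ := exists_isPBlock_barS_eq (isBP_zpowers_iff.1 (hf.left he)).2
  rw [he.sb_eq hb hf]; exact ⟨hb, hf⟩

namespace MP

theorem bp (h : MP p B P e) : IsBP p ⊤ P e := h.mp.bp

theorem pelt (h : MP p B P e) (hu : u ∈ P) : ∃ k : ℕ, orderOf u = p ^ k :=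
  haveI : Fact p.Prime := ⟨PMod.prime M⟩
  pelt_of_mem h.bp.pg hu

theorem card_eq (h : MP p B P e) : Nat.card P = p ^ blockDefect p B := h.blk.card_isDef h.mp.isDef

theorem sb_blk (h : MP p B P e) (hu : u ∈ P) : IsPBlock M (sb p P e u) := (h.bp.sb_spec hu).1

theorem sb_ple (h : MP p B P e) (hu : u ∈ P) :
    PLe p ⊤ (Subgroup.zpowers u) (barS M (Ce1 u) (sb p P e u)) P e := (h.bp.sb_spec hu).2

theorem ind_iff (h : MP p B P e) (hu : ∃ k : ℕ, orderOf u = p ^ k) {b : Set (IrrCharacter (Ce1 u))}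
    (hb : IsPBlock M b) : IsInducedBlock M (Ce1 u) b B ↔
      ∃ x, PLe p ⊤ (Subgroup.zpowers (x * u * x⁻¹)) (cj x (barS M (Ce1 u) b)) P e := by
  haveI : Fact p.Prime := ⟨PMod.prime M⟩
  rw [isInducedBlock_Ce1_iff hu h.blk hb]
  constructor
  · intro h1
    obtain ⟨x, -, hx⟩ := h.mp.exists_cs_PLe (isBP_zpowers_iff.2 ⟨isPGroup_zpowers hu, hb.isBlockS⟩) h1
    exact ⟨x, by rwa [← cs_zpowers]⟩
  · rintro ⟨x, hx⟩
    have h1 := h.mp.eq_of_PLe hx
    rw [← cs_zpowers, ← h.mp.blkB.cj_eq (Subgroup.mem_top x), ← cj_Br, ← map_mul] at h1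
    exact (cj x).injective h1

theorem sb_ind (h : MP p B P e) (hu : u ∈ P) : IsInducedBlock M (Ce1 u) (sb p P e u) B :=
  (h.ind_iff (h.pelt hu) (h.sb_blk hu)).2 ⟨1, by simpa using h.sb_ple hu⟩

theorem image_eq_sb (h : MP p B P e) {b : Set (IrrCharacter (Ce1 u))} (hb : IsPBlock M b)
    (hx : x * u * x⁻¹ = v) (h1 : cs x (Ce1 u) = Ce1 v)
    (h2 : PLe p ⊤ (Subgroup.zpowers v) (cj x (barS M (Ce1 u) b)) P e) :
    irrMap (conjIso h1) '' b = sb p P e v :=
  (h.bp.sb_eq ((isPBlock_image_iff _).2 hb) (by rwa [barS_image_conj])).symm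

theorem sec_eq [Fintype G] (h : MP p B P e) (hu : ∃ k : ℕ, orderOf u = p ^ k)
    {b : Set (IrrCharacter (Ce1 u))} (hb : IsPBlock M b) (hx : x * u * x⁻¹ = v)
    (h2 : PLe p ⊤ (Subgroup.zpowers v) (cj x (barS M (Ce1 u) b)) P e) (hθ : IsClassFunction G θ) :
    sec p v (sb p P e v) θ = sec p u b θ := by
  haveI : Fact p.Prime := ⟨PMod.prime M⟩
  have h1 : cs x (Ce1 u) = Ce1 v := hx ▸ cs_Ce1 x u
  rw [← h.image_eq_sb hb hx h1 h2, sec_conj hu hx h1 b hθ]

theorem fc_iff (h : MP p B P e) (hu : u ∈ P) : FC p P e u v ↔ ∃ x, x * u * x⁻¹ = v ∧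
    PLe p ⊤ (Subgroup.zpowers v) (cj x (barS M (Ce1 u) (sb p P e u))) P e := by
  haveI : Fact p.Prime := ⟨PMod.prime M⟩
  refine exists_congr fun x => ?_
  rw [(h.sb_ple hu).fus_iff h.bp, cs_zpowers]
  exact ⟨fun ⟨⟨_, h1⟩, h2⟩ => ⟨h2, h2 ▸ h1⟩, fun ⟨h1, h2⟩ => ⟨⟨Subgroup.mem_top _, h1 ▸ h2⟩, h1⟩⟩

theorem sec_eq_of_fc [Fintype G] (h : MP p B P e) (huv : FC p P e u v) (hθ : IsClassFunction G θ) :
    sec p v (sb p P e v) θ = sec p u (sb p P e u) θ := by
  obtain ⟨x, h1, h2⟩ := (h.fc_iff huv.left).1 huv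
  exact h.sec_eq (h.pelt huv.left) (h.sb_blk huv.left) h1 h2 hθ

theorem loc_blockPart (h : MP p B P e) (hu : u ∈ P) (hθ : IsClassFunction G θ) :
    loc p u (sb p P e u) (blockPart B θ) = loc p u (sb p P e u) θ := by
  rw [h.blk.isUB.loc_blockPart (h.pelt hu) (h.sb_blk hu).isUB hθ,
    Set.inter_eq_left.2 (h.sb_ind hu).subset_locSet]

theorem loc_eq_zero (h : MP p B P e) (hu : ∃ k : ℕ, orderOf u = p ^ k)
    {b : Set (IrrCharacter (Ce1 u))} (hb : IsPBlock M b) (h1 : ¬ IsInducedBlock M (Ce1 u) b B)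
    (hθ : blockPart B θ = θ) : loc p u b θ = 0 := by
  rw [← hθ, h.blk.isUB.loc_blockPart hu hb.isUB (hθ ▸ isClassFunction_blockPart B θ),
    Set.eq_empty_of_forall_notMem (s := b ∩ _) fun ξ hξ => h1 (by
      rw [hb.eq_blockOf hξ.1]; exact (mem_locSet_Ce1_iff hu h.blk).1 hξ.2), loc, blockPart_empty,
    reg_zero]

/-- class functions in the span of a block are determined by their local components -/
theorem ext (h : MP p B P e) (hθ : blockPart B θ = θ) (hφ : blockPart B φ = φ)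
    (h1 : ∀ u ∈ P, loc p u (sb p P e u) θ = loc p u (sb p P e u) φ) : θ = φ := by
  have := Fintype.ofFinite G
  have hθ' : IsClassFunction G θ := hθ ▸ isClassFunction_blockPart B θ
  have hφ' : IsClassFunction G φ := hφ ▸ isClassFunction_blockPart B φ
  refine ext_loc M p hθ' hφ' fun u hu b hb => ?_
  by_cases h2 : IsInducedBlock M (Ce1 u) b B
  · obtain ⟨x, hx⟩ := (h.ind_iff hu hb).1 h2
    rw [← Set.inter_self b, ← hb.isUB.loc_sec hu θ, ← hb.isUB.loc_sec hu φ,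
      ← h.sec_eq hu hb rfl hx hθ', ← h.sec_eq hu hb rfl hx hφ', sec, sec,
      h1 _ (hx.le (Subgroup.mem_zpowers _))]
  · rw [h.loc_eq_zero hu hb h2 hθ, h.loc_eq_zero hu hb h2 hφ]

theorem blockPart_sec [Fintype G] (h : MP p B P e) (hu : u ∈ P) (θ : G → ℂ) :
    blockPart B (sec p u (sb p P e u) θ) = sec p u (sb p P e u) θ := by
  rw [sec, h.blk.isUB.blockPart_Iu (h.pelt hu) (isClassFunction_loc _ _ _),
    (isUB_locSet _ _).blockPart_loc, Set.inter_eq_right.2 (h.sb_ind hu).subset_locSet]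

theorem blockPart_Iu [Fintype G] (h : MP p B P e) (hu : u ∈ P) {α : Ce1 u → ℂ}
    (hα : blockPart (sb p P e u) α = α) : blockPart B (Iu p u α) = Iu p u α := by
  rw [h.blk.isUB.blockPart_Iu (h.pelt hu) (hα ▸ isClassFunction_blockPart _ α), ← hα,
    blockPart_blockPart, Set.inter_eq_right.2 (h.sb_ind hu).subset_locSet]

theorem loc_sec_of_fc [Fintype G] (h : MP p B P e) (huv : FC p P e u v) (hθ : IsClassFunction G θ) :
    loc p u (sb p P e u) (sec p v (sb p P e v) θ) = loc p u (sb p P e u) θ := by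
  rw [h.sec_eq_of_fc huv hθ, (h.sb_blk huv.left).isUB.loc_sec (h.pelt huv.left), Set.inter_self]

theorem loc_sec_of_not_fc [Fintype G] (h : MP p B P e) (hu : u ∈ P) (hv : v ∈ P)
    (huv : ¬ FC p P e u v) (hθ : IsClassFunction G θ) :
    loc p u (sb p P e u) (sec p v (sb p P e v) θ) = 0 := by
  haveI : Fact p.Prime := ⟨PMod.prime M⟩
  by_cases hc : IsConj v u
  · obtain ⟨x, hx⟩ := isConj_iff.1 hc
    have h1 : cs x (Ce1 v) = Ce1 u := hx ▸ cs_Ce1 x v
    rw [← sec_conj (h.pelt hv) hx h1 _ hθ, (h.sb_blk hu).isUB.loc_sec (h.pelt hu),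
      Set.eq_empty_of_forall_notMem (s := _ ∩ _) fun ξ hξ => huv (FC.symm ?_), loc, blockPart_empty,
      reg_zero]
    refine (h.fc_iff hv).2 ⟨x, hx, ?_⟩
    rw [← barS_image_conj h1,
      ← (h.sb_blk hu).eq_of_mem ((isPBlock_image_iff _).2 (h.sb_blk hv)) hξ.1 hξ.2]
    exact h.sb_ple hu
  · exact (h.sb_blk hu).isUB.loc_Iu_of_not_conj (h.pelt hu) (h.pelt hv) hc _

theorem sum_sec [Fintype G] [Fintype P] (h : MP p B P e) (hθ : IsClassFunction G θ) :
    ∑ u : P, (nF p P e (u : G) : ℂ)⁻¹ • sec p (u : G) (sb p P e u) θ = blockPart B θ := by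
  classical
  haveI : Fact p.Prime := ⟨PMod.prime M⟩
  refine h.ext ?_ (blockPart_idem _ _) fun u hu => ?_
  · rw [blockPart_sum]
    exact Finset.sum_congr rfl fun u _ => by rw [blockPart_smul, h.blockPart_sec u.2]
  · rw [h.loc_blockPart hu hθ, loc_sum]
    conv_rhs => rw [← one_smul ℂ (loc p u _ θ), ← h.bp.sum_inv_nF hu, Finset.sum_smul]
    refine Finset.sum_congr rfl fun v _ => ?_
    rw [loc_smul]
    split_ifs with h1
    · rw [h.loc_sec_of_fc h1 hθ]
    · rw [h.loc_sec_of_not_fc hu v.2 h1 hθ, smul_zero, zero_smul]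

theorem classInner_eq [Fintype G] [Fintype P] [∀ u : G, Fintype (Ce1 u)] (h : MP p B P e)
    (hθ : blockPart B θ = θ) (hφ : IsClassFunction G φ) :
    classInner θ φ = ∑ u : P, (nF p P e (u : G) : ℂ)⁻¹ *
      classInner (loc p (u : G) (sb p P e u) θ) (loc p (u : G) (sb p P e u) φ) := by
  have hθ' : IsClassFunction G θ := hθ ▸ isClassFunction_blockPart B θ
  conv_lhs => rw [← hθ, ← h.sum_sec hθ', classInner_sum_left]
  exact Finset.sum_congr rfl fun u _ => by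
    rw [classInner_smul_left, (h.sb_blk u.2).isUB.classInner_sec hθ' hφ]

theorem card_eq_sum [Fintype P] (h : MP p B P e) :
    ((fs B).card : ℂ) = ∑ u : P, (nF p P e (u : G) : ℂ)⁻¹ * blockRank p (sb p P e (u : G)) := by
  have := Fintype.ofFinite G
  have : ∀ u : G, Fintype (Ce1 u) := fun _ => Fintype.ofFinite _
  have h1 : ∀ χ ∈ fs B, (1 : ℂ) = _ := fun χ hχ => χ.2.classInner_self.symm.trans
    (h.classInner_eq (blockPart_irr_of_mem (mem_fs.1 hχ)) χ.2.isClassFunction)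
  rw [Finset.card_eq_sum_ones, Nat.cast_sum, Nat.cast_one, Finset.sum_congr rfl h1, Finset.sum_comm]
  exact Finset.sum_congr rfl fun u _ => by
    rw [← Finset.mul_sum, (h.sb_ind u.2).sum_classInner_loc (h.pelt u.2)]

theorem classInner_loc_of_fc [Fintype (Ce1 u)] [Fintype (Ce1 v)] (h : MP p B P e)
    (huv : FC p P e u v) (hθ : IsClassFunction G θ) (hφ : IsClassFunction G φ) :
    classInner (loc p v (sb p P e v) θ) (loc p v (sb p P e v) φ) =
      classInner (loc p u (sb p P e u) θ) (loc p u (sb p P e u) φ) := by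
  have := Fintype.ofFinite G
  rw [← (h.sb_blk huv.left).isUB.classInner_sec hθ hφ,
    ← (h.sb_blk huv.right).isUB.classInner_sec hθ hφ, h.sec_eq_of_fc huv hθ]

theorem rank_of_fc (h : MP p B P e) (huv : FC p P e u v) :
    blockRank p (sb p P e v) = blockRank p (sb p P e u) := by
  have := Fintype.ofFinite G
  have : ∀ u : G, Fintype (Ce1 u) := fun _ => Fintype.ofFinite _
  apply Nat.cast_injective (R := ℂ)
  rw [← (h.sb_ind huv.left).sum_classInner_loc (h.pelt huv.left),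
    ← (h.sb_ind huv.right).sum_classInner_loc (h.pelt huv.right)]
  exact Finset.sum_congr rfl fun χ _ =>
    h.classInner_loc_of_fc huv χ.2.isClassFunction χ.2.isClassFunction

end MP

variable (p) in
/-- `χ * η` -/
noncomputable def st (P : Subgroup G) (e : (kk M)[G]) (η : P → ℂ) (θ : G → ℂ) : G → ℂ :=
  bst p (wB p P e η) θ

namespace MP

theorem isClassFunction_st (h : MP p B P e) (hη : Stable p P e η) (hθ : IsClassFunction G θ) :
    IsClassFunction G (st p P e η θ) :=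
  haveI : Fact p.Prime := ⟨PMod.prime M⟩
  isClassFunction_bst (wB_cj h.bp hη) hθ

theorem isGen_st (h : MP p B P e) (hη : Stable p P e η) (hη' : IsGeneralizedCharacter P η)
    (hθ : IsGeneralizedCharacter G θ) : IsGeneralizedCharacter G (st p P e η θ) :=
  haveI : Fact p.Prime := ⟨PMod.prime M⟩
  isGen_bst (wB_cj h.bp hη) (h.mp.wB_gen hη hη') hθ

theorem loc_st (h : MP p B P e) (hη : Stable p P e η) (hθ : IsClassFunction G θ) (u : P) :
    loc p (u : G) (sb p P e u) (st p P e η θ) = η u • loc p (u : G) (sb p P e u) θ := by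
  haveI : Fact p.Prime := ⟨PMod.prime M⟩
  rw [st, loc_bst (wB_cj h.bp hη) (h.pelt u.2) hθ (h.sb_blk u.2),
    wB_eq (x := 1) h.bp hη (by simpa using h.sb_ple u.2) u (by simp)]

theorem blockPart_st (h : MP p B P e) (hη : Stable p P e η) (hθ : IsClassFunction G θ) :
    blockPart B (st p P e η θ) = st p P e η θ := by
  haveI : Fact p.Prime := ⟨PMod.prime M⟩
  refine ext_loc M p (isClassFunction_blockPart _ _) (h.isClassFunction_st hη hθ)
    fun u hu b hb => ?_
  by_cases h2 : IsInducedBlock M (Ce1 u) b B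
  · rw [h.blk.isUB.loc_blockPart hu hb.isUB (h.isClassFunction_st hη hθ),
      Set.inter_eq_left.2 h2.subset_locSet]
  · rw [h.loc_eq_zero hu hb h2 (blockPart_idem _ _), st, loc_bst (wB_cj h.bp hη) hu hθ hb,
      wB_eq_zero (mt (h.ind_iff hu hb).2 h2), zero_smul]

theorem st_st (h : MP p B P e) (hη : Stable p P e η) (hη' : Stable p P e η')
    (hθ : IsClassFunction G θ) : st p P e η (st p P e η' θ) = st p P e (η * η') θ :=
  h.ext (h.blockPart_st hη (h.isClassFunction_st hη' hθ)) (h.blockPart_st (hη.mul hη') hθ)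
    fun u hu => by
      rw [h.loc_st hη (h.isClassFunction_st hη' hθ) ⟨u, hu⟩, h.loc_st hη' hθ ⟨u, hu⟩,
        h.loc_st (hη.mul hη') hθ ⟨u, hu⟩, smul_smul, Pi.mul_apply]

theorem st_one (h : MP p B P e) (hθ : IsClassFunction G θ) :
    st p P e (fun _ => 1) θ = blockPart B θ :=
  h.ext (h.blockPart_st (fun _ _ _ => rfl) hθ) (blockPart_idem _ _) fun u hu => by
    rw [h.loc_st (fun _ _ _ => rfl) hθ ⟨u, hu⟩, one_smul, h.loc_blockPart hu hθ]

theorem classInner_st [Fintype G] [Fintype P] [∀ u : G, Fintype (Ce1 u)] (h : MP p B P e)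
    (hη : Stable p P e η) (hη' : Stable p P e η') (hθ : IsClassFunction G θ)
    (hφ : IsClassFunction G φ) :
    classInner (st p P e η θ) (st p P e η' φ) = ∑ u : P, (nF p P e (u : G) : ℂ)⁻¹ *
      (η u * conj (η' u) *
        classInner (loc p (u : G) (sb p P e u) θ) (loc p (u : G) (sb p P e u) φ)) := by
  rw [h.classInner_eq (h.blockPart_st hη hθ) (h.isClassFunction_st hη' hφ)]
  exact Finset.sum_congr rfl fun u _ => by
    rw [h.loc_st hη hθ, h.loc_st hη' hφ, classInner_smul_left, classInner_smul_right, mul_assoc]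

theorem barS_sb_one (h : MP p B P e) : barS M (Ce1 1) (sb p P e 1) = bar M B := by
  haveI : Fact p.Prime := ⟨PMod.prime M⟩
  have h1 := h.mp.eq_of_PLe (h.sb_ple (one_mem P))
  have h2 := (h.sb_blk (one_mem P)).isBlockS
  generalize barS M (Ce1 1) (sb p P e 1) = f at h1 h2
  rw [Subgroup.zpowers_one_eq_bot, Br_bot] at h1
  rw [Ce1_one] at h2
  by_contra h3
  exact h2.ne (h1.symm.trans (h.mp.blkB.mul_eq_zero h2 (Ne.symm h3)))

theorem sb_one (h : MP p B P e) : sb p P e 1 = locSet M (Ce1 1) B :=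
  (h.sb_blk (one_mem P)).isUB.barS_inj (isUB_locSet _ _) (by
    rw [h.barS_sb_one, barS_locSet_Ce1 pelt_one h.blk.isUB, Subgroup.zpowers_one_eq_bot, Br_bot])

theorem loc_one (h : MP p B P e) (hθ : blockPart B θ = θ) :
    loc p 1 (sb p P e 1) θ = fun s : Ce1 (1 : G) => reg p θ s := by
  have hθ' : IsClassFunction G θ := hθ ▸ isClassFunction_blockPart B θ
  rw [h.sb_one, ← Set.univ_inter (locSet _ _ _), ← h.blk.isUB.loc_blockPart pelt_one isUB_univ hθ',
    hθ, loc_univ hθ']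
  funext s
  simp [reg, Ru]

theorem reg_st (h : MP p B P e) (hη : Stable p P e η) (hθ : blockPart B θ = θ) :
    reg p (st p P e η θ) = η 1 • reg p θ := by
  have hθ' : IsClassFunction G θ := hθ ▸ isClassFunction_blockPart B θ
  have h1 := h.loc_st hη hθ' 1
  rw [OneMemClass.coe_one, h.loc_one (h.blockPart_st hη hθ'), h.loc_one hθ] at h1
  funext s
  exact congrFun h1 ⟨s, by simp [Ce1_one]⟩

theorem st_apply_one (h : MP p B P e) (hη : Stable p P e η) (hθ : blockPart B θ = θ) :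
    st p P e η θ 1 = η 1 * θ 1 := by
  haveI : Fact p.Prime := ⟨PMod.prime M⟩
  have := congrFun (h.reg_st hη hθ) 1
  rwa [Pi.smul_apply, reg_of_preg preg_one, reg_of_preg preg_one] at this

theorem classInner_loc_one [Fintype G] [Fintype (Ce1 (1 : G))] (h : MP p B P e)
    (hθ : blockPart B θ = θ) (hφ : blockPart B φ = φ) :
    classInner (loc p 1 (sb p P e 1) θ) (loc p 1 (sb p P e 1) φ) = classInner (reg p θ) φ := by
  rw [h.loc_one hθ, h.loc_one hφ, ← classInner_reg_reg]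
  exact classInner_comp_equiv ((MulEquiv.subgroupCongr Ce1_one).trans Subgroup.topEquiv) _ _

theorem rank_sb_one (h : MP p B P e) : blockRank p (sb p P e 1) = blockRank p B := by
  have := Fintype.ofFinite G
  have := Fintype.ofFinite (Ce1 (1 : G))
  apply Nat.cast_injective (R := ℂ)
  rw [← (h.sb_ind (one_mem P)).sum_classInner_loc pelt_one, h.blk.isUB.blockRank_eq_sum]
  exact Finset.sum_congr rfl fun χ hχ => h.classInner_loc_one (blockPart_irr_of_mem (mem_fs.1 hχ))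
    (blockPart_irr_of_mem (mem_fs.1 hχ))

end MP

end Cfsg.Agent.Blk
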