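import Cfsg.Agent.Lib.Block.Rec2
import Cfsg.Agent.Lib.Perm.Small
import Cfsg.Agent.Lib.Transfer.Cyc2
import Cfsg.Agent.Lib.Transfer.Rank

/-! Elementary Sylow theory in simple groups; the simple group of order 168. -/

set_option autoImplicit false

namespace Cfsg.Agent.Blk

open MonoidAlgebra Subgroup
open Cfsg.Agent.Char hiding cj cj_mul cj_inv_cj cj_cj_inv sum_cj_eq
open scoped ComplexConjugate
attribute [local instance] _root_.Classical.propDecidable

variable {G : Type*} [Group G] [Finite G] {p q r : ℕ} {x y g t u z : G} {P H S N T U W M : Subgroup G}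

theorem not_npc [IsSimpleGroup G] [hp : Fact p.Prime] (hG : ¬ IsMulCommutative G)
    (h : p ∣ Nat.card G) : ¬ HasNormalPComplement p G := by
  rintro ⟨P, N, hN, hc⟩
  rcases hN.eq_bot_or_eq_top with rfl | rfl
  · have h1 : IsPGroup p G := (isComplement'_bot_left.1 hc ▸ P.isPGroup').of_equiv topEquiv
    have := h1.isNilpotent
    exact hG ⟨⟨IsSimpleGroup.comm_iff_isSolvable.2 inferInstance⟩⟩
  · exact P.ne_bot_of_dvd_card h (isComplement'_top_left.1 hc)

theorem burn [IsSimpleGroup G] [hp : Fact p.Prime] (hG : ¬ IsMulCommutative G)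
    (h : p ∣ Nat.card G) (hP : IsSyl p P ⊤) : ¬ No P ≤ Ce P := fun k => by
  obtain ⟨S, rfl⟩ := isSyl_top_iff.1 hP
  exact not_npc hG h (Transfer.hasNPC_of_normalizer_le_centralizer S k)

theorem exists_compl {m : ℕ} (hp : p.Prime) (hG : Nat.card G = p * m)
    (h : ∀ r, r.Prime → r ∣ m → p < r) : ∃ K : Subgroup G, K.Normal ∧ Nat.card K = m := by
  have := Fact.mk hp
  obtain ⟨P⟩ : Nonempty (Sylow p G) := inferInstance
  have h1 := Perm.SylNum.card_sylow_eq_prime hG (fun k => (h p hp k).false) P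
  have h2 : (Nat.card G).minFac = p := by
    have k1 := Nat.minFac_prime (n := Nat.card G) (by
      rw [hG]; exact fun e => hp.one_lt.ne' (Nat.eq_one_of_mul_eq_one_right e))
    have k2 := Nat.minFac_dvd (Nat.card G)
    have k3 := Nat.minFac_le_of_dvd hp.two_le (Dvd.intro _ hG.symm)
    generalize (Nat.card G).minFac = s at *
    rcases k1.dvd_mul.1 (hG ▸ k2) with k | k
    · exact (Nat.prime_dvd_prime_iff_eq k1 hp).1 k
    · exact absurd (h s k1 k) (by omega)
  have h3 := (IsCyclic.isComplement' h2 (isCyclic_of_prime_card h1)).card_mul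
  rw [h1, hG, mul_comm] at h3
  exact ⟨_, inferInstance, Nat.eq_of_mul_eq_mul_left hp.pos h3⟩

theorem klein_of_card (h : Nat.card U = 4) (h2 : ∀ u ∈ U, u * u = 1) : IsKleinFour U :=
  Transfer.klein_of_elem (Transfer.elem_two_of_mul_self h2) h

end Cfsg.Agent.Blk
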