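import Cfsg.Agent.Lib.Block.Syl1
import Cfsg.Agent.Lib.Transfer.Dih
import Cfsg.Agent.Lib.Solv.PGrp

/-! The simple group of order 168. -/

set_option autoImplicit false

namespace Cfsg.Agent.Blk

open MonoidAlgebra Subgroup
open Cfsg.Agent.Char hiding cj cj_mul cj_inv_cj cj_cj_inv sum_cj_eq
open scoped ComplexConjugate
attribute [local instance] _root_.Classical.propDecidable

variable {G : Type*} [Group G] [Finite G] {p : ℕ} {x y g t u v z : G} {P H S N T U W M D : Subgroup G}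

theorem conj_of_cnt {A : G → Prop} (hA : ∀ g, IsConj x g → A g)
    (h : Nat.card {g // A g} ≤ (Ce1 x).index) (hy : A y) : IsConj x y := by
  by_contra k
  have h1 := Transfer.cnt_insert (p := fun g => IsConj x g) k
  have h2 := Transfer.cnt_mono (p := fun g => IsConj x g ∨ g = y) (q := A) fun g hg =>
    hg.elim (hA g) fun e => e ▸ hy
  rw [h1, Transfer.card_isConj_eq_index] at h2
  exact absurd (h2.trans h) (by simp)

theorem ord_of_isConj (h : IsConj x y) : orderOf y = orderOf x := Transfer.IsConj.orderOf_eq' h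

theorem inv_eq_sq (hu : orderOf u = 4) (ht : orderOf t = 2) (h : t ∈ zpowers u) : t = u ^ 2 := by
  obtain ⟨k, hk, rfl⟩ := Finset.mem_image.1 (mem_zpowers_iff_mem_range_orderOf.1 h)
  rw [hu, Finset.mem_range] at hk
  rw [orderOf_pow, hu] at ht
  interval_cases k <;> simp_all

theorem S1.mem_of_No (h : S1 p x) (hg : orderOf g = p) (h1 : g ∈ No (zpowers x)) : g ∈ zpowers x :=
  haveI := Fact.mk h.prime
  (h.isSyl.max _ le_top (isPGroup_sup (h.of_ord hg).isSyl.pg h.isSyl.pg (zpowers_le.2 h1))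
    le_sup_right).le (mem_sup_left (mem_zpowers g))

theorem S1.rel (h : S1 p x) (hx : x ∈ H) : ∃ a k, a ∣ Nat.card (No (zpowers x)) ∧ k ≡ 1 [MOD p] ∧
    Nat.card H = p * a * k ∧ (k = 1 → H ≤ No (zpowers x)) ∧
    (p * a = Nat.card (No (zpowers x)) → No (zpowers x) ≤ H) := by
  have := Fact.mk h.prime
  obtain ⟨a, ha⟩ := h.card ▸ card_dvd_of_le (le_inf (le_No _) (zpowers_le.2 hx))
  refine ⟨a, _, (Dvd.intro_left _ ha.symm).trans (card_dvd_of_le inf_le_left),
    (h.isSyl.of_le (zpowers_le.2 hx) le_top).relIndex_No, ?_, relIndex_eq_one.1, fun e => ?_⟩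
  · rw [← ha, Solv.card_inf_mul_relIndex]
  · exact inf_eq_left.1 (eq_of_le_of_card_ge inf_le_left (ha.trans e).ge)

namespace L27

variable [IsSimpleGroup G] (hG : Nat.card G = 168)
include hG

theorem ncomm : ¬ IsMulCommutative G := fun h =>
  bot_ne_top ((center_bot (perfect_of (G := G) (by rw [hG]; norm_num))).symm.trans
    (eq_top_iff.2 fun g _ => mem_center_iff.2 fun k => h.is_comm.comm k g))

theorem le24 (hH : H ≠ ⊤) : Nat.card H ≤ 24 := by
  have := Fact.mk (by norm_num : Nat.Prime 7)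
  have h1 := le_index (p := 7) (by rw [hG]; norm_num) hH
  have h2 := H.card_mul_index
  nlinarith

omit [IsSimpleGroup G] in
theorem dvd (H : Subgroup G) : Nat.card H ∣ 168 := hG ▸ card_subgroup_dvd_card H

omit [IsSimpleGroup G] in
theorem index_eq (H : Subgroup G) : H.index = 168 / Nat.card H := by
  rw [← hG, ← H.card_mul_index, Nat.mul_div_cancel_left _ Nat.card_pos]

theorem No_ne (h1 : 1 < Nat.card P) (h2 : Nat.card P < 168) : No P ≠ ⊤ := fun e => by
  rcases (normalizer_eq_top_iff.1 e).eq_bot_or_eq_top with rfl | rfl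
  · simp at h1
  · simp [hG] at h2

omit [IsSimpleGroup G] [Finite G] in
theorem s7 (hx : orderOf x = 7) : S1 7 x := ⟨by norm_num, hx, by rw [hG]; norm_num⟩

omit [IsSimpleGroup G] [Finite G] in
theorem s3 (hx : orderOf x = 3) : S1 3 x := ⟨by norm_num, hx, by rw [hG]; norm_num⟩

theorem s1 (h : S1 p x) (hp : p < 168) : ∃ e, e ∣ p - 1 ∧ e ≠ 1 ∧
    Nat.card (No (zpowers x)) = Nat.card (Ce1 x) * e ∧ Nat.card (No (zpowers x)) ≤ 24 ∧
    Nat.card (No (zpowers x)) ∣ 168 ∧ 168 / Nat.card (No (zpowers x)) ≡ 1 [MOD p] := by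
  have := Fact.mk h.prime
  obtain ⟨e, h1, h2⟩ := h.No_eq
  refine ⟨e, h1, fun k => burn (ncomm hG) (h.ord ▸ orderOf_dvd_natCard x) h.isSyl ?_, h2,
    le24 hG (No_ne hG (by rw [h.card]; exact h.prime.one_lt) (by rwa [h.card])), dvd hG _,
    index_eq hG _ ▸ h.index_modEq⟩
  refine (eq_of_le_of_card_ge (Ce_le_No _) ?_).ge
  rw [h2, k, mul_one, Ce_zpowers]

theorem c7 (hx : orderOf x = 7) : Nat.card (No (zpowers x)) = 21 ∧ Nat.card (Ce1 x) = 7 := by
  obtain ⟨e, h1, h2, h3, h4, h5, h6⟩ := s1 hG (s7 hG hx) (by norm_num)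
  obtain ⟨c, hc⟩ := (s7 hG hx).dvd_Ce1
  have := Nat.le_of_dvd (by norm_num) h1
  rw [hc] at h3
  rw [h3] at h4 h5 h6
  rw [h3, hc]
  clear h3 hc hx
  have : c ≤ 3 := by interval_cases e <;> omega
  interval_cases c <;> interval_cases e <;> simp_all [Nat.ModEq]

theorem sc7 (hx : orderOf x = 7) : SC 7 x := (s7 hG hx).sc (c7 hG hx).2

omit [IsSimpleGroup G] in
theorem ex (p : ℕ) (hp : p.Prime := by norm_num) (h : p ∣ 168 := by norm_num) : ∃ x : G, orderOf x = p :=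
  haveI := Fact.mk hp
  exists_prime_orderOf_dvd_card' p (hG ▸ h)

theorem c3 (hx : orderOf x = 3) : Nat.card (No (zpowers x)) = 6 ∧ Nat.card (Ce1 x) = 3 := by
  obtain ⟨e, h1, h2, h3, h4, h5, h6⟩ := s1 hG (s3 hG hx) (by norm_num)
  obtain ⟨c, hc⟩ := (s3 hG hx).dvd_Ce1
  have k : Nat.card (No (zpowers x)) ≠ 24 := fun k => by
    obtain ⟨y, hy⟩ := ex hG 7
    have a1 := (s3 hG hx).cnt
    rw [index_eq hG, k] at a1
    have a2 := Transfer.cnt_split (fun g => g ∈ No (zpowers y)) (fun g => g ∈ zpowers y)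
    rw [show Nat.card {g // g ∈ No (zpowers y)} = 21 from (c7 hG hy).1, Transfer.cnt_congr
      (q := fun g => g ∈ zpowers y) fun g => ⟨fun k => k.2, fun k => ⟨le_No _ k, k⟩⟩,
      show Nat.card {g // g ∈ zpowers y} = 7 from (s7 hG hy).card] at a2
    have a3 : ∀ g, orderOf g = 3 → g ∈ No (zpowers y) := fun g hg => by
      by_contra n
      have b1 := Transfer.cnt_insert (p := fun g => g ∈ No (zpowers y) ∧ g ∉ zpowers y) (a := g)
        fun k => n k.1
      have b2 := Transfer.cnt_mono (p := fun k => (k ∈ No (zpowers y) ∧ k ∉ zpowers y) ∨ k = g)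
        (q := fun g => orderOf g = 3) (by
          rintro k (⟨k1, k2⟩ | rfl)
          · have b3 : orderOf k ∣ 21 := (c7 hG hy).1 ▸ Subgroup.orderOf_dvd_natCard _ k1
            have b4 : ¬ 7 ∣ orderOf k := fun e => k2 ((s7 hG hy).mem_of_No ((sc7 hG hy).ord_eq e) k1)
            have b5 : orderOf k ≠ 1 := fun e => k2 (orderOf_eq_one_iff.1 e ▸ one_mem _)
            have := Nat.le_of_dvd (by norm_num) b3
            interval_cases orderOf k <;> omega
          · exact hg)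
      omega
    have a4 : x ∈ (No (zpowers y)).normalCore := fun b =>
      a3 _ ((ord_of_isConj (isConj_iff.2 ⟨b, rfl⟩)).trans hx)
    rw [Transfer.normalCore_eq_bot_of_simple (No_ne hG (by rw [(s7 hG hy).card]; norm_num)
      (by rw [(s7 hG hy).card]; norm_num)), mem_bot] at a4
    simp [a4] at hx
  have := Nat.le_of_dvd (by norm_num) h1
  rw [hc] at h3
  rw [h3] at h4 h5 h6 k
  rw [h3, hc]
  clear h3 hc hx
  have : c ≤ 4 := by interval_cases e <;> omega
  interval_cases c <;> interval_cases e <;> simp_all [Nat.ModEq]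

theorem sc3 (hx : orderOf x = 3) : SC 3 x := (s3 hG hx).sc (c3 hG hx).2

theorem cnt7 : Nat.card {g : G // orderOf g = 7} = 48 := by
  obtain ⟨y, hy⟩ := ex hG 7
  rw [(s7 hG hy).cnt, index_eq hG, (c7 hG hy).1]

theorem cnt3 : Nat.card {g : G // orderOf g = 3} = 56 := by
  obtain ⟨y, hy⟩ := ex hG 3
  rw [(s3 hG hy).cnt, index_eq hG, (c3 hG hy).1]

omit [Finite G] [IsSimpleGroup G] hG in
theorem dvd8 {n : ℕ} (h : n ∣ 168) (h3 : ¬ 3 ∣ n) (h7 : ¬ 7 ∣ n) : n ∣ 8 :=
  Nat.Coprime.dvd_of_dvd_mul_right (k := n) (n := 21) (Nat.Coprime.mul_right (m := 3) (n := 7)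
    ((Nat.Prime.coprime_iff_not_dvd (by norm_num)).2 h3).symm
    ((Nat.Prime.coprime_iff_not_dvd (by norm_num)).2 h7).symm) h

theorem ord0 (g : G) : orderOf g = 7 ∨ orderOf g = 3 ∨ orderOf g ∣ 8 := by
  obtain ⟨x, hx⟩ := ex hG 3
  obtain ⟨y, hy⟩ := ex hG 7
  by_cases h7 : 7 ∣ orderOf g
  · exact .inl ((sc7 hG hy).ord_eq h7)
  by_cases h3 : 3 ∣ orderOf g
  · exact .inr (.inl ((sc3 hG hx).ord_eq h3))
  exact .inr (.inr (dvd8 (hG ▸ orderOf_dvd_natCard g) h3 h7))

theorem cen8 (h1 : g ≠ 1) (h : orderOf g ∣ 8) : Nat.card (Ce1 g) ∣ 8 := by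
  obtain ⟨x, hx⟩ := ex hG 3
  obtain ⟨y, hy⟩ := ex hG 7
  exact dvd8 (dvd hG _) ((sc3 hG hx).not_dvd h1 fun k => absurd (k.trans h) (by norm_num))
    ((sc7 hG hy).not_dvd h1 fun k => absurd (k.trans h) (by norm_num))

theorem cnt8 : Nat.card {g : G // orderOf g ∣ 8 ∧ g ≠ 1} = 63 := by
  have h1 := Transfer.cnt_erase (p := fun g : G => orderOf g ∣ 8) (a := 1) (by simp)
  have h2 := Transfer.cnt_or (p := fun g : G => orderOf g = 3) (q := fun g => orderOf g ∣ 8)
    fun g a b => by rw [a] at b; omega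
  have h3 := Transfer.cnt_or (p := fun g : G => orderOf g = 7)
    (q := fun g => orderOf g = 3 ∨ orderOf g ∣ 8) fun g a b => by rw [a] at b; omega
  rw [Transfer.cnt_congr (q := fun _ => True) fun g => by simp [ord0 hG g], Transfer.cnt_true, hG,
    h2, cnt7 hG, cnt3 hG] at h3
  omega

omit [IsSimpleGroup G] in
theorem syl_iff : IsSyl 2 T ⊤ ↔ Nat.card T = 8 := by
  have : (Nat.card (⊤ : Subgroup G)).factorization 2 = 3 := by
    rw [card_top, hG, show 168 = 2 ^ 3 * 21 by norm_num, Nat.factorization_mul (by norm_num) (by norm_num),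
      Finsupp.add_apply, Nat.Prime.factorization_pow Nat.prime_two,
      Nat.factorization_eq_zero_of_not_dvd (by norm_num)]
    simp
  exact ⟨fun h => by rw [h.card_eq, this]; rfl, fun h => isSyl_of_card le_top (by rw [h, this]; rfl)⟩

theorem No_T (hT : Nat.card T = 8) : No T = T := by
  have h1 := le24 hG (No_ne hG (P := T) (by omega) (by omega))
  have h2 := dvd hG (No T)
  have h3 := hT ▸ card_dvd_of_le (le_No T)
  have h4 : Nat.card (No T) ≠ 24 := fun k => by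
    obtain ⟨Q, rfl⟩ := isSyl_top_iff.1 ((syl_iff hG).2 hT)
    have a1 := Transfer.cnt_le_mul (p := fun g : G => orderOf g ∣ 8 ∧ g ≠ 1)
      (q := fun _ : Sylow 2 G => True) (fun g R => g ∈ (R : Subgroup G)) (n := 7) (fun g hg => by
        obtain ⟨j, -, hj⟩ := (Nat.dvd_prime_pow (m := 3) Nat.prime_two).1 hg.1
        obtain ⟨R, hR⟩ := (IsPGroup.of_card (G := zpowers g) (n := j)
          (by rw [Nat.card_zpowers, hj])).exists_le_sylow
        exact ⟨R, trivial, hR (mem_zpowers g)⟩) fun R _ => by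
      have b1 := Transfer.cnt_erase (p := fun g : G => g ∈ (R : Subgroup G)) (one_mem _)
      rw [show Nat.card {g : G // g ∈ (R : Subgroup G)} = 8 from (syl_iff hG).1 (isSyl_sylow R)] at b1
      exact (Transfer.cnt_mono (q := fun g => g ∈ (R : Subgroup G) ∧ g ≠ 1)
        fun g k => ⟨k.2, k.1.2⟩).trans (by omega)
    rw [cnt8 hG, Transfer.cnt_true, Perm.SylNum.card_syl Q, index_eq hG, k] at a1
    omega
  refine (eq_of_le_of_card_ge (le_No T) ?_).symm
  interval_cases Nat.card (No T) <;> omega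

theorem nab (hT : Nat.card T = 8) : ¬ T ≤ Ce T := fun k =>
  burn (p := 2) (ncomm hG) (by rw [hG]; norm_num) ((syl_iff hG).2 hT) ((No_T hG hT).le.trans k)

omit [IsSimpleGroup G] hG in
theorem sup_eq (hT : Nat.card T = 8) (hu : u ∈ T) (h4 : 4 ∣ orderOf u) (hv : v ∈ T)
    (h : v ∉ zpowers u) : T = zpowers u ⊔ zpowers v := by
  have h1 : zpowers u ⊔ zpowers v ≤ T := sup_le (zpowers_le.2 hu) (zpowers_le.2 hv)
  have h2 := hT ▸ card_dvd_of_le h1
  have h3 := Nat.card_zpowers u ▸ card_dvd_of_le (le_sup_left : zpowers u ≤ zpowers u ⊔ zpowers v)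
  have h5 : Nat.card ↥(zpowers u ⊔ zpowers v) ≠ orderOf u := fun e => h
    ((eq_of_le_of_card_ge le_sup_left (by rw [e, Nat.card_zpowers])).ge (mem_sup_right (mem_zpowers v)))
  have h6 := Nat.le_of_dvd Nat.card_pos h3
  have h7 := Nat.le_of_dvd (by norm_num) h2
  have h8 := Nat.le_of_dvd (orderOf_pos u) h4
  refine (eq_of_le_of_card_ge h1 ?_).symm
  rw [hT]
  interval_cases Nat.card ↥(zpowers u ⊔ zpowers v) <;> omega

theorem cen4 (h : 4 ∣ orderOf u) (h8 : orderOf u ∣ 8) : Nat.card (Ce1 u) = 4 ∧ orderOf u = 4 := by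
  have h1 := cen8 hG (fun e => by simp [e] at h) h8
  have h2 := dvd_Ce1 (Commute.refl u)
  have h3 : Nat.card (Ce1 u) ≠ 8 := fun k => nab hG k fun s hs => mem_Ce_iff_le.2 (by
    by_cases e : s ∈ zpowers u
    · exact (Ce_zpowers u).ge.trans ((Ce_anti (zpowers_le.2 e)).trans (Ce_zpowers s).le)
    · exact (sup_eq k (mem_Ce1.2 rfl) h hs e).le.trans (sup_le (zpowers_le.2 (mem_Ce1.2 (mem_Ce1.1 hs).symm))
        (zpowers_le.2 (mem_Ce1.2 rfl))))
  have h4 := Nat.le_of_dvd (by norm_num) h1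
  have h5 := Nat.le_of_dvd Nat.card_pos h2
  have h6 := Nat.le_of_dvd (orderOf_pos u) h
  interval_cases Nat.card (Ce1 u) <;> omega

theorem Ce4 (hu : orderOf u = 4) : Ce1 u = zpowers u :=
  Ce1_eq_of_card ((cen4 hG hu.symm.dvd (by rw [hu]; norm_num)).1.trans hu.symm)

theorem ord (g : G) :
    orderOf g = 1 ∨ orderOf g = 2 ∨ orderOf g = 3 ∨ orderOf g = 4 ∨ orderOf g = 7 := by
  rcases ord0 hG g with h | h | h
  · simp [h]
  · simp [h]
  have h1 := fun k => (cen4 hG k h).2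
  have := Nat.le_of_dvd (by norm_num) h
  interval_cases orderOf g <;> omega

theorem ord_T (hT : Nat.card T ∣ 8) (h : g ∈ T) : g = 1 ∨ orderOf g = 2 ∨ orderOf g = 4 := by
  have h1 := (Subgroup.orderOf_dvd_natCard _ h).trans hT
  rcases ord hG g with k | k | k | k | k
  · exact .inl (orderOf_eq_one_iff.1 k)
  all_goals simp_all

theorem ex4 (hT : Nat.card T = 8) : ∃ u ∈ T, orderOf u = 4 := by
  by_contra k
  refine nab hG hT (le_centralizer_iff_isMulCommutative.2 (Transfer.elem_two_of_mul_self fun a ha => ?_).1)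
  rcases ord_T hG hT.dvd ha with e | e | e
  · simp [e]
  · rw [← sq, ← e, pow_orderOf_eq_one]
  · exact absurd ⟨a, ha, e⟩ k

theorem cen_eq (hT : Nat.card T = 8) (hz : z ∈ T) (h1 : z ≠ 1) (h : T ≤ Ce1 z) : Ce1 z = T :=
  (eq_of_le_of_card_ge h (hT ▸ Nat.le_of_dvd (by norm_num)
    (cen8 hG h1 (hT ▸ Subgroup.orderOf_dvd_natCard _ hz)))).symm

theorem exz (hT : Nat.card T = 8) : ∃ z ∈ T, orderOf z = 2 ∧ Ce1 z = T := by
  haveI : Nontrivial T := Finite.one_lt_card_iff_nontrivial.1 (by omega)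
  haveI := ((syl_iff hG).2 hT).pg.center_nontrivial
  obtain ⟨⟨⟨z, hz⟩, h1⟩, h2⟩ := exists_ne (1 : center T)
  have h3 : z ≠ 1 := fun e => h2 (by ext; exact e)
  have h4 := cen_eq hG hT hz h3 fun s hs =>
    mem_Ce1.2 (congrArg Subtype.val (mem_center_iff.1 h1 ⟨s, hs⟩))
  refine ⟨z, hz, ((ord_T hG hT.dvd hz).resolve_left h3).resolve_right fun e => ?_, h4⟩
  have := (cen4 hG e.symm.dvd (by rw [e]; norm_num)).1
  rw [h4] at this
  omega

theorem cnt24 : Nat.card {g : G // orderOf g = 2} = 21 ∧ Nat.card {g : G // orderOf g = 4} = 42 ∧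
    ∃ z : G, orderOf z = 2 ∧ Nat.card (Ce1 z) = 8 := by
  obtain ⟨T, hT⟩ := exists_isSyl 2 (⊤ : Subgroup G)
  rw [syl_iff hG] at hT
  obtain ⟨z, -, h1, h2⟩ := exz hG hT
  obtain ⟨u, -, h3⟩ := ex4 hG hT
  have a1 := Transfer.cnt_mono (p := fun g => IsConj z g) (q := fun g => orderOf g = 2)
    fun g k => (ord_of_isConj k).trans h1
  have a2 := Transfer.cnt_mono (p := fun g => IsConj u g) (q := fun g => orderOf g = 4)
    fun g k => (ord_of_isConj k).trans h3
  have a3 := Transfer.cnt_or (p := fun g : G => orderOf g = 2) (q := fun g => orderOf g = 4)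
    fun g a b => by omega
  have a4 := Transfer.cnt_mono (p := fun g : G => orderOf g = 2 ∨ orderOf g = 4)
    (q := fun g => orderOf g ∣ 8 ∧ g ≠ 1) fun g k => ⟨by rcases k with k | k <;> simp [k], by
      rintro rfl; simp at k⟩
  rw [Transfer.card_isConj_eq_index, index_eq hG] at a1 a2
  rw [show Nat.card (centralizer ({z} : Set G)) = 8 from (congrArg (fun K : Subgroup G => Nat.card K) h2).trans hT] at a1
  rw [show Nat.card (centralizer ({u} : Set G)) = 4 from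
    (cen4 hG h3.symm.dvd (by rw [h3]; norm_num)).1] at a2
  rw [cnt8 hG, a3] at a4
  exact ⟨by omega, by omega, z, h1, h2 ▸ hT⟩

theorem conj_of {n : ℕ} (hx : orderOf x = n) (hy : orderOf y = n)
    (h : Nat.card {g : G // orderOf g = n} = 168 / Nat.card (Ce1 x)) : IsConj x y :=
  conj_of_cnt (A := fun g => orderOf g = n) (fun _ k => (ord_of_isConj k).trans hx)
    (by rw [h, index_eq hG]) hy

theorem cen2 (ht : orderOf t = 2) : Nat.card (Ce1 t) = 8 := by
  obtain ⟨h1, -, z, h2, h3⟩ := cnt24 hG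
  rw [← card_Ce1_conj (conj_of hG h2 ht (by rw [h1, h3])), h3]

theorem conj2 (hz : orderOf z = 2) (ht : orderOf t = 2) : IsConj z t :=
  conj_of hG hz ht (by rw [(cnt24 hG).1, cen2 hG hz])

theorem conj4 (hu : orderOf u = 4) (hv : orderOf v = 4) : IsConj u v :=
  conj_of hG hu hv (by rw [(cnt24 hG).2.1, (cen4 hG hu.symm.dvd (by rw [hu]; norm_num)).1])

theorem conj3 (hu : orderOf u = 3) (hv : orderOf v = 3) : IsConj u v :=
  conj_of hG hu hv (by rw [cnt3 hG, (c3 hG hu).2])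

theorem z_eq (hz : orderOf z = 2) (hu : orderOf u = 4) (h : u ∈ Ce1 z) : z = u ^ 2 :=
  inv_eq_sq hu hz ((Ce4 hG hu).le (mem_Ce1.2 (mem_Ce1.1 h).symm))

theorem Ce1_inj (hz : orderOf z = 2) (ht : orderOf t = 2) (h : Ce1 z = Ce1 t) : z = t := by
  obtain ⟨u, h1, h2⟩ := ex4 hG (cen2 hG hz)
  rw [z_eq hG hz h2 h1, z_eq hG ht h2 (h ▸ h1)]

theorem dih (hT : Nat.card T = 8) : Nonempty (T ≃* DihedralGroup 4) := by
  obtain ⟨z, -, h1, rfl⟩ := exz hG hT
  obtain ⟨u, h2, h3⟩ := ex4 hG hT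
  have h4 : ∀ v ∈ Ce1 z, v ∉ zpowers u → v ^ 2 = 1 := fun v hv k => by
    rcases ord_T hG hT.dvd hv with e | e | e
    · simp [e]
    · rw [← e, pow_orderOf_eq_one]
    obtain ⟨g, rfl⟩ := isConj_iff.1 (conj4 hG h3 e)
    have a1 := z_eq hG h1 e hv
    rw [conj_pow, ← z_eq hG h1 h3 h2] at a1
    have a2 := No_of_index_two (zpowers_le.2 h2) (by rw [hT, Nat.card_zpowers, h3])
      (mem_Ce1.2 (mul_inv_eq_iff_eq_mul.1 a1.symm))
    exact absurd ((mem_No.1 a2).le (conj_mem_cs.2 (mem_zpowers u))) k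
  obtain ⟨s, h5, h6⟩ := SetLike.not_le_iff_exists.1 fun k : Ce1 z ≤ zpowers u => by
    have := card_le_of_le k
    rw [hT, Nat.card_zpowers] at this
    omega
  have h7 := h4 s h5 h6
  have h8 := h4 (s * u) (mul_mem h5 h2) fun k => h6 ((mul_mem_cancel_right (mem_zpowers u)).1 k)
  rw [← h3]
  refine Solv.nonempty_dihedral_of_gens h6 (sup_eq hT h2 h3.symm.dvd h5 h6) h7 ?_
  rw [sq] at h7 h8
  rw [inv_eq_of_mul_eq_one_right h7, eq_inv_iff_mul_eq_one, ← h8]; group

theorem dh (Q : Sylow 2 G) : ∃ a b, Transfer.DH (Q : Subgroup G) a b 1 := by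
  have hT := (syl_iff hG).1 (isSyl_sylow Q)
  obtain ⟨e⟩ := dih hG hT
  obtain ⟨a, b, n, h⟩ := Transfer.dh_of Q.isPGroup' (by norm_num) e
  have h1 : 2 ^ (n + 2) = 2 ^ 3 := h.card.symm.trans hT
  obtain rfl : n = 1 := by have := Nat.pow_right_injective le_rfl h1; omega
  exact ⟨a, b, h⟩

theorem No_ne4 (hU : IsKleinFour U) : No U ≠ ⊤ :=
  No_ne hG (by rw [hU.card_four]; norm_num) (by rw [hU.card_four]; norm_num)

theorem No_U (hU : IsKleinFour U) : Nat.card (No U) = 24 := by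
  obtain ⟨a, b, ha, hb, -, hab, hc, h⟩ := Transfer.exists_klein_elems hU
  have k : ∀ t ∈ U, orderOf t = 2 → Ce1 t ≤ No U := fun t ht e => No_of_index_two
    (mem_Ce_iff_le.1 (le_centralizer_iff_isMulCommutative.2 (Transfer.klein_isMulCommutative hU) ht))
    (by rw [cen2 hG e, hU.card_four])
  have h1 := k a ((h a).2 (by simp)) ha
  have h2 := k b ((h b).2 (by simp)) hb
  have h3 := cen2 hG ha ▸ card_dvd_of_le h1
  have h4 := le24 hG (No_ne4 hG hU)
  have h5 := dvd hG (No U)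
  have h6 : Nat.card (No U) ≠ 8 := fun e => hab (Ce1_inj hG ha hb
    ((eq_of_le_of_card_ge h1 (by rw [e, cen2 hG ha])).trans
      (eq_of_le_of_card_ge h2 (by rw [e, cen2 hG hb])).symm))
  interval_cases Nat.card (No U) <;> omega

theorem s4 (hU : IsKleinFour U) : Nonempty (No U ≃* Equiv.Perm (Fin 4)) :=
  Perm.Small.iso_S4 (No_U hG hU) fun g => by
    have h1 := No_U hG hU ▸ orderOf_dvd_natCard g
    have h2 := ord hG g
    rw [orderOf_coe] at h2
    rcases h2 with k | k | k | k | k <;> rw [k] at h1 ⊢ <;> omega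

theorem klein_of_norm (hx : orderOf x = 3) (h1 : D ≠ ⊥) (h2 : Nat.card D ∣ 8) (h : x ∈ No D) :
    IsKleinFour D := by
  have h3 := modEq_of_norm (by norm_num) hx h fun b hb k => by
    have a1 : orderOf b ∣ 3 := (c3 hG hx).2 ▸ dvd_Ce1 k
    have a2 := (Subgroup.orderOf_dvd_natCard _ hb).trans h2
    exact orderOf_eq_one_iff.1 (Nat.eq_one_of_dvd_coprimes (by norm_num) a1 a2)
  have h4 : Nat.card D = 4 := by
    have a1 := Nat.le_of_dvd (by norm_num) h2
    have a2 : Nat.card D ≠ 1 := fun e => h1 (card_eq_one.1 e)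
    unfold Nat.ModEq at h3
    interval_cases Nat.card D <;> omega
  refine klein_of_card h4 fun v hv => ?_
  rcases ord_T hG h2 hv with e | e | e
  · simp [e]
  · rw [← sq, ← e, pow_orderOf_eq_one]
  have a1 : zpowers v = D := eq_of_le_of_card_ge (zpowers_le.2 hv) (by rw [h4, Nat.card_zpowers, e])
  have a2 : orderOf (v ^ 2) = 2 := by rw [orderOf_pow, e]; rfl
  have a3 := inv_eq_sq e ((ord_of_isConj (isConj_iff.2 ⟨x, rfl⟩)).trans a2)
    (a1.ge ((mem_No.1 h).le (conj_mem_cs.2 (pow_mem hv 2))))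
  have a4 := dvd_Ce1 (x := v ^ 2) (g := x) (mul_inv_eq_iff_eq_mul.1 a3).symm
  rw [cen2 hG a2, hx] at a4
  omega

theorem No_inj (hU : IsKleinFour U) (hW : IsKleinFour W) (h : No U = No W) : U = W := by
  obtain ⟨x, hx⟩ := exists_prime_orderOf_dvd_card' (G := No U) 3 (by rw [No_U hG hU]; norm_num)
  have h1 : IsPGroup 2 (U ⊔ W : Subgroup G) := isPGroup_sup (IsPGroup.of_card (n := 2) hU.card_four)
    (IsPGroup.of_card (n := 2) hW.card_four) (h ▸ le_No U)
  obtain ⟨T, hT, h2⟩ := exists_isSyl_ge h1 le_top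
  have h3 := klein_of_norm hG ((orderOf_coe x).trans hx) (D := U ⊔ W) (fun e => by
    have := hU.card_four
    rw [le_bot_iff.1 (le_sup_left.trans e.le)] at this
    simp at this) ((syl_iff hG).1 hT ▸ card_dvd_of_le h2) (No_sup_le _ _ ⟨x.2, h ▸ x.2⟩)
  exact (eq_of_le_of_card_ge le_sup_left (by rw [h3.card_four, hU.card_four])).trans
    (eq_of_le_of_card_ge le_sup_right (by rw [h3.card_four, hW.card_four])).symm

theorem le_max (hH : H ≠ ⊤) :
    (∃ y, orderOf y = 7 ∧ H ≤ No (zpowers y)) ∨ ∃ U : Subgroup G, IsKleinFour U ∧ H ≤ No U := by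
  have h1 := le24 hG hH
  have k0 : ∀ T : Subgroup G, IsSyl 2 T ⊤ → ∃ U : Subgroup G, IsKleinFour U ∧ T ≤ No U := fun T hT => by
    obtain ⟨Q, rfl⟩ := isSyl_top_iff.1 hT
    obtain ⟨a, b, h⟩ := dh hG Q
    exact ⟨_, h.kl, No_of_index_two (h.X_le _) (by rw [h.card, h.kl.card_four]; rfl)⟩
  by_cases h7 : 7 ∣ Nat.card H
  · have := Fact.mk (by norm_num : Nat.Prime 7)
    obtain ⟨y, hy⟩ := exists_prime_orderOf_dvd_card' 7 h7
    rw [← orderOf_coe] at hy
    obtain ⟨a, k, -, a2, a3, a4, -⟩ := (s7 hG hy).rel y.2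
    refine .inl ⟨y, hy, a4 (a2.eq_of_lt_of_lt ?_ (by norm_num))⟩
    have := Nat.card_pos (α := H)
    rcases a with _ | a <;> nlinarith
  right
  by_cases h3 : ¬ 3 ∣ Nat.card H
  · obtain ⟨j, -, hj⟩ := (Nat.dvd_prime_pow (m := 3) Nat.prime_two).1 (dvd8 (dvd hG H) h3 h7)
    obtain ⟨T, hT, h⟩ := exists_isSyl_ge (IsPGroup.of_card hj) le_top
    exact (k0 T hT).imp fun U k => ⟨k.1, h.trans k.2⟩
  obtain ⟨x, hx⟩ := exists_prime_orderOf_dvd_card' 3 (not_not.1 h3)
  rw [← orderOf_coe] at hx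
  obtain ⟨S, hS⟩ := exists_isSyl 2 H
  obtain ⟨D, d1, d2, -, d3⟩ := exists_core hS.le
  obtain ⟨T, hT, h⟩ := exists_isSyl_ge hS.pg le_top
  by_cases hD : D ≠ ⊥
  · exact ⟨D, klein_of_norm hG hx hD ((syl_iff hG).1 hT ▸ card_dvd_of_le (d1.trans h)) (d2 x.2), d2⟩
  have h4 : Nat.card H ≤ 6 := by
    have a1 := hS.not_dvd_relIndex
    have a2 : S.relIndex H ∣ Nat.card H := relIndex_dvd_card _ _
    have a3 : ¬ 7 ∣ S.relIndex H := fun k => h7 (k.trans a2)
    have a4 := a2.trans (dvd hG H)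
    have a5 := (Nat.le_of_dvd Nat.card_pos a2).trans h1
    rw [not_not.1 hD, card_bot, one_mul] at d3
    have a6 : S.relIndex H = 1 ∨ S.relIndex H = 3 := by interval_cases S.relIndex H <;> omega
    rcases a6 with e | e <;> rw [e] at d3 <;> exact (Nat.le_of_dvd (by decide) d3).trans (by decide)
  obtain ⟨a, k, -, a2, a3, a4, -⟩ := (s3 hG hx).rel x.2
  have h5 := a4 (a2.eq_of_lt_of_lt (by
    have := Nat.card_pos (α := H)
    rcases a with _ | a <;> nlinarith) (by norm_num))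
  obtain ⟨U, hU, -⟩ := k0 T hT
  obtain ⟨w, hw⟩ := exists_prime_orderOf_dvd_card' (G := No U) 3 (by rw [No_U hG hU]; norm_num)
  obtain ⟨g, hg⟩ := isConj_iff.1 (conj3 hG ((orderOf_coe w).trans hw) hx)
  have hW : IsKleinFour (cs g U) := Transfer.klein_cj hU g
  obtain ⟨b, l, b1, b2, b3, -, b4⟩ := (s3 hG hx).rel (H := No (cs g U))
    (by rw [← cs_No, ← hg]; exact conj_mem_cs.2 w.2)
  refine ⟨_, hW, h5.trans (b4 ?_)⟩
  rw [(c3 hG hx).1] at b1 ⊢
  rw [No_U hG hW] at b3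
  have := Nat.le_of_dvd (by norm_num) b1
  unfold Nat.ModEq at b2
  interval_cases b <;> omega

theorem coatom (hM : IsCoatom M) :
    (∃ y, orderOf y = 7 ∧ M = No (zpowers y)) ∨ ∃ U : Subgroup G, IsKleinFour U ∧ M = No U :=
  (le_max hG hM.1).imp (fun ⟨y, hy, h⟩ => ⟨y, hy, ((hM.le_iff.1 h).resolve_left (No_ne hG
    (by rw [(s7 hG hy).card]; norm_num) (by rw [(s7 hG hy).card]; norm_num))).symm⟩)
    fun ⟨U, hU, h⟩ => ⟨U, hU, ((hM.le_iff.1 h).resolve_left (No_ne4 hG hU)).symm⟩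

theorem coatom_No (hU : IsKleinFour U) : IsCoatom (No U) :=
  ⟨No_ne4 hG hU, fun K hK => by
    by_contra k
    exact hK.ne (eq_of_le_of_card_ge hK.le (No_U hG hU ▸ le24 hG k))⟩

end L27

end Cfsg.Agent.Blk
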