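import Cfsg.Agent.Lib.Block.Dim

/-! Symmetric local algebras with small centre are commutative. -/

set_option autoImplicit false

namespace Cfsg.Agent.Blk

open MonoidAlgebra Module
open Cfsg.Agent.Char hiding cj cj_mul cj_inv_cj cj_cj_inv sum_cj_eq om
open scoped ComplexConjugate Classical

section
variable {k V : Type*} [Field k] [AddCommGroup V] [Module k V] [FiniteDimensional k V]
  {W U : Submodule k V}

theorem exists_le_span_sup (h : W ≤ U) (h1 : finrank k U ≤ finrank k W + 1) :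
    ∃ x ∈ U, U ≤ k ∙ x ⊔ W := by
  by_cases h2 : U ≤ W
  · exact ⟨0, zero_mem _, h2.trans le_sup_right⟩
  obtain ⟨x, hx, hxW⟩ := SetLike.not_le_iff_exists.1 h2
  refine ⟨x, hx, (Submodule.eq_of_le_of_finrank_le (sup_le ((Submodule.span_singleton_le_iff_mem _ _).2 hx) h)
    (h1.trans (Submodule.finrank_lt_finrank_of_lt (lt_of_le_of_ne le_sup_right fun h3 => hxW ?_)))).ge⟩
  rw [h3]
  exact Submodule.mem_sup_left (Submodule.mem_span_singleton_self x)

theorem exists_le_span_sup_two (h : W ≤ U) (h1 : finrank k U ≤ finrank k W + 2) :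
    ∃ x ∈ U, ∃ y ∈ U, U ≤ k ∙ x ⊔ (k ∙ y ⊔ W) := by
  by_cases h2 : U ≤ W
  · exact ⟨0, zero_mem _, 0, zero_mem _, h2.trans (le_sup_right.trans le_sup_right)⟩
  obtain ⟨y, hy, hyW⟩ := SetLike.not_le_iff_exists.1 h2
  have h3 : finrank k W < finrank k (k ∙ y ⊔ W : Submodule k V) :=
    Submodule.finrank_lt_finrank_of_lt (lt_of_le_of_ne le_sup_right fun h3 => hyW (by
      rw [h3]; exact Submodule.mem_sup_left (Submodule.mem_span_singleton_self y)))
  obtain ⟨x, hx, h4⟩ := exists_le_span_sup (W := k ∙ y ⊔ W) (U := U)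
    (sup_le ((Submodule.span_singleton_le_iff_mem _ _).2 hy) h) (by omega)
  exact ⟨x, hx, y, hy, h4⟩

omit [FiniteDimensional k V] in
theorem mem_span_sup {x a : V} : a ∈ k ∙ x ⊔ W ↔ ∃ c : k, a - c • x ∈ W := by
  rw [Submodule.mem_sup]
  constructor
  · rintro ⟨_, h, w, hw, rfl⟩
    obtain ⟨c, rfl⟩ := Submodule.mem_span_singleton.1 h
    exact ⟨c, by simpa using hw⟩
  · rintro ⟨c, hc⟩
    exact ⟨c • x, Submodule.mem_span_singleton.2 ⟨c, rfl⟩, _, hc, by simp⟩

end

section
variable {k A : Type*} [Field k] [Ring A] [Algebra k A]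

/-- Symmetric local algebras with radical `J` and symmetrizing form `l`. -/
structure SymLoc (J : Submodule k A) (l : A →ₗ[k] k) : Prop where
  loc : ∀ a, ∃ c : k, a - c • (1 : A) ∈ J
  mul : ∀ a ∈ J, ∀ b ∈ J, a * b ∈ J
  nil : ∃ n, J ^ (n + 1) = ⊥
  sym : ∀ a b, l (a * b) = l (b * a)
  nd : ∀ a, (∀ b, l (b * a) = 0) → a = 0

variable {J : Submodule k A} {l : A →ₗ[k] k} {x y : A}

theorem mul_mem_pow {m n : ℕ} (hx : x ∈ J ^ m) (hy : y ∈ J ^ n) : x * y ∈ J ^ (m + n) := by
  rw [pow_add]; exact Submodule.mul_mem_mul hx hy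

theorem mul_mem_pow_left {n : ℕ} (hx : x ∈ J) (hy : y ∈ J ^ n) : x * y ∈ J ^ (n + 1) := by
  rw [pow_succ']; exact Submodule.mul_mem_mul hx hy

theorem mul_mem_pow_right {n : ℕ} (hx : x ∈ J ^ n) (hy : y ∈ J) : x * y ∈ J ^ (n + 1) := by
  rw [pow_succ]; exact Submodule.mul_mem_mul hx hy

theorem mul_mem_sq (hx : x ∈ J) (hy : y ∈ J) : x * y ∈ J ^ 2 := by
  rw [sq]; exact Submodule.mul_mem_mul hx hy

theorem cube_le_of_sq (hx : x ∈ J) (hy : y ∈ J) (h1 : J ≤ k ∙ x ⊔ (k ∙ y ⊔ J ^ 2))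
    (h2 : J ^ 2 ≤ k ∙ (x * y - y * x) ⊔ J ^ 3) (h3 : x * x ∈ J ^ 3) : J ^ 3 ≤ J ^ 4 := by
  set c := x * y - y * x with hc
  have hc2 : c ∈ J ^ 2 := sub_mem (mul_mem_sq hx hy) (mul_mem_sq hy hx)
  obtain ⟨β, hβ⟩ := mem_span_sup.1 (h2 (mul_mem_sq hx hy))
  obtain ⟨δ, hδ⟩ := mem_span_sup.1 (h2 (mul_mem_sq hy hy))
  have hγ : y * x - (β - 1) • c ∈ J ^ 3 := by
    convert hβ using 1
    rw [sub_smul, one_smul, hc]; abel
  clear_value c
  have e1 : β • (x * c) ∈ J ^ 4 := by
    convert sub_mem (mul_mem_pow_right h3 hy) (mul_mem_pow_left hx hβ) using 1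
    rw [mul_sub, mul_smul_comm, mul_assoc]; abel
  have e2 : (β - 1) • (c * x) ∈ J ^ 4 := by
    convert sub_mem (mul_mem_pow_left hy h3) (mul_mem_pow_right hγ hx) using 1
    rw [sub_mul, smul_mul_assoc, mul_assoc]; abel
  have e3 : β • (c * x) - (β - 1) • (x * c) ∈ J ^ 4 := by
    convert sub_mem (mul_mem_pow_left hx hγ) (mul_mem_pow_right hβ hx) using 1
    rw [sub_mul, mul_sub, smul_mul_assoc, mul_smul_comm, mul_assoc]; abel
  have e4 : β • (c * y) - δ • (x * c) ∈ J ^ 4 := by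
    convert sub_mem (mul_mem_pow_left hx hδ) (mul_mem_pow_right hβ hy) using 1
    rw [sub_mul, mul_sub, smul_mul_assoc, mul_smul_comm, mul_assoc]; abel
  have e5 : β • (y * c) - (β - 1) • (c * y) ∈ J ^ 4 := by
    convert sub_mem (mul_mem_pow_right hγ hy) (mul_mem_pow_left hy hβ) using 1
    rw [sub_mul, mul_sub, smul_mul_assoc, mul_smul_comm, mul_assoc]; abel
  have h4 : c * x ∈ J ^ 4 ∧ c * y ∈ J ^ 4 := by
    by_cases h0 : β = 0
    · subst h0
      simp only [zero_sub, neg_smul, one_smul, neg_mem_iff, zero_smul, neg_neg] at e2 e5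
      exact ⟨e2, e5⟩
    · rw [Submodule.smul_mem_iff _ h0] at e1
      rw [Submodule.sub_mem_iff_left _ (Submodule.smul_mem _ _ e1),
        Submodule.smul_mem_iff _ h0] at e3 e4
      exact ⟨e3, e4⟩
  rw [pow_succ J 2, Submodule.mul_le]
  intro u hu v hv
  obtain ⟨s, hs⟩ := mem_span_sup.1 (h2 hu)
  obtain ⟨a, ha⟩ := mem_span_sup.1 (h1 hv)
  obtain ⟨b, hb⟩ := mem_span_sup.1 ha
  convert add_mem (add_mem (add_mem (mul_mem_pow_right hs hv)
    (Submodule.smul_mem _ s (mul_mem_pow hc2 hb :))) (Submodule.smul_mem _ (s * a) h4.1))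
    (Submodule.smul_mem _ (s * b) h4.2) using 1
  simp only [sub_mul, mul_sub, smul_mul_assoc, mul_smul_comm, smul_sub, mul_smul]
  abel

theorem cube_le [IsAlgClosed k] (hx : x ∈ J) (hy : y ∈ J) (h1 : J ≤ k ∙ x ⊔ (k ∙ y ⊔ J ^ 2))
    (h2 : J ^ 2 ≤ k ∙ (x * y - y * x) ⊔ J ^ 3) : J ^ 3 ≤ J ^ 4 := by
  obtain ⟨α, hα⟩ := mem_span_sup.1 (h2 (mul_mem_sq hx hx))
  by_cases h0 : α = 0
  · exact cube_le_of_sq hx hy h1 h2 (by simpa [h0] using hα)
  obtain ⟨β, hβ⟩ := mem_span_sup.1 (h2 (mul_mem_sq hx hy))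
  obtain ⟨γ, hγ⟩ := mem_span_sup.1 (h2 (mul_mem_sq hy hx))
  obtain ⟨δ, hδ⟩ := mem_span_sup.1 (h2 (mul_mem_sq hy hy))
  obtain ⟨t, ht⟩ := IsAlgClosed.exists_root (Polynomial.C α * Polynomial.X ^ 2 +
    Polynomial.C (β + γ) * Polynomial.X + Polynomial.C δ) (by
      rw [Polynomial.degree_quadratic h0]; decide)
  simp only [Polynomial.IsRoot.def, Polynomial.eval_add, Polynomial.eval_mul, Polynomial.eval_C,
    Polynomial.eval_pow, Polynomial.eval_X] at ht
  refine cube_le_of_sq (x := t • x + y) (y := x) (add_mem (J.smul_mem t hx) hy) hx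
    (fun v hv => ?_) (fun u hu => ?_) ?_
  · obtain ⟨a, ha⟩ := mem_span_sup.1 (h1 hv)
    obtain ⟨b, hb⟩ := mem_span_sup.1 ha
    refine mem_span_sup.2 ⟨b, mem_span_sup.2 ⟨a - b * t, ?_⟩⟩
    convert hb using 1
    simp only [smul_add, sub_smul, mul_smul]; abel
  · obtain ⟨s, hs⟩ := mem_span_sup.1 (h2 hu)
    refine mem_span_sup.2 ⟨-s, ?_⟩
    convert hs using 1
    simp only [add_mul, mul_add, smul_mul_assoc, mul_smul_comm, neg_smul, smul_sub, smul_add]
    abel
  · have h3 := add_mem (add_mem (add_mem (Submodule.smul_mem _ (t * t) hα)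
      (Submodule.smul_mem _ t hβ)) (Submodule.smul_mem _ t hγ)) hδ
    have h4 : (t • x + y) * (t • x + y) = (t * t) • (x * x - α • (x * y - y * x)) +
        t • (x * y - β • (x * y - y * x)) + t • (y * x - γ • (x * y - y * x)) +
        (y * y - δ • (x * y - y * x)) + (α * t ^ 2 + (β + γ) * t + δ) • (x * y - y * x) := by
      simp only [add_mul, mul_add, smul_mul_assoc, mul_smul_comm]
      module
    rwa [h4, ht, zero_smul, add_zero]

namespace SymLoc

theorem mul_mem_left (h : SymLoc J l) (a : A) {n : ℕ} (hx : x ∈ J ^ (n + 1)) :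
    a * x ∈ J ^ (n + 1) := by
  obtain ⟨c, hc⟩ := h.loc a
  have h1 : J * J ^ (n + 1) ≤ J ^ (n + 1) := by
    rw [pow_succ', ← mul_assoc]
    exact mul_le_mul_left (Submodule.mul_le.2 h.mul) _
  convert add_mem (h1 (Submodule.mul_mem_mul hc hx)) (Submodule.smul_mem _ c hx) using 1
  rw [sub_mul, smul_mul_assoc, one_mul, sub_add_cancel]

theorem succ_le (h : SymLoc J l) (n : ℕ) : J ^ (n + 2) ≤ J ^ (n + 1) := by
  rw [pow_succ', Submodule.mul_le]
  exact fun a _ b hb => h.mul_mem_left a hb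

theorem eq_bot (h : SymLoc J l) {n : ℕ} (h1 : J ^ n ≤ J ^ (n + 1)) : J ^ n = ⊥ := by
  obtain ⟨m, hm⟩ := h.nil
  have h2 : ∀ i, J ^ n ≤ J ^ (n + i) := fun i => by
    induction i with
    | zero => exact le_rfl
    | succ i ih =>
      refine h1.trans ?_
      rw [pow_succ, ← add_assoc, pow_succ]
      exact mul_le_mul_left ih _
  have := h2 (m + 1)
  rwa [pow_add, hm, Submodule.mul_bot, le_bot_iff] at this

theorem eq_bot_of_l (h : SymLoc J l) {n : ℕ} (h1 : ∀ a ∈ J ^ (n + 1), l a = 0) :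
    J ^ (n + 1) = ⊥ :=
  (Submodule.eq_bot_iff _).2 fun _ ha => h.nd _ fun b => h1 _ (h.mul_mem_left b ha)

theorem comm_of_one (h : SymLoc J l) (hx : x ∈ J) (h1 : J ≤ k ∙ x ⊔ J ^ 2) (a b : A) :
    a * b = b * a := by
  have h2 : ∀ n, J ^ (n + 1) ≤ k ∙ (x ^ (n + 1)) ⊔ J ^ (n + 2) := fun n => by
    induction n with
    | zero => simpa using h1
    | succ n ih =>
      rw [pow_succ J (n + 1), Submodule.mul_le]
      intro u hu v hv
      obtain ⟨s, hs⟩ := mem_span_sup.1 (ih hu)
      obtain ⟨t, ht⟩ := mem_span_sup.1 (h1 hv)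
      refine mem_span_sup.2 ⟨s * t, ?_⟩
      convert add_mem (mul_mem_pow_right hs hv) (Submodule.smul_mem _ s
        (mul_mem_pow (Submodule.pow_mem_pow J hx (n + 1)) ht :)) using 1
      simp only [sub_mul, mul_sub, smul_mul_assoc, mul_smul_comm, smul_sub, mul_smul, ← pow_succ]
      abel
  have h3 : ∀ n, ∀ a : A, ∃ u ∈ Algebra.adjoin k {x}, a - u ∈ J ^ (n + 1) := fun n => by
    induction n with
    | zero =>
      intro a
      obtain ⟨c, hc⟩ := h.loc a
      exact ⟨c • 1, Subalgebra.smul_mem _ (one_mem _) c, by simpa using hc⟩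
    | succ n ih =>
      intro a
      obtain ⟨u, hu, h4⟩ := ih a
      obtain ⟨s, hs⟩ := mem_span_sup.1 (h2 n h4)
      exact ⟨u + s • x ^ (n + 1), add_mem hu (Subalgebra.smul_mem _
        (pow_mem (Algebra.self_mem_adjoin_singleton k x) _) s), by rwa [← sub_sub]⟩
  obtain ⟨m, hm⟩ := h.nil
  have h4 : ∀ a : A, a ∈ Algebra.adjoin k {x} := fun a => by
    obtain ⟨u, hu, h4⟩ := h3 m a
    rw [hm, Submodule.mem_bot, sub_eq_zero] at h4
    exact h4 ▸ hu
  exact (Algebra.commute_of_mem_adjoin_singleton_of_commute (h4 b)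
    (Algebra.commute_of_mem_adjoin_self (h4 a)).symm).eq

variable [FiniteDimensional k A]

theorem finrank_perp (h : SymLoc J l) (W U : Submodule k A)
    (hU : ∀ a, (∀ w ∈ W, l (w * a) = 0) → a ∈ U) : finrank k A ≤ finrank k W + finrank k U := by
  have h1 := LinearMap.BilinForm.finrank_add_finrank_orthogonal'
    (B := (LinearMap.mul k A).compr₂ l) W
  have h2 : finrank k (LinearMap.BilinForm.orthogonal ((LinearMap.mul k A).compr₂ l) W) ≤
      finrank k U := Submodule.finrank_mono fun a ha => hU a ha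
  omega

theorem finrank_perp' (h : SymLoc J l) (W U : Submodule k A)
    (hU : ∀ a ∈ U, ∀ w ∈ W, l (w * a) = 0) : finrank k W + finrank k U ≤ finrank k A := by
  have h1 := LinearMap.BilinForm.finrank_add_finrank_orthogonal'
    (B := (LinearMap.mul k A).compr₂ l) W
  have h3 : LinearMap.ker ((LinearMap.mul k A).compr₂ l) = ⊥ :=
    (Submodule.eq_bot_iff _).2 fun a ha => h.nd a fun b => by
      rw [h.sym]; exact LinearMap.congr_fun ha b
  rw [h3, inf_bot_eq, finrank_bot] at h1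
  have h2 : finrank k U ≤
      finrank k (LinearMap.BilinForm.orthogonal ((LinearMap.mul k A).compr₂ l) W) :=
    Submodule.finrank_mono fun a ha => hU a ha
  omega

theorem comm [IsAlgClosed k] (h : SymLoc J l)
    (hZ : finrank k (Subalgebra.center k A).toSubmodule ≤ 4) (a b : A) : a * b = b * a := by
  set K : Submodule k A := Submodule.span k {z | ∃ a b : A, a * b - b * a = z} with hK
  have hK1 : ∀ a b : A, a * b - b * a ∈ K := fun a b => Submodule.subset_span ⟨a, b, rfl⟩
  have h1 := h.finrank_perp K (Subalgebra.center k A).toSubmodule fun a ha => by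
    refine (Subalgebra.mem_center_iff (R := k)).2 fun y => sub_eq_zero.1 (h.nd _ fun x => ?_)
    have := ha _ (hK1 x y)
    rwa [sub_mul, map_sub, mul_assoc y, h.sym y, mul_assoc, mul_assoc, ← map_sub, ← mul_sub] at this
  have hcm : ∀ W : Submodule k A, (∀ a ∈ J, ∀ b ∈ J, a * b - b * a ∈ W) → K ≤ W := fun W hW => by
    rw [hK, Submodule.span_le]
    rintro _ ⟨a, b, rfl⟩
    obtain ⟨c, hc⟩ := h.loc a
    obtain ⟨d, hd⟩ := h.loc b
    change _ ∈ W
    convert hW _ hc _ hd using 1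
    simp only [sub_mul, mul_sub, smul_mul_assoc, mul_smul_comm, one_mul, mul_one, smul_sub]
    rw [smul_comm]; abel
  have hK2 : K ≤ J ^ 2 := hcm _ fun a ha b hb => sub_mem (mul_mem_sq ha hb) (mul_mem_sq hb ha)
  have hKl : ∀ z ∈ K, l z = 0 := fun z hz => by
    have : K ≤ LinearMap.ker l := Submodule.span_le.2 (by
      rintro _ ⟨a, b, rfl⟩
      change l _ = 0
      rw [map_sub, h.sym, sub_self])
    exact this hz
  by_contra hne
  have hK0 : K ≠ ⊥ := fun h0 => hne (sub_eq_zero.1 ((Submodule.eq_bot_iff _).1 h0 _ (hK1 a b)))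
  have hJ2 : J ^ 2 ≤ J := by simpa using h.succ_le 0
  have h2 : finrank k J < finrank k A := by
    refine Submodule.finrank_lt fun h0 => hne ?_
    obtain ⟨m, hm⟩ := h.nil
    have := Submodule.pow_mem_pow J (x := 1) (h0 ▸ trivial) (m + 1)
    rw [hm, one_pow, Submodule.mem_bot] at this
    rw [← one_mul (a * b), ← one_mul (b * a), this, zero_mul, zero_mul]
  have h3 : finrank k (J ^ 2 : Submodule k A) + 2 ≤ finrank k J := by
    by_contra h3
    obtain ⟨x, hx, h4⟩ := exists_le_span_sup hJ2 (by omega)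
    exact hne (h.comm_of_one hx h4 a b)
  have h4 : finrank k K < finrank k (J ^ 2 : Submodule k A) :=
    Submodule.finrank_lt_finrank_of_lt (lt_of_le_of_ne hK2 fun h0 => hK0 (by
      rw [h0]; exact h.eq_bot_of_l (n := 1) fun z hz => hKl z (h0 ▸ hz)))
  have h5 : J ^ 3 ≠ ⊥ := fun h0 => by
    have h6 := h.finrank_perp' J (J ^ 2) fun a ha w hw => by
      have := mul_mem_pow_left hw ha
      rw [h0, Submodule.mem_bot] at this
      rw [this, map_zero]
    exact hK0 (Submodule.finrank_eq_zero.1 (by omega))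
  have h6 : J ^ 2 ≤ K ⊔ J ^ 3 := by
    have h7 : J ^ 3 ≤ J ^ 2 := h.succ_le 1
    refine (Submodule.eq_of_le_of_finrank_le (sup_le hK2 h7) ?_).ge
    have : finrank k K < finrank k (K ⊔ J ^ 3 : Submodule k A) :=
      Submodule.finrank_lt_finrank_of_lt (lt_of_le_of_ne le_sup_left fun h0 => h5
        (h.eq_bot_of_l (n := 2) fun z hz => hKl z (h0 ▸ Submodule.mem_sup_right hz)))
    omega
  obtain ⟨x, hx, y, hy, h7⟩ := exists_le_span_sup_two hJ2 (by omega)
  refine h5 (h.eq_bot (cube_le hx hy h7 (h6.trans (sup_le (hcm _ fun u hu v hv => ?_) le_sup_right))))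
  obtain ⟨s, hs⟩ := mem_span_sup.1 (h7 hu)
  obtain ⟨t, ht⟩ := mem_span_sup.1 hs
  obtain ⟨s', hs'⟩ := mem_span_sup.1 (h7 hv)
  obtain ⟨t', ht'⟩ := mem_span_sup.1 hs'
  refine mem_span_sup.2 ⟨s * t' - t * s', ?_⟩
  have h8 : s • x + t • y ∈ J := add_mem (J.smul_mem s hx) (J.smul_mem t hy)
  convert add_mem (sub_mem (mul_mem_pow_right ht hv) (mul_mem_pow_left hv ht))
    (sub_mem (mul_mem_pow_left h8 ht') (mul_mem_pow_right ht' h8)) using 1
  simp only [sub_mul, mul_sub, add_mul, mul_add, smul_mul_assoc, mul_smul_comm]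
  module

end SymLoc

end

section
variable {k R : Type*} [Field k] [Ring R] [Algebra k R] {e : R}

variable (k) in
/-- The corner `e R e` as a non-unital subalgebra. -/
def corS (e : R) : NonUnitalSubalgebra k R where
  carrier := {a | e * a = a ∧ a * e = a}
  add_mem' := fun ha hb => ⟨by rw [mul_add, ha.1, hb.1], by rw [add_mul, ha.2, hb.2]⟩
  zero_mem' := ⟨mul_zero e, zero_mul e⟩
  mul_mem' := fun ha hb => ⟨by rw [← mul_assoc, ha.1], by rw [mul_assoc, hb.2]⟩
  smul_mem' := fun c _ ha => ⟨by rw [mul_smul_comm, ha.1], by rw [smul_mul_assoc, ha.2]⟩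

variable (k) in
/-- The corner algebra of an idempotent. -/
@[nolint unusedArguments]
def Cor (_ : IsIdempotentElem e) : Type _ := corS k e

instance (he : IsIdempotentElem e) : Ring (Cor k he) where
  __ : NonUnitalRing (Cor k he) := inferInstanceAs (NonUnitalRing (corS k e))
  one := ⟨e, he, he⟩
  one_mul a := Subtype.ext a.2.1
  mul_one a := Subtype.ext a.2.2

instance (he : IsIdempotentElem e) : Module k (Cor k he) := inferInstanceAs (Module k (corS k e))

instance (he : IsIdempotentElem e) : Algebra k (Cor k he) :=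
  Algebra.ofModule (fun c a b => Subtype.ext (smul_mul_assoc c a.1 b.1))
    fun c a b => Subtype.ext (mul_smul_comm c a.1 b.1)

/-- The inclusion of the corner algebra. -/
def Cor.val (he : IsIdempotentElem e) : Cor k he →ₗ[k] R where
  toFun a := a.1
  map_add' _ _ := rfl
  map_smul' _ _ := rfl

variable {he : IsIdempotentElem e}

theorem Cor.val_injective : Function.Injective (Cor.val (k := k) he) := Subtype.val_injective

theorem Cor.val_mul (a b : Cor k he) : Cor.val he (a * b) = Cor.val he a * Cor.val he b := rfl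

theorem Cor.val_one : Cor.val he (1 : Cor k he) = e := rfl

theorem Cor.left (a : Cor k he) : e * Cor.val he a = Cor.val he a := a.2.1

theorem Cor.right (a : Cor k he) : Cor.val he a * e = Cor.val he a := a.2.2

theorem Cor.exists_eq {a : R} (h1 : e * a = a) (h2 : a * e = a) :
    ∃ b : Cor k he, Cor.val he b = a := ⟨⟨a, h1, h2⟩, rfl⟩

theorem Cor.val_pow (a : Cor k he) (n : ℕ) : Cor.val he (a ^ (n + 1)) = Cor.val he a ^ (n + 1) := by
  induction n with
  | zero => simp
  | succ n ih => rw [pow_succ, Cor.val_mul, ih, ← pow_succ]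

instance [FiniteDimensional k R] : FiniteDimensional k (Cor k he) :=
  FiniteDimensional.of_injective _ Cor.val_injective

theorem exists_pow_eq_bot [FiniteDimensional k R] {J : Submodule k R}
    (h : ∀ a ∈ J, ∀ b, IsNilpotent (b * a)) : ∃ n, J ^ (n + 1) = ⊥ := by
  have : IsArtinianRing R := IsArtinianRing.of_finite k R
  obtain ⟨n, hn⟩ := IsArtinianRing.isNilpotent_jacobson_bot (R := R)
  have h1 : ∀ a ∈ J, a ∈ Ideal.jacobson (⊥ : Ideal R) := fun a ha =>
    Ideal.mem_jacobson_iff.2 fun y => by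
      obtain ⟨u, hu⟩ := (h a ha y).isUnit_add_one
      refine ⟨(u⁻¹ : Rˣ), ?_⟩
      rw [mul_assoc, ← mul_add_one, ← hu, Units.inv_mul, sub_self]
      exact zero_mem _
  have h2 : ∀ m, ∀ a ∈ J ^ (m + 1), a ∈ Ideal.jacobson (⊥ : Ideal R) ^ (m + 1) := fun m => by
    induction m with
    | zero => simpa [Submodule.pow_one] using h1
    | succ m ih =>
      intro a ha
      rw [pow_succ] at ha
      refine Submodule.mul_induction_on ha (fun x hx y hy => ?_) fun x y => add_mem
      rw [Submodule.pow_succ]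
      exact Ideal.mul_mem_mul (ih x hx) (h1 y hy)
  refine ⟨n, (Submodule.eq_bot_iff _).2 fun a ha => ?_⟩
  have := h2 n a ha
  rw [Submodule.pow_succ, hn] at this
  simpa using this

end

section
variable {G : Type*} [Group G] [Finite G] {M : Ideal AlgInt} {p : ℕ} [PMod M p]
  {B : Set (IrrCharacter G)} {I : Finset (kk M)[G]} {i e : (kk M)[G]} {P : Subgroup G}

theorem exists_symLoc (hi : Prim (TA M G) i) :
    ∃ J l, SymLoc (k := kk M) (A := Cor (kk M) hi.idem) J l := by
  have := Fintype.ofFinite G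
  have hf : ∀ g h : G, (if g * h = 1 then (1 : kk M) else 0) = if h * g = 1 then 1 else 0 :=
    fun g h => if_congr mul_eq_one_comm rfl rfl
  let J : Submodule (kk M) (Cor (kk M) hi.idem) :=
    { carrier := {a | IsNilpotent (Cor.val hi.idem a)}
      add_mem' := fun {a b} ha hb => hi.nil_add trivial trivial a.left a.right b.left b.right ha hb
      zero_mem' := IsNilpotent.zero
      smul_mem' := fun c a ha => IsNilpotent.smul ha c }
  refine ⟨J, (chR fun g => if g = 1 then 1 else 0).comp (Cor.val hi.idem), fun a => ?_,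
    fun a ha b _ => hi.nil_mul trivial trivial a.left a.right b.right ha, exists_pow_eq_bot
      fun a ha b => ?_, fun a b => ?_, fun a ha => Cor.val_injective (ext' fun g => ?_)⟩
  · refine ⟨rho (kk M) i (Cor.val hi.idem a), ?_⟩
    have := hi.rho_spec (a := Cor.val hi.idem a) trivial
    rwa [a.left, a.right] at this
  · obtain ⟨n, hn⟩ := hi.nil_mul' (b := Cor.val hi.idem b) trivial trivial a.left a.right b.left ha
    refine ⟨n + 1, Cor.val_injective ?_⟩
    rw [Cor.val_pow, Cor.val_mul, pow_succ, hn, zero_mul, map_zero]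
  · exact chR_mul_comm (f := fun g => if g = 1 then 1 else 0) hf _ _
  · obtain ⟨b, hb⟩ := Cor.exists_eq (k := kk M) (he := hi.idem) (a := i * single g⁻¹ 1 * i)
      (hi.corner_left _) (hi.corner_right _)
    have h1 := ha b
    rw [LinearMap.comp_apply, Cor.val_mul, hb, mul_assoc, a.left, mul_assoc,
      chR_mul_comm (f := fun g => if g = 1 then 1 else 0) hf, mul_assoc, a.right,
      chR_eq_sum] at h1
    simpa [coeff_single_mul_apply] using h1

theorem finrank_cor (hi : IsIdempotentElem i) :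
    finrank (kk M) (Cor (kk M) hi) = ∑ χ : IrrCharacter G, dm χ i ^ 2 := by
  simp only [sq]
  rw [← finrank_LR hi hi, ← LinearMap.finrank_range_of_inj (Cor.val_injective (he := hi))]
  suffices h : LinearMap.range (Cor.val (k := kk M) hi) = LinearMap.range (LR i i) by rw [h]
  ext a
  rw [mem_range_LR hi hi]
  exact ⟨by rintro ⟨b, rfl⟩; exact ⟨b.left, b.right⟩, fun h => Cor.exists_eq h.1 h.2⟩

theorem IsUB.finrank_le_card (hB : IsUB M B) {V : Type*} [AddCommGroup V] [Module (kk M) V]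
    (φ : V →ₗ[kk M] (kk M)[G]) (h1 : Function.Injective φ)
    (h2 : ∀ v, φ v ∈ Z (kk M) (⊤ : Subgroup G)) (h3 : ∀ v, bar M B * φ v = φ v) :
    finrank (kk M) V ≤ (fs B).card := by
  have := Fintype.ofFinite (ConjClasses G)
  let E : Matrix (ConjClasses G) (ConjClasses G) (O M) :=
    Matrix.of fun C C' => (fO M B * cls (O M) ⊤ (rp C')).coeff (rp C)
  have h4 := rank_map_le (res M) res_surjective (O M).subtype Subtype.val_injective E
  have h5 : E.map (O M).subtype =
      (Matrix.of fun C (χ : fs B) => (Nat.card G : ℂ)⁻¹ * (χ.1.1 1 * conj (χ.1.1 (rp C)))) *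
        Matrix.of fun (χ : fs B) C => om χ.1 (cls ℂ ⊤ (rp C)) := by
    ext C C'
    have h6 : (E.map (O M).subtype) C C' = (fC B * cls ℂ ⊤ (rp C')).coeff (rp C) := by
      rw [← hB.toC_fO, ← cf_cls (O M).subtype, ← map_mul]; rfl
    rw [h6, coeff_Z_eq_sum (mul_mem (fC_mem B) (cls_mem_top _)), Matrix.mul_apply,
      Finset.mul_sum]
    simp only [Matrix.of_apply]
    rw [Finset.sum_coe_sort (fs B) fun χ => (Nat.card G : ℂ)⁻¹ * (χ.1 1 * conj (χ.1 (rp C))) *
      om χ (cls ℂ ⊤ (rp C')), ← sum_ite_fs]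
    refine Finset.sum_congr rfl fun χ _ => ?_
    rw [om_mul χ.2 (fC_mem B), om_fC]
    split_ifs
    · ring
    · simp
  rw [h5] at h4
  refine le_trans ?_ (h4.trans ((Matrix.rank_mul_le_left _ _).trans
    ((Matrix.rank_le_card_width _).trans (Fintype.card_coe _).le)))
  let ψ : V →ₗ[kk M] (ConjClasses G → kk M) :=
    { toFun := fun v C => (φ v).coeff (rp C)
      map_add' := fun a b => by ext C; simp
      map_smul' := fun c a => by ext C; simp }
  have h6 : Function.Injective ψ := fun a b h => h1 (by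
    rw [Z_eq_sum_cls (h2 a), Z_eq_sum_cls (h2 b)]
    exact Finset.sum_congr rfl fun C _ => congrArg (· • _) (congrFun h C))
  rw [← LinearMap.finrank_range_of_inj h6]
  refine Submodule.finrank_mono ?_
  rintro _ ⟨v, rfl⟩
  refine ⟨ψ v, funext fun C => ?_⟩
  change ∑ C', res M (E C C') * (φ v).coeff (rp C') = (φ v).coeff (rp C)
  conv_rhs => rw [← h3, Z_eq_sum_cls (h2 v), Finset.mul_sum, coeff_sum']
  refine Finset.sum_congr rfl fun C' _ => ?_
  rw [mul_smul_comm, coeff_smul', mul_comm, bar, ← cf_cls (res M), ← map_mul]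
  rfl

theorem IsUB.finrank_center_le (hB : IsUB M B) (h : blockRank p B = 1) (hi : Prim (TA M G) i)
    (h1 : bar M B * i = i) :
    finrank (kk M) (Subalgebra.center (kk M) (Cor (kk M) hi.idem)).toSubmodule ≤ (fs B).card := by
  obtain ⟨D, hD⟩ := exists_dec (S := TA M G) (e := bar M B) trivial hB.bar_idem
  have h2 : ∀ j : D, ∃ x y : (kk M)[G], x * y = j.1 ∧ y * x = i ∧ j.1 * x = x ∧ x * i = x ∧
      i * y = y ∧ y * j.1 = y :=
    fun j => by
      obtain ⟨x, -, y, -, h3⟩ := (eqv_of_rank hB h (hD.prim _ j.2) hi (hD.mul_left j.2) h1).exists_norm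
        (hD.prim _ j.2).idem hi.idem
      exact ⟨x, y, h3⟩
  choose x y hxy hyx hx1 hx2 hy1 hy2 using h2
  have hs : ∑ j : D, x j * y j = bar M B := by
    simp only [hxy]; rw [Finset.sum_coe_sort D fun j => j, hD.sum]
  have hbx : ∀ j, bar M B * x j = x j := fun j => by rw [← hx1, ← mul_assoc, hD.mul_left j.2]
  have hyb : ∀ j, y j * bar M B = y j := fun j => by rw [← hy2, mul_assoc, hD.mul_right j.2]
  obtain ⟨j0, hj0, -⟩ := hD.exists_eqv hi h1
  refine hB.finrank_le_card ((∑ j : D, LR (x j) (y j)).comp ((Cor.val hi.idem).comp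
    (Submodule.subtype _))) ((injective_iff_map_eq_zero _).2 fun z hz => ?_) (fun z => ?_) fun z => ?_
  · have h3 := congrArg (fun a => y ⟨j0, hj0⟩ * a * x ⟨j0, hj0⟩) hz
    simp only [LinearMap.comp_apply, LinearMap.sum_apply, LR_apply, Finset.mul_sum, Finset.sum_mul,
      mul_zero, zero_mul] at h3
    rw [Finset.sum_eq_single ⟨j0, hj0⟩, ← mul_assoc, ← mul_assoc, hyx, mul_assoc, hyx, Cor.left,
      Cor.right] at h3
    · exact Subtype.ext (Cor.val_injective (h3.trans (map_zero _).symm))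
    · intro j _ hj
      rw [← hy2, ← hx1 j]
      simp only [← mul_assoc]
      rw [mul_assoc (y _), hD.orth _ hj0 _ j.2 fun h => hj (Subtype.ext h.symm)]
      simp
    · simp
  · refine mem_Z.2 ⟨mem_sup_top _, mem_inv.2 fun g _ => cj_eq_iff_commute.2 ?_⟩
    simp only [LinearMap.comp_apply, LinearMap.sum_apply, LR_apply, Submodule.subtype_apply]
    have h3 : ∀ j l, y j * single g 1 * x l * Cor.val hi.idem z.1 =
        Cor.val hi.idem z.1 * (y j * single g 1 * x l) := fun j l => by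
      obtain ⟨c, hc⟩ := Cor.exists_eq (k := kk M) (he := hi.idem) (a := y j * single g 1 * x l)
        (by rw [← mul_assoc, ← mul_assoc, hy1]) (by rw [mul_assoc, hx2])
      rw [← hc, ← Cor.val_mul, ← Cor.val_mul, (Subalgebra.mem_center_iff (R := kk M)).1 z.2 c]
    calc single g 1 * ∑ l, x l * Cor.val hi.idem z.1 * y l
        = ∑ l, ∑ j, x j * (y j * single g 1 * x l * Cor.val hi.idem z.1) * y l := by
          rw [Finset.mul_sum]
          refine Finset.sum_congr rfl fun l _ => ?_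
          simp only [← mul_assoc, ← Finset.sum_mul, hs]
          rw [(commute_bar B _).eq, mul_assoc _ (bar M B), hbx]
      _ = (∑ l, x l * Cor.val hi.idem z.1 * y l) * single g 1 := by
          rw [Finset.sum_comm, Finset.sum_mul]
          refine Finset.sum_congr rfl fun j _ => ?_
          simp only [h3]
          simp only [mul_assoc, ← Finset.mul_sum, hs]
          rw [← (commute_bar B _).eq, ← mul_assoc (y j), hyb]
  · simp only [LinearMap.comp_apply, LinearMap.sum_apply, LR_apply, Finset.mul_sum, ← mul_assoc, hbx]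

theorem _root_.Cfsg.IsPBlock.sum_dm_sq (hB : IsPBlock M B) (h : blockRank p B = 1)
    (hi : Prim (TA M G) i) (h1 : bar M B * i = i) :
    (∀ χ ∈ B, dm χ i ≠ 0) ∧ ∑ χ ∈ fs B, dm χ i ^ 2 = p ^ blockDefect p B := by
  haveI : Fact p.Prime := ⟨PMod.prime M⟩
  have := Fintype.ofFinite G
  have hI : Pts B {i} := ⟨hB.isUB, by simpa using hi, by simpa using h1, by simp,
    fun j hj h2 => ⟨i, by simp, eqv_of_rank hB.isUB h hj hi h2 h1⟩⟩
  let a : ({i} : Finset (kk M)[G]) := ⟨i, by simp⟩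
  have hu : ∀ (F : ({i} : Finset (kk M)[G]) → G → ℂ), ∑ j, F j = F a := fun F =>
    Finset.sum_eq_single a (fun b _ hb => (hb (Subsingleton.elim _ _)).elim)
      fun h => (h (Finset.mem_univ _)).elim
  have h2 : ∀ χ ∈ B, reg p χ.1 = (dm χ i : ℂ) • ibr B {i} a := fun χ hχ => by
    rw [hI.reg_eq hχ, hu]
  refine ⟨fun χ hχ h0 => χ.2.apply_one_ne_zero ?_, ?_⟩
  · have := congrFun (h2 χ hχ) 1
    rwa [reg_of_preg preg_one, h0, Nat.cast_zero, zero_smul] at this
  obtain ⟨n, hn⟩ := hI.exists_int_inner a a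
  have h3 := hI.classInner_ibr_pim a a
  rw [hI.pim_eq, hu, if_pos rfl, classInner_smul_right, map_intCast] at h3
  have h4 : n * cart B {i} a a = p ^ blockDefect p B := by
    apply Int.cast_injective (α := ℂ)
    push_cast
    rw [← hn, mul_assoc, mul_comm _ (cart B {i} a a : ℂ), h3, mul_one]
  obtain ⟨ψ, hψ, h0⟩ := exists_height_zero p hB.nonempty
  have h5 : am p B ψ ψ = dm ψ i * dm ψ i * n := by
    apply Int.cast_injective (α := ℂ)
    rw [am_cast hψ, ← classInner_reg_reg, h2 ψ hψ, classInner_smul_left, classInner_smul_right,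
      map_natCast]
    push_cast
    rw [← hn]; ring
  have h6 : ¬ (p : ℤ) ∣ n := fun h6 => (hB.pow_succ_dvd_am_iff hψ hψ).1 (by
    rw [h0, zero_add, pow_one, h5]; exact h6.mul_left _) h0
  have h7 : IsUnit n := (((Nat.prime_iff_prime_int.1 (PMod.prime M)).coprime_iff_not_dvd.2
    h6).symm.pow_right (n := blockDefect p B)).isUnit_of_dvd ⟨_, h4.symm⟩
  have h8 : cart B {i} a a = (∑ χ ∈ fs B, dm χ i ^ 2 : ℕ) := by simp [cart, sq, a]
  rw [h8] at h4
  have h9 : (0 : ℤ) < p ^ blockDefect p B := by exact_mod_cast pow_pos (PMod.prime M).pos _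
  rcases Int.isUnit_iff.1 h7 with rfl | rfl
  · exact_mod_cast (one_mul _).symm.trans h4
  · omega

theorem _root_.Cfsg.IsPBlock.card_eq_of_rank (hB : IsPBlock M B) (h : blockRank p B = 1)
    (hk : (fs B).card ≤ 4) : (fs B).card = p ^ blockDefect p B := by
  obtain ⟨i, hi, h1, -⟩ := exists_prim_le (S := TA M G) (e := bar M B) trivial hB.isBlock.idem
    hB.isBlock.ne
  obtain ⟨J, l, h2⟩ := exists_symLoc hi
  have h3 := hB.isUB.finrank_center_le h hi h1
  have h4 : (Subalgebra.center (kk M) (Cor (kk M) hi.idem)).toSubmodule = ⊤ :=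
    eq_top_iff.2 fun a _ => (Subalgebra.mem_center_iff (R := kk M)).2 fun b =>
      h2.comm (h3.trans hk) b a
  obtain ⟨h5, h6⟩ := hB.sum_dm_sq h hi h1
  rw [h4, finrank_top, finrank_cor] at h3
  rw [← h6]
  refine le_antisymm ?_ ((Finset.sum_le_sum_of_subset (Finset.subset_univ _)).trans h3)
  rw [Finset.card_eq_sum_ones]
  exact Finset.sum_le_sum fun χ hχ => Nat.one_le_iff_ne_zero.2 (pow_ne_zero _ (h5 χ (mem_fs.1 hχ)))

theorem MP.fa_of_card_le (h : MP p B P e) (h4 : Nat.card P ≤ 4) : FA p B P e := by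
  haveI : Fact p.Prime := ⟨PMod.prime M⟩
  by_cases hc : IsCyclic P
  · exact h.fa_of_isCyclic hc
  have h0 : 0 < Nat.card P := Nat.card_pos
  have h5 : Nat.card P = 4 := by
    by_contra h5
    haveI : Fact (Nat.Prime 3) := ⟨Nat.prime_three⟩
    interval_cases h6 : Nat.card P
    · exact hc (by haveI := (Nat.card_eq_one_iff_unique.1 h6).1; infer_instance)
    · exact hc (isCyclic_of_prime_card h6)
    · exact hc (isCyclic_of_prime_card h6)
    · exact h5 rfl
  obtain rfl : p = 2 := by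
    obtain ⟨n, hn⟩ := IsPGroup.iff_card.1 h.mp.bp.pg
    have h6 : p ∣ 2 ^ 2 := by
      rw [show 2 ^ 2 = p ^ n by omega]
      exact dvd_pow_self _ (by rintro rfl; rw [h5] at hn; simp at hn)
    exact (Nat.prime_dvd_prime_iff_eq (PMod.prime M) Nat.prime_two).1
      ((PMod.prime M).dvd_of_dvd_pow h6)
  refine (h.klein h5 fun u => ?_).1
  rw [← sq, ← (not_isCyclic_iff_exponent_eq_prime Nat.prime_two (by rw [h5]; rfl)).1 hc]
  exact Monoid.pow_exponent_eq_one u

end

end Cfsg.Agent.Blk
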