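import Cfsg.Agent.Lib.Block.TameN

/-!
The numerical data of a block with a defect group of maximal class.
-/

set_option autoImplicit false

namespace Cfsg.Agent.Blk
open MonoidAlgebra
open Cfsg.Agent.Char hiding cj cj_mul cj_inv_cj cj_cj_inv sum_cj_eq om
open scoped ComplexConjugate
attribute [local instance] _root_.Classical.propDecidable
open Subgroup (zpowers mem_zpowers)
open Transfer (MC)

theorem tp_split {ι : Type*} {s S : Finset ι} (hS : S ⊆ s) {f : ι → ℂ}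
    (h1 : ∀ x ∈ s, IsIntegral ℤ (f x)) (h2 : ∀ x ∈ s, TP (f x)) (h3 : ∀ x ∈ S, f x ≠ 0)
    (h4 : ∑ x ∈ s, f x = S.card) : (∀ x ∈ S, f x = 1) ∧ ∀ x ∈ s, x ∉ S → f x = 0 := by
  have h5 : ∀ x ∈ s, x ∉ S → f x = 0 := fun x hx hx' => by_contra fun e => by
    have e1 : insert x S ⊆ s := Finset.insert_subset hx hS
    have := card_le_of_TP (insert x S) f (fun y hy => h1 y (e1 hy)) (fun y hy => h2 y (e1 hy))
      (Finset.forall_mem_insert _ _ _ |>.2 ⟨e, h3⟩)
      (TP.sum (s \ insert x S) fun y hy => h2 y (Finset.mem_sdiff.1 hy).1)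
      (by rw [add_comm, Finset.sum_sdiff e1, h4])
    rw [Finset.card_insert_of_notMem hx'] at this
    omega
  exact ⟨fun x hx => eq_one_of_TP S f (fun y hy => h1 y (hS hy)) (fun y hy => h2 y (hS hy)) h3
    ((Finset.sum_subset hS h5).trans h4) hx, h5⟩

variable {G : Type*} [Group G] [Fintype G] {M : Ideal AlgInt} [PMod M 2]
  {B : Set (IrrCharacter G)} {P : Subgroup G} {e : (kk M)[G]} {a b u : G} {n : ℕ} {T : Finset G}
  {χ ψ : IrrCharacter G} {η : G → ℂ}

theorem MP.exists_cmx [Fintype (Ce1 u)] (h : MP 2 B P e) (hu : u ∈ P) (h1 : u * u = 1)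
    (hd : blockDefect 2 (sb 2 P e u) = blockDefect 2 B) :
    ∃ A, CMx (fs B) (fun χ => blockHeight 2 B χ.1) (blockDefect 2 B) (blockRank 2 (sb 2 P e u)) A ∧
      ∀ χ ψ, cm 2 u (sb 2 P e u) χ.1 ψ.1 = A χ ψ := by
  choose A hA using fun χ ψ : IrrCharacter G => show ∃ k : ℤ, k = cm 2 u (sb 2 P e u) χ.1 ψ.1 from
    cm_mem (Int.castRingHom ℂ).range (fun z hz => by
      obtain ⟨k, hk⟩ := orderOf_dvd_of_pow_eq_one ((sq u).trans h1)
      rcases sq_eq_one_iff.1 (show z ^ 2 = 1 by rw [hk, pow_mul, hz, one_pow]) with rfl | rfl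
      exacts [one_mem _, neg_mem (one_mem _)]) χ.2.isGen ψ.2.isGen
  have hi := h.sb_ind hu
  have hp := h.pelt hu
  have h2 : ∀ (χ ψ : IrrCharacter G) (z : ℂ), cm 2 u (sb 2 P e u) χ.1 ψ.1 =
      (2 : ℕ) ^ blockHeight 2 B χ.1 * z → z = A χ ψ / (2 ^ blockHeight 2 B χ.1 : ℕ) :=
    fun χ ψ z e => by rw [hA, e]; push_cast; field_simp
  refine ⟨A, ⟨fun χ ψ => Int.cast_injective (α := ℂ) ?_, fun χ _ => Int.cast_injective (α := ℂ) ?_,
    Int.cast_injective (α := ℂ) ?_, fun χ hχ ψ _ => ?_, fun χ hχ ψ hψ => ?_⟩, fun _ _ => (hA _ _).symm⟩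
  · rw [hA ψ, ← conj_cm, ← hA, map_intCast]
  · have := hi.sum_cm_mul hp χ.2.isClassFunction χ.2.isClassFunction
    simp only [← hA, map_intCast, hd] at this
    simpa [sq] using this
  · simpa [← hA, hd] using hi.sum_cm_self hp
  · obtain ⟨z, h3, h4⟩ := (h.sb_blk hu).isUB.exists_cm_eq hp (mem_fs.1 hχ) hd ψ.2.isGen
    have := (intDiv_mem_O_iff (p := 2) (by positivity)).1 (h2 _ _ _ h4 ▸ mem_O_of_isIntegral M h3)
    rwa [factorization_pow_self] at this
  have h3 := LI_intDiv_iff (M := M) (n := A χ ψ) (m := 2 ^ blockHeight 2 B χ.1) (by positivity)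
  rw [factorization_pow_self, Nat.cast_ofNat] at h3
  refine ⟨fun h4 h0 => ?_, fun h0 => ?_⟩
  · obtain ⟨w, -, h5, h6⟩ := hi.cm_val hp hd (mem_fs.1 hχ) (mem_fs.1 hψ) h0
    exact h5 (h2 _ _ _ h6 ▸ h3.2 h4)
  · obtain ⟨z, -, h4⟩ := (h.sb_blk hu).isUB.exists_cm_eq hp (mem_fs.1 hχ) hd ψ.2.isGen
    exact h3.1 (h2 _ _ _ h4 ▸ hi.LI_of_cm_eq hp hd (mem_fs.1 hχ) h0 h4)

omit [Fintype G] in
theorem CW.sum_U {W : Type*} [Group W] [Fintype W] {γ : MulAut W} {a : W} (h : CW γ a n)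
    (F : W → ℂ) : ∑ u with u ∉ zpowers (a ^ 2 ^ n), F u = ∑ u, F u - F 1 - F (a ^ 2 ^ n) := by
  rw [← Finset.sum_filter_add_sum_filter_not Finset.univ (· ∈ zpowers (a ^ 2 ^ n)),
    show Finset.univ.filter (· ∈ zpowers (a ^ 2 ^ n)) = {1, a ^ 2 ^ n} by
      ext u; simpa using ⟨h.mem_z, by rintro (rfl | rfl) <;> simp⟩,
    Finset.sum_pair fun e => by
      have := Nat.le_of_dvd (by positivity) (h.ord ▸ orderOf_dvd_of_pow_eq_one e.symm)
      have := Nat.two_pow_pos n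
      omega]
  ring

theorem CW.sum_ev {W : Type*} [Group W] [Fintype W] {γ : MulAut W} {a : W} (h : CW γ a n)
    (k l : LW W) : ∑ u, ev k u * conj (ev l u) = if k = l then 2 ^ (n + 1) else 0 := by
  have := classInner_ev k l
  rw [classInner, h.card, inv_mul_eq_iff_eq_mul₀ (by simp)] at this
  simpa using this

variable [Fintype P] [Fintype (zpowers a)] [∀ u : G, Fintype (Ce1 u)]

theorem MP.star (h : MP 2 B P e) (hm : MC P a b n) (hn : 1 ≤ n) (hT : UT P e a T)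
    (hη : ∀ u v, FC 2 P e u v → η v = η u) (hψ : ψ ∈ B) :
    2 ^ (n + 2) * classInner (st 2 P e (fun u => η u) χ) ψ =
      η 1 * cm 2 1 (sb 2 P e 1) χ ψ + η (a ^ 2 ^ n) * cm 2 (a ^ 2 ^ n) (sb 2 P e _) χ ψ +
        ∑ u : zpowers a with u ∉ zW a n, η u * (dn 2 (u : G) (sb 2 P e u) χ *
          conj (dn 2 (u : G) (sb 2 P e u) ψ)) +
        2 ^ n * ∑ t ∈ T, η t * (dn 2 t (sb 2 P e t) χ * conj (dn 2 t (sb 2 P e t) ψ)) := by
  have h1 := h.classInner_st (η := fun u => η u) (η' := fun _ => 1) (fun u v => hη u v)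
    (fun _ _ _ => rfl) χ.2.isClassFunction ψ.2.isClassFunction
  rw [h.st_one ψ.2.isClassFunction, blockPart_irr_of_mem hψ] at h1
  rw [h1, h.mc_sum hm hn hT (F := fun u => η u * conj 1 *
    classInner (loc 2 u (sb 2 P e u) χ) (loc 2 u (sb 2 P e u) ψ)) fun u v huv => by
      simp only [hη u v huv, h.classInner_loc_of_fc huv χ.2.isClassFunction ψ.2.isClassFunction],
    Finset.sum_congr (f := fun u : zpowers a => η u * (dn 2 (u : G) _ _ * _)) rfl fun u hu => by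
      rw [← (h.mc_U' hm hn (Finset.mem_filter.1 hu).2).2.1.cm_eq, cm, Nat.cast_ofNat,
        (h.mc_U' hm hn (Finset.mem_filter.1 hu).2).2.2],
    Finset.sum_congr (f := fun t => η t * (dn 2 t _ _ * _)) rfl fun t ht => by
      rw [← (h.mc_T hm (hT.mem t ht) (hT.unf t ht)).1.cm_eq, cm, Nat.cast_ofNat,
        (h.mc_T hm (hT.mem t ht) (hT.unf t ht)).2],
    cm, cm, h.defect_sb_one, (h.mc_z hm).1, (h.mc_z hm).2]
  simp only [mul_left_comm (η _) (2 ^ _), mul_left_comm (η _) 4, ← Finset.mul_sum, map_one, mul_one]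
  push_cast
  ring

theorem MP.exists_tn (h : MP 2 B P e) (hm : MC P a b n) (hn : 1 ≤ n) (hT : UT P e a T) :
    ∃ S T₁ T₂ A Z, TN (fs B) S T₁ T₂ (fun χ => blockHeight 2 B χ.1) n (blockRank 2 B)
      (blockRank 2 (sb 2 P e (a ^ 2 ^ n))) T.card A Z ∧
      (∀ χ ψ, cm 2 1 (sb 2 P e 1) χ.1 ψ.1 = A χ ψ) ∧
      (∀ χ ψ, cm 2 (a ^ 2 ^ n) (sb 2 P e _) χ.1 ψ.1 = Z χ ψ) ∧
      ∀ η : G → ℂ, (∀ u v, FC 2 P e u v → η v = η u) → IsGeneralizedCharacter P (fun u => η u) →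
        η 1 = 4 → η (a ^ 2 ^ n) = 0 → (∀ χ ∈ T₂, blockHeight 2 B χ.1 = n) ∧
          (T = ∅ → ∀ χ ∈ S, ∃ k : ℤ, (4 * 2 ^ n * k - 4 * A χ χ + 4 : ℤ) = ∑ u : zpowers a, η u) := by
  obtain ⟨c, ε, t, hε, hd⟩ := h.exists_tc hm hn
  have hc := mc_cw hm hn
  have hx := h.noExc hm hn t hε hd
  have hh := fun χ hχ => h.height_iff hm hn t hε hd (χ := χ) (mem_fs.1 hχ)
  obtain ⟨A, cA, hA⟩ := h.exists_cmx (one_mem P) (mul_one 1) h.defect_sb_one
  obtain ⟨Z, cZ, hZ⟩ := h.exists_cmx (hm.le hm.z_mem) hm.z_mul (h.mc_z hm).1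
  rw [(h.mc_z hm).2] at cA cZ
  rw [h.rank_sb_one] at cA
  have h0 : ((fs B).filter fun χ => blockHeight 2 B χ.1 = 0).card = 4 := by
    rw [Finset.filter_congr hh, t.card_S]
  have h1 := fun s (hs : s ∈ T) =>
    have f := h.mc_T hm (hT.mem s hs) (hT.unf s hs)
    tp_split (Finset.filter_subset (fun χ => blockHeight 2 B χ.1 = 0) (fs B))
      (f := fun χ => dn 2 s (sb 2 P e s) χ * conj (dn 2 s (sb 2 P e s) χ))
      (fun χ _ => (f.1.isIntegral_dn χ.2.isGen).mul (isIntegral_conj (f.1.isIntegral_dn χ.2.isGen)))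
      (fun χ _ => TP.mul_conj (f.1.dn_mem_CM χ.2.isGen)) (fun χ hχ => by
        rw [Finset.mem_filter, mem_fs] at hχ
        rw [← f.1.cm_eq]
        exact h.cm_ne_zero_of_height (hT.mem s hs) hχ.1 hχ.2 hχ.1 hχ.2)
      (by rw [h.sum_dn_self (hT.mem s hs) f.1, h0, Nat.cast_ofNat, f.2, Nat.cast_ofNat])
  have h2 : ∀ χ ∈ fs B, blockHeight 2 B χ.1 = 0 → ∀ u, u ∉ zW a n →
      dn 2 (u : G) (sb 2 P e u) χ * conj (dn 2 (u : G) (sb 2 P e u) χ) = 1 := fun χ hχ e u hu => by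
    obtain ⟨k, -, δ, e1, e2⟩ := t.type_S hx hχ ((hh χ hχ).1 e)
    rw [hd u hu χ (mem_fs.1 hχ), hc.sum_S hu e2, map_mul, map_mul, mul_mul_mul_comm, (hε u).1,
      mul_mul_mul_comm, ev_mul_conj]
    rcases e1 with rfl | rfl <;> simp
  have h3 : ∀ χ ∈ fs B, blockHeight 2 B χ.1 ≠ 0 → ∀ s ∈ T, dn 2 s (sb 2 P e s) χ = 0 :=
    fun χ hχ e s hs => by simpa using (h1 s hs).2 χ hχ fun e' => e (Finset.mem_filter.1 e').2
  have h4 : ∀ χ ∈ fs B, (2 : ℂ) ^ (n + 2) = A χ χ + Z χ χ + ∑ u : zpowers a with u ∉ zW a n,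
      dn 2 (u : G) (sb 2 P e u) χ * conj (dn 2 (u : G) (sb 2 P e u) χ) +
      2 ^ n * ∑ t ∈ T, dn 2 t (sb 2 P e t) χ * conj (dn 2 t (sb 2 P e t) χ) := fun χ hχ => by
    simpa [h.st_one χ.2.isClassFunction, blockPart_irr_of_mem (mem_fs.1 hχ), hA, hZ,
      χ.2.classInner_self] using
      h.star (η := fun _ => 1) (χ := χ) hm hn hT (fun _ _ _ => rfl) (mem_fs.1 hχ)
  have h5 : ∑ u : zpowers a with u ∉ zW a n, (1 : ℂ) = 2 ^ (n + 1) - 2 := by
    rw [hc.sum_U, Finset.sum_const, Finset.card_univ, Fintype.card_eq_nat_card, hc.card]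
    simp [sub_sub, one_add_one_eq_two]
  obtain ⟨T₁, T₂, tn, h6⟩ := Blk.exists_tn (a := T.card) cA cZ hn h0 (fun χ hχ e => by
      have := h4 χ hχ
      rw [Finset.sum_congr rfl fun u hu => h2 χ hχ e u (Finset.mem_filter.1 hu).2, h5,
        Finset.sum_congr rfl fun s hs => (h1 s hs).1 χ (Finset.mem_filter.2 ⟨hχ, e⟩),
        Finset.sum_const, nsmul_eq_mul] at this
      apply Int.cast_injective (α := ℂ)
      push_cast
      linear_combination -this)
    (Q := fun χ => ∀ u, u ∉ zW a n → dn 2 (u : G) (sb 2 P e u) χ.1 = 0) (fun χ hχ e0 => by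
      have e1 := h4 χ hχ
      obtain ⟨k, δ, e2, e3⟩ := t.type_T hx hχ (not_not.1 ((hh χ hχ).not.1 e0))
      rw [Finset.sum_eq_zero (s := T) fun s hs => by rw [h3 χ hχ e0 s hs, zero_mul]] at e1
      rcases e2 with rfl | ⟨e2, e4⟩
      · have e4 : ∀ u, u ∉ zW a n → dn 2 (u : G) (sb 2 P e u) χ.1 = 0 := fun u hu => by
          simp [hd u hu χ (mem_fs.1 hχ), hc.sum_of_const hu e3]
        rw [Finset.sum_eq_zero fun u hu => by rw [e4 u (Finset.mem_filter.1 hu).2, zero_mul]] at e1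
        exact .inr ⟨Int.cast_injective (α := ℂ) (by push_cast; linear_combination -e1), e4⟩
      rw [Finset.sum_congr rfl fun u hu => show _ = (ev k u + ev (gW (gam hm) k) u) *
          conj (ev k u + ev (gW (gam hm) k) u) by
        have hu := (Finset.mem_filter.1 hu).2
        rw [hd u hu χ (mem_fs.1 hχ), hc.sum_T hu e2 e3, map_mul, map_mul, mul_mul_mul_comm, (hε u).1,
          mul_mul_mul_comm, ev_gW]
        rcases e4 with rfl | rfl <;> simp, hc.sum_U] at e1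
      simp only [map_add, add_mul, mul_add, Finset.sum_add_distrib, hc.sum_ev, if_true, if_neg e2,
        if_neg e2.symm, ev_one, map_one] at e1
      simp only [ev_gW, hc.γz, ev_mul_conj] at e1
      exact .inl (Int.cast_injective (α := ℂ) (by push_cast; linear_combination -e1))) (by
      have := h.card_eq_sum
      rw [h.mc_sum hm hn hT (F := fun u => blockRank 2 (sb 2 P e u)) fun u v e => by
          simp only [h.rank_of_fc e], h.rank_sb_one, Finset.sum_congr rfl fun u hu => by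
          rw [(h.mc_U' hm hn (Finset.mem_filter.1 hu).2).2.1.rank], Nat.cast_one, h5,
        Finset.sum_congr rfl fun s hs => by
          rw [(h.mc_T hm (hT.mem s hs) (hT.unf s hs)).1.rank]] at this
      apply Nat.cast_injective (R := ℂ)
      simp only [Finset.sum_const, nsmul_eq_mul] at this
      push_cast at this ⊢
      linear_combination this)
  refine ⟨_, T₁, T₂, A, Z, tn, hA, hZ, fun η e1 e2 e3 e4 => ?_⟩
  have h7 := fun (χ ψ : IrrCharacter G) => (h.isGen_st (η := fun u => η u) (fun u v => e1 u v) e2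
    χ.2.isGen).classInner_eq_int ψ.2.isGen
  refine ⟨fun χ hχ => (h6 χ hχ).elim id fun e5 => tn.ht_of_dvd hχ fun ψ hψ => ?_,
    fun e5 χ hχ => ?_⟩
  · obtain ⟨k, hk⟩ := h7 χ ψ
    obtain ⟨e6, e7⟩ := (tn.un χ).1 (.inr hχ)
    have := h.star (χ := χ) hm hn hT e1 (mem_fs.1 (Finset.mem_filter.1 hψ).1)
    rw [hk, e3, e4, hA, Finset.sum_eq_zero fun u hu => by
      rw [e5 u (Finset.mem_filter.1 hu).2, zero_mul, mul_zero], Finset.sum_eq_zero fun s hs => by
      rw [h3 χ e6 e7 s hs, zero_mul, mul_zero]] at this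
    exact ⟨k, Int.cast_injective (α := ℂ) (by push_cast; linear_combination -this / 4)⟩
  obtain ⟨k, hk⟩ := h7 χ χ
  obtain ⟨e6, e7⟩ := Finset.mem_filter.1 hχ
  have := h.star (χ := χ) hm hn hT e1 (mem_fs.1 e6)
  rw [hk, e3, e4, hA, e5, Finset.sum_empty, Finset.sum_congr rfl fun u hu => by
    rw [h2 χ e6 e7 u (Finset.mem_filter.1 hu).2, mul_one], hc.sum_U] at this
  have e8 : η (aW a ^ 2 ^ n : zpowers a) = 0 := e4
  exact ⟨k, by push_cast [-SubmonoidClass.coe_pow]; linear_combination this - e3 - e8⟩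

section Eta
omit [Fintype P] [Fintype (zpowers a)] [∀ u : G, Fintype (Ce1 u)]

theorem isGen_ix2 {K : Subgroup G} (h : Transfer.Ix2 P K) {s : G} (hs : s ∈ P) (hs' : s ∉ K)
    {θ : K → ℂ} (hθ : IsGeneralizedCharacter K θ) : IsGeneralizedCharacter P
      fun u : P => extendByZero K θ u + extendByZero K θ (s * u * s⁻¹) := by
  convert isGen_indHom (Subgroup.inclusion_injective h.le) hθ using 1
  funext u
  have h1 : ∀ x : P, extendByZero (Subgroup.inclusion h.le).range (fun x =>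
      θ ((MonoidHom.ofInjective (Subgroup.inclusion_injective h.le)).symm x)) x =
        extendByZero K θ x := fun x => by
    by_cases hx : (x : G) ∈ K
    · exact (extendByZero_coe _ _
        (MonoidHom.ofInjective (Subgroup.inclusion_injective h.le) ⟨x, hx⟩)).trans
        (by rw [MulEquiv.symm_apply_apply, extendByZero_of_mem _ _ hx])
    · rw [extendByZero_of_not_mem _ _ hx, extendByZero_of_not_mem]
      rintro ⟨y, rfl⟩
      exact hx y.2
  have h2 : ∀ k ∈ K, ∀ g, extendByZero K θ (k * g * k⁻¹) = extendByZero K θ g := fun k hk g => by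
    by_cases hg : g ∈ K
    · exact (extendByZero_coe K θ (⟨k, hk⟩ * ⟨g, hg⟩ * ⟨k, hk⟩⁻¹)).trans
        ((hθ.isClassFunction.apply_conj _ _).trans (extendByZero_of_mem _ _ hg).symm)
    · rw [extendByZero_of_not_mem _ _ hg, extendByZero_of_not_mem]
      rwa [K.mul_mem_cancel_right (inv_mem hk), K.mul_mem_cancel_left hk]
  have h3 : ∀ x : P, extendByZero K θ (x * u * (x : G)⁻¹) +
      extendByZero K θ (x * s * u * (x * s)⁻¹) =
      extendByZero K θ u + extendByZero K θ (s * u * s⁻¹) := fun x => by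
    rw [show x * s * u * (x * s)⁻¹ = x * (s * u * s⁻¹) * (x : G)⁻¹ by group]
    obtain hx | ⟨k, hk, hx⟩ := h.cases hs hs' x.2
    · rw [h2 _ hx, h2 _ hx]
    · rw [hx, show k * s * u * (k * s)⁻¹ = k * (s * u * s⁻¹) * k⁻¹ by group, h2 _ hk,
        show k * s * (s * u * s⁻¹) * (k * s)⁻¹ = k * (s * s) * u * (k * (s * s))⁻¹ by group,
        h2 _ (mul_mem hk (h.sq_mem hs)), add_comm]
  have h4 := Finset.sum_congr (rfl : (Finset.univ : Finset P) = _) fun x _ => h3 x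
  rw [Finset.sum_add_distrib, ← Equiv.sum_comp (Equiv.mulRight (⟨s, hs⟩ : P)), Finset.sum_const,
    Finset.card_univ, Fintype.card_eq_nat_card, h.card] at h4
  rw [indHom_eq (Subgroup.inclusion_injective h.le), indFun_apply',
    ← Nat.card_congr (MonoidHom.ofInjective (Subgroup.inclusion_injective h.le)).toEquiv,
    ← Equiv.sum_comp (Equiv.mulRight (⟨s, hs⟩ : P)), eq_inv_mul_iff_mul_eq₀ (card_ne_zero' K)]
  simp only [h1, Equiv.coe_mulRight, Subgroup.coe_mul, Subgroup.coe_inv, nsmul_eq_mul] at h4 ⊢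
  push_cast at h4
  linear_combination -h4 / 2

theorem mc_exists_eta [Fintype (zpowers a)] (hm : MC P a b n) (hn : 1 ≤ n) : ∃ η : G → ℂ,
    IsGeneralizedCharacter P (fun u => η u) ∧ (∀ u, u ∉ zpowers a → η u = 0) ∧ η 1 = 2 ∧
      η (a ^ 2 ^ n) = -2 ∧ (∀ u, u * u = a ^ 2 ^ n → η u = 0) ∧ ∑ u : zpowers a, η u = 0 := by
  have hc := mc_cw hm hn
  have hζ := Complex.isPrimitiveRoot_exp (2 ^ (n + 1)) (by positivity)
  obtain ⟨l, hl⟩ := hc.exists_ev hζ.pow_eq_one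
  have h1 : ev l (aW a ^ 2 ^ n) = -1 := (ev_pow l _ _).trans ((hc.ev_z l).resolve_left
    (hl ▸ hζ.pow_ne_one_of_pos_of_lt (by positivity) (Nat.pow_lt_pow_right one_lt_two n.lt_succ_self)))
  have h2 : ∀ u : zpowers a, extendByZero _ (ev l) u + extendByZero _ (ev l) (b * u * b⁻¹) =
      ev l u + ev l (gam hm u) := fun u => by rw [← coe_gam hm, extendByZero_coe, extendByZero_coe]
  have h3 : ∀ u, u ∉ zpowers a →
      extendByZero _ (ev l) u + extendByZero _ (ev l) (b * u * b⁻¹) = 0 := fun u hu => by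
    rw [extendByZero_of_not_mem _ _ hu, extendByZero_of_not_mem, add_zero]
    exact fun e => hu ((Subgroup.mem_normalizer_iff.1 (hm.a2.nn hm.mem_b) u).2 e)
  have h4 : ∀ k : LW (zpowers a), ev k (aW a ^ 2 ^ n) = -1 → ∑ u, ev k u = 0 := fun k e => by
    simpa [show k ≠ 0 by rintro rfl; norm_num at e] using hc.sum_ev k 0
  refine ⟨_, isGen_ix2 hm.a2.toIx2 hm.mem_b hm.notMem (isIrr_ev l).isGen, h3,
    (h2 1).trans (by simp [one_add_one_eq_two]), (h2 (aW a ^ 2 ^ n)).trans ?_, fun u e => ?_, ?_⟩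
  · rw [hc.γz, h1]; norm_num
  · by_cases hu : u ∈ zpowers a
    swap
    · exact h3 u hu
    lift u to zpowers a using hu
    have e1 : gam hm u = u⁻¹ := Subtype.ext (hm.inv4 u.2 (by
      rw [show 4 = 2 * 2 from rfl, pow_mul, sq (u : G), e, sq, hm.z_mul]))
    rw [← (Subtype.ext e : u * u = aW a ^ 2 ^ n), ev_mul] at h1
    rw [h2, e1, ev_inv]
    field_simp [ev_ne_zero]
    linear_combination h1
  · rw [Finset.sum_congr rfl fun u _ => h2 u, Finset.sum_add_distrib, h4 l h1, zero_add]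
    exact h4 (gW (gam hm) l) (by rw [ev_gW, hc.γz, h1])

theorem mc_sq_of_conj (hm : MC P a b n) {v : G} (h : u * u = a ^ 2 ^ n) (hc : IsConj u v)
    (hv : v ∈ P) : v * v = a ^ 2 ^ n := by
  obtain ⟨x, rfl⟩ := isConj_iff.1 hc
  refine (hm.inv_eq (hm.a2.sq_mem hv) ?_).resolve_left ?_
  · rw [conj_mul, conj_mul, h, hm.z_mul, conj_eq_one_iff]
  · rw [conj_mul, h, conj_eq_one_iff]; exact mc_z_ne hm

theorem MP.stable_of (h : MP 2 B P e) (hm : MC P a b n)
    (h1 : IsGeneralizedCharacter P fun u => η u) (h3 : ∀ u ∈ P, u ≠ 1 → u * u = 1 → η u = 0)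
    (h4 : ∀ u ∈ P, u * u = a ^ 2 ^ n → η u = 2) (u v : G) (huv : FC 2 P e u v) : η v = η u := by
  have h2 : ∀ u ∈ P, u ∉ zpowers a → ∀ v, IsConj u v → v ∈ P → η v = η u := by
    rintro u hu hu' v hc hv
    have e1 : u ≠ 1 := fun e => hu' (e ▸ one_mem _)
    rcases hm.sq_out hu hu' with e | e
    · obtain ⟨x, rfl⟩ := isConj_iff.1 hc
      rw [h3 u hu e1 e, h3 _ hv (by simpa using e1) (by rw [conj_mul, e, conj_eq_one_iff])]
    · rw [h4 u hu e, h4 v hv (mc_sq_of_conj hm e hc hv)]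
  by_cases hu : u ∈ zpowers a
  · by_cases hv : v ∈ zpowers a
    · rcases (h.mc_fc hm hu hv).1 huv with rfl | rfl
      exacts [rfl, h1.isClassFunction.apply_conj ⟨u, huv.left⟩ ⟨b, hm.mem_b⟩]
    · exact (h2 v huv.right hv u huv.isConj.symm huv.left).symm
  · exact h2 u huv.left hu v huv.isConj huv.right

end Eta

end Cfsg.Agent.Blk
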