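import Cfsg.Agent.Lib.Block.Ord

/-!
Integral vectors attached to blocks with a dihedral, semidihedral or quaternion defect group.
-/

set_option autoImplicit false

namespace Cfsg.Agent.Blk
attribute [local instance] _root_.Classical.propDecidable

section Vec
variable {ι : Type*} {s : Finset ι} {y v w d : ι → ℤ} {α β α' β' x : ι}

/-- `y` is a difference of two basis vectors -/
structure Dif (s : Finset ι) (y : ι → ℤ) (α β : ι) : Prop where
  m1 : α ∈ s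
  m2 : β ∈ s
  ne : α ≠ β
  eq : ∀ x ∈ s, y x = (if x = α then 1 else 0) - if x = β then 1 else 0

theorem Dif.sum {R : Type*} [Ring R] (h : Dif s y α β) (f : ι → R) :
    ∑ x ∈ s, y x * f x = f α - f β := by
  rw [Finset.sum_congr rfl fun x hx => by rw [h.eq x hx]]
  simp [sub_mul, Finset.sum_sub_distrib, h.m1, h.m2]

theorem Dif.sum' (h : Dif s y α β) (f : ι → ℤ) : ∑ x ∈ s, y x * f x = f α - f β := h.sum f

theorem Dif.left (h : Dif s y α β) : y α = 1 := by simp [h.eq α h.m1, h.ne]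

theorem Dif.right (h : Dif s y α β) : y β = -1 := by simp [h.eq β h.m2, h.ne.symm]

theorem Dif.cases (h : Dif s y α β) (hx : x ∈ s) (h0 : y x ≠ 0) : x = α ∨ x = β := by
  by_contra h1
  rw [not_or] at h1
  simp [h.eq x hx, h1] at h0

theorem Dif.congr (h : Dif s y α β) {f : ι → ℤ} (h1 : ∑ x ∈ s, y x * f x = 0) (hx : x ∈ s)
    (h0 : y x ≠ 0) : f α = f x ∧ f β = f x := by
  rw [h.sum'] at h1
  rcases h.cases hx h0 with rfl | rfl <;> omega

theorem Dif.disj {y' : ι → ℤ} (h : Dif s y α β) (h' : Dif s y' α' β')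
    (h1 : ∑ x ∈ s, y' x * y x = 0) (hx : x ∈ s) (h0 : y' x ≠ 0) : y x = 0 := by
  by_contra h2
  obtain ⟨h3, h4⟩ := h'.congr h1 hx h0
  rcases h.cases h'.m1 (h3 ▸ h2) with rfl | rfl <;> rcases h.cases h'.m2 (h4 ▸ h2) with rfl | rfl
  · exact h'.ne rfl
  · have := h.left; have := h.right; omega
  · have := h.left; have := h.right; omega
  · exact h'.ne rfl

theorem Dif.tri (h : Dif s y α β) (hx : x ∈ s) : y x = 0 ∨ y x = 1 ∨ y x = -1 := by
  by_cases h0 : y x = 0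
  · exact .inl h0
  · rcases h.cases hx h0 with rfl | rfl
    exacts [.inr (.inl h.left), .inr (.inr h.right)]

theorem exists_of_sum_sq_one (h : ∑ x ∈ s, y x ^ 2 = 1) :
    ∃ α ∈ s, (y α = 1 ∨ y α = -1) ∧ ∀ x ∈ s, x ≠ α → y x = 0 := by
  obtain ⟨α, h1, h2⟩ := Finset.exists_ne_zero_of_sum_ne_zero (h.trans_ne one_ne_zero)
  rw [← Finset.add_sum_erase _ _ h1] at h
  have h3 : 0 ≤ ∑ x ∈ s.erase α, y x ^ 2 := Finset.sum_nonneg fun _ _ => sq_nonneg _
  have h4 : 0 < y α ^ 2 := by positivity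
  refine ⟨α, h1, sq_eq_one_iff.1 (by omega), fun x hx h5 => pow_eq_zero_iff two_ne_zero |>.1 ?_⟩
  exact (Finset.sum_eq_zero_iff_of_nonneg fun _ _ => sq_nonneg _).1 (by omega) x
    (Finset.mem_erase.2 ⟨h5, hx⟩)

theorem exists_dif (h : ∑ x ∈ s, y x ^ 2 = 2) (hd : ∀ x ∈ s, 0 < d x)
    (h0 : ∑ x ∈ s, y x * d x = 0) : ∃ α β, Dif s y α β := by
  obtain ⟨α, h1, h2⟩ := Finset.exists_ne_zero_of_sum_ne_zero (h.trans_ne two_ne_zero)
  rw [← Finset.add_sum_erase _ _ h1] at h h0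
  have h3 : 0 ≤ ∑ x ∈ s.erase α, y x ^ 2 := Finset.sum_nonneg fun _ _ => sq_nonneg _
  have h4 : y α = 1 ∨ y α = -1 := by
    have : y α ≠ 0 := fun h => by simp [h] at h2
    have : y α ≤ 1 := by nlinarith
    have : -1 ≤ y α := by nlinarith
    omega
  obtain ⟨β, h5, h6, h7⟩ := exists_of_sum_sq_one (s := s.erase α) (y := y) (by
    rcases h4 with h4 | h4 <;> rw [h4] at h <;> omega)
  rw [Finset.sum_eq_single_of_mem β h5 fun x hx h8 => by rw [h7 x hx h8, zero_mul]] at h0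
  obtain ⟨h8, h9⟩ := Finset.mem_erase.1 h5
  have := hd α h1
  have := hd β h9
  have h10 : ∀ x ∈ s, x ≠ α → x ≠ β → y x = 0 := fun x hx a b =>
    h7 x (Finset.mem_erase.2 ⟨a, hx⟩) b
  rcases h4 with h4 | h4 <;> rcases h6 with h6 | h6 <;> rw [h4, h6] at h0
  · omega
  · refine ⟨α, β, h1, h9, h8.symm, fun x hx => ?_⟩
    split_ifs with a b b <;> simp_all
  · refine ⟨β, α, h9, h1, h8, fun x hx => ?_⟩
    split_ifs with a b b <;> simp_all
  · omega

theorem sign_of_four (h : ∑ x ∈ s, v x ^ 2 = 4) (hd : ∀ x ∈ s, 0 < d x)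
    (h0 : ∑ x ∈ s, v x * d x = 0) (hx : x ∈ s) (h1 : v x ≠ 0) : v x = 1 ∨ v x = -1 := by
  by_contra h2
  rw [← Finset.add_sum_erase _ _ hx] at h h0
  have h3 : 0 ≤ ∑ x ∈ s.erase x, v x ^ 2 := Finset.sum_nonneg fun _ _ => sq_nonneg _
  have h4 : 4 ≤ v x ^ 2 := by
    rcases (by omega : v x ≤ -2 ∨ 2 ≤ v x) with h | h <;> nlinarith
  have h5 := (Finset.sum_eq_zero_iff_of_nonneg (s := s.erase x) fun t _ => sq_nonneg (v t)).1
    (by omega)
  rw [Finset.sum_eq_zero fun t ht => by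
    rw [(pow_eq_zero_iff two_ne_zero).1 (h5 t ht), zero_mul], add_zero] at h0
  exact mul_ne_zero h1 (hd x hx).ne' h0

theorem card_of_sign (h : ∀ x ∈ s, v x ≠ 0 → v x = 1 ∨ v x = -1) :
    ((s.filter fun x => v x ≠ 0).card : ℤ) = ∑ x ∈ s, v x ^ 2 := by
  rw [Finset.card_filter, Nat.cast_sum]
  refine Finset.sum_congr rfl fun x hx => ?_
  split_ifs with h1
  · rcases h x hx h1 with h | h <;> simp [h]
  · simp [not_not.1 h1]

theorem three_cases (hv : ∀ x ∈ s, v x ≠ 0 → v x = 1 ∨ v x = -1) (h : ∑ x ∈ s, w x ^ 2 = 3)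
    (h2 : ∑ x ∈ s, v x * w x = 2) : (∀ x ∈ s, v x ≠ 0 → w x = 0 ∨ w x = v x) ∧
      ∃ ψ ∈ s, v ψ = 0 ∧ (w ψ = 1 ∨ w ψ = -1) ∧ ∀ x ∈ s, v x = 0 → x ≠ ψ → w x = 0 := by
  have h3 : ∑ x ∈ s, w x * (w x - v x) = 1 := by
    simp only [mul_sub, ← sq, Finset.sum_sub_distrib, h, mul_comm (w _) (v _), h2]; norm_num
  have h4 : ∀ x ∈ s, 0 ≤ w x * (w x - v x) := fun x hx => by
    by_cases h0 : v x = 0
    · rw [h0, sub_zero]; exact mul_self_nonneg _
    · rcases hv x hx h0 with h | h <;> rw [h] <;> rcases (by omega : w x ≤ -1 ∨ w x = 0 ∨ 1 ≤ w x)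
        with h | h | h <;> nlinarith
  have h5 : ∀ x ∈ s, v x ≠ 0 → w x = 0 ∨ w x = v x := fun x hx h0 => by
    have h6 := Finset.single_le_sum h4 hx
    by_contra h7
    rcases hv x hx h0 with h | h <;> rw [h] at h6 h7 <;>
      rcases (by omega : w x ≤ -2 ∨ w x = -1 ∨ w x = 1 ∨ 2 ≤ w x) with h | h | h | h <;>
      first | omega | nlinarith
  refine ⟨h5, ?_⟩
  obtain ⟨ψ, h6, h7, h8⟩ := exists_of_sum_sq_one (s := s.filter fun x => v x = 0) (y := w) (by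
    rw [← h3, Finset.sum_filter]
    refine Finset.sum_congr rfl fun x hx => ?_
    split_ifs with h0
    · rw [h0, sub_zero, sq]
    · rcases h5 x hx h0 with h | h <;> simp [h])
  exact ⟨ψ, (Finset.mem_filter.1 h6).1, (Finset.mem_filter.1 h6).2, h7,
    fun x hx h0 => h8 x (Finset.mem_filter.2 ⟨hx, h0⟩)⟩

end Vec

section TC
variable {Λ ι : Type*} [AddCommGroup Λ] {g : Λ →+ Λ} {ν k l m l₁ l₂ l₃ l₄ : Λ} {E : AddSubgroup Λ}
  {s : Finset ι} {c : ι → Λ → ℤ} {d : ι → ℤ} {x α β : ι}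

/-- conjugate characters -/
def Sim (g : Λ →+ Λ) (l m : Λ) : Prop := l = m ∨ g l = m

/-- inner product of orbit sums -/
noncomputable def br (g : Λ →+ Λ) (l m : Λ) : ℤ :=
  (if l = m then 1 else 0) + if g l = m then 1 else 0

theorem Sim.refl (l : Λ) : Sim g l l := .inl rfl

theorem br_nf (h : g l ≠ l) (m : Λ) : br g l m = if Sim g l m then 1 else 0 := by
  rw [br, Sim]
  split_ifs with h1 h2 h3 <;> simp_all

/-- the characters of a cyclic maximal subgroup -/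
structure TG (g : Λ →+ Λ) (ν : Λ) (E : AddSubgroup Λ) : Prop where
  gg : ∀ l, g (g l) = l
  fix : ∀ l, g l = l ↔ l = 0 ∨ l = ν
  ne : ν ≠ 0
  two : ν + ν = 0
  mem : ν ∈ E
  par : ∀ l, l - g l ∈ E
  inv : ∀ l, g l + l = 0 ∨ g l + l = ν
  ix : ∀ l m, l ∉ E → m ∉ E → l - m ∈ E
  three : ∀ l : Λ, l + l + l = 0 → l = 0

namespace TG
variable (h : TG g ν E)
include h

theorem gν : g ν = ν := (h.fix ν).2 (.inr rfl)

theorem symm (h1 : Sim g l m) : Sim g m l :=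
  h1.imp Eq.symm fun h2 => by rw [← h2, h.gg]

theorem comm : Sim g l m ↔ Sim g m l := ⟨h.symm, h.symm⟩

theorem trans (h1 : Sim g l m) (h2 : Sim g m k) : Sim g l k := by
  rcases h1 with rfl | rfl
  · exact h2
  · exact h2.symm.imp (fun h3 => by rw [← h3, h.gg]) id

theorem nf_g (h1 : g l ≠ l) : g (g l) ≠ g l := by rw [h.gg]; exact h1.symm

theorem nf_add (h1 : g l ≠ l) : g (l + ν) ≠ l + ν := by simpa [h.gν] using h1

theorem nf_of (h1 : l ∉ E) : g l ≠ l := fun h2 => by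
  rcases (h.fix l).1 h2 with rfl | rfl
  exacts [h1 E.zero_mem, h1 h.mem]

theorem add_add (l : Λ) : l + ν + ν = l := by rw [add_assoc, h.two, add_zero]

theorem sim_add : Sim g (l + ν) m ↔ Sim g l (m + ν) := by
  simp only [Sim, map_add, h.gν, ← eq_sub_iff_add_eq, sub_eq_add_neg, neg_eq_of_add_eq_zero_left h.two]

theorem sim_add' : Sim g (l + ν) (m + ν) ↔ Sim g l m := by rw [h.sim_add, h.add_add]

theorem par_sim (h1 : Sim g l m) : l - m ∈ E := by
  rcases h1 with rfl | rfl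
  exacts [by simp, h.par l]

theorem par_add (l : Λ) : l - (l + ν) ∈ E := by simpa using h.mem

theorem br_zero (h1 : g l ≠ l) : br g l 0 = 0 ∧ br g l ν = 0 ∧ br g 0 l = 0 ∧ br g ν l = 0 := by
  have h2 := (h.fix l).not.1 h1
  have h3 := (h.fix _).not.1 (h.nf_g h1)
  rw [not_or] at h2 h3
  simp [br, h2, h3, h.gν, Ne.symm h2.1, Ne.symm h2.2]

theorem br_fix : br g 0 0 = 2 ∧ br g ν ν = 2 ∧ br g 0 ν = 0 ∧ br g ν 0 = 0 := by
  simp [br, h.gν, h.ne, h.ne.symm]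

theorem sim_of_self (h1 : Sim g l (l + ν)) (h2 : Sim g m (m + ν)) : Sim g l m := by
  replace h1 := h1.resolve_left (by simpa using h.ne)
  replace h2 := h2.resolve_left (by simpa using h.ne)
  rcases (h.fix (m - l)).1 (by rw [map_sub, h1, h2]; abel) with h3 | h3
  · exact .inl (sub_eq_zero.1 h3).symm
  · exact .inr (by rw [h1, ← h3]; abel)

end TG

/-- the coefficients of generalized decomposition numbers -/
structure TC (g : Λ →+ Λ) (ν : Λ) (E : AddSubgroup Λ) (s : Finset ι) (c : ι → Λ → ℤ) (d : ι → ℤ) :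
    Prop extends TG g ν E where
  cg : ∀ x ∈ s, ∀ l, c x (g l) = c x l
  gram : ∀ l₁ l₂ l₃ l₄, l₁ - l₂ ∈ E → l₃ - l₄ ∈ E →
    ∑ x ∈ s, (c x l₁ - c x l₂) * (c x l₃ - c x l₄) =
      br g l₁ l₃ - br g l₁ l₄ - br g l₂ l₃ + br g l₂ l₄
  pos : ∀ x ∈ s, 0 < d x
  deg : ∀ l₁ l₂, l₁ - l₂ ∈ E → ∑ x ∈ s, (c x l₁ - c x l₂) * d x = 0

namespace TC
variable (h : TC g ν E s c d)
include h

theorem c_sim (hx : x ∈ s) (h1 : Sim g l m) : c x l = c x m := by
  rcases h1 with rfl | rfl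
  exacts [rfl, (h.cg x hx l).symm]

theorem g_vv : ∑ x ∈ s, (c x ν - c x 0) ^ 2 = 4 := by
  simp only [sq]
  rw [h.gram _ _ _ _ (by simpa using h.mem) (by simpa using h.mem)]
  simp [h.br_fix]

theorem sign (hx : x ∈ s) (h1 : c x ν - c x 0 ≠ 0) : c x ν - c x 0 = 1 ∨ c x ν - c x 0 = -1 :=
  sign_of_four (v := fun x => c x ν - c x 0) h.g_vv h.pos (h.deg _ _ (by simpa using h.mem)) hx h1

theorem card_S : (s.filter fun x => c x ν - c x 0 ≠ 0).card = 4 := by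
  exact_mod_cast (card_of_sign fun _ => h.sign).trans h.g_vv

theorem g_dd (h1 : g l₁ ≠ l₁) (h2 : g l₂ ≠ l₂) (h3 : l₁ - l₂ ∈ E) (h4 : l₃ - l₄ ∈ E) :
    ∑ x ∈ s, (c x l₁ - c x l₂) * (c x l₃ - c x l₄) =
      (if Sim g l₁ l₃ then 1 else 0) - (if Sim g l₁ l₄ then 1 else 0) -
      (if Sim g l₂ l₃ then 1 else 0) + if Sim g l₂ l₄ then 1 else 0 := by
  rw [h.gram _ _ _ _ h3 h4, br_nf h1, br_nf h1, br_nf h2, br_nf h2]

theorem g_ww (h1 : g l ≠ l) (h2 : g m ≠ m) (h3 : l ∈ E) (h4 : m ∈ E) :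
    ∑ x ∈ s, (c x l - c x 0) * (c x m - c x 0) = 2 + if Sim g l m then 1 else 0 := by
  rw [h.gram _ _ _ _ (by simpa) (by simpa), br_nf h1]
  simp [h.br_fix, h.br_zero h1, h.br_zero h2, add_comm]

theorem g_dw (h1 : g l₁ ≠ l₁) (h2 : g l₂ ≠ l₂) (h3 : l₁ - l₂ ∈ E) (h4 : m ∈ E) :
    ∑ x ∈ s, (c x l₁ - c x l₂) * (c x m - c x 0) =
      (if Sim g l₁ m then 1 else 0) - if Sim g l₂ m then 1 else 0 := by
  rw [h.gram _ _ _ _ h3 (by simpa), br_nf h1 m, br_nf h2 m]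
  simp [h.br_zero h1, h.br_zero h2]

theorem g_dv (h1 : g l₁ ≠ l₁) (h2 : g l₂ ≠ l₂) (h3 : l₁ - l₂ ∈ E) :
    ∑ x ∈ s, (c x l₁ - c x l₂) * (c x ν - c x 0) = 0 := by
  rw [h.gram _ _ _ _ h3 (by simpa using h.mem)]
  simp [h.br_zero h1, h.br_zero h2]

theorem three_w (h1 : g l ≠ l) (h3 : l ∈ E) :
    (∀ x ∈ s, c x ν - c x 0 ≠ 0 → c x l - c x 0 = 0 ∨ c x l - c x 0 = c x ν - c x 0) ∧
      ∃ ψ ∈ s, c ψ ν - c ψ 0 = 0 ∧ (c ψ l - c ψ 0 = 1 ∨ c ψ l - c ψ 0 = -1) ∧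
        ∀ x ∈ s, c x ν - c x 0 = 0 → x ≠ ψ → c x l - c x 0 = 0 :=
  three_cases (fun _ => h.sign) (by simpa [sq, Sim.refl] using h.g_ww h1 h1 h3 h3) (by
    rw [h.gram _ _ _ _ (by simpa using h.mem) (by simpa)]
    simp [h.br_fix, h.br_zero h1])

theorem dif (h1 : g l ≠ l) (h2 : g m ≠ m) (h3 : l - m ∈ E) (h4 : ¬ Sim g l m) :
    ∃ α β, Dif s (fun x => c x l - c x m) α β :=
  exists_dif (by simpa [sq, Sim.refl, h4, h.comm (l := m)] using h.g_dd h1 h2 h3 h3) h.pos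
    (h.deg _ _ h3)

theorem not_four {T : Finset ι} (h1 : T ⊆ s) (h2 : T.card = 4) {ε : ℤ} (h0 : ε ≠ 0)
    (h3 : ∀ x ∈ T, c x ν - c x 0 = ε) : False := by
  have h4 : T = s.filter fun x => c x ν - c x 0 ≠ 0 := Finset.eq_of_subset_of_card_le
    (fun x hx => Finset.mem_filter.2 ⟨h1 hx, (h3 x hx).trans_ne h0⟩) (by rw [h.card_S, h2])
  have h5 := h.deg ν 0 (by simpa using h.mem)
  rw [← Finset.sum_filter_of_ne fun x _ => left_ne_zero_of_mul, ← h4,
    Finset.sum_congr rfl fun x hx => by rw [h3 x hx], ← Finset.mul_sum] at h5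
  exact mul_ne_zero h0 (Finset.sum_pos (fun x hx => h.pos x (h1 hx))
    (Finset.card_pos.1 (by omega))).ne' h5

theorem not_sim (hx : x ∈ s) (h1 : c x l - c x m ≠ 0) : ¬ Sim g l m := fun h2 =>
  h1 (by rw [h.c_sim hx h2, sub_self])

theorem v_eq (h1 : g l ≠ l) (h2 : g m ≠ m) (h3 : l - m ∈ E) {x' : ι} (hx : x ∈ s) (hx' : x' ∈ s)
    (h4 : c x l - c x m ≠ 0) (h5 : c x' l - c x' m ≠ 0) : c x ν - c x 0 = c x' ν - c x' 0 := by
  obtain ⟨α, β, h6⟩ := h.dif h1 h2 h3 (h.not_sim hx h4)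
  exact (h6.congr (h.g_dv h1 h2 h3) hx h4).1.symm.trans (h6.congr (h.g_dv h1 h2 h3) hx' h5).1

theorem disj (h1 : g l ≠ l) (h2 : g m ≠ m) (h5 : ¬ Sim g l m) (h6 : ¬ Sim g l (m + ν)) (hx : x ∈ s)
    (h8 : c x l - c x (l + ν) ≠ 0) : c x m - c x (m + ν) = 0 := by
  by_contra h0
  obtain ⟨α, β, h3⟩ := h.dif h1 (h.nf_add h1) (h.par_add l) (h.not_sim hx h8)
  obtain ⟨α', β', h4⟩ := h.dif h2 (h.nf_add h2) (h.par_add m) (h.not_sim hx h0)
  refine h0 (h4.disj h3 ?_ hx h8)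
  rw [h.g_dd h1 (h.nf_add h1) (h.par_add l) (h.par_add m)]
  simp [h.sim_add, h.add_add, h5, h6]

theorem exc_par (h1 : g l ≠ l) (h2 : g m ≠ m) (h3 : l - m ∈ E) (h4 : ¬ Sim g m (m + ν))
    (hx : x ∈ s) (h5 : c x ν - c x 0 ≠ 0) (h6 : c x l - c x (l + ν) ≠ 0) :
    Sim g l m ∨ Sim g l (m + ν) := by
  by_contra h7
  rw [not_or] at h7
  have a1 := h.not_sim hx h6
  obtain ⟨α, β, a2⟩ := h.dif h1 (h.nf_add h1) (h.par_add l) a1
  obtain ⟨α', β', a3⟩ := h.dif h2 (h.nf_add h2) (h.par_add m) h4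
  have a4 := h.g_dd h1 h2 h3 (h.par_add l)
  have a5 := h.g_dd h1 h2 h3 (h.par_add m)
  simp only [Sim.refl, a1, h.comm (l := m) (m := l), h.comm (l := m) (m := l + ν), h.sim_add, h7,
    h4, if_true, if_false] at a4 a5
  obtain ⟨κ, a6, a7⟩ := Finset.exists_ne_zero_of_sum_ne_zero (a4.trans_ne (by norm_num))
  obtain ⟨κ', a8, a9⟩ := Finset.exists_ne_zero_of_sum_ne_zero (a5.trans_ne (by norm_num))
  have b1 := fun t ht h0 => h.v_eq h1 (h.nf_add h1) (h.par_add l) (x := t) ht hx h0 h6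
  have b2 := fun t ht h0 => (h.v_eq h2 (h.nf_add h2) (h.par_add m) (x := t) ht a8 h0
    (right_ne_zero_of_mul a9)).trans ((h.v_eq h1 h2 h3 a8 a6 (left_ne_zero_of_mul a9)
      (left_ne_zero_of_mul a7)).trans (b1 _ a6 (right_ne_zero_of_mul a7)))
  have b3 := h.disj h1 h2 h7.1 h7.2 a2.m1 (a2.left.trans_ne one_ne_zero)
  have b4 := h.disj h1 h2 h7.1 h7.2 a2.m2 (a2.right.trans_ne (by norm_num))
  have b5 := a3.left
  have b6 := a3.right
  refine h.not_four (T := {α, β, α', β'}) (by simp [Finset.insert_subset_iff, a2.m1, a2.m2, a3.m1, a3.m2])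
    ?_ h5 ?_
  · have : α ≠ α' := by rintro rfl; omega
    have : α ≠ β' := by rintro rfl; omega
    have : β ≠ α' := by rintro rfl; omega
    have : β ≠ β' := by rintro rfl; omega
    rw [Finset.card_insert_of_notMem (by simp [*, a2.ne]), Finset.card_insert_of_notMem (by simp [*]),
      Finset.card_pair a3.ne]
  · simp only [Finset.mem_insert, Finset.mem_singleton]
    rintro t (rfl | rfl | rfl | rfl)
    exacts [b1 _ a2.m1 (a2.left.trans_ne one_ne_zero), b1 _ a2.m2 (a2.right.trans_ne (by norm_num)),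
      b2 _ a3.m1 (b5.trans_ne one_ne_zero), b2 _ a3.m2 (b6.trans_ne (by norm_num))]

theorem exc_cross (h1 : g l ≠ l) (h2 : l ∈ E) (h3 : ¬ Sim g l (l + ν)) (h4 : m ∉ E) (hx : x ∈ s)
    (h5 : c x ν - c x 0 ≠ 0) : c x m - c x (m + ν) = 0 := by
  by_contra h6
  have a1 := h.nf_of h4
  have a2 : g m ≠ m + ν := fun a => h.not_sim hx h6 (.inr a)
  have a3 : g l ≠ l + ν := fun a => h3 (.inr a)
  have a0 := h.two
  have key : ∀ j, j ∈ E → g j ≠ j → g m + g j = m + j + ν ∨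
      (g j = -j ∧ (g m = m + j ∨ g m = m + j + ν)) := fun j hj hj' => by
    have b1 := (h.fix j).not.1 hj'
    by_cases b2 : Sim g (m + j) (m + j + ν)
    · exact .inl (by simpa using b2.resolve_left (by simpa using h.ne))
    rcases h.exc_par a1 (h.nf_of fun b => h4 (by simpa using E.sub_mem b hj)) (by simpa) b2 hx h5 h6
      with (b | b) | (b | b)
    · exact absurd (.inl (by simpa using b)) b1
    · have := congrArg g b
      rw [h.gg, map_add] at this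
      exact .inr ⟨by linear_combination (norm := abel) -this - b, .inl b⟩
    · exact absurd (.inr (by linear_combination (norm := abel) -b - a0)) b1
    · have := congrArg g b
      rw [h.gg, map_add, map_add, h.gν] at this
      exact .inr ⟨by linear_combination (norm := abel) -this - b - a0, .inr b⟩
  have k3 : ∀ t, t + t + t = ν → t = ν := fun t ht =>
    sub_eq_zero.1 (h.three _ (by linear_combination (norm := abel) ht - a0))
  have k4 : g l - l ≠ 0 ∧ g l - l ≠ ν :=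
    ⟨sub_ne_zero.2 h1, fun a => a3 (by linear_combination (norm := abel) a)⟩
  rcases key l h2 h1 with b | ⟨b, b' | b'⟩ <;>
    rcases key (-l) (E.neg_mem h2) (by simpa using h1) with e | ⟨e, e' | e'⟩ <;>
    rw [map_neg] at e
  · exact not_or.2 k4 ((h.fix _).1 (by
      rw [map_sub, h.gg]; linear_combination (norm := abel) e - b))
  · exact a2 (by linear_combination (norm := abel) k3 (g m - m) (by
      linear_combination (norm := abel) b + e + e' + e'))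
  · exact a2 (by linear_combination (norm := abel) k3 (g m - m) (by
      linear_combination (norm := abel) b + e + e' + e' + a0))
  · exact a2 (by linear_combination (norm := abel) k3 (g m - m) (by
      linear_combination (norm := abel) b + e + b' + b'))
  · exact k4.1 (by linear_combination (norm := abel) b + b' - e')
  · exact k4.2 (by linear_combination (norm := abel) b - e' + b' - a0)
  · exact a2 (by linear_combination (norm := abel) k3 (g m - m) (by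
      linear_combination (norm := abel) b + e + b' + b' + a0))
  · exact k4.2 (by linear_combination (norm := abel) b - e' + b')
  · exact k4.1 (by linear_combination (norm := abel) b - e' + b')

theorem exc_unique (h1 : g l ≠ l) (h2 : g m ≠ m) {x' : ι} (hx : x ∈ s) (hx' : x' ∈ s)
    (h3 : c x ν - c x 0 ≠ 0) (h4 : c x' ν - c x' 0 ≠ 0) (h5 : c x l - c x (l + ν) ≠ 0)
    (h6 : c x' m - c x' (m + ν) ≠ 0) : Sim g l m ∨ Sim g l (m + ν) := by
  by_cases a : l - m ∈ E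
  · exact h.exc_par h1 h2 a (h.not_sim hx' h6) hx h3 h5
  by_cases a1 : l ∈ E
  · exact absurd (h.exc_cross h1 a1 (h.not_sim hx h5) (fun b => a (E.sub_mem a1 b)) hx' h4) h6
  · exact absurd (h.exc_cross h2 (by_contra fun b => a (h.ix _ _ a1 b)) (h.not_sim hx' h6) a1 hx h3) h5

variable (hn : ∀ l, g l ≠ l → ∀ x ∈ s, c x ν - c x 0 ≠ 0 → c x l - c x (l + ν) = 0)
include hn

theorem const_S (hx : x ∈ s) (h0 : c x ν - c x 0 ≠ 0) (h1 : g l ≠ l) (h2 : g m ≠ m)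
    (h3 : l - m ∈ E) : c x l - c x m = 0 := by
  have key : ∀ l m, g l ≠ l → g m ≠ m → l - m ∈ E → ¬ Sim g l (l + ν) → c x l - c x m = 0 :=
    fun l m h1 h2 h3 h4 => by
      by_contra h5
      have h6 := h.g_dd h1 h2 h3 (h.par_add l)
      rw [if_pos (Sim.refl l), if_neg h4, if_neg (h.comm.not.1 (h.not_sim hx h5))] at h6
      obtain ⟨t, h7, h8⟩ := Finset.exists_ne_zero_of_sum_ne_zero (h6.trans_ne (by
        split_ifs <;> norm_num))
      exact right_ne_zero_of_mul h8 (hn l h1 t h7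
        (h.v_eq h1 h2 h3 hx h7 h5 (left_ne_zero_of_mul h8) ▸ h0))
  by_cases h4 : Sim g l (l + ν)
  · by_cases h5 : Sim g m (m + ν)
    · rw [h.c_sim hx (h.sim_of_self h4 h5), sub_self]
    · rw [← neg_sub, key m l h2 h1 (by simpa using E.neg_mem h3) h5, neg_zero]
  · exact key l m h1 h2 h3 h4

theorem type_S (hx : x ∈ s) (h0 : c x ν - c x 0 ≠ 0) : ∃ k, (k = 0 ∨ k = ν) ∧ ∃ δ : ℤ,
    (δ = 1 ∨ δ = -1) ∧ ∀ l m, l - m ∈ E →
      c x l - δ * (if l = k then 1 else 0) = c x m - δ * if m = k then 1 else 0 := by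
  have key : ∀ k, (k = 0 ∨ k = ν) → ∀ δ e : ℤ, (∀ l ∈ E, c x l - δ * (if l = k then 1 else 0) = e) →
      ∀ l m, l - m ∈ E →
        c x l - δ * (if l = k then 1 else 0) = c x m - δ * if m = k then 1 else 0 :=
    fun k hk δ e he l m hlm => by
      by_cases hl : l ∈ E
      · rw [he l hl, he m (by simpa using E.sub_mem hl hlm)]
      have hm : m ∉ E := fun hm => hl (by simpa using E.add_mem hlm hm)
      have h1 : k ∈ E := by rcases hk with rfl | rfl; exacts [E.zero_mem, h.mem]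
      rw [if_neg (ne_of_mem_of_not_mem h1 hl).symm, if_neg (ne_of_mem_of_not_mem h1 hm).symm,
        sub_eq_zero.1 (h.const_S hn hx h0 (h.nf_of hl) (h.nf_of hm) hlm)]
  have h5 := h.sign hx h0
  have h6 := h.ne
  by_cases h1 : ∃ l ∈ E, g l ≠ l ∧ c x l - c x 0 ≠ 0
  · obtain ⟨l, h2, h3, h4⟩ := h1
    refine ⟨0, .inl rfl, c x 0 - c x ν, by omega, key _ (.inl rfl) _ (c x ν) fun m hm => ?_⟩
    by_cases h7 : g m = m
    · rcases (h.fix m).1 h7 with rfl | rfl <;> simp [h6]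
    · have := h.const_S hn hx h0 h3 h7 (E.sub_mem h2 hm)
      have := ((h.three_w h3 h2).1 x hx h0).resolve_left h4
      rw [if_neg fun a => h7 ((h.fix m).2 (.inl a))]
      omega
  · push_neg at h1
    refine ⟨ν, .inr rfl, c x ν - c x 0, h5, key _ (.inr rfl) _ (c x 0) fun m hm => ?_⟩
    by_cases h7 : g m = m
    · rcases (h.fix m).1 h7 with rfl | rfl <;> simp [h6.symm]
    · have := h1 m hm h7
      rw [if_neg fun a => h7 ((h.fix m).2 (.inr a))]
      omega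

theorem type_psi (hx : x ∈ s) (h0 : c x ν - c x 0 = 0) (h1 : g k ≠ k) (h2 : k ∈ E)
    (h3 : c x k - c x 0 ≠ 0) : (c x k - c x 0 = 1 ∨ c x k - c x 0 = -1) ∧ ∀ l m, l - m ∈ E →
      c x l - (c x k - c x 0) * (if Sim g k l then 1 else 0) =
        c x m - (c x k - c x 0) * if Sim g k m then 1 else 0 := by
  obtain ⟨-, ψ, -, -, h4, h5⟩ := h.three_w h1 h2
  obtain rfl : x = ψ := by_contra fun a => h3 (h5 x hx h0 a)
  have key : ∀ l m, g l ≠ l → g m ≠ m → l - m ∈ E →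
      c x l - (c x k - c x 0) * (if Sim g k l then 1 else 0) =
        c x m - (c x k - c x 0) * if Sim g k m then 1 else 0 := fun l m hl hm hlm => by
    have h6 := h.g_dw hl hm hlm h2
    rw [Finset.sum_eq_single_of_mem x hx fun t ht a => by
      by_cases b : c t ν - c t 0 = 0
      · rw [h5 t ht b a, mul_zero]
      · rw [h.const_S hn ht b hl hm hlm, zero_mul], h.comm (l := l), h.comm (l := m)] at h6
    rcases h4 with h4 | h4 <;> rw [h4] at h6 ⊢ <;> omega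
  have k2 : ∀ l ∈ E, c x l - (c x k - c x 0) * (if Sim g k l then 1 else 0) = c x 0 := fun l hl => by
    by_cases a : g l = l
    · rw [if_neg fun b : Sim g k l => by
        rcases b with rfl | rfl
        exacts [h1 a, h.nf_g h1 a]]
      rcases (h.fix l).1 a with rfl | rfl <;> omega
    · rw [key l k a h1 (E.sub_mem hl h2), if_pos (Sim.refl k)]; ring
  refine ⟨h4, fun l m hlm => ?_⟩
  by_cases hl : l ∈ E
  · rw [k2 l hl, k2 m (by simpa using E.sub_mem hl hlm)]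
  · exact key l m (h.nf_of hl) (h.nf_of fun hm => hl (by simpa using E.add_mem hlm hm)) hlm

theorem type_T (hx : x ∈ s) (h0 : c x ν - c x 0 = 0) : ∃ k, ∃ δ : ℤ,
    (δ = 0 ∨ (g k ≠ k ∧ (δ = 1 ∨ δ = -1))) ∧ ∀ l m, l - m ∈ E →
      c x l - δ * (if Sim g k l then 1 else 0) = c x m - δ * if Sim g k m then 1 else 0 := by
  by_cases h1 : ∃ k ∈ E, g k ≠ k ∧ c x k - c x 0 ≠ 0
  · obtain ⟨k, h2, h3, h4⟩ := h1
    have := h.type_psi hn hx h0 h3 h2 h4
    exact ⟨k, _, .inr ⟨h3, this.1⟩, this.2⟩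
  push_neg at h1
  have h2 : ∀ l ∈ E, c x l = c x 0 := fun l hl => by
    by_cases a : g l = l
    · rcases (h.fix l).1 a with rfl | rfl <;> omega
    · exact sub_eq_zero.1 (h1 l hl a)
  have key : ∀ k, k ∉ E → ∀ δ e : ℤ, (∀ l, l ∉ E → c x l - δ * (if Sim g k l then 1 else 0) = e) →
      ∀ l m, l - m ∈ E →
        c x l - δ * (if Sim g k l then 1 else 0) = c x m - δ * if Sim g k m then 1 else 0 :=
    fun k hk δ e he l m hlm => by
      by_cases hl : l ∈ E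
      · have hm : m ∈ E := by simpa using E.sub_mem hl hlm
        have : ∀ l ∈ E, ¬ Sim g k l := fun l hl a => hk (by simpa using E.add_mem (h.par_sim a) hl)
        rw [h2 l hl, h2 m hm, if_neg (this l hl), if_neg (this m hm)]
      · rw [he l hl, he m fun hm => hl (by simpa using E.add_mem hlm hm)]
  have h3 : ∀ l m, l ∉ E → m ∉ E → c x l - c x m ≤ 1 := fun l m hl hm => by
    by_cases a : Sim g l m
    · rw [h.c_sim hx a]; omega
    · obtain ⟨α, β, b⟩ := h.dif (h.nf_of hl) (h.nf_of hm) (h.ix _ _ hl hm) a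
      have := b.tri hx
      omega
  by_cases h4 : ∃ l m, l ∉ E ∧ m ∉ E ∧ c x l < c x m
  swap
  · push_neg at h4
    refine ⟨0, 0, .inl rfl, fun l m hlm => ?_⟩
    by_cases hl : l ∈ E
    · rw [h2 l hl, h2 m (by simpa using E.sub_mem hl hlm)]; simp
    · have hm : m ∉ E := fun hm => hl (by simpa using E.add_mem hlm hm)
      simpa using (h4 m l hm hl).antisymm (h4 l m hl hm)
  obtain ⟨l₁, l₂, a1, a2, a3⟩ := h4
  have a4 := h3 _ _ a2 a1
  by_cases a5 : ∀ l, l ∉ E → ¬ Sim g l₁ l → c x l = c x l₂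
  · refine ⟨l₁, -1, .inr ⟨h.nf_of a1, .inr rfl⟩, key _ a1 _ (c x l₂) fun l hl => ?_⟩
    split_ifs with a
    · rw [← h.c_sim hx a]; omega
    · rw [a5 l hl a]; omega
  by_cases a6 : ∀ l, l ∉ E → ¬ Sim g l₂ l → c x l = c x l₁
  · refine ⟨l₂, 1, .inr ⟨h.nf_of a2, .inl rfl⟩, key _ a2 _ (c x l₁) fun l hl => ?_⟩
    split_ifs with a
    · rw [← h.c_sim hx a]; omega
    · rw [a6 l hl a]; omega
  push_neg at a5 a6
  obtain ⟨l₃, b1, b2, b3⟩ := a5
  obtain ⟨l₄, b4, b5, b6⟩ := a6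
  have := h3 _ _ a2 b1
  have := h3 _ _ b1 a1
  have := h3 _ _ a2 b4
  have := h3 _ _ b4 a1
  obtain ⟨_, _, e1⟩ := h.dif (h.nf_of a2) (h.nf_of a1) (h.ix _ _ a2 a1) (h.not_sim hx (by omega))
  obtain ⟨_, _, e2⟩ := h.dif (h.nf_of b4) (h.nf_of b1) (h.ix _ _ b4 b1) (h.not_sim hx (by omega))
  have := e2.disj e1 (by
    rw [h.g_dd (h.nf_of a2) (h.nf_of a1) (h.ix _ _ a2 a1) (h.ix _ _ b4 b1), if_neg b2, if_neg b5,
      if_neg (h.not_sim hx (by omega)), if_neg (h.not_sim hx (by omega))]; rfl) hx (by omega)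
  omega

omit hn

variable [Fintype Λ]

omit h in
theorem _root_.Cfsg.Agent.Blk.sum_sim {R : Type*} [Ring R] (h1 : g k ≠ k) (F : Λ → R) :
    ∑ l, (if Sim g k l then 1 else 0) * F l = F k + F (g k) := by
  rw [Finset.sum_congr rfl fun l _ => show (if Sim g k l then 1 else 0) * F l =
    (if k = l then F l else 0) + if g k = l then F l else 0 by
      rw [Sim]; split_ifs <;> simp_all]
  simp [Finset.sum_add_distrib]

theorem sum_y {R : Type*} [CommRing R] (hx : x ∈ s) (h1 : g k ≠ k) (h2 : ¬ Sim g k (k + ν))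
    (h3 : ∀ l, g l ≠ l → ¬ Sim g k l → ¬ Sim g k (l + ν) → c x l - c x (l + ν) = 0) (F : Λ → R) :
    ∑ l, (c x l - c x (l + ν) : ℤ) * F l = (c x ν - c x 0 : ℤ) * (F ν - F 0) +
      (c x k - c x (k + ν) : ℤ) * (F k + F (g k) - (F (k + ν) + F (g (k + ν)))) := by
  have h4 : ∀ l, c x l - c x (l + ν) = (c x ν - c x 0) * ((if ν = l then 1 else 0) -
      if 0 = l then 1 else 0) + (c x k - c x (k + ν)) * ((if Sim g k l then 1 else 0) -
        if Sim g (k + ν) l then 1 else 0) := fun l => by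
    by_cases a : g l = l
    · have b : ∀ k, g k ≠ k → ¬ Sim g k l := by
        rintro k hk (rfl | rfl)
        exacts [hk a, h.nf_g hk a]
      rw [if_neg (b _ h1), if_neg (b _ (h.nf_add h1))]
      rcases (h.fix l).1 a with rfl | rfl <;> simp [h.ne, h.ne.symm, h.two]
    have b := (h.fix l).not.1 a
    rw [if_neg fun e => b (.inr e.symm), if_neg fun e => b (.inl e.symm), h.sim_add]
    split_ifs with e1 e2 e2
    · exact absurd (h.sim_add.1 (h.trans (h.sim_add.2 e2) (h.symm e1))) h2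
    · rw [h.c_sim hx e1, h.c_sim hx (h.sim_add'.2 e1)]; ring
    · rw [h.c_sim hx e2, h.c_sim hx (h.sim_add.2 e2)]; ring
    · rw [h3 l a e1 e2]; ring
  rw [Finset.sum_congr rfl fun l _ => by rw [h4 l]]
  generalize c x ν - c x 0 = A
  generalize c x k - c x (k + ν) = B
  simp only [Int.cast_add, Int.cast_mul, add_mul, mul_assoc, Finset.sum_add_distrib,
    ← Finset.mul_sum, Int.cast_sub, sub_mul, Finset.sum_sub_distrib, Int.cast_ite,
    Int.cast_one, Int.cast_zero, sum_sim h1, sum_sim (h.nf_add h1)]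
  simp

theorem sum_eq {r : Λ → ℂ} (hr : ∀ l, r (l + ν) = -r l) (h0 : r 0 = 1) (hx : x ∈ s) (h1 : g k ≠ k)
    (h2 : ¬ Sim g k (k + ν))
    (h3 : ∀ l, g l ≠ l → ¬ Sim g k l → ¬ Sim g k (l + ν) → c x l - c x (l + ν) = 0) :
    ∑ l, c x l * r l = -(c x ν - c x 0 : ℤ) + (c x k - c x (k + ν) : ℤ) * (r k + r (g k)) := by
  have h4 := h.sum_y hx h1 h2 h3 r
  have h5 := Fintype.sum_equiv (Equiv.addRight ν) (fun l => c x (l + ν) * r (l + ν))
    (fun l => c x l * r l) fun _ => rfl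
  have h6 := hr 0
  simp only [hr, mul_neg, Finset.sum_neg_distrib] at h5
  rw [map_add, h.gν, hr, hr, ← zero_add ν, h6, zero_add, h0] at h4
  simp only [Int.cast_sub (c x _) (c x (_ + ν)), sub_mul, Finset.sum_sub_distrib] at h4 ⊢
  linear_combination h4 / 2 - h5 / 2

theorem exc {r : Λ → ℂ} (hr : ∀ l, r (l + ν) = -r l) (h0 : r 0 = 1) (hx : x ∈ s) (h1 : g k ≠ k)
    (h2 : c x ν - c x 0 ≠ 0) (h3 : c x k - c x (k + ν) ≠ 0) : ∃ x₃ ∈ s, ∃ x₄ ∈ s,
      c x₃ ν - c x₃ 0 ≠ 0 ∧ c x₄ ν - c x₄ 0 ≠ 0 ∧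
      2 * ((c x ν - c x 0) * d x) + (c x₃ ν - c x₃ 0) * d x₃ + (c x₄ ν - c x₄ 0) * d x₄ = 0 ∧
      ∑ t ∈ s, (∑ l, c t l * r l) ^ 3 / d t =
        -(2 + 6 * (r k + r (g k)) ^ 2) / ((c x ν - c x 0) * d x : ℤ) -
          1 / ((c x₃ ν - c x₃ 0) * d x₃ : ℤ) - 1 / ((c x₄ ν - c x₄ 0) * d x₄ : ℤ) := by
  have a1 := h.not_sim hx h3
  obtain ⟨α, β, a2⟩ := h.dif h1 (h.nf_add h1) (h.par_add k) a1
  obtain ⟨a3, a4⟩ := a2.congr (h.g_dv h1 (h.nf_add h1) (h.par_add k)) hx h3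
  obtain ⟨a5, a6⟩ := a2.congr (h.deg _ _ (h.par_add k)) hx h3
  obtain ⟨x₃, x₄, a7, a8⟩ := Finset.card_eq_two.1
    (show ((s.filter fun x => c x ν - c x 0 ≠ 0) \ {α, β}).card = 2 by
      rw [Finset.card_sdiff_of_subset (by
        simp [Finset.insert_subset_iff, a2.m1, a2.m2, a3, a4, h2]), h.card_S, Finset.card_pair a2.ne])
  have b3 : x₃ ∈ _ := a8 ▸ Finset.mem_insert_self x₃ {x₄}
  have b4 : x₄ ∈ _ := a8 ▸ Finset.mem_insert_of_mem (Finset.mem_singleton_self x₄)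
  simp only [Finset.mem_sdiff, Finset.mem_filter, Finset.mem_insert, Finset.mem_singleton,
    not_or] at b3 b4
  have a9 : ∀ {R : Type} [AddCommMonoid R] (f : ι → R), ∑ t ∈ s with c t ν - c t 0 ≠ 0, f t =
      f x₃ + f x₄ + (f α + f β) := fun f => by
    rw [← Finset.sum_sdiff (s₁ := {α, β}) (by
      simp [Finset.insert_subset_iff, a2.m1, a2.m2, a3, a4, h2]), a8, Finset.sum_pair a7,
      Finset.sum_pair a2.ne]
  refine ⟨x₃, b3.1.1, x₄, b4.1.1, b3.1.2, b4.1.2, ?_, ?_⟩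
  · have := h.deg ν 0 (by simpa using h.mem)
    rw [← Finset.sum_filter_of_ne fun x _ => left_ne_zero_of_mul, a9, a3, a4, a5, a6] at this
    linear_combination this
  have e1 : ∀ t ∈ s, c t ν - c t 0 ≠ 0 → ∑ l, c t l * r l =
      -(c t ν - c t 0 : ℤ) + (c t k - c t (k + ν) : ℤ) * (r k + r (g k)) := fun t ht h4 =>
    h.sum_eq hr h0 ht h1 a1 fun l h5 h6 h7 => by_contra fun h8 =>
      not_or.2 ⟨h6, h7⟩ (h.exc_unique h1 h5 hx ht h2 h4 h3 h8)
  have e2 : ∀ t ∈ s, c t ν - c t 0 = 0 → (∑ l, c t l * r l) ^ 3 =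
      (∑ l, (c t l - c t (l + ν) : ℤ) * (r l + r (g l)) ^ 3) / 4 := fun t ht h4 => by
    obtain ⟨m, h5, h6, h7⟩ : ∃ m, g m ≠ m ∧ ¬ Sim g m (m + ν) ∧
        ∀ l, g l ≠ l → ¬ Sim g m l → ¬ Sim g m (l + ν) → c t l - c t (l + ν) = 0 := by
      by_cases a : ∃ m, g m ≠ m ∧ c t m - c t (m + ν) ≠ 0
      · obtain ⟨m, b, e⟩ := a
        exact ⟨m, b, h.not_sim ht e, fun l h5 h6 h7 => h.disj b h5 h6 h7 ht e⟩
      · push_neg at a
        exact ⟨k, h1, a1, fun l h5 _ _ => a l h5⟩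
    obtain ⟨_, _, h8⟩ := h.dif h5 (h.nf_add h5) (h.par_add m) h6
    rw [h.sum_eq hr h0 ht h5 h6 h7, h.sum_y ht h5 h6 h7, h4]
    simp only [map_add, h.gν, hr, h.gg]
    rcases h8.tri ht with e | e | e <;> rw [e] <;> push_cast <;> ring
  suffices e0 : ∑ t ∈ s with ¬ c t ν - c t 0 ≠ 0, (∑ l, c t l * r l) ^ 3 / d t = 0 by
    have e3 := a2.left
    have e4 := a2.right
    rw [← Finset.sum_filter_add_sum_filter_not s fun t => c t ν - c t 0 ≠ 0, a9, e0,
      e1 _ b3.1.1 b3.1.2, e1 _ b4.1.1 b4.1.2, e1 _ a2.m1 (a3 ▸ h2), e1 _ a2.m2 (a4 ▸ h2), e3, e4,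
      a3, a4, a5, a6,
      show c x₃ k - c x₃ (k + ν) = 0 from by_contra fun a => not_or.2 b3.2 (a2.cases b3.1.1 a),
      show c x₄ k - c x₄ (k + ν) = 0 from by_contra fun a => not_or.2 b4.2 (a2.cases b4.1.1 a)]
    rcases h.sign hx h2 with e | e <;> rcases h.sign b3.1.1 b3.1.2 with e3 | e3 <;>
      rcases h.sign b4.1.1 b4.1.2 with e4 | e4 <;> rw [e, e3, e4] <;> push_cast <;> ring
  rw [Finset.sum_congr rfl fun t ht => by
    rw [e2 t (Finset.mem_filter.1 ht).1 (not_not.1 (Finset.mem_filter.1 ht).2), div_div,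
      Finset.sum_div], Finset.sum_comm]
  refine Finset.sum_eq_zero fun l _ => ?_
  by_cases a : g l = l
  · refine Finset.sum_eq_zero fun t ht => ?_
    have := not_not.1 (Finset.mem_filter.1 ht).2
    rw [show c t l - c t (l + ν) = 0 by
      rcases (h.fix l).1 a with rfl | rfl <;> simp only [zero_add, h.two] <;> omega]
    simp
  by_cases b : Sim g l (l + ν)
  · exact Finset.sum_eq_zero fun t ht => by simp [h.c_sim (Finset.mem_filter.1 ht).1 b]
  obtain ⟨α', β', e⟩ := h.dif a (h.nf_add a) (h.par_add l) b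
  have e3 := (e.congr (h.g_dv a (h.nf_add a) (h.par_add l)) e.m1 (e.left.trans_ne one_ne_zero)).2
  have e4 := (e.congr (h.deg _ _ (h.par_add l)) e.m1 (e.left.trans_ne one_ne_zero)).2
  have := e.sum fun t => if ¬ c t ν - c t 0 ≠ 0 then (r l + r (g l)) ^ 3 / (4 * d t) else 0
  rw [e3, e4, sub_self] at this
  rw [Finset.sum_filter]
  exact Eq.trans (Finset.sum_congr rfl fun t _ => by split_ifs <;> simp [mul_div_assoc]) this

omit h in
theorem _root_.Cfsg.Agent.Blk.sum_const_par {r a : Λ → ℂ} (h1 : ∑ l with l ∈ E, r l = 0)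
    (h2 : ∑ l with l ∉ E, r l = 0) (h3 : ∀ l m, l ∉ E → m ∉ E → l - m ∈ E)
    (ha : ∀ l m, l - m ∈ E → a l = a m) : ∑ l, a l * r l = 0 := by
  rw [← Finset.sum_filter_add_sum_filter_not Finset.univ (· ∈ E), Finset.sum_congr rfl fun l hl => by
    rw [ha l 0 (by simpa using hl)], ← Finset.mul_sum, h1, mul_zero, zero_add]
  by_cases h4 : ∃ m, m ∉ E
  · obtain ⟨m, hm⟩ := h4
    rw [Finset.sum_congr rfl fun l hl => by rw [ha l m (h3 _ _ (by simpa using hl) hm)],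
      ← Finset.mul_sum, h2, mul_zero]
  · exact Finset.sum_eq_zero fun l hl => absurd ⟨l, by simpa using hl⟩ h4

end TC
end TC

end Cfsg.Agent.Blk
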