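import Cfsg.Agent.Lib.Block.TameW

/-!
Subsections of a block whose defect group is a 2-group of maximal class.
-/

set_option autoImplicit false

namespace Cfsg.Agent.Blk
open MonoidAlgebra
open Cfsg.Agent.Char hiding cj cj_mul cj_inv_cj cj_cj_inv sum_cj_eq om
open scoped ComplexConjugate
attribute [local instance] _root_.Classical.propDecidable
open Subgroup (zpowers mem_zpowers)
open Transfer (MC)

section Gen
variable {G : Type*} [Group G] [Finite G] {M : Ideal AlgInt} {p : ℕ} [PMod M p]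
  {B : Set (IrrCharacter G)} {P Q D K : Subgroup G} {e f : (kk M)[G]} {u v x : G}

theorem MP.isDef_sb_of (h : MP p B P e) (hu : u ∈ P)
    (h1 : ∀ v, FC p P e u v → Nat.card ↥(P ⊓ Ce1 v) ≤ Nat.card ↥(P ⊓ Ce1 u)) :
    IsDef p (Ce1 u) (barS M (Ce1 u) (sb p P e u)) (P ⊓ Ce1 u) := by
  haveI : Fact p.Prime := ⟨PMod.prime M⟩
  refine (h.mp.isDef_inf_iff (h.sb_ple hu) (le_inf le_top (Ce1_le_No u))
    (h.sb_blk hu).isBlockS).2 fun x _ hx => ?_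
  rw [cs_Ce1]
  exact h1 _ ((h.fc_iff hu).2 ⟨x, rfl, cs_zpowers x u ▸ hx⟩)

theorem IsDef.nilp_of (hD : IsDef p K f D) (hf : IsBlock K f)
    (h : ∀ Q ≤ D, ∀ x ∈ K, x ∈ No Q → ¬ p ∣ orderOf x → x ∈ Ce Q) : IsNilp p K f := by
  haveI : Fact p.Prime := ⟨PMod.prime M⟩
  obtain ⟨g, hg⟩ := hD.exists_isMP hf
  exact hg.nilp_of_forall fun Q _ h1 x hx => h Q h1.le x (stab_le _ _ hx).1 (stab_le _ _ hx).2

theorem MP.stab_eq (h : MP p B P e) (hQ : Q ≤ P) (hn : P ≤ No Q) {k : ℕ}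
    (hp : (Ce Q).relIndex (No Q) ∣ p ^ k) : stab (⊤ ⊓ No Q) (lb p P e Q) = P ⊔ Ce Q := by
  haveI hp' : Fact p.Prime := ⟨PMod.prime M⟩
  have h1 := h.bp.lb_ple hQ
  have h2 := h.bp.isBlock_lb hQ
  have h3 : Ce Q ≤ stab (⊤ ⊓ No Q) (lb p P e Q) := le_stab.2 ⟨le_inf le_top (Ce_le_No Q), h2.inv⟩
  have h4 : P ≤ stab (⊤ ⊓ No Q) (lb p P e Q) := le_stab.2 ⟨le_inf le_top hn, (h1.nsub h.bp hn).inv⟩
  have h5 := (h.mp.isDef_inf_iff h1 (stab_le _ _) (h1.left h.bp).isBlock_stab).2 fun x _ _ => by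
    rw [inf_eq_left.2 h4]; exact Subgroup.card_le_of_le inf_le_left
  rw [inf_eq_left.2 h4] at h5
  have h6 : stab (⊤ ⊓ No Q) (lb p P e Q) ≤ No Q := (stab_le _ _).trans inf_le_right
  obtain ⟨j, -, h7⟩ := (Nat.dvd_prime_pow hp'.out).1
    ((Dvd.intro _ (Subgroup.relIndex_mul_relIndex _ _ _ h3 h6)).trans hp)
  exact (eq_of_relIndex_pow le_sup_right (sup_le h4 h3) h7
    (h5.not_dvd_index h2 h3 (h6.trans (No_le_No_Ce Q)) (mem_inv_stab _ _))).symm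

theorem IsBP.sum_fc [Fintype P] (he : IsBP p ⊤ P e) (hx : x ∈ P) {F : G → ℂ}
    (hF : ∀ u v, FC p P e u v → F v = F u) (c : ℂ) :
    ∑ u : P, (nF p P e (u : G) : ℂ)⁻¹ * F u * (if FC p P e x u then c else 0) = c * F x := by
  haveI : Fact p.Prime := ⟨PMod.prime M⟩
  rw [← mul_one (c * F x), ← he.sum_inv_nF hx, Finset.mul_sum]
  refine Finset.sum_congr rfl fun u _ => ?_
  split_ifs with h1
  · rw [hF _ _ h1]; ring
  · simp

end Gen

section MCs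
variable {G : Type*} [Group G] [Finite G] {P Q : Subgroup G} {a b c s t u v x : G} {n : ℕ}

/-- the generator of the cyclic maximal subgroup -/
def aW (a : G) : zpowers a := ⟨a, mem_zpowers a⟩

/-- conjugation on the cyclic maximal subgroup -/
def gam (h : MC P a b n) : MulAut (zpowers a) :=
  (zpowers a).normalizerMonoidHom ⟨b, h.a2.nn h.mem_b⟩

theorem coe_gam (h : MC P a b n) (u : zpowers a) : (gam h u : G) = b * u * b⁻¹ := rfl

/-- the centre -/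
abbrev zW (a : G) (n : ℕ) : Subgroup (zpowers a) := zpowers (aW a ^ 2 ^ n)

theorem mc_cw (h : MC P a b n) (hn : 1 ≤ n) : CW (gam h) (aW a) n :=
  ⟨fun ⟨_, i, hi⟩ => ⟨i, Subtype.ext hi⟩, (Subgroup.orderOf_mk _ _).trans h.ord, hn,
    h.cnj.imp Subtype.ext (And.imp_right Subtype.ext)⟩

theorem mc_mem_zW (h : MC P a b n) (hn : 1 ≤ n) {u : zpowers a} : u ∈ zW a n ↔ (u : G) * u = 1 :=
  ⟨fun h1 => by rcases (mc_cw h hn).mem_z h1 with rfl | rfl; exacts [by simp, h.z_mul],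
    fun h1 => by
      rcases h.inv_eq u.2 h1 with e | e
      exacts [(Subtype.ext e : u = 1) ▸ one_mem _, (Subtype.ext e : u = aW a ^ 2 ^ n) ▸ mem_zpowers _]⟩

theorem mc_inf_Ce1 (h : MC P a b n) (hu : u ∈ zpowers a) (h1 : u * u ≠ 1) :
    P ⊓ Ce1 u = zpowers a :=
  le_antisymm (fun _ hs => by_contra fun h2 => h1 ((h.out hs.1 h2).fix hu (mem_Ce1.1 hs.2)))
    (le_inf h.le fun _ hs => mem_Ce1.2 (h.a2.comm hs hu))

theorem mc_conj (h : MC P a b n) (hs : s ∈ P) (hu : u ∈ zpowers a) :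
    s * u * s⁻¹ = u ∨ s * u * s⁻¹ = b * u * b⁻¹ := by
  by_cases h1 : s ∈ zpowers a
  exacts [.inl (h.a2.conj_in h1 hu), .inr (h.a2.conj_eq hs h1 h.mem_b h.notMem hu)]

theorem mc_le_No (h : MC P a b n) (hu : u ∈ zpowers a) : P ≤ No (zpowers u) :=
  MS.cyc_nn (MS.cyc_zpowers a) (Subgroup.zpowers_le.2 hu) h.a2.nn

theorem mc_w_mem (h : MC P a b n) (hn : 1 ≤ n) (hu : u ∈ zpowers a) (h1 : u * u ≠ 1) :
    zpowers (a ^ 2 ^ (n - 1)) ≤ zpowers u := by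
  refine MS.cyc_le (MS.cyc_zpowers a) (Subgroup.zpowers_le.2 (pow_mem (mem_zpowers a) _))
    (Subgroup.zpowers_le.2 hu) ?_
  obtain ⟨k, hk⟩ := pelt_of_mem h.pg (h.le hu)
  rw [Nat.card_zpowers, Nat.card_zpowers, h.ord_w hn, hk]
  refine pow_dvd_pow 2 (show 2 ≤ k from not_lt.1 fun h2 => h1 ?_)
  rw [← sq, ← orderOf_dvd_iff_pow_eq_one, hk]
  exact pow_dvd_pow 2 (show k ≤ 1 by omega)

theorem relIndex_Ce_cyc (hQ : IsPGroup 2 Q) (hc : IsCyclic Q) :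
    ∃ k, (Ce Q).relIndex (No Q) ∣ 2 ^ k := by
  obtain ⟨k, hk⟩ := Transfer.relIndex_res (p := 2) (No Q)
  exact ⟨k, hk ▸ Subgroup.relIndex_dvd_of_le_left _
    (not_not.1 (Transfer.ess_iff.not.1 (Transfer.not_ess_of_cyc hQ hc)))⟩

theorem odd_of_not_dvd {k : ℕ} (h : ¬ 2 ∣ k) : Odd k := Nat.not_even_iff_odd.1 fun e => h e.two_dvd

theorem mem_Ce_of_cyc (hQ : IsPGroup 2 Q) (hc : IsCyclic Q) (hx : x ∈ No Q) (h : ¬ 2 ∣ orderOf x) :
    x ∈ Ce Q := by_contra fun h1 => Transfer.not_ess_of_cyc hQ hc ⟨x, hx, odd_of_not_dvd h, h1⟩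

theorem mem_Ce_of_four {D : Subgroup G} (hD : Nat.card D = 4) (ht : t ∈ D) (h1 : t ≠ 1) (hQ : Q ≤ D)
    (h2 : x ∈ Ce1 t) (hx : x ∈ No Q) (h : ¬ 2 ∣ orderOf x) : x ∈ Ce Q := by
  have hp : IsPGroup 2 D := IsPGroup.of_card (n := 2) hD
  have h3 : Q ⊔ zpowers t ≤ D := sup_le hQ (Subgroup.zpowers_le.2 ht)
  refine Ce_anti le_sup_left (show x ∈ Ce (Q ⊔ zpowers t) from ?_)
  rw [← Ce_zpowers] at h2
  by_cases h4 : Q ⊔ zpowers t = zpowers t
  · rwa [h4]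
  refine (Transfer.ix2_of_card le_sup_right ?_).odd_cc (hp.to_le h3) (odd_of_not_dvd h)
    (No_sup_le _ _ ⟨hx, Ce_le_No _ h2⟩) h2
  have h5 := Subgroup.card_le_of_le h3
  obtain ⟨k, h6⟩ := Subgroup.card_dvd_of_le (le_sup_right : zpowers t ≤ Q ⊔ zpowers t)
  have h7 : k ≠ 1 := fun e => h4 (Subgroup.eq_of_le_of_card_ge le_sup_right (by simp [h6, e])).symm
  have h8 : k ≠ 0 := fun e => by simp [e, Nat.card_pos.ne'] at h6
  have h9 : 2 ≤ Nat.card (zpowers t) := (Subgroup.one_lt_card_iff_ne_bot _).2 (by simpa)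
  rw [h6, mul_comm, show k = 2 by nlinarith [show 2 ≤ k by omega]]

variable {M : Ideal AlgInt} [PMod M 2] {B : Set (IrrCharacter G)} {e : (kk M)[G]}

theorem MP.mc_U (h : MP 2 B P e) (hm : MC P a b n) (hn : 1 ≤ n) (hu : u ∈ zpowers a)
    (h1 : u * u ≠ 1) : IsDef 2 (Ce1 u) (barS M (Ce1 u) (sb 2 P e u)) (zpowers a) ∧
      IsNilpotentBlock 2 M (sb 2 P e u) ∧ (2 : ℂ) ^ blockDefect 2 (sb 2 P e u) = 2 ^ (n + 1) := by
  have h2 := h.isDef_sb_of (hm.le hu) fun v hv => by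
    have h3 := hv.right
    rw [mc_inf_Ce1 hm hu h1]
    by_cases h4 : v ∈ zpowers a
    · obtain ⟨x, rfl⟩ := isConj_iff.1 hv.isConj
      rw [mc_inf_Ce1 hm h4 (by rwa [conj_mul, Ne, conj_eq_one_iff])]
    · rw [mc_card_inf (hm.out h3 h4), Nat.card_zpowers, hm.ord]
      exact Nat.pow_le_pow_right (i := 2) two_pos (by omega)
  rw [mc_inf_Ce1 hm hu h1] at h2
  refine ⟨h2, isNilpotentBlock_iffS.2 ⟨h.sb_blk (hm.le hu), h2.nilp_of (h.sb_blk (hm.le hu)).isBlockS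
    fun Q hQ x _ => mem_Ce_of_cyc (h2.pg.to_le hQ) (MS.cyc_mono (MS.cyc_zpowers a) hQ)⟩, ?_⟩
  exact_mod_cast ((h.sb_blk (hm.le hu)).card_isDefS h2).symm.trans ((Nat.card_zpowers a).trans hm.ord)

theorem MP.mc_T (h : MP 2 B P e) (hm : MC P a b n) (ht : t ∈ P)
    (h1 : ∀ c ∈ zpowers a, ¬ FC 2 P e t c) :
    IsNilpotentBlock 2 M (sb 2 P e t) ∧ (2 : ℂ) ^ blockDefect 2 (sb 2 P e t) = 4 := by
  have h0 : t ∉ zpowers a := fun e => h1 t e (h.bp.fc_refl ht)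
  have h3 := mc_card_inf (hm.out ht h0)
  have h2 := h.isDef_sb_of ht fun v hv => by
    rw [h3, mc_card_inf (hm.out hv.right fun e => h1 v e hv)]
  refine ⟨isNilpotentBlock_iffS.2 ⟨h.sb_blk ht, h2.nilp_of (h.sb_blk ht).isBlockS
    fun Q hQ x => mem_Ce_of_four h3 ⟨ht, mem_Ce1.2 rfl⟩ (fun e => h0 (e ▸ one_mem _)) hQ⟩, ?_⟩
  exact_mod_cast ((h.sb_blk ht).card_isDefS h2).symm.trans h3

theorem MP.mc_z (h : MP 2 B P e) (hm : MC P a b n) :
    blockDefect 2 (sb 2 P e (a ^ 2 ^ n)) = blockDefect 2 B ∧ blockDefect 2 B = n + 2 :=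
  ⟨h.defect_sb ⟨hm.le hm.z_mem, hm.z_cent⟩,
    Nat.pow_right_injective le_rfl (h.card_eq.symm.trans hm.card)⟩

theorem MP.dh_z (h : MP 2 B P e) (hm : DH P a b n) :
    IsNilpotentBlock 2 M (sb 2 P e (a ^ 2 ^ n)) := by
  have h1 := hm.le hm.z_mem
  refine isNilpotentBlock_iffS.2 ⟨h.sb_blk h1, (h.isDef_sb ⟨h1, hm.z_cent⟩).nilp_of
    (h.sb_blk h1).isBlockS fun Q hQ x h2 h3 h4 => Ce_anti le_sup_left (hm.fix'
      (sup_le hQ (Subgroup.zpowers_le.2 h1)) (Subgroup.mem_sup_right (mem_zpowers _))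
      (No_sup_le _ _ ⟨h3, Ce1_le_No _ h2⟩) h4 h2)⟩

theorem MP.mc_fc (h : MP 2 B P e) (hm : MC P a b n) (hu : u ∈ zpowers a) (hv : v ∈ zpowers a) :
    FC 2 P e u v ↔ v = u ∨ v = b * u * b⁻¹ := by
  refine ⟨fun h1 => ?_, ?_⟩
  swap
  · rintro (rfl | rfl)
    exacts [h.bp.fc_refl (hm.le hu), h.bp.fc_conj (hm.le hu) hm.mem_b]
  have h0 := hm.le hu
  obtain ⟨x, rfl, h2⟩ := (h.fc_iff h0).1 h1
  have h3 : zpowers (x * u * x⁻¹) = zpowers u := MS.cyc_eq (MS.cyc_zpowers a)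
    (Subgroup.zpowers_le.2 hv) (Subgroup.zpowers_le.2 hu) (by
      rw [Nat.card_zpowers, Nat.card_zpowers, orderOf_conj'])
  rw [h3, h.barS_sb h0] at h2
  obtain ⟨k, hk⟩ := relIndex_Ce_cyc (isPGroup_zpowers (h.pelt h0)) (MS.cyc_zpowers u)
  obtain ⟨s, hs, y, hy, rfl⟩ := exists_mul_of_mem_sup ((mc_le_No hm hu).trans (No_le_No_Ce _))
    ((h.stab_eq (Subgroup.zpowers_le.2 h0) (mc_le_No hm hu) hk).le (mem_stab.2
      ⟨⟨trivial, mem_No.2 ((cs_zpowers x u).trans h3)⟩, (h.bp.lb_eq h2).symm⟩))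
  rw [show s * y * u * (s * y)⁻¹ = s * (y * u * y⁻¹) * s⁻¹ by group,
    conj_eq_of_mem_Ce hy (mem_zpowers u)]
  exact mc_conj hm hs hu

/-- representatives of the classes that do not meet the cyclic maximal subgroup -/
structure UT (P : Subgroup G) (e : (kk M)[G]) (a : G) (T : Finset G) : Prop where
  mem : ∀ t ∈ T, t ∈ P
  unf : ∀ t ∈ T, ∀ c ∈ zpowers a, ¬ FC 2 P e t c
  uniq : ∀ u ∈ P, (∀ c ∈ zpowers a, ¬ FC 2 P e u c) → ∃! t, t ∈ T ∧ FC 2 P e t u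
  card : T.card ≤ 2

theorem MP.exists_UT (h : MP 2 B P e) (hm : MC P a b n) : ∃ T, UT P e a T := by
  have h1 : ∀ u ∈ P, (∀ c ∈ zpowers a, ¬ FC 2 P e u c) → FC 2 P e b u ∨ FC 2 P e (a * b) u :=
    fun u hu h1 => by
      obtain ⟨c, hc, rfl | rfl⟩ := hm.out_conj hu fun e => h1 u e (h.bp.fc_refl hu)
      exacts [.inl (h.bp.fc_conj hm.mem_b (hm.le hc)), .inr (h.bp.fc_conj hm.mem_ab (hm.le hc))]
  have h2 : ∀ t u, FC 2 P e t u → (∀ c ∈ zpowers a, ¬ FC 2 P e u c) →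
      ∀ c ∈ zpowers a, ¬ FC 2 P e t c := fun t u h2 h3 c hc h4 => h3 c hc (h2.symm.trans h.bp h4)
  by_cases h3 : FC 2 P e b (a * b)
  · refine ⟨Finset.filter (fun t => ∀ c ∈ zpowers a, ¬ FC 2 P e t c) {b}, by simp [hm.mem_b],
      fun t ht => (Finset.mem_filter.1 ht).2, fun u hu h4 => ?_,
      (Finset.card_filter_le _ _).trans (by simp)⟩
    have h5 := (h1 u hu h4).elim id (h3.trans h.bp)
    exact ⟨b, ⟨by simpa using h2 _ _ h5 h4, h5⟩, fun t ht => by simpa using (Finset.mem_filter.1 ht.1).1⟩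
  refine ⟨Finset.filter (fun t => ∀ c ∈ zpowers a, ¬ FC 2 P e t c) {b, a * b}, fun t ht => ?_,
    fun t ht => (Finset.mem_filter.1 ht).2, fun u hu h4 => ?_,
    (Finset.card_filter_le _ _).trans Finset.card_le_two⟩
  · rcases Finset.mem_insert.1 (Finset.mem_filter.1 ht).1 with rfl | ht
    exacts [hm.mem_b, Finset.mem_singleton.1 ht ▸ hm.mem_ab]
  simp only [Finset.mem_filter, Finset.mem_insert, Finset.mem_singleton]
  rcases h1 u hu h4 with h5 | h5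
  · refine ⟨b, ⟨⟨.inl rfl, h2 _ _ h5 h4⟩, h5⟩, ?_⟩
    rintro t ⟨⟨rfl | rfl, -⟩, h6⟩
    exacts [rfl, absurd (h5.trans h.bp h6.symm) h3]
  · refine ⟨a * b, ⟨⟨.inr rfl, h2 _ _ h5 h4⟩, h5⟩, ?_⟩
    rintro t ⟨⟨rfl | rfl, -⟩, h6⟩
    exacts [absurd (h6.trans h.bp h5.symm) h3, rfl]

theorem MP.mc_sum [Fintype P] [Fintype (zpowers a)] (h : MP 2 B P e) (hm : MC P a b n) (hn : 1 ≤ n)
    {T : Finset G} (hT : UT P e a T) {F : G → ℂ} (hF : ∀ u v, FC 2 P e u v → F v = F u) :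
    ∑ u : P, (nF 2 P e (u : G) : ℂ)⁻¹ * F u = F 1 + F (a ^ 2 ^ n) +
      2⁻¹ * ∑ u : zpowers a with u ∉ zW a n, F u + ∑ t ∈ T, F t := by
  have hc := mc_cw hm hn
  have h1 : ∀ u : P, ∑ c : zpowers a, (if FC 2 P e c u then (if c ∈ zW a n then 1 else 2⁻¹ : ℂ)
      else 0) + ∑ t ∈ T, (if FC 2 P e t u then 1 else 0) = 1 := fun u => by
    by_cases h1 : ∀ c ∈ zpowers a, ¬ FC 2 P e u c
    · obtain ⟨t, ⟨h2, h3⟩, h4⟩ := hT.uniq u u.2 h1
      rw [Finset.sum_eq_zero fun (c : zpowers a) _ => if_neg fun e => h1 c c.2 (FC.symm e), zero_add,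
        Finset.sum_eq_single_of_mem t h2 fun s hs h5 => if_neg fun e => h5 (h4 s ⟨hs, e⟩), if_pos h3]
    push Not at h1
    obtain ⟨c, hc', h2⟩ := h1
    lift c to zpowers a using hc'
    have h3 : ∀ d : zpowers a, FC 2 P e d u ↔ d = c ∨ d = gam hm c := fun d => by
      rw [Subtype.ext_iff, Subtype.ext_iff, coe_gam, ← h.mc_fc hm c.2 d.2]
      exact ⟨fun e => (e.trans h.bp h2).symm, fun e => e.symm.trans h.bp h2.symm⟩
    rw [Finset.sum_eq_zero (s := T) fun t ht => if_neg fun e => hT.unf t ht c c.2 (e.trans h.bp h2),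
      add_zero, ← Finset.sum_filter, show Finset.univ.filter _ = {c, gam hm c} by ext; simp [h3]]
    by_cases h4 : c ∈ zW a n
    · rcases hc.mem_z h4 with rfl | rfl <;> simp [hc.γz, h4]
    · rw [Finset.sum_pair fun e => h4 ((mc_mem_zW hm hn).2 (hm.fix c.2
        (mul_inv_eq_iff_eq_mul.1 (congrArg Subtype.val e).symm))), if_neg h4, if_neg fun e => h4 (by
          rw [mc_mem_zW hm hn] at e ⊢; rwa [coe_gam, conj_mul, conj_eq_one_iff] at e)]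
      norm_num
  rw [Finset.sum_congr rfl fun u _ => by rw [← mul_one (_ * F _), ← h1 u, mul_add, Finset.mul_sum,
    Finset.mul_sum], Finset.sum_add_distrib, Finset.sum_comm, Finset.sum_comm (t := T),
    Finset.sum_congr rfl fun c _ => h.bp.sum_fc (hm.le c.2) hF _,
    Finset.sum_congr rfl fun t ht => h.bp.sum_fc (hT.mem t ht) hF _,
    ← Finset.sum_filter_add_sum_filter_not _ (· ∈ zW a n), Finset.mul_sum,
    show Finset.univ.filter (· ∈ zW a n) = {1, aW a ^ 2 ^ n} by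
      ext u; simpa using ⟨hc.mem_z, by rintro (rfl | rfl) <;> simp⟩,
    Finset.sum_pair fun e => mc_z_ne hm (congrArg Subtype.val e).symm]
  simp only [one_mem, mem_zpowers, if_true, one_mul]
  congr 2
  exact Finset.sum_congr rfl fun u hu => by rw [if_neg (Finset.mem_filter.1 hu).2]

end MCs

end Cfsg.Agent.Blk
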