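import Cfsg.Agent.Lib.Block.TameF

/-!
A congruence for the cubes of generalized decomposition numbers.
-/

set_option autoImplicit false

namespace Cfsg.Agent.Blk
open MonoidAlgebra
open Cfsg.Agent.Char hiding cj cj_mul cj_inv_cj cj_cj_inv sum_cj_eq om
open scoped ComplexConjugate
attribute [local instance] _root_.Classical.propDecidable
open Subgroup (zpowers mem_zpowers)

variable {G : Type*} [Group G] [Fintype G] {M : Ideal AlgInt} [PMod M 2] {u s : G}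

omit [Fintype G] in
theorem mul_mul_ne_one [Finite G] (hu : ∃ k : ℕ, orderOf u = 2 ^ k) (h1 : u ≠ 1) {x y : G}
    (hx : x ∈ zpowers u) (hy : y ∈ zpowers u) (h2 : orderOf x = orderOf u)
    (h3 : orderOf y = orderOf u) : x * y * u ≠ 1 := fun h => by
  obtain ⟨i, rfl⟩ : ∃ i : ℕ, u ^ i = x := mem_powers_iff_mem_zpowers.2 hx
  obtain ⟨j, rfl⟩ : ∃ i : ℕ, u ^ i = y := mem_powers_iff_mem_zpowers.2 hy
  have h4 := dvd_orderOf_of_pelt hu h1
  have k : ∀ i : ℕ, orderOf (u ^ i) = orderOf u → ¬ 2 ∣ i := fun i e h5 => by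
    rw [orderOf_pow, Nat.div_eq_self] at e
    have := Nat.dvd_gcd h4 h5
    have := orderOf_pos u
    omega
  rw [← pow_add, ← pow_succ, ← orderOf_dvd_iff_pow_eq_one] at h
  have := h4.trans h
  have := k i h2
  have := k j h3
  omega

theorem sum_om_sq {b : Set (IrrCharacter G)} (hb : IsPBlock M b) (hu : u ∈ Subgroup.center G)
    (hD : IsDef 2 ⊤ (bar M b) (zpowers u)) (h1 : u ≠ 1) {f : G → ℂ}
    (h0 : ∀ g x, IsPPart 2 g x → orderOf x ≠ orderOf u → f g = 0) (hs : ¬ 2 ∣ orderOf s) :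
    ∑ ξ ∈ fs b, om ξ (zf f) ^ 2 * (ξ.1 1 * ξ.1 (u * s)) = 0 := by
  have := Fintype.ofFinite (zpowers u)
  have h2 : zpowers u ≤ Subgroup.center G := Subgroup.zpowers_le.2 hu
  have h3 := sup_Ce_of_le_center h2
  haveI := normal_of_sup_Ce h3
  have h4 : ∀ g, g ∈ Ce (zpowers u) := fun g => mem_Ce.2 fun q hq =>
    (Subgroup.mem_center_iff.1 (h2 hq) g).symm
  obtain ⟨θ, h5, -, -, -, h6⟩ := hb.exists_canon hD fun g _ => h4 g
  have h7 : ∀ ξ ∈ fs b, om ξ (zf f) = ∑ y : zpowers u,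
      (∑ t, if 2 ∣ orderOf t then 0 else conj (f (y * t)) * θ.1 t / θ.1 1) * (ξ.1 y / ξ.1 1) :=
    fun ξ hξ => by
      have e := ξ.2.apply_one_ne_zero
      have e' := θ.2.apply_one_ne_zero
      rw [om_eq_sum, Finset.sum_congr rfl fun g _ => show _ = if ∃ x ∈ zpowers u, IsPPart 2 g x then
        (zf f).coeff g * ξ.1 g / ξ.1 1 else 0 by
          split_ifs with e
          · rfl
          · obtain ⟨x, hx⟩ := exists_isPPart 2 g
            simp [hb.apply_eq_zero_of_notMem hD (mem_fs.1 hξ) g x hx fun e' => e ⟨x, e', hx⟩],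
        sum_ppart_mem hD.pg fun g _ => h4 g]
      refine Finset.sum_congr rfl fun y _ => ?_
      rw [Finset.sum_mul]
      refine Finset.sum_congr rfl fun t _ => ?_
      split_ifs with ht
      · simp
      · rw [coeff_zf, (eq_div_iff e).2 (irr_mul_of_sup_Ce h3 ξ y.2 (h4 t)),
          (eq_div_iff e').2 (apply_eq_of_rank h6 (mem_fs.1 hξ) h5 ht)]
        field_simp
  generalize hc : (fun y : zpowers u => ∑ t, if 2 ∣ orderOf t then 0 else
    conj (f (y * t)) * θ.1 t / θ.1 1) = c at h7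
  simp only [congrFun hc] at h7
  rw [Finset.sum_congr rfl fun ξ hξ => by rw [h7 ξ hξ, sq, Finset.sum_mul_sum, Finset.sum_mul],
    Finset.sum_comm]
  refine Finset.sum_eq_zero fun x _ => ?_
  simp only [Finset.sum_mul]
  rw [Finset.sum_comm]
  refine Finset.sum_eq_zero fun y _ => ?_
  have h8 : ∀ y : zpowers u, orderOf (y : G) ≠ orderOf u → c y = 0 := fun y hy => by
    rw [← hc]
    refine Finset.sum_eq_zero fun t _ => ?_
    split_ifs with ht
    · rfl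
    · simp [h0 _ _ (isPPart_mul (mem_Ce.1 (h4 t) _ y.2) (pelt_of_mem hD.pg y.2) ht) hy]
  by_cases hx : orderOf (x : G) = orderOf u
  swap
  · simp [h8 x hx]
  by_cases hy : orderOf (y : G) = orderOf u
  swap
  · simp [h8 y hy]
  have h9 : (x : G) * y * u ∈ zpowers u := mul_mem (mul_mem x.2 y.2) (mem_zpowers u)
  have h10 := hb.isUB.sum_degree_mul_eq_zero (p := 2) (y := x * y * u * s) (by_contra fun e =>
    mul_mul_ne_one (pelt_of_mem hD.pg (mem_zpowers u)) h1 x.2 y.2 hx hy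
      ((isPPart_mul (mem_Ce.1 (h4 s) _ h9) (pelt_of_mem hD.pg h9) hs).eq_one_iff.2 e))
  rw [← mul_zero (c x * c y), ← h10, Finset.mul_sum]
  refine Finset.sum_congr rfl fun ξ _ => ?_
  have e := ξ.2.apply_one_ne_zero
  rw [mul_assoc (x : G), mul_assoc (x : G), mul_assoc (y : G),
    (eq_div_iff e).2 (irr_mul_of_sup_Ce h3 ξ x.2 (h4 _)),
    (eq_div_iff e).2 (irr_mul_of_sup_Ce h3 ξ y.2 (h4 _))]
  field_simp

theorem LI_of_mul_phi {b : Set (IrrCharacter G)} (hn : IsNilpotentBlock 2 M b) {c : ℂ}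
    (h : ∀ s, ¬ 2 ∣ orderOf s → MemLocalIdeal M (c * phi 2 b s)) : MemLocalIdeal M c := by
  have h1 := (hn.blk.not_LI_om_zr_iff hn.hz_mem).2 ⟨hn.hz_mem, hn.hz_height⟩
  have h2 : ∀ g, MemLocalIdeal M ((c • zr 2 (hz 2 b).1).coeff g) := fun g => by
    rw [← zr_smul, coeff_zr]
    refine LI_mul_left (pu_mem M G) ?_
    by_cases hg : 2 ∣ orderOf g⁻¹
    · rw [reg_of_dvd hg]; exact LI_zero
    · simpa [phi, reg_of_preg hg] using h _ hg
  have h3 : IsInt M (c • zr 2 (hz 2 b).1) := fun g => LI_mem_O (h2 g)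
  have h4 := LI_om_toC (hz 2 b).2 (liftO_mem_Z (Subalgebra.smul_mem _
    (zr_mem (hz 2 b).2.isClassFunction) c) h3) (toK_eq_zero_iff.2 fun g => by
      rw [← coeff_toC, toC_liftO h3]; exact h2 g)
  rwa [toC_liftO h3, om_smul, LI_mul_unit_iff (om_zr_mem M _ _) h1] at h4

theorem cubic {b : Set (IrrCharacter (Ce1 u))} (hn : IsNilpotentBlock 2 M b) (h1 : u ≠ 1)
    (hD : IsDef 2 (Ce1 u) (barS M (Ce1 u) b) (zpowers u)) :
    MemLocalIdeal M (∑ χ : IrrCharacter G,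
      (Nat.card G : ℂ) / χ.1 1 * dn 2 u b χ.1 ^ 3 / (2 ^ blockDefect 2 b) ^ 2) := by
  have := Fintype.ofFinite (Ce1 u)
  have hu := pelt_of_mem hD.pg (mem_zpowers u)
  have hb := hn.blk.isUB
  have h2 : IsInt M (zf (th 2 u b)) := isInt_zf M <| Iu_mem (integralClosure ℤ ℂ).toSubring hu
    (isClassFunction_phi _ _) fun s hs => by
      rw [phi, reg_of_preg hs]; exact (hz 2 b).2.isCharacter.isIntegral s
  have h3 := zf_mem (isClassFunction_th 2 u b)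
  obtain ⟨Y, h4⟩ := isInt_iff.1 h2
  have h5 := toK_mem_Z (toC_mem_Z_iff.1 (h4 ▸ h3))
  have h6 : rs (Ce1 u) (toK M Y * toK M Y) = rs (Ce1 u) (toK M Y) * rs (Ce1 u) (toK M Y) :=
    es_injective _ (by
      rw [es_rs, map_mul (es _), es_rs, tr_Ce1, tr_Ce1, Br_mul hD.pg (inv_anti le_top h5.2)
        (inv_anti le_top h5.2)])
  have h7 : rs (Ce1 u) (zf (th 2 u b)) = zf fun c : Ce1 u => th 2 u b c := by
    ext c; simp [coeff_zf]
  refine LI_of_mul_phi hn fun s hs => ?_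
  have h8 : (es (Ce1 u) (fC b) * (zf (th 2 u b) * zf (th 2 u b))).coeff (u * s)⁻¹ =
      (∑ χ : IrrCharacter G, (Nat.card G : ℂ) / χ.1 1 * dn 2 u b χ.1 ^ 3 /
        (2 ^ blockDefect 2 b) ^ 2) * phi 2 b s := by
    rw [coeff_eq_sum_ch, Finset.mul_sum, Finset.sum_mul]
    refine Finset.sum_congr rfl fun χ _ => ?_
    have e := loc_apply b χ.2.isClassFunction hs
    rw [hn.loc_eq, Pi.smul_apply, smul_eq_mul] at e
    rw [← (Z_top_comm (mul_mem h3 h3) _).eq, mul_assoc (_ * _), ch_central_mul χ.2 (mul_mem h3 h3),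
      om_mul χ.2 h3, inv_inv, ← e, om_zf, ← conj_classInner,
      classInner_th hu hn χ.2.isClassFunction, cast_deg]
    have := χ.2.apply_one_ne_zero
    have := card_ne_zero' G
    simp only [map_mul, map_inv₀, map_pow, Complex.conj_conj, Nat.cast_ofNat, map_ofNat]
    field_simp
  have h9 : (fC b * (rs (Ce1 u) (zf (th 2 u b)) * rs (Ce1 u) (zf (th 2 u b)))).coeff
      (uC u * s)⁻¹ = 0 := by
    have e : zf (fun c : Ce1 u => th 2 u b c) ∈ _ :=
      zf_mem (isClassFunction_comp (isClassFunction_th 2 u b) (Ce1 u).subtype)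
    have e1 : (zpowers (uC u)).map (Ce1 u).subtype = zpowers u := MonoidHom.map_zpowers _ _
    have e2 := sum_om_sq hn.blk (mem_center_Ce1 u) (isDef_es_iff.1 (e1.symm ▸ hD))
      (fun e => h1 (congrArg Subtype.val e)) (f := fun c : Ce1 u => th 2 u b c) (fun g x hx e =>
        Iu_eq_zero hu _ hx.coe fun e' => e (by
          rw [← Subgroup.orderOf_coe, ← orderOf_of_isConj e', Subgroup.orderOf_mk])) hs
    rw [h7, coeff_Z_eq_sum (mul_mem (fC_mem b) (mul_mem e e)), ← mul_zero (Nat.card (Ce1 u) : ℂ)⁻¹,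
      ← e2, ← sum_ite_fs]
    refine congrArg _ (Finset.sum_congr rfl fun ξ _ => ?_)
    rw [om_mul ξ.2 (fC_mem b), om_fC, om_mul ξ.2 e, ξ.2.isCharacter.apply_inv, Complex.conj_conj]
    split_ifs
    · rw [one_mul, sq]; rfl
    · simp
  rw [← h8, ← hb.toC_fOS, ← h4, ← map_mul, ← map_mul, coeff_toC, ← rd_eq_zero_iff (Subtype.prop _), ← coeff_toK, map_mul, map_mul, toK_fOS]
  change MonoidAlgebra.coeff _ ((uC u * s)⁻¹ : Ce1 u).1 = 0
  rw [← coeff_rs, rs_mul_left (barS_mem _ _).1, h6, barS, rs_es, ← toK_fO, ← cf_rs, ← map_mul,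
    ← map_mul, coeff_toK, ← coeff_toC, map_mul, map_mul, hb.toC_fO, cf_rs, h4, h9, rd_zero]

theorem two_div_mem {k : ℕ} {ω : ℂ} (h1 : ω ^ 2 ^ k = 1) (h2 : ω ^ 2 ≠ 1) :
    2 / (1 - ω) ^ 2 ∈ O M := by
  induction k generalizing ω with
  | zero => simp [show ω = 1 by simpa using h1] at h2
  | succ k ih =>
    have h3 := mem_O_of_pow_eq_one M (by positivity) h1
    have h4 : 1 - ω ≠ 0 := fun e => h2 (by rw [← sub_eq_zero.1 e, one_pow])
    by_cases h5 : (ω ^ 2) ^ 2 = 1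
    · have h6 := (sq_eq_one_iff.1 h5).resolve_left h2
      rwa [div_eq_iff (pow_ne_zero _ h4) |>.2 (show 2 = ω * _ by linear_combination (2 - ω) * h6)]
    · have h6 : 1 + ω ≠ 0 := fun e => h2 (by linear_combination (ω - 1) * e)
      have := mul_mem (pow_mem (add_mem (one_mem _) h3) 2) (ih (by rwa [← pow_mul, ← pow_succ']) h5)
      rw [show 1 - ω ^ 2 = (1 + ω) * (1 - ω) by ring] at this
      convert this using 1
      field_simp

theorem exc_arith {n : ℕ} {ξ ξ' w : ℂ} (h1 : ξ ^ 2 ^ (n + 1) = 1) (h2 : ξ' * ξ = 1 ∨ ξ' * ξ = -1)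
    (h3 : ξ' ≠ ξ) (h4 : ξ' ≠ -ξ) (hw : w ∈ O M) (hw' : ¬ MemLocalIdeal M w) {x y z : ℤ}
    (hx : ¬ 2 ∣ x) (hy : ¬ 2 ∣ y) (hz : ¬ 2 ∣ z) (h5 : 2 * x + y + z = 0) : ¬ MemLocalIdeal M
      (2 ^ (n + 2) * w / (2 ^ (n + 1)) ^ 2 * (-(2 + 6 * (ξ + ξ') ^ 2) / x - 1 / y - 1 / z)) := by
  intro h
  have h0 : ξ ≠ 0 := by rintro rfl; simp at h1
  have h6 : ξ ^ 4 ≠ 1 := fun e => by
    have : (ξ' - ξ) * (ξ' + ξ) * ξ ^ 2 = 0 := by
      rcases h2 with h2 | h2
      · linear_combination (ξ' * ξ + 1) * h2 - e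
      · linear_combination (ξ' * ξ - 1) * h2 - e
    simp [sub_ne_zero.2 h3, h0, add_eq_zero_iff_eq_neg, h4] at this
  obtain ⟨k, rfl⟩ : ∃ k, n = k + 2 := by
    rcases n with _ | _ | n
    · exact absurd (by linear_combination (ξ ^ 2 + 1) * h1) h6
    · exact absurd h1 h6
    · exact ⟨n, rfl⟩
  have h7 := mem_O_of_pow_eq_one M (by positivity) h1
  have h8 : 2 / (ξ + ξ') ^ 2 ∈ O M := by
    have e : ∀ c : ℂ, c ^ 2 = 1 → ξ' * ξ = c → 2 / (ξ + ξ') ^ 2 ∈ O M := fun c e1 e2 => by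
      have := mul_mem (pow_mem h7 2) (two_div_mem (M := M) (k := k + 2 + 1) (ω := -c * ξ ^ 2) (by
        rw [mul_pow, ← pow_mul ξ, mul_comm 2, pow_mul ξ, h1, pow_succ' 2, pow_mul, neg_sq, e1]; simp)
        (by rwa [mul_pow, neg_sq, e1, one_mul, ← pow_mul]))
      rw [show (1 - -c * ξ ^ 2) ^ 2 = ξ ^ 2 * (ξ + ξ') ^ 2 by
        linear_combination (ξ ^ 4 - 1) * e1 - (2 * ξ ^ 2 + ξ' * ξ + c) * e2] at this
      convert this using 1
      field_simp
    rcases h2 with h2 | h2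
    exacts [e 1 (by simp) h2, e (-1) (by simp) h2]
  obtain ⟨q, rfl⟩ : ∃ q, y = z + 4 * q := ⟨(y - z) / 4, by omega⟩
  obtain rfl : x = -(z + 2 * q) := by omega
  have u : ∀ t : ℤ, ¬ 2 ∣ t → (t : ℂ) ≠ 0 := fun t ht => Int.cast_ne_zero.2 (by rintro rfl; simp at ht)
  have h9 := LI_add (LI_mul_left (mul_mem (mul_mem (pow_mem (natCast_mem (O M) 2) k)
    (intCast_mem _ (-(-(z + 2 * q) * (z + 4 * q) * z)))) (inv_mem_O_of_not_LI hw hw')) h)
    (LI_mul_left (intCast_mem _ (q ^ 2)) (LI_p (M := M)))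
  have h10 : ξ + ξ' ≠ 0 := fun e => h4 (eq_neg_of_add_eq_zero_right e)
  refine not_LI_of_inv_mem_O (div_ne_zero (pow_ne_zero 2 h10) two_ne_zero) (by rwa [inv_div])
    ((LI_mul_unit_iff (intCast_mem _ (3 * (z + 4 * q) * z)) (LI_intCast_iff.not.2 ?_)).1 ?_)
  · simp only [Nat.cast_ofNat, Int.prime_two.dvd_mul, not_or]
    exact ⟨⟨by decide, hy⟩, hz⟩
  have := u _ hx
  have := u _ hy
  have := u _ hz
  have := ne_zero_of_not_LI hw'
  convert h9 using 1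
  generalize ξ + ξ' = ρ
  have e1 : (q : ℂ) = (((z + 4 * q : ℤ) : ℂ) - z) / 4 := by push_cast; ring
  have e2 : ((-(z + 2 * q) : ℤ) : ℂ) = -(((z + 4 * q : ℤ) : ℂ) + z) / 2 := by push_cast; ring
  push_cast [-Int.cast_add, -Int.cast_neg]
  rw [Int.cast_neg, Int.cast_mul, Int.cast_mul]
  field_simp
  rw [e1, e2]
  ring

theorem TC.parity {Λ ι : Type*} [AddCommGroup Λ] [Fintype Λ] {g : Λ →+ Λ} {ν : Λ}
    {E : AddSubgroup Λ} {s : Finset ι} {c : ι → Λ → ℤ} {d : ι → ℤ} {x : ι} (h : TC g ν E s c d)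
    (hx : x ∈ s) : 2 ∣ ∑ l, c x l ↔ c x ν - c x 0 = 0 := by
  have h1 : ((∑ l with g l ≠ l, c x l : ℤ) : ZMod 2) = 0 := by
    push_cast
    exact Finset.sum_involution (fun l _ => g l) (fun l _ => by
      rw [h.cg x hx, CharTwo.add_self_eq_zero]) (fun l hl _ => (Finset.mem_filter.1 hl).2)
      (fun l hl => by simpa using h.nf_g (Finset.mem_filter.1 hl).2) fun l _ => h.gg l
  have h2 := (ZMod.intCast_zmod_eq_zero_iff_dvd _ 2).1 h1
  rw [← Finset.sum_filter_add_sum_filter_not _ fun l => g l ≠ l,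
    show Finset.univ.filter (fun l => ¬ g l ≠ l) = {0, ν} by
      ext; simp only [Finset.mem_filter, Finset.mem_univ, true_and, not_not, h.fix]; simp,
    Finset.sum_pair h.ne.symm]
  have := h.sign hx
  omega

section Data
open Transfer (MC)
variable {B : Set (IrrCharacter G)} {P : Subgroup G} {e : (kk M)[G]} {a b : G} {n : ℕ}
  {χ : IrrCharacter G}

theorem mc_a_notMem (hm : MC P a b n) (hn : 1 ≤ n) : aW a ∉ zW a n := fun h => by
  have := Nat.le_of_dvd two_pos (orderOf_dvd_of_pow_eq_one ((sq a).trans ((mc_mem_zW hm hn).1 h)))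
  have := Nat.pow_le_pow_right (i := 2) two_pos (show 2 ≤ n + 1 by omega)
  have := hm.ord
  omega

theorem MP.mc_U' (h : MP 2 B P e) (hm : MC P a b n) (hn : 1 ≤ n) {u : zpowers a} (hu : u ∉ zW a n) :
    IsDef 2 (Ce1 (u : G)) (barS M (Ce1 (u : G)) (sb 2 P e u)) (zpowers a) ∧
      IsNilpotentBlock 2 M (sb 2 P e (u : G)) ∧
      (2 : ℂ) ^ blockDefect 2 (sb 2 P e (u : G)) = 2 ^ (n + 1) :=
  h.mc_U hm hn u.2 ((mc_mem_zW hm hn).not.1 hu)

theorem MP.exists_tc (h : MP 2 B P e) (hm : MC P a b n) (hn : 1 ≤ n) :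
    ∃ (c : IrrCharacter G → LW (zpowers a) → ℤ) (ε : zpowers a → ℂ),
      TC (gW (gam hm)) (nuW (aW a)) (EW (zW a n)) (fs B) c (fun χ => charDegree χ.1) ∧
      (∀ u, ε u * conj (ε u) = 1 ∧ IsIntegral ℤ (ε u)) ∧ ∀ u, u ∉ zW a n → ∀ χ ∈ B,
        dn 2 (u : G) (sb 2 P e u) χ.1 = (∑ l, c χ l * ev l u) * ε u := by
  have := Fintype.ofFinite (zpowers a)
  have hc := mc_cw hm hn
  have h1 : a ^ 2 ^ (n - 1) ∈ zpowers a := pow_mem (mem_zpowers a) _
  have h2 := (isNilpotentBlock_iffS.1 (h.mc_U hm hn h1 (hm.w_mul hn ▸ mc_z_ne hm)).2.1).2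
  rw [h.barS_sb (hm.le h1), ← Ce_zpowers] at h2
  obtain ⟨D, ε, h3, h4, h5⟩ := h.exists_D (Subgroup.zpowers_le.2 (hm.le h1)) (mc_le_No hm h1) h2
  let j := Subgroup.inclusion hm.le
  have h6 : ∀ u, u ∉ zW a n → ∀ χ : IrrCharacter G,
      dn 2 (u : G) (sb 2 P e u) χ.1 = D χ.1 (j u) * ε (j u) := fun u hu χ =>
    (h5 (j u) (mc_w_mem hm hn u.2 ((mc_mem_zW hm hn).not.1 hu))).2 _ χ.2.isClassFunction
  have h7 : ∀ u, u ∉ zW a n → ∀ χ : IrrCharacter G,
      D χ.1 (j u) = dn 2 (u : G) (sb 2 P e u) χ.1 * conj (ε (j u)) := fun u hu χ => by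
    rw [h6 u hu, mul_assoc, (h4 _).1, mul_one]
  have h8 : ∀ (χ : IrrCharacter G) u, D χ.1 (j (gam hm u)) = D χ.1 (j u) := fun χ u =>
    (h3 _ χ.2.isGen).isClassFunction.apply_conj (j u) ⟨b, hm.mem_b⟩
  obtain ⟨c, t, e1, -⟩ := hc.exists_tc le_rfl (s := fs B) (D := fun χ u => D χ.1 (j u))
    (d := fun χ => charDegree χ.1) (fun χ _ => (h3 _ χ.2.isGen).comp j) (fun χ _ => h8 χ)
    (fun u v hu hv => by
      have b1 := h.mc_U' hm hn hu
      have b2 : gam hm u ≠ u := fun e => hu ((mc_mem_zW hm hn).2 (hm.fix u.2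
        (mul_inv_eq_iff_eq_mul.1 (congrArg Subtype.val e))))
      by_cases e : v = u ∨ v = gam hm u
      · rw [Finset.sum_congr rfl fun χ _ => by
          rw [show D χ.1 (j v) = D χ.1 (j u) by rcases e with rfl | rfl; exacts [rfl, h8 χ u],
            h7 u hu, map_mul, mul_mul_mul_comm, ← map_mul, (h4 _).1, map_one, mul_one],
          h.sum_dn_self (hm.le u.2) b1.2.1, Nat.cast_ofNat, b1.2.2, hc.card]
        rcases e with rfl | rfl <;> simp [b2, b2.symm]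
      · rw [Finset.sum_congr rfl fun χ _ => by rw [h7 u hu, h7 v hv, map_mul, mul_mul_mul_comm],
          ← Finset.sum_mul, h.sum_dn_of_not_fc (hm.le v.2) (h.mc_U' hm hn hv).2.1 (hm.le u.2) b1.2.1
            fun e' => e (((h.mc_fc hm u.2 v.2).1 e').imp Subtype.ext Subtype.ext)]
        simp [not_or.1 e])
    (fun χ _ => Int.natCast_pos.2 (Nat.pos_of_ne_zero (charDegree_ne_zero χ))) fun u hu => by
      have := congrArg conj (congrFun (h.sum_dn_reg (hm.le u.2) (h.mc_U' hm hn hu).2.1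
        fun e => hu ((Subtype.ext e : u = 1) ▸ one_mem _)) 1)
      simp only [Finset.sum_apply, Pi.smul_apply, smul_eq_mul, reg_of_preg preg_one, map_sum,
        map_mul, Complex.conj_conj, ← cast_deg, map_natCast, Pi.zero_apply, map_zero] at this
      simp only [h7 u hu, mul_right_comm _ (conj _), ← Finset.sum_mul, Int.cast_natCast, this,
        zero_mul]
  exact ⟨c, fun u => ε (j u), t, fun u => ⟨(h4 _).1, (h4 _).2.1⟩, fun u hu χ hχ => by
    rw [h6 u hu, e1 χ (mem_fs.2 hχ)]⟩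

variable (h : MP 2 B P e) (hm : MC P a b n) (hn : 1 ≤ n) {c : IrrCharacter G → LW (zpowers a) → ℤ}
  {ε : zpowers a → ℂ}
  (t : TC (gW (gam hm)) (nuW (aW a)) (EW (zW a n)) (fs B) c fun χ => charDegree χ.1)
  (hε : ∀ u, ε u * conj (ε u) = 1 ∧ IsIntegral ℤ (ε u))
  (hd : ∀ u, u ∉ zW a n → ∀ χ ∈ B, dn 2 (u : G) (sb 2 P e u) χ.1 = (∑ l, c χ l * ev l u) * ε u)
include h hn t hε hd

theorem MP.height_iff (hχ : χ ∈ B) : blockHeight 2 B χ = 0 ↔ c χ (nuW (aW a)) - c χ 0 ≠ 0 := by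
  have := Fintype.ofFinite (Ce1 (aW a : G))
  have h1 := mc_a_notMem hm hn
  have h2 := (h.sb_ind (u := (aW a : G)) hm.mem_a).not_LI_cm_iff
    (h.pelt (u := (aW a : G)) hm.mem_a) χ χ
  have h3 : ∀ u, ∑ l, c χ l * ev l u ∈ O M ∧ rd M (∑ l, c χ l * ev l u) = (∑ l, c χ l : ℤ) :=
    fun u => by
      have e := fun l => (mc_cw hm hn).ev_u l u
      have e' := fun l => mem_O_of_pow_eq_one M (by positivity) (e l)
      refine ⟨sum_mem fun l _ => mul_mem (intCast_mem _ _) (e' l), ?_⟩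
      rw [rd_sum _ _ fun l _ => mul_mem (intCast_mem _ _) (e' l), Int.cast_sum]
      exact Finset.sum_congr rfl fun l _ => by
        rw [rd_mul (intCast_mem _ _) (e' l), rd_eq_one_of_pow_eq_one (e l), mul_one, rd_intCast]
  have h4 : conj (∑ l, c χ l * ev l (aW a)) = ∑ l, c χ l * ev l (aW a)⁻¹ := by
    rw [map_sum]
    exact Finset.sum_congr rfl fun l _ => by
      rw [map_mul, map_intCast, ev_inv, eq_inv_of_mul_eq_one_right (ev_mul_conj l _)]
  rw [(h.mc_U' hm hn h1).2.1.cm_eq, hd _ h1 χ hχ, map_mul, mul_mul_mul_comm, (hε _).1, mul_one, h4,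
    LI_mul_iff (h3 _).1 (h3 _).1, ← rd_eq_zero_iff (h3 _).1, ← rd_eq_zero_iff (h3 _).1, (h3 _).2,
    (h3 _).2, or_self, ← rd_intCast (M := M), rd_eq_zero_iff (intCast_mem _ _), LI_intCast_iff,
    Nat.cast_ofNat, t.parity (mem_fs.2 hχ)] at h2
  simpa [hχ] using h2.symm

theorem MP.noExc (l : LW (zpowers a)) (hl : gW (gam hm) l ≠ l) (χ : IrrCharacter G) (hχ : χ ∈ fs B)
    (hv : c χ (nuW (aW a)) - c χ 0 ≠ 0) : c χ l - c χ (l + nuW (aW a)) = 0 := by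
  by_contra h0
  have hc := mc_cw hm hn
  have h1 := mc_a_notMem hm hn
  obtain ⟨χ₃, a1, χ₄, a2, a3, a4, a5, a6⟩ := t.exc (r := fun l => ev l (aW a))
    (fun l => by simp [hc.ev_nu]) rfl hχ hl hv h0
  have h2 : ∀ ψ ∈ fs B, c ψ (nuW (aW a)) - c ψ 0 ≠ 0 → ∃ x : ℤ, ¬ 2 ∣ x ∧
      (c ψ (nuW (aW a)) - c ψ 0) * charDegree ψ.1 = 2 ^ mnu 2 B * x := fun ψ hψ e => by
    have e1 := (height_eq_zero_iff (mem_fs.1 hψ)).1 ((h.height_iff hm hn t hε hd (mem_fs.1 hψ)).2 e)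
    have e2 := Nat.ordProj_mul_ordCompl_eq_self (charDegree ψ.1) 2
    have e3 := Nat.not_dvd_ordCompl Nat.prime_two (charDegree_ne_zero ψ)
    generalize ordCompl[2] (charDegree ψ.1) = y at e2 e3
    refine ⟨(c ψ (nuW (aW a)) - c ψ 0) * y, by rcases t.sign hψ e with e | e <;> rw [e] <;> omega, ?_⟩
    rw [← e1, show (charDegree ψ.1 : ℤ) = 2 ^ nu 2 ψ * y by exact_mod_cast e2.symm]
    ring
  obtain ⟨x, b1, b2⟩ := h2 χ hχ hv
  obtain ⟨y, b3, b4⟩ := h2 χ₃ a1 a3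
  obtain ⟨z, b5, b6⟩ := h2 χ₄ a2 a4
  rw [b2, b4, b6] at a5 a6
  obtain ⟨w, b7, b8, b9⟩ := natCast_eq_pow_mul M (Nat.card_pos (α := G)).ne'
  obtain ⟨c1, c2, c3⟩ := h.mc_U' hm hn h1
  have c4 := LI_mul_left (mem_O_of_isIntegral M ((isIntegral_conj (hε (aW a)).2).pow 3))
    (cubic c2 (fun e => h1 ((Subtype.ext e : aW a = 1) ▸ one_mem _)) c1)
  refine exc_arith (hc.ev_a l) (ξ' := ev l (gam hm (aW a))) ?_ (fun e => hl (hc.ext e))
    (fun e => t.not_sim hχ h0 (.inr (hc.ext (by simp [e, hc.ev_nu])))) b7 b8 b1 b3 b5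
    (mul_left_cancel₀ (pow_ne_zero (mnu 2 B) two_ne_zero) (by linear_combination a5)) ?_
  · rcases hc.ev_γa l with e | ⟨-, e⟩
    exacts [.inl e, e ▸ hc.ev_z l]
  convert c4 using 1
  rw [← sum_fs_eq_univ B fun ψ hψ => by
    simp [c2.dn_eq (((h.sb_ind hm.mem_a).loc_eq_zero (h.pelt hm.mem_a) hψ).trans
      (zero_smul ℂ _).symm)], c3, Finset.mul_sum, Finset.sum_congr rfl fun ψ hψ => show _ =
        Nat.card G / (2 ^ (n + 1)) ^ 2 * ((∑ l, c ψ l * ev l (aW a)) ^ 3 / (charDegree ψ.1 : ℤ)) by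
      rw [hd _ h1 ψ (mem_fs.1 hψ), Int.cast_natCast, cast_deg]
      linear_combination Nat.card G / (2 ^ (n + 1)) ^ 2 * ((∑ l, c ψ l * ev l (aW a)) ^ 3 / ψ.1 1) *
        ((ε (aW a) * conj (ε (aW a))) ^ 2 + ε (aW a) * conj (ε (aW a)) + 1) * (hε (aW a)).1,
    ← Finset.mul_sum, a6, b9, ← defect_add_mnu h.blk.nonempty, (h.mc_z hm).2, ev_gW]
  push_cast
  field_simp
  ring

end Data

end Cfsg.Agent.Blk
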