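import Cfsg.Agent.Lib.Block.Bound

/-!
Subsections of small rank.
-/

set_option autoImplicit false

namespace Cfsg.Agent.Blk

open MonoidAlgebra
open Cfsg.Agent.Char hiding cj cj_mul cj_inv_cj cj_cj_inv sum_cj_eq om
open scoped ComplexConjugate Classical

theorem two_bound {M : Ideal AlgInt} [PMod M 2] {n : ℕ} (hn : n ≠ 0) {α : Type*} (s : Finset α)
    (m : α → α → ℂ) (h : α → ℕ) {d r : ℕ} (hr : r ≤ 3) (h1 : ∀ a ∈ s, m a a ∈ Zq (2 ^ n))
    (h2 : ∀ a ∈ s, TP (m a a))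
    (h3 : ∀ a ∈ s, ∑ c ∈ s, m c a * conj (m c a) = 2 ^ d * m a a)
    (h4 : ∑ a ∈ s, m a a = 2 ^ d * r)
    (h5 : ∀ a ∈ s, ∀ c ∈ s, h a = 0 → ∃ z ∈ Zq (2 ^ n), z ≠ 0 ∧ m c a = 2 ^ h c * z)
    (h6 : ∀ a ∈ s, h a = 0 → ¬ MemLocalIdeal M (m a a))
    (h7 : ∀ a ∈ s, h a ≠ 0 → ∃ z ∈ Zq (2 ^ n), z ≠ 0 ∧ MemLocalIdeal M z ∧ m a a = 2 ^ h a * z) :
    ∑ a ∈ s, (if h a = 0 then 3 else 2 * 2 ^ h a) ≤ 3 * 2 ^ d := by
  obtain ⟨τ, hτ⟩ := exists_tau_two hn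
  by_cases h0 : ∃ a ∈ s, h a = 0 ∧ τ (m a a) = 1
  · obtain ⟨a, ha, h8, h9⟩ := h0
    choose! z hz1 hz2 hz3 using fun c hc => h5 a ha c hc h8
    choose! t ht1 ht2 using fun c hc => hτ.exists_pos
      (mul_mem (hz1 c hc) (conj_mem_Zq hτ.ne (hz1 c hc)))
      (TP.mul_conj (Zq_le_CM hτ.ne (hz1 c hc)))
      (mul_ne_zero (hz2 c hc) ((map_ne_zero _).2 (hz2 c hc)))
    have h10 := congrArg τ (h3 a ha)
    rw [map_sum, Finset.sum_congr rfl (g := fun c => ((2 ^ h c * 2 ^ h c * t c : ℕ) : ℂ))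
      fun c hc => by
        rw [Nat.cast_mul, ← ht2 c hc, ← Tau.nat_mul, hz3 c hc]
        congr 1
        simp only [map_mul, map_pow, map_ofNat]
        push_cast
        ring, show (2 : ℂ) ^ d = ((2 ^ d : ℕ) : ℂ) by simp, Tau.nat_mul, h9, mul_one,
      ← Nat.cast_sum, Nat.cast_inj] at h10
    rw [← h10, Finset.mul_sum]
    refine Finset.sum_le_sum fun c hc => ?_
    have h11 := Nat.pos_of_ne_zero (ht1 c hc)
    have h12 : 1 ≤ 2 ^ h c := Nat.one_le_two_pow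
    have h13 : 2 ^ h c * 1 * 1 ≤ 2 ^ h c * 2 ^ h c * t c := by gcongr; exact h11
    split_ifs <;> omega
  push Not at h0
  have h8 : ∀ a ∈ s, ∃ t : ℕ, τ (m a a) = t ∧ (if h a = 0 then 3 else 2 * 2 ^ h a) ≤ t := by
    intro a ha
    split_ifs with h9
    · obtain ⟨t, h10, h11⟩ := hτ.exists_pos (h1 a ha) (h2 a ha) (ne_zero_of_not_LI (h6 a ha h9))
      have h12 := (hτ.LI_iff (h1 a ha) (h2 a ha).conj_eq h11).not.1 (h6 a ha h9)
      have h13 : t ≠ 1 := fun h14 => h0 a ha h9 (by rw [h11, h14, Nat.cast_one])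
      exact ⟨t, h11, by omega⟩
    · obtain ⟨z, h10, h11, h12, h13⟩ := h7 a ha h9
      have h14 : TP z := by
        have := (TP.nat (2 ^ h a)).inv.mul (h2 a ha)
        rwa [h13, Nat.cast_pow, Nat.cast_ofNat, inv_mul_cancel_left₀ (pow_ne_zero _ two_ne_zero)] at this
      obtain ⟨t, h15, h16⟩ := hτ.exists_pos h10 h14 h11
      have h17 := Nat.le_of_dvd (Nat.pos_of_ne_zero h15) ((hτ.LI_iff h10 h14.conj_eq h16).1 h12)
      refine ⟨2 ^ h a * t, ?_, by rw [mul_comm]; gcongr⟩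
      rw [h13, Nat.cast_mul, ← h16, ← Tau.nat_mul]; simp
  choose! t ht1 ht2 using h8
  have h9 := congrArg τ h4
  rw [map_sum, Finset.sum_congr rfl ht1, show (2 : ℂ) ^ d * r = ((2 ^ d * r : ℕ) : ℂ) by simp,
    hτ.nat, ← Nat.cast_sum, Nat.cast_inj] at h9
  refine (Finset.sum_le_sum ht2).trans ?_
  rw [h9, mul_comm]
  gcongr

variable {G : Type*} [Group G] [Finite G] {M : Ideal AlgInt} {p : ℕ} {u : G}
  {B : Set (IrrCharacter G)} {b : Set (IrrCharacter (Ce1 u))} {χ ψ : IrrCharacter G}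

theorem _root_.Cfsg.IsInducedBlock.defect_eq [PMod M p] {K D : Subgroup G}
    {b : Set (IrrCharacter K)} (h : IsInducedBlock M K b B) (hD : IsDefectGroup p M B D)
    (hDK : D ≤ K) (hb : IsDefectGroup p M b (D.subgroupOf K)) :
    blockDefect p b = blockDefect p B := by
  obtain ⟨h1, h2, -⟩ := isInducedBlock_iff.1 h
  have := (h1.card_isDefS ((h1.isDefectGroup_subgroupOf_iff hDK).1 hb)).symm.trans
    (h2.card_defectGroup hD)
  exact Nat.pow_right_injective (PMod.prime M).two_le this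

variable [Fintype (Ce1 u)]

theorem _root_.Cfsg.IsInducedBlock.LI_of_cm_eq [PMod M p] (hu : ∃ k : ℕ, orderOf u = p ^ k)
    (h : IsInducedBlock M (Ce1 u) b B) (hd : blockDefect p b = blockDefect p B) (hχ : χ ∈ B)
    (h0 : blockHeight p B ψ ≠ 0) {z : ℂ}
    (hz : cm p u b χ.1 ψ.1 = (p : ℂ) ^ blockHeight p B χ * z) : MemLocalIdeal M z := by
  have := Fact.mk (PMod.prime M)
  have := Fintype.ofFinite G
  obtain ⟨hb, hB, -⟩ := isInducedBlock_iff.1 h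
  obtain ⟨η, hη, h5⟩ := exists_height_zero p hB.nonempty
  have hi := isInt_zf M (isIntegral_sec hu b ψ.2.isGen)
  have hz' := zf_mem (isClassFunction_sec (p := p) b ψ.1)
  obtain ⟨w, h1, h2, h3⟩ := hb.isUB.pow_mul_om_sec hχ hd ψ.2.isClassFunction
  obtain ⟨w', h1', h2', h3'⟩ := hb.isUB.pow_mul_om_sec hη hd ψ.2.isClassFunction
  rw [hz, mul_assoc, mul_right_inj' (pow_ne_zero _ (p_ne_zero M))] at h3
  rw [← LI_mul_unit_iff h1 h2, ← h3, LI_om_congr ((hB.blk_eq hχ).trans (hB.blk_eq hη).symm) hz' hi]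
  rw [h5, pow_zero, one_mul] at h3'
  rw [h3', LI_mul_unit_iff h1' h2']
  by_contra h6
  exact h0 ((h.not_LI_cm_iff hu η ψ).1 h6).2.2

theorem cm_mem_Zq [Fact p.Prime] {q : ℕ} (h : ∀ z : ℂ, z ^ orderOf u = 1 → z ^ q = 1)
    {θ φ : G → ℂ} (hθ : IsGeneralizedCharacter G θ) (hφ : IsGeneralizedCharacter G φ) :
    cm p u b θ φ ∈ Zq q := cm_mem _ (fun z hz => mem_Zq_of_pow (h z hz)) hθ hφ

theorem _root_.Cfsg.IsInducedBlock.exists_cm_Zq [PMod M p] (hu : ∃ k : ℕ, orderOf u = p ^ k)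
    (h : IsInducedBlock M (Ce1 u) b B) (hd : blockDefect p b = blockDefect p B) {n : ℕ}
    (hn : ∀ z : ℂ, z ^ orderOf u = 1 → z ^ p ^ n = 1) (hχ : χ ∈ B) (ψ : IrrCharacter G) :
    ∃ z ∈ Zq (p ^ n), cm p u b χ.1 ψ.1 = (p : ℂ) ^ blockHeight p B χ * z := by
  have hp := Fact.mk (PMod.prime M)
  obtain ⟨z, h1, h2⟩ := (isInducedBlock_iff.1 h).1.isUB.exists_cm_eq hu hχ hd ψ.2.isGen
  refine ⟨z, mem_Zq_of_integral h1 (pow_ne_zero (blockHeight p B χ) hp.out.ne_zero) ?_, h2⟩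
  rw [Nat.cast_pow, ← h2]
  exact cm_mem_Zq hn χ.2.isGen ψ.2.isGen

theorem _root_.Cfsg.IsInducedBlock.sum_cm_mul' [PMod M p] (hu : ∃ k : ℕ, orderOf u = p ^ k)
    (h : IsInducedBlock M (Ce1 u) b B) {θ : G → ℂ} (hθ : IsClassFunction G θ) :
    ∑ χ ∈ fs B, cm p u b χ.1 θ * conj (cm p u b χ.1 θ) =
      (p : ℂ) ^ blockDefect p b * cm p u b θ θ := by
  rw [← h.sum_cm_mul hu hθ hθ]
  exact Finset.sum_congr rfl fun χ _ => by rw [← conj_cm θ χ.1, Complex.conj_conj, mul_comm]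

omit [Fintype (Ce1 u)] in
theorem _root_.Cfsg.IsInducedBlock.two_bound [PMod M 2] (hu : ∃ k : ℕ, orderOf u = 2 ^ k)
    (h : IsInducedBlock M (Ce1 u) b B) (hd : blockDefect 2 b = blockDefect 2 B)
    (hl : blockRank 2 b ≤ 3) : ∑ χ ∈ fs B, (if blockHeight 2 B χ = 0 then 3 else
      2 * 2 ^ blockHeight 2 B χ) ≤ 3 * 2 ^ blockDefect 2 B := by
  have := Fintype.ofFinite (Ce1 u)
  obtain ⟨n, hn, h1⟩ := exists_pow_ne_zero hu
  rw [← hd]
  refine Blk.two_bound (M := M) hn (fs B) (fun χ ψ => cm 2 u b χ.1 ψ.1)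
    (fun χ => blockHeight 2 B χ) hl
    (fun χ _ => cm_mem_Zq h1 χ.2.isGen χ.2.isGen) (fun χ _ => tp_cm χ.2.isGen)
    (fun χ _ => h.sum_cm_mul' hu χ.2.isClassFunction) (h.sum_cm_self hu)
    (fun χ hχ ψ hψ h0 => ?_) (fun χ hχ h0 => ?_) fun χ hχ h0 => ?_
  · obtain ⟨z, h2, h3⟩ := h.exists_cm_Zq hu hd h1 (mem_fs.1 hψ) χ
    exact ⟨z, h2, right_ne_zero_of_mul
      (h3 ▸ h.cm_ne_zero hu hd (mem_fs.1 hψ) (mem_fs.1 hχ) h0), h3⟩
  · exact (h.not_LI_cm_iff hu χ χ).2 ⟨⟨mem_fs.1 hχ, h0⟩, mem_fs.1 hχ, h0⟩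
  · obtain ⟨z, h2, h3⟩ := h.exists_cm_Zq hu hd h1 (mem_fs.1 hχ) χ
    exact ⟨z, h2, right_ne_zero_of_mul (h3 ▸ h.cm_self_ne_zero hu hd (mem_fs.1 hχ)),
      h.LI_of_cm_eq hu hd (mem_fs.1 hχ) h0 h3, h3⟩

omit [Fintype (Ce1 u)] in
theorem _root_.Cfsg.IsInducedBlock.card_le_of_corank [PMod M 2] (hu : ∃ k : ℕ, orderOf u = 2 ^ k)
    (h : IsInducedBlock M (Ce1 u) b B) (hd : blockDefect 2 b = blockDefect 2 B)
    (hl : (fs B).card ≤ blockRank 2 b + 3) : (fs B).card ≤ 2 ^ blockDefect 2 B := by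
  have := Fintype.ofFinite (Ce1 u)
  have := Fintype.ofFinite G
  have hB := (isInducedBlock_iff.1 h).2.1
  by_cases hd0 : blockDefect 2 B = 0
  · rw [hB.card_eq_one hd0]; exact Nat.one_le_two_pow
  obtain ⟨n, hn, h1⟩ := exists_pow_ne_zero hu
  set d := blockDefect 2 B with hdB
  let m : IrrCharacter G → IrrCharacter G → ℂ := fun χ ψ =>
    (if χ = ψ then 2 ^ d else 0) - cm 2 u b χ.1 ψ.1
  have h2 : ∀ χ ∈ fs B, ∑ ψ ∈ fs B, m ψ χ * conj (m ψ χ) = 2 ^ d * m χ χ := fun χ hχ => by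
    have h3 := h.sum_cm_mul' hu χ.2.isClassFunction
    simp only [m, map_sub, sub_mul, mul_sub, Finset.sum_sub_distrib, h3, ite_mul, zero_mul,
      apply_ite conj, map_zero, mul_ite, mul_zero, Finset.sum_ite_eq', hχ, if_true, hd, map_pow,
      map_ofNat, (tp_cm χ.2.isGen).conj_eq]
    push_cast
    ring
  have h3 : ∀ χ ψ, m χ ψ ∈ Zq (2 ^ n) := fun χ ψ => sub_mem (by
    split_ifs
    · exact pow_mem (ofNat_mem _ _) _
    · exact zero_mem _) (cm_mem_Zq h1 χ.2.isGen ψ.2.isGen)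
  have h4 : ∀ χ ∈ fs B, TP (m χ χ) := fun χ hχ => by
    have h5 := (TP.nat (2 ^ d)).inv.mul (TP.sum (fs B) fun ψ _ =>
      TP.mul_conj (Zq_le_CM (by positivity) (h3 ψ χ)))
    rwa [h2 χ hχ, Nat.cast_pow, Nat.cast_ofNat, inv_mul_cancel_left₀ (pow_ne_zero _ two_ne_zero)] at h5
  have h5 : ∑ χ ∈ fs B, m χ χ = 2 ^ d * ((fs B).card - blockRank 2 b) := by
    simp only [m, if_true, Finset.sum_sub_distrib, h.sum_cm_self hu, Finset.sum_const,
      nsmul_eq_mul, hd]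
    push_cast
    ring
  have h6 : blockRank 2 b ≤ (fs B).card := by
    obtain ⟨r, h6, h7⟩ := TP.sum (fs B) h4 (RingEquiv.refl ℂ)
    rw [RingEquiv.refl_apply, h5] at h7
    have h8 : (2 ^ d * ((fs B).card - blockRank 2 b) : ℝ) = r := by exact_mod_cast h7
    rw [← h8, mul_nonneg_iff_of_pos_left (by positivity), sub_nonneg] at h6
    exact_mod_cast h6
  have h7 : MemLocalIdeal M ((2 : ℂ) ^ d) := by
    exact_mod_cast (LI_natCast_iff (M := M) (n := 2 ^ d)).2 (dvd_pow_self 2 hd0)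
  have h8 : ∀ χ ∈ fs B, blockHeight 2 B χ = 0 → ¬ MemLocalIdeal M (m χ χ) := fun χ hχ h0 h9 =>
    (h.not_LI_cm_iff hu χ χ).2 ⟨⟨mem_fs.1 hχ, h0⟩, mem_fs.1 hχ, h0⟩ (by
      simpa [m] using LI_sub h7 h9)
  have h9 : ∀ χ ∈ fs B, ∀ ψ ∈ fs B, blockHeight 2 B χ = 0 →
      ∃ z ∈ Zq (2 ^ n), z ≠ 0 ∧ m ψ χ = 2 ^ blockHeight 2 B ψ * z := fun χ hχ ψ hψ h0 => by
    by_cases h10 : ψ = χ
    · subst h10
      exact ⟨_, h3 ψ ψ, ne_zero_of_not_LI (h8 ψ hψ h0), by rw [h0, pow_zero, one_mul]⟩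
    obtain ⟨z, h11, h12⟩ := h.exists_cm_Zq hu hd h1 (mem_fs.1 hψ) χ
    exact ⟨-z, neg_mem h11, neg_ne_zero.2 (right_ne_zero_of_mul
      (h12 ▸ h.cm_ne_zero hu hd (mem_fs.1 hψ) (mem_fs.1 hχ) h0)), by simp [m, h10, h12]⟩
  have h10 := two_bound (M := M) hn _ m (fun χ => blockHeight 2 B χ) (d := d)
    (r := (fs B).card - blockRank 2 b) (by omega) (fun χ _ => h3 χ χ) h4 h2
    (by rw [h5, Nat.cast_sub h6]) h9 h8 fun χ hχ h0 => by
      obtain ⟨z, h11, h12⟩ := h.exists_cm_Zq hu hd h1 (mem_fs.1 hχ) χ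
      obtain ⟨k, hk⟩ := Nat.exists_eq_add_of_le (hB.height_add_two_le (mem_fs.1 hχ) h0)
      have h13 : m χ χ = 2 ^ blockHeight 2 B χ * (2 * 2 ^ (k + 1) - z) := by
        simp only [m, if_true, h12, hdB, hk]
        push_cast
        ring
      refine ⟨_, sub_mem (mul_mem (ofNat_mem _ _) (pow_mem (ofNat_mem _ _) _)) h11, ?_,
        LI_sub (LI_mul_right (by exact_mod_cast LI_p (M := M)) (pow_mem (ofNat_mem _ _) _))
          (h.LI_of_cm_eq hu hd (mem_fs.1 hχ) h0 h12), h13⟩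
      intro h14
      rw [h14, mul_zero] at h13
      obtain ⟨ψ, hψ, h15⟩ := exists_height_zero 2 hB.nonempty
      obtain ⟨w, -, h16, h17⟩ := h9 ψ (mem_fs.2 hψ) χ hχ h15
      have h18 := h2 χ hχ
      simp only [h13, mul_zero, Complex.mul_conj, ← Complex.ofReal_sum, Complex.ofReal_eq_zero,
        Finset.sum_eq_zero_iff_of_nonneg fun _ _ => Complex.normSq_nonneg _,
        Complex.normSq_eq_zero] at h18
      have h19 : m χ ψ = conj (m ψ χ) := by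
        simp only [m, map_sub, conj_cm, apply_ite conj, map_zero, map_pow, map_ofNat, eq_comm]
      rw [h19, h18 ψ (mem_fs.2 hψ), map_zero] at h17
      exact mul_ne_zero (pow_ne_zero _ two_ne_zero) h16 h17.symm
  refine Nat.le_of_mul_le_mul_left (le_trans ?_ h10) three_pos
  rw [Finset.card_eq_sum_ones, Finset.mul_sum]
  refine Finset.sum_le_sum fun χ _ => ?_
  split_ifs with h11
  · rfl
  · have := Nat.one_lt_two_pow h11
    omega

omit [Fintype (Ce1 u)] in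
theorem _root_.Cfsg.IsInducedBlock.exists_odd [PMod M 2] (hu : ∃ k : ℕ, orderOf u = 2 ^ k)
    (h : IsInducedBlock M (Ce1 u) b B) : ∃ t : ℕ, Odd t ∧
      ((fs B).filter fun χ : IrrCharacter G => blockHeight 2 B χ = 0).card ≤
        t * 2 ^ blockDefect 2 b ∧
      t * ((fs B).filter fun χ : IrrCharacter G => blockHeight 2 B χ = 0).card ≤
        blockRank 2 b * 2 ^ blockDefect 2 b := by
  have := Fintype.ofFinite (Ce1 u)
  have hB := (isInducedBlock_iff.1 h).2.1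
  obtain ⟨n, hn, h1⟩ := exists_pow_ne_zero hu
  obtain ⟨τ, hτ⟩ := exists_tau_two hn
  set S := (fs B).filter fun χ : IrrCharacter G => blockHeight 2 B χ = 0
  have h2 : ∀ χ ∈ S, ∀ ψ ∈ S, ¬ MemLocalIdeal M (cm 2 u b χ.1 ψ.1) := fun χ hχ ψ hψ =>
    (h.not_LI_cm_iff hu χ ψ).2 ⟨by simpa [S] using hχ, by simpa [S] using hψ⟩
  choose! t ht1 ht2 using fun χ hχ => hτ.exists_pos (cm_mem_Zq h1 χ.2.isGen χ.2.isGen)
    (tp_cm χ.2.isGen) (ne_zero_of_not_LI (h2 χ hχ χ hχ))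
  obtain ⟨χ, hχ, h3⟩ := S.exists_min_image t (by
    obtain ⟨ψ, hψ, h3⟩ := exists_height_zero 2 hB.nonempty
    exact ⟨ψ, by simp [S, hψ, h3]⟩)
  have key : ∀ (F : IrrCharacter G → ℂ) (c N : ℕ), (∀ ψ, TP (F ψ)) →
      (∀ ψ ∈ S, (c : ℝ) ≤ (τ (F ψ)).re) → τ (∑ ψ ∈ fs B, F ψ) = N → c * S.card ≤ N := by
    intro F c N h4 h5 h6
    have h7 := (Finset.sum_le_sum h5).trans (Finset.sum_le_sum_of_subset_of_nonneg
      (Finset.filter_subset _ _) fun ψ _ _ => hτ.re_nonneg (h4 ψ))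
    rw [← Complex.re_sum, ← map_sum, h6, Finset.sum_const, nsmul_eq_mul, mul_comm,
      Complex.natCast_re] at h7
    exact_mod_cast h7
  refine ⟨t χ, ?_, (one_mul _).ge.trans (key (fun ψ => cm 2 u b ψ.1 χ.1 * conj (cm 2 u b ψ.1 χ.1))
    1 _ (fun ψ => TP.mul_conj (cm_mem_CM ψ.2.isGen χ.2.isGen)) (fun ψ hψ => ?_) ?_),
    key (fun ψ => cm 2 u b ψ.1 ψ.1) _ _ (fun ψ => tp_cm ψ.2.isGen) (fun ψ hψ => ?_) ?_⟩
  · rw [← Nat.not_even_iff_odd, even_iff_two_dvd, ← hτ.LI_iff (M := M)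
      (cm_mem_Zq h1 χ.2.isGen χ.2.isGen) (tp_cm χ.2.isGen).conj_eq (ht2 χ hχ)]
    exact h2 χ hχ χ hχ
  · have h4 := cm_mem_Zq (p := 2) (b := b) h1 ψ.2.isGen χ.2.isGen
    have h5 := ne_zero_of_not_LI (h2 ψ hψ χ hχ)
    obtain ⟨c, h6, h7⟩ := hτ.exists_pos (mul_mem h4 (conj_mem_Zq hτ.ne h4))
      (TP.mul_conj (Zq_le_CM hτ.ne h4)) (mul_ne_zero h5 ((map_ne_zero _).2 h5))
    rw [h7, Complex.natCast_re]
    exact_mod_cast Nat.pos_of_ne_zero h6
  · rw [h.sum_cm_mul' hu χ.2.isClassFunction, ← Nat.cast_pow, Tau.nat_mul, ht2 χ hχ, mul_comm,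
      Nat.cast_mul]
  · rw [ht2 ψ hψ, Complex.natCast_re]
    exact_mod_cast h3 ψ hψ
  · rw [h.sum_cm_self hu, ← Nat.cast_pow, ← Nat.cast_mul, hτ.nat, mul_comm]

theorem exists_loc_eq (b : Set (IrrCharacter (Ce1 u))) :
    ∃ ω : IrrCharacter (Ce1 u) → ℂ, (∀ ξ, ω ξ ^ orderOf u = 1) ∧
      ∀ θ, IsGeneralizedCharacter G θ → ∃ a : IrrCharacter (Ce1 u) → IrrCharacter (Ce1 u) → ℤ,
        loc p u b θ = ∑ ξ ∈ fs b, ω ξ • reg p (cmb b (a ξ)) := by
  choose ω h1 _ h2 using fun ξ : IrrCharacter (Ce1 u) => exists_coeff_Ru ξ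
  refine ⟨ω, h1, fun θ hθ => ?_⟩
  choose n hn using fun ξ : IrrCharacter (Ce1 u) => (hθ.res (Ce1 u)).classInner_eq_int ξ.2.isGen
  refine ⟨fun ξ => Pi.single ξ (n ξ), ?_⟩
  rw [loc, blockPart_fs, reg_sum]
  refine Finset.sum_congr rfl fun ξ hξ => ?_
  rw [h2, hn, mul_smul, reg_smul, cmb, Finset.sum_eq_single ξ]
  · simp only [Pi.single_eq_same]
  · exact fun η _ h3 => by simp only [Pi.single_eq_of_ne h3, Int.cast_zero, zero_smul]
  · exact fun h3 => (h3 hξ).elim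

theorem _root_.Cfsg.IsPBlock.dvd_qf {G : Type*} [Group G] [Fintype G] [PMod M p]
    {B : Set (IrrCharacter G)} (hB : IsPBlock M B) (v w : IrrCharacter G → ℤ) :
    (p : ℤ) ∣ qf p B v v * qf p B w w - qf p B v w * qf p B v w := by
  haveI hp := Fact.mk (PMod.prime M)
  obtain ⟨ψ, hψ, h0⟩ := exists_height_zero p hB.nonempty
  have h1 : ((am p B ψ ψ : ℤ) : ZMod p) ≠ 0 := by
    rw [Ne, ZMod.intCast_zmod_eq_zero_iff_dvd]
    simpa [h0] using (hB.pow_succ_dvd_am_iff hψ hψ).not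
  have h2 : ∀ v w : IrrCharacter G → ℤ, ((am p B ψ ψ : ℤ) : ZMod p) * qf p B v w =
      (∑ ξ ∈ fs B, (v ξ : ZMod p) * am p B ξ ψ) * ∑ ξ ∈ fs B, (w ξ : ZMod p) * am p B ξ ψ := by
    intro v w
    rw [qf_apply, Finset.sum_mul_sum]
    push_cast
    simp only [Finset.mul_sum]
    refine Finset.sum_congr rfl fun ξ hξ => Finset.sum_congr rfl fun η _ => ?_
    have h3 := (ZMod.intCast_zmod_eq_zero_iff_dvd _ p).2 (hB.dvd_am_sub (mem_fs.1 hξ) hψ η)
    rw [am_comm ψ η] at h3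
    push_cast at h3
    linear_combination (v ξ * w η : ZMod p) * h3
  rw [← ZMod.intCast_zmod_eq_zero_iff_dvd]
  refine mul_left_cancel₀ (mul_ne_zero h1 h1) ?_
  push_cast
  linear_combination (am p B ψ ψ * qf p B w w : ZMod p) * h2 v v +
    (∑ ξ ∈ fs B, (v ξ : ZMod p) * am p B ξ ψ) ^ 2 * h2 w w -
    (am p B ψ ψ * qf p B v w + (∑ ξ ∈ fs B, (v ξ : ZMod p) * am p B ξ ψ) *
      ∑ ξ ∈ fs B, (w ξ : ZMod p) * am p B ξ ψ) * h2 v w

omit [Fintype (Ce1 u)] in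
theorem _root_.Cfsg.IsInducedBlock.card_le_of_rank_le_two [PMod M p]
    (hu : ∃ k : ℕ, orderOf u = p ^ k) (h : IsInducedBlock M (Ce1 u) b B)
    (hd : blockDefect p b = blockDefect p B) (hl : blockRank p b ≤ 2) :
    (fs B).card ≤ p ^ blockDefect p B := by
  haveI hp := Fact.mk (PMod.prime M)
  have := Fintype.ofFinite (Ce1 u)
  have := Fintype.ofFinite G
  obtain ⟨hb, hB, -⟩ := isInducedBlock_iff.1 h
  rw [← hd]
  by_cases hm : MinF p b 2
  · have h1 := h.mul_card_le hu hm le_rfl fun χ hχ => h.cm_self_ne_zero hu hd (mem_fs.1 hχ)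
    have h2 := Nat.mul_le_mul_left (p ^ blockDefect p b) hl
    omega
  obtain ⟨v, hv⟩ : ∃ v, qf p b v v = 1 := by
    simp only [MinF, not_forall, not_or] at hm
    obtain ⟨v, h1, h2⟩ := hm
    have := qf_nonneg (p := p) (B := b) v
    exact ⟨v, by omega⟩
  set d := blockDefect p b with hdb
  set φ := reg p (cmb b v)
  have hq : ∀ a c, (qf p b a c : ℂ) =
      (p : ℂ) ^ d * classInner (reg p (cmb b a)) (reg p (cmb b c)) := fun a c => by
    rw [qf_cast, classInner_reg_reg]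
  have hφ : (p : ℂ) ^ d * classInner φ φ = 1 := by rw [← hq, hv, Int.cast_one]
  let x : IrrCharacter G → ℂ := fun χ => (p : ℂ) ^ d * classInner (loc p u b χ.1) φ
  let y : IrrCharacter G → Ce1 u → ℂ := fun χ => loc p u b χ.1 - x χ • φ
  have h1 : ∀ χ ψ, (p : ℂ) ^ d * classInner (y χ) (y ψ) =
      cm p u b χ.1 ψ.1 - x χ * conj (x ψ) := fun χ ψ => by
    have h2 : conj (x ψ) = (p : ℂ) ^ d * classInner φ (loc p u b ψ.1) := by
      simp only [x, map_mul, conj_classInner, map_pow, map_natCast]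
    simp only [y, classInner_sub_left, classInner_sub_right, classInner_smul_left,
      classInner_smul_right, cm]
    linear_combination (x χ * conj (x ψ)) * hφ + x χ * h2
  have h2 : ∑ χ ∈ fs B, x χ * conj (x χ) = (p ^ d : ℕ) := by
    have h3 := hb.isUB.loc_Iu hu (isClassFunction_reg p (isGen_cmb b v).isClassFunction)
    rw [hb.isUB.blockPart_reg (isGen_cmb b v).isClassFunction, blockPart_cmb, reg_reg] at h3
    have h4 := h.sum_cm_mul' hu (isClassFunction_Iu (p := p) u φ)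
    simp only [cm, φ, h3] at h4
    rw [hφ, mul_one] at h4
    rw [Nat.cast_pow]
    exact h4
  obtain ⟨n, hn, h3⟩ := exists_pow_ne_zero hu
  obtain ⟨ω, h4, h5⟩ := exists_loc_eq (p := p) b
  choose a ha using fun χ : IrrCharacter G => h5 _ χ.2.isGen
  have h6 : ∀ χ, x χ = ∑ ξ ∈ fs b, ω ξ * qf p b (a χ ξ) v := fun χ => by
    simp only [x, ha, classInner_sum_left, classInner_smul_left, Finset.mul_sum, hq]
    exact Finset.sum_congr rfl fun ξ _ => by ring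
  have h7 : ∀ χ, x χ ∈ Zq (p ^ n) := fun χ => h6 χ ▸ sum_mem fun ξ _ =>
    mul_mem (mem_Zq_of_pow (h3 _ (h4 ξ))) (intCast_mem _ _)
  have h8 : ∀ χ, x χ ∈ CM := fun χ => Zq_le_CM (pow_ne_zero _ hp.out.ne_zero) (h7 χ)
  by_cases h9 : ∀ χ ∈ fs B, x χ ≠ 0
  · refine card_le_of_CM _ x (fun χ _ => h6 χ ▸ IsIntegral.sum _ fun ξ _ => ?_) (fun χ _ => h8 χ)
      h9 h2
    exact (isIntegral_of_pow_eq_one (orderOf_pos u).ne' (h4 ξ)).mul isIntegral_algebraMap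
  push Not at h9
  obtain ⟨χ₀, hχ₀, h9⟩ := h9
  let β : (IrrCharacter (Ce1 u) → ℤ) →ₗ[ℤ] (IrrCharacter (Ce1 u) → ℤ) →ₗ[ℤ] ℤ :=
    qf p b - (LinearMap.mul ℤ ℤ).compl₁₂ (qf p b v) (qf p b v)
  have hβ : ∀ a c, β a c = qf p b a c - qf p b v a * qf p b v c := fun _ _ => rfl
  have hβ1 : ∀ a c, β a c = β c a := fun a c => by rw [hβ, hβ, qf_comm, mul_comm]
  have hβ2 : ∀ a, β a a = 0 ∨ ((2 : ℕ) : ℤ) ≤ β a a := fun a => by
    have h10 := qf_nonneg (p := p) (B := b) (a - qf p b v a • v)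
    have h11 := hb.dvd_qf v a
    simp only [map_sub, map_smul, LinearMap.sub_apply, LinearMap.smul_apply, smul_eq_mul, hv,
      qf_comm a v] at h10
    rw [hv, one_mul, ← hβ] at h11
    have h12 : β a a ≠ 1 := fun h13 => by
      rw [h13] at h11
      exact hp.out.one_lt.ne' (by exact_mod_cast Int.eq_one_of_dvd_one (by positivity) h11)
    have h13 : 0 ≤ β a a := by rw [hβ]; linarith
    omega
  have h10 : ∀ χ, (p : ℂ) ^ d * classInner (y χ) (y χ) =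
      ∑ ξ ∈ fs b, ∑ η ∈ fs b, ω ξ * conj (ω η) * β (a χ ξ) (a χ η) := fun χ => by
    rw [h1, h6, cm, ha, map_sum, Finset.sum_mul_sum, classInner_sum_left, Finset.mul_sum,
      ← Finset.sum_sub_distrib]
    refine Finset.sum_congr rfl fun ξ _ => ?_
    rw [classInner_smul_left, classInner_sum_right, Finset.mul_sum, Finset.mul_sum,
      ← Finset.sum_sub_distrib]
    refine Finset.sum_congr rfl fun η _ => ?_
    rw [classInner_smul_right, hβ, Int.cast_sub, hq (a χ ξ) (a χ η), qf_comm v, qf_comm v,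
      map_mul, map_intCast, Int.cast_mul]
    ring
  obtain ⟨η, τ, -, hτ⟩ := exists_tau p hn
  have h11 : 2 * ((fs B).filter fun χ => y χ ≠ 0).card ≤ p ^ d := by
    have h12 : ∑ χ ∈ (fs B).filter fun χ => y χ ≠ 0, (p : ℂ) ^ d * classInner (y χ) (y χ) =
        (p ^ d * (blockRank p b - 1) : ℕ) := by
      rw [Finset.sum_filter_of_ne (p := fun χ => y χ ≠ 0) fun χ _ h12 h13 => h12 (by
        rw [h13, classInner_zero_left, mul_zero]), Finset.sum_congr rfl fun χ _ => h1 χ χ, Finset.sum_sub_distrib, h2,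
        h.sum_cm_self hu, Nat.cast_mul, Nat.cast_sub (blockRank_pos hb.nonempty)]
      push_cast
      ring
    have h13 := congrArg (fun z => (τ z).re) h12
    simp only [map_sum, Complex.re_sum, hτ.nat, Complex.natCast_re] at h13
    have h14 := Finset.sum_le_sum (s := (fs B).filter fun χ => y χ ≠ 0) fun χ hχ =>
      hτ.le_herm hβ1 hβ2 (fs b) (fun ξ _ => h3 _ (h4 ξ)) (a χ) (by
        rw [← h10]
        exact mul_ne_zero (pow_ne_zero _ (p_ne_zero M))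
          (classInner_self_eq_zero.not.2 (Finset.mem_filter.1 hχ).2))
    simp only [← h10] at h14
    rw [h13, Finset.sum_const, nsmul_eq_mul, mul_comm, ← Nat.cast_mul, Nat.cast_le] at h14
    exact h14.trans (by
      have : blockRank p b - 1 ≤ 1 := by omega
      simpa using Nat.mul_le_mul_left (p ^ d) this)
  have h12 : p * ((fs B).filter fun χ => ¬ y χ ≠ 0).card ≤ p ^ d := by
    set S := (fs B).filter fun χ => ¬ y χ ≠ 0
    have h13 : ∀ χ ∈ S, χ ∈ B ∧ y χ = 0 := fun χ hχ => by simpa [S] using hχ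
    have h14 : ∀ χ ∈ S, blockHeight p B χ ≠ 0 := fun χ hχ h15 => by
      have h16 := h1 χ₀ χ
      rw [(h13 χ hχ).2, classInner_zero_right, mul_zero, h9, zero_mul, sub_zero] at h16
      exact h.cm_ne_zero hu hd (mem_fs.1 hχ₀) (h13 χ hχ).1 h15 h16.symm
    have h15 : ∀ χ ∈ S, cm p u b χ.1 χ.1 = x χ * conj (x χ) := fun χ hχ => by
      have h16 := h1 χ χ
      rwa [(h13 χ hχ).2, classInner_zero_right, mul_zero, eq_comm, sub_eq_zero] at h16
    rcases S.eq_empty_or_nonempty with h16 | ⟨χ, hχ⟩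
    · simp [h16]
    obtain ⟨k, hk⟩ := Nat.exists_eq_add_of_le' (show 1 ≤ d by
      have := hB.height_add_two_le (h13 χ hχ).1 (h14 χ hχ)
      omega)
    have hp0 := p_ne_zero M
    rw [hk, pow_succ']
    refine Nat.mul_le_mul_left _ (card_le_of_TP S (fun χ => (p : ℂ)⁻¹ * (x χ * conj (x χ)))
      (fun χ hχ => ?_) (fun χ _ => (TP.nat p).inv.mul (TP.mul_conj (h8 χ))) (fun χ hχ => ?_)
      ((TP.nat p).inv.mul (TP.sum ((fs B).filter fun χ => y χ ≠ 0)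
        fun χ _ => TP.mul_conj (h8 χ))) ?_)
    · obtain ⟨z, h17, h18⟩ := hb.isUB.exists_cm_eq hu (h13 χ hχ).1 hd χ.2.isGen
      obtain ⟨j, hj⟩ := Nat.exists_eq_succ_of_ne_zero (h14 χ hχ)
      rw [← h15 χ hχ, h18, hj, pow_succ', mul_assoc, inv_mul_cancel_left₀ hp0]
      exact ((isIntegral_algebraMap (x := (p : ℤ))).pow j).mul h17
    · rw [← h15 χ hχ]
      exact mul_ne_zero (inv_ne_zero hp0) (h.cm_self_ne_zero hu hd (h13 χ hχ).1)
    · rw [← Finset.mul_sum, ← mul_add, add_comm, Finset.sum_filter_add_sum_filter_not, h2, hk,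
        pow_succ', Nat.cast_mul, inv_mul_cancel_left₀ hp0]
  have h13 := Nat.mul_le_mul_right ((fs B).filter fun χ => ¬ y χ ≠ 0).card hp.out.two_le
  have h14 := Finset.card_filter_add_card_filter_not (s := fs B) fun χ => y χ ≠ 0
  omega

end Cfsg.Agent.Blk
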