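import Cfsg.Agent.Lib.Block.TameC
import Cfsg.Agent.Lib.Block.Loc
import Cfsg.Agent.Lib.Block.Two

/-!
Generalized decomposition numbers at nilpotent subsections: orthogonality, transport to
subgroups, and a congruence coming from the Brauer homomorphism.
-/

set_option autoImplicit false

namespace Cfsg.Agent.Blk
open MonoidAlgebra
open Cfsg.Agent.Char hiding cj cj_mul cj_inv_cj cj_cj_inv sum_cj_eq om
open scoped ComplexConjugate
attribute [local instance] _root_.Classical.propDecidable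
open Subgroup (zpowers mem_zpowers)

section Th
variable {G : Type*} [Group G] [Fintype G] {M : Ideal AlgInt} {p : ℕ} [PMod M p]
  {B : Set (IrrCharacter G)} {P : Subgroup G} {e : (kk M)[G]} {u t : G} {θ : G → ℂ}
  {b : Set (IrrCharacter (Ce1 u))}

/-- the class function attached to a nilpotent subsection -/
noncomputable def th (p : ℕ) (u : G) (b : Set (IrrCharacter (Ce1 u))) : G → ℂ := Iu p u (phi p b)

theorem isClassFunction_th (p : ℕ) (u : G) (b : Set (IrrCharacter (Ce1 u))) :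
    IsClassFunction G (th p u b) := isClassFunction_Iu _ _

theorem loc_th (hu : ∃ k : ℕ, orderOf u = p ^ k) (hn : IsNilpotentBlock p M b) :
    loc p u b (th p u b) = phi p b := by
  rw [th, hn.blk.isUB.loc_Iu hu (isClassFunction_phi _ _), hn.blk.isUB.blockPart_of_mem (phi_mem hn),
    reg_phi]

theorem sec_th (hu : ∃ k : ℕ, orderOf u = p ^ k) (hn : IsNilpotentBlock p M b) :
    sec p u b (th p u b) = th p u b := by rw [sec, loc_th hu hn, th]

theorem classInner_th (hu : ∃ k : ℕ, orderOf u = p ^ k) (hn : IsNilpotentBlock p M b)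
    (hθ : IsClassFunction G θ) :
    classInner (th p u b) θ = ((p : ℂ) ^ blockDefect p b)⁻¹ * conj (dn p u b θ) := by
  have := Fintype.ofFinite (Ce1 u)
  rw [← sec_th hu hn, hn.blk.isUB.classInner_sec (isClassFunction_th _ _ _) hθ, loc_th hu hn,
    hn.loc_eq, classInner_smul_right, hn.classInner_phi, mul_comm]

theorem MP.th_eq (h : MP p B P e) (hu : u ∈ P) (hn : IsNilpotentBlock p M (sb p P e u)) :
    ∑ χ ∈ fs B, conj (dn p u (sb p P e u) χ.1) • χ.1 =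
      (p : ℂ) ^ blockDefect p (sb p P e u) • th p u (sb p P e u) := by
  rw [← sec_th (h.pelt hu) hn, ← h.blockPart_sec hu, sec_th (h.pelt hu) hn, blockPart_fs,
    Finset.smul_sum]
  exact Finset.sum_congr rfl fun χ _ => by
    rw [classInner_th (h.pelt hu) hn χ.2.isClassFunction, smul_smul,
      mul_inv_cancel_left₀ (pow_ne_zero _ (p_ne_zero M))]

theorem MP.sum_dn_loc (h : MP p B P e) (hu : u ∈ P) (hn : IsNilpotentBlock p M (sb p P e u))
    (ht : t ∈ P) (h1 : ¬ FC p P e t u) :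
    ∑ χ ∈ fs B, conj (dn p u (sb p P e u) χ.1) • loc p t (sb p P e t) χ.1 = 0 := by
  simp only [← loc_smul]
  rw [← loc_sum, h.th_eq hu hn, loc_smul, ← sec_th (h.pelt hu) hn,
    h.loc_sec_of_not_fc ht hu h1 (isClassFunction_th _ _ _), smul_zero]

theorem MP.sum_dn_reg (h : MP p B P e) (hu : u ∈ P) (hn : IsNilpotentBlock p M (sb p P e u))
    (h1 : u ≠ 1) : ∑ χ ∈ fs B, conj (dn p u (sb p P e u) χ.1) • reg p χ.1 = 0 := by
  haveI : Fact p.Prime := ⟨PMod.prime M⟩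
  simp only [← reg_smul]
  rw [← reg_sum, h.th_eq hu hn, reg_smul, reg_congr (θ := th p u _) (φ := 0) fun g hg => Iu_eq_zero (h.pelt hu) _
    (isPPart_one_iff.2 hg) fun h2 => h1 (isConj_one_left.1 h2), reg_zero, smul_zero]

theorem MP.sum_dn_self (h : MP p B P e) (hu : u ∈ P) (hn : IsNilpotentBlock p M (sb p P e u)) :
    ∑ χ ∈ fs B, dn p u (sb p P e u) χ.1 * conj (dn p u (sb p P e u) χ.1) =
      (p : ℂ) ^ blockDefect p (sb p P e u) := by
  have := Fintype.ofFinite (Ce1 u)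
  simp only [← hn.cm_eq]
  rw [(h.sb_ind hu).sum_cm_self (h.pelt hu), hn.rank, Nat.cast_one, mul_one]

theorem MP.sum_dn_of_not_fc (h : MP p B P e) (hu : u ∈ P) (hn : IsNilpotentBlock p M (sb p P e u))
    (ht : t ∈ P) (hn' : IsNilpotentBlock p M (sb p P e t)) (h1 : ¬ FC p P e t u) :
    ∑ χ ∈ fs B, dn p t (sb p P e t) χ.1 * conj (dn p u (sb p P e u) χ.1) = 0 := by
  haveI : Fact p.Prime := ⟨PMod.prime M⟩
  have := h.sum_dn_loc hu hn ht h1
  simp only [hn'.loc_eq, smul_smul, ← Finset.sum_smul, mul_comm (conj _)] at this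
  exact (smul_eq_zero.1 this).resolve_right (phi_ne_zero _)

end Th

section Tr
variable {G H : Type*} [Group G] [Group H] [Finite G] [Finite H] {M : Ideal AlgInt} {p : ℕ}
  [PMod M p] {φ : H →* G} {θ : G → ℂ} {B : Set (IrrCharacter G)} {P Q L : Subgroup G}
  {e f : (kk M)[G]} {u v : G} {χ : IrrCharacter G}

omit [Finite G] [Finite H] in
theorem PLe.emb {k : Type*} [Field k] (hφ : Function.Injective φ) {K Q P : Subgroup H} {f e : k[H]}
    (h : PLe p K Q f P e) :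
    PLe p (K.map φ) (Q.map φ) (Blk.emb φ f) (P.map φ) (Blk.emb φ e) :=
  h.head_induction (C := fun Q f => PLe p (K.map φ) (Q.map φ) (Blk.emb φ f) (P.map φ) (Blk.emb φ e))
    (PLe.refl _ _ _) fun _ _ _ _ h1 _ h2 =>
    ((nsub_emb_iff hφ).2 h1).ple.trans h2

theorem dn_emb (hφ : Function.Injective φ) {u : H} (hu : ∃ k : ℕ, orderOf u = p ^ k)
    (hL : (Ce1 u).map φ = Ce1 (φ u)) {b : Set (IrrCharacter (Ce1 u))}
    {b' : Set (IrrCharacter (Ce1 (φ u)))} (hb : IsPBlock M b') (hn : IsNilpotentBlock p M b)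
    (h : barS M _ b' = emb φ (barS M _ b)) : IsNilpotentBlock p M b' ∧
      ∀ θ, IsClassFunction G θ → dn p (φ u) b' θ = dn p u b fun x => θ (φ x) := by
  have h1 := (isNilpotentBlock_iffS.1 hn).2
  have h2 : IsNilpotentBlock p M b' := isNilpotentBlock_iffS.2 ⟨hb, by
    rw [h, ← hL, isNilp_emb_iff hφ]; exact h1⟩
  refine ⟨h2, fun θ hθ => ?_⟩
  have h3 := TT_emb (φ := φ) hθ hu (barS_mem _ b).1 hn.blk.isUB.barS_idem
  rw [TT_nilp (isClassFunction_comp hθ φ) hn (barS_mem _ _).1 hn.blk.isUB.barS_idem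
    hn.blk.isUB.barS_idem.eq, ← h, TT_nilp hθ h2 (barS_mem _ _).1 hb.isUB.barS_idem
    hb.isUB.barS_idem.eq, h, nb_emb hφ hL h1 (barS_mem _ _).1 hn.blk.isUB.barS_idem] at h3
  exact mul_right_cancel₀ (nb_self_ne_zero h1) h3

theorem IsMP.mpL (h : IsMP p L f P e) : MP p (cb M L f) (P.subgroupOf L) (rs L e) := by
  have h2 := h.blkB.isPBlock_cb
  refine ⟨h2.1, (isMP_emb_iff L.subtype_injective).1 ?_⟩
  rw [top_map_subtype, Subgroup.map_subgroupOf_eq_of_le h.bp.le, ← es, ← barS, h2.2,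
    es_rs_of_mem (sup_mono inf_le_left h.bp.blk.sup)]
  exact h

theorem MP.es_sbL (h : MP p B P e) (hm : IsMP p L f P e) {u : L} (hu : (u : G) ∈ P)
    (h1 : Ce1 (u : G) ≤ L) :
    barS M (Ce1 (u : G)) (sb p P e u) = es L (barS M (Ce1 u) (sb p (P.subgroupOf L) (rs L e) u)) := by
  haveI : Fact p.Prime := ⟨PMod.prime M⟩
  have h2 := (hm.mpL.sb_ple (u := u) hu).emb L.subtype_injective
  rw [top_map_subtype, Subgroup.map_subgroupOf_eq_of_le hm.bp.le, ← es,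
    es_rs_of_mem (sup_mono inf_le_left hm.bp.blk.sup), MonoidHom.map_zpowers] at h2
  exact PLe.unique h.bp (h.sb_ple hu) (h2.of_sub ((top_inf_Ce_le _).trans h1) le_top le_rfl)

theorem MP.fc_iff' (h : MP p B P e) (hu : u ∈ P) (hv : v ∈ P) : FC p P e u v ↔ ∃ x, x * u * x⁻¹ = v ∧
    cj x (barS M (Ce1 u) (sb p P e u)) = barS M (Ce1 v) (sb p P e v) := by
  haveI : Fact p.Prime := ⟨PMod.prime M⟩
  rw [h.fc_iff hu]
  exact exists_congr fun x => and_congr_right fun _ =>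
    ⟨fun h1 => PLe.unique h.bp h1 (h.sb_ple hv), fun h1 => h1 ▸ h.sb_ple hv⟩

theorem MP.fc_sub_iff (h : MP p B P e) (hm : IsMP p L f P e) {u v : L} (hu : (u : G) ∈ P)
    (hv : (v : G) ∈ P) (h1 : Ce1 (u : G) ≤ L) (h2 : Ce1 (v : G) ≤ L)
    (h3 : ∀ x : G, x * u * x⁻¹ = v → x ∈ L) :
    FC p (P.subgroupOf L) (rs L e) u v ↔ FC p P e u v := by
  rw [h.fc_iff' hu hv, hm.mpL.fc_iff' hu hv, h.es_sbL hm hu h1, h.es_sbL hm hv h2]
  exact ⟨fun ⟨x, h4, h5⟩ => ⟨x, congrArg Subtype.val h4, by rw [← h5, emb_cj]; rfl⟩,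
    fun ⟨x, h4, h5⟩ => ⟨⟨x, h3 x h4⟩, Subtype.ext h4, es_injective L (by rw [← h5, emb_cj]; rfl)⟩⟩

theorem MP.nilp_sb_of_nilp (h : MP p B P e) (hn : IsNilp p ⊤ (bar M B)) (hu : u ∈ P) :
    IsNilpotentBlock p M (sb p P e u) := by
  haveI : Fact p.Prime := ⟨PMod.prime M⟩
  have := hn.local ((h.sb_ple hu).left h.bp) (h.mp.eq_of_PLe (h.sb_ple hu))
  rw [top_inf_eq, Ce_zpowers] at this
  exact isNilpotentBlock_iffS.2 ⟨h.sb_blk hu, this⟩

theorem MP.dn_nilp [Fintype G] (h : MP p B P e) (hn : IsNilp p ⊤ (bar M B)) (hχ : χ ∈ B)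
    {Φ : IrrCharacter P ≃ B} (hΦ : ∀ η : IrrCharacter P, (Φ η).1.1 = st p P e η χ)
    (hθ : IsClassFunction G θ) (u : P) : dn p (u : G) (sb p P e u) θ =
      (∑ η : IrrCharacter P, classInner θ (Φ η).1.1 * η.1 u) * dn p (u : G) (sb p P e u) χ.1 := by
  have h2 := h.nilp_sb_of_nilp hn u.2
  refine h2.dn_eq ?_
  rw [← h.loc_blockPart u.2 hθ, blockPart_fs, loc_sum, Finset.sum_mul, Finset.sum_smul]
  refine (Finset.sum_bij (fun η _ => (Φ η).1) (fun η _ => mem_fs.2 (Φ η).2)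
    (fun _ _ _ _ h => Φ.injective (Subtype.ext h))
    (fun ψ hψ => ⟨Φ.symm ⟨ψ, mem_fs.1 hψ⟩, Finset.mem_univ _, by simp⟩) fun η _ => ?_).symm
  rw [loc_smul, mul_assoc, mul_smul, hΦ η, h.loc_st (h.stable_nilp hn η.2.isClassFunction)
    χ.2.isClassFunction, h2.loc_eq, smul_smul (η.1 u)]

theorem MP.isMP_sup (h : MP p B P e) (hQ : Q ≤ P) (hn : P ≤ No Q) :
    IsMP p (P ⊔ Ce Q) (lb p P e Q) P e := by
  haveI : Fact p.Prime := ⟨PMod.prime M⟩
  have h1 := h.bp.lb_ple hQ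
  have h2 := h1.nsub h.bp hn
  have h3 : P ⊔ Ce Q ≤ ⊤ ⊓ No Q := le_inf le_top (sup_le hn (Ce_le_No Q))
  have h4 : IsBlock (P ⊔ Ce Q) (lb p P e Q) := h2.left.isBlock_of_inv
    (sup_le (hQ.trans le_sup_left) (inf_le_right.trans le_sup_right)) h3
    (le_stab.1 (show P ⊔ Ce Q ≤ stab ⊤ _ from sup_le (le_stab.2 ⟨le_top, h2.inv⟩)
      (le_stab.2 ⟨le_top, (h.bp.isBlock_lb hQ).inv⟩))).2
  refine ⟨h.bp.to_sub (inf_le_right.trans le_sup_right) le_top hQ le_sup_left, h4, h2.eq, ?_⟩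
  have := (h.mp.isDef_inf_iff h1 h3 h4).2 fun x _ _ => by
    rw [inf_eq_left.2 (le_sup_left : P ≤ P ⊔ Ce Q)]; exact Subgroup.card_le_of_le inf_le_left
  rwa [inf_eq_left.2 le_sup_left] at this

/-- generalized decomposition numbers given by generalized characters of the defect group -/
theorem MP.exists_D (h : MP p B P e) (hQ : Q ≤ P) (hn : P ≤ No Q)
    (hnil : IsNilp p (Ce Q) (lb p P e Q)) : ∃ (D : (G → ℂ) → P → ℂ) (ε : P → ℂ),
      (∀ θ, IsGeneralizedCharacter G θ → IsGeneralizedCharacter P (D θ)) ∧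
      (∀ u, ε u * conj (ε u) = 1 ∧ IsIntegral ℤ (ε u) ∧ ε u ∈ CM) ∧ ∀ u : P, Q ≤ zpowers (u : G) →
        IsNilpotentBlock p M (sb p P e (u : G)) ∧
          ∀ θ, IsClassFunction G θ → dn p (u : G) (sb p P e u) θ = D θ u * ε u := by
  haveI : Fact p.Prime := ⟨PMod.prime M⟩
  have hm := h.isMP_sup hQ hn
  have h1 := hm.mpL
  have := Fintype.ofFinite ↥(P ⊔ Ce Q)
  obtain ⟨n, h2⟩ : ∃ n, (Ce Q).relIndex (P ⊔ Ce Q) = p ^ n := by
    rw [relIndex_sup_eq (hn.trans (No_le_No_Ce Q)) le_rfl]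
    exact h.bp.pg.index _
  have h3 := ((isNilp_iff_of_relIndex (h.bp.isBlock_lb hQ) hm.blkB le_sup_right
    (sup_le (hn.trans (No_le_No_Ce Q)) Subgroup.le_normalizer) h2).1 hnil).nilp_cb
  have h4 := (isNilpotentBlock_iff.1 h3).2
  obtain ⟨Φ, hΦ⟩ := h1.exists_equiv_nilp h4 h3.hz_mem h3.hz_height
  let j : P ≃* P.subgroupOf (P ⊔ Ce Q) := (Subgroup.subgroupOfEquivOfLe le_sup_left).symm
  refine ⟨fun θ u => ∑ η, classInner (fun x : ↥(P ⊔ Ce Q) => θ x) (Φ η).1.1 * η.1 (j u),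
    fun u => dn p (j u : ↥(P ⊔ Ce Q)) (sb p (P.subgroupOf (P ⊔ Ce Q)) (rs (P ⊔ Ce Q) e) (j u))
      (hz p (cb M (P ⊔ Ce Q) (lb p P e Q))).1, fun θ hθ => ?_,
    fun u => ?_, fun u hu => ?_⟩
  · choose n hn using fun η => (hθ.res (P ⊔ Ce Q)).classInner_eq_int (Φ η).1.2.isGen
    have := (isGen_sum_int Finset.univ n fun η _ => η.2.isGen).comp j.toMonoidHom
    convert this using 2 with u
    simp [← hn]
  · have := Fintype.ofFinite (Ce1 (j u : ↥(P ⊔ Ce Q)))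
    have h5 := h1.nilp_sb_of_nilp h4 (j u).2
    exact ⟨by rw [← h5.cm_eq, h1.cm_eq_one h4 (j u).2 h3.hz_mem h3.hz_height],
      h5.isIntegral_dn (hz p _).2.isGen, h5.dn_mem_CM (hz p _).2.isGen⟩
  · have h5 : Ce1 (u : G) ≤ P ⊔ Ce Q := (Ce_zpowers _).ge.trans ((Ce_anti hu).trans le_sup_right)
    obtain ⟨h6, h7⟩ := dn_emb (P ⊔ Ce Q).subtype_injective (h1.pelt (j u).2)
      ((map_Ce1_subtype _).trans (inf_eq_right.2 h5)) (h.sb_blk u.2)
      (h1.nilp_sb_of_nilp h4 (j u).2) (h.es_sbL hm (u := j u) u.2 h5)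
    exact ⟨h6, fun θ hθ => (h7 θ hθ).trans
      (h1.dn_nilp h4 h3.hz_mem hΦ (isClassFunction_comp hθ _) (j u))⟩

end Tr

end Cfsg.Agent.Blk
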