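import Cfsg.Agent.Lib.Block.TameK

/-!
Counting with integral contribution matrices of blocks with a defect group of maximal class.
-/

set_option autoImplicit false

namespace Cfsg.Agent.Blk
attribute [local instance] _root_.Classical.propDecidable

variable {ι : Type*} {s S T₁ T₂ : Finset ι} {ht : ι → ℕ} {d n l lz a : ℕ} {A Z : ι → ι → ℤ}
  {x y : ι}

/-- an integral contribution matrix -/
structure CMx (s : Finset ι) (ht : ι → ℕ) (d l : ℕ) (A : ι → ι → ℤ) : Prop where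
  symm : ∀ x y, A x y = A y x
  sq : ∀ x ∈ s, ∑ y ∈ s, A x y ^ 2 = 2 ^ d * A x x
  tr : ∑ x ∈ s, A x x = 2 ^ d * l
  dvd : ∀ x ∈ s, ∀ y ∈ s, 2 ^ ht x ∣ A x y
  dvd' : ∀ x ∈ s, ∀ y ∈ s, 2 ^ (ht x + 1) ∣ A x y ↔ ht y ≠ 0

namespace CMx
variable (h : CMx s ht d l A)
include h

theorem le_sq (hx : x ∈ s) (hy : y ∈ s) (h0 : ht y = 0) : (2 ^ ht x) ^ 2 ≤ A x y ^ 2 :=
  Int.le_of_dvd (sq_pos_of_ne_zero fun e => (h.dvd' x hx y hy).1 (e ▸ dvd_zero _) h0)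
    (pow_dvd_pow_of_dvd (h.dvd x hx y hy) 2)

theorem pos (hx : x ∈ s) (hy : y ∈ s) (h0 : ht y = 0) : 0 < A x x := by
  have h1 := (h.le_sq hx hy h0).trans
    ((Finset.single_le_sum (fun _ _ => sq_nonneg _) hy).trans_eq (h.sq x hx))
  exact (mul_pos_iff_of_pos_left (by positivity)).1 (lt_of_lt_of_le (by positivity) h1)

theorem row (hx : x ∈ s) (h0 : ht x = 0) :
    A x x ^ 2 - 1 + ∑ y ∈ s, (2 ^ ht y) ^ 2 ≤ 2 ^ d * A x x := by
  rw [← h.sq x hx, ← Finset.add_sum_erase _ _ hx, ← Finset.add_sum_erase _ _ hx, h0]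
  have := Finset.sum_le_sum (s := s.erase x) fun y hy =>
    (h.le_sq (Finset.mem_of_mem_erase hy) hx h0).trans_eq (by rw [h.symm])
  linarith

theorem exists_ne (hd : 3 ≤ d) (h4 : s.card = 4) : ∃ y ∈ s, ht y ≠ 0 := by
  by_contra! h1
  obtain ⟨x, hx⟩ : s.Nonempty := Finset.card_pos.1 (by omega)
  have h2 : (8 : ℤ) ∣ ∑ y ∈ s, (A x y ^ 2 - 1) := Finset.dvd_sum fun y hy => by
    have := (h.dvd' x hx y hy).not.2 (not_not.2 (h1 y hy))
    rw [h1 x hx] at this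
    exact Int.eight_dvd_sq_sub_one_of_odd (Int.not_even_iff_odd.1 fun e => this e.two_dvd)
  obtain ⟨k, rfl⟩ := Nat.exists_eq_add_of_le hd
  rw [Finset.sum_sub_distrib, h.sq x hx, pow_add, mul_assoc, Finset.sum_const, h4] at h2
  generalize 2 ^ k * A x x = y at h2
  simp only [nsmul_eq_mul] at h2
  omega

end CMx

/-- the numerical data of a block with a defect group of maximal class -/
structure TN (s S T₁ T₂ : Finset ι) (ht : ι → ℕ) (n l lz a : ℕ) (A Z : ι → ι → ℤ) : Prop where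
  cA : CMx s ht (n + 2) l A
  cZ : CMx s ht (n + 2) lz Z
  one : 1 ≤ n
  memS : ∀ x, x ∈ S ↔ x ∈ s ∧ ht x = 0
  cS : S.card = 4
  c1 : T₁.card + 1 = 2 ^ n
  c2 : T₂.card + 4 = l + lz + a
  disj : Disjoint T₁ T₂
  un : ∀ x, x ∈ T₁ ∨ x ∈ T₂ ↔ x ∈ s ∧ ht x ≠ 0
  hS : ∀ x ∈ S, A x x + Z x x + 2 ^ n * a = 2 ^ (n + 1) + 2
  h1 : ∀ x ∈ T₁, ht x = 1 ∧ A x x = 4 ∧ Z x x = 4
  h2 : ∀ x ∈ T₂, A x x + Z x x = 2 ^ (n + 2)

theorem sum_three (h1 : ∀ x, x ∈ S ↔ x ∈ s ∧ ht x = 0) (h2 : Disjoint T₁ T₂)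
    (h3 : ∀ x, x ∈ T₁ ∨ x ∈ T₂ ↔ x ∈ s ∧ ht x ≠ 0) (F : ι → ℤ) :
    ∑ x ∈ s, F x = ∑ x ∈ S, F x + ∑ x ∈ T₁, F x + ∑ x ∈ T₂, F x := by
  rw [add_assoc, ← Finset.sum_union h2, ← Finset.sum_filter_add_sum_filter_not s (ht · = 0)]
  congr 2
  · ext x; simp [h1]
  · ext x; simp [h3]

theorem exists_tn (cA : CMx s ht (n + 2) l A) (cZ : CMx s ht (n + 2) lz Z) (hn : 1 ≤ n)
    (h0 : (s.filter (ht · = 0)).card = 4)
    (hS : ∀ x ∈ s, ht x = 0 → A x x + Z x x + 2 ^ n * a = 2 ^ (n + 1) + 2) {Q : ι → Prop}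
    (hT : ∀ x ∈ s, ht x ≠ 0 → A x x + Z x x = 8 ∨ (A x x + Z x x = 2 ^ (n + 2) ∧ Q x))
    (hc : s.card + 1 = l + lz + 2 ^ n + a) :
    ∃ T₁ T₂, TN s (s.filter (ht · = 0)) T₁ T₂ ht n l lz a A Z ∧
      ∀ x ∈ T₂, ht x = n ∨ Q x := by
  obtain ⟨y, hy⟩ : (s.filter (ht · = 0)).Nonempty := Finset.card_pos.1 (by omega)
  rw [Finset.mem_filter] at hy
  have h1 : ∀ x ∈ s, ht x ≠ 0 → A x x + Z x x = 8 → ht x = 1 ∧ A x x = 4 ∧ Z x x = 4 :=
    fun x hx h1 h2 => by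
      have a1 := (cA.dvd' x hx x hx).2 h1
      have a2 := (cZ.dvd' x hx x hx).2 h1
      have a3 := cA.pos hx hy.1 hy.2
      have a4 := cZ.pos hx hy.1 hy.2
      have a5 : (2 : ℤ) ^ 2 ∣ 2 ^ (ht x + 1) := pow_dvd_pow _ (by omega)
      have a6 := a5.trans a1
      have a7 := a5.trans a2
      refine ⟨by_contra fun e => ?_, by omega, by omega⟩
      have := (pow_dvd_pow (2 : ℤ) (show 3 ≤ ht x + 1 by omega)).trans a1
      omega
  have h2 : ∀ T₁ T₂ : Finset ι, Disjoint T₁ T₂ → (∀ x, x ∈ T₁ ∨ x ∈ T₂ ↔ x ∈ s ∧ ht x ≠ 0) →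
      s.card = 4 + T₁.card + T₂.card := fun T₁ T₂ a1 a2 => by
    have := sum_three (fun _ => Finset.mem_filter) a1 a2 fun _ => 1
    simp only [Finset.sum_const, h0, nsmul_eq_mul, mul_one] at this
    omega
  rcases hn.eq_or_lt with rfl | hn'
  · obtain ⟨x, hx, a1⟩ : ∃ x ∈ s, ht x ≠ 0 := by
      by_contra! a1
      rw [Finset.filter_true_of_mem a1] at h0
      obtain ⟨x, hx, a2⟩ := cA.exists_ne le_rfl h0
      exact a2 (a1 x hx)
    have a2 : ∀ x ∈ s, ht x ≠ 0 → A x x + Z x x = 8 := fun x hx e => (hT x hx e).elim id And.left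
    have a3 : Disjoint {x} ((s.filter (ht · ≠ 0)).erase x) := by simp
    have a4 : ∀ y, y ∈ ({x} : Finset ι) ∨ y ∈ (s.filter (ht · ≠ 0)).erase x ↔ y ∈ s ∧ ht y ≠ 0 :=
      fun y => by by_cases e : y = x <;> simp [e, hx, a1]
    have a5 := h2 _ _ a3 a4
    rw [Finset.card_singleton] at a5
    exact ⟨_, _, ⟨cA, cZ, le_rfl, fun _ => Finset.mem_filter, h0, rfl, by omega, a3, a4,
      fun x hx => hS x (Finset.mem_filter.1 hx).1 (Finset.mem_filter.1 hx).2,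
      fun y hy => h1 y ((a4 y).1 (.inl hy)).1 ((a4 y).1 (.inl hy)).2
        (a2 y ((a4 y).1 (.inl hy)).1 ((a4 y).1 (.inl hy)).2),
      fun y hy => a2 y ((a4 y).1 (.inr hy)).1 ((a4 y).1 (.inr hy)).2⟩,
      fun y hy => .inl (h1 y ((a4 y).1 (.inr hy)).1 ((a4 y).1 (.inr hy)).2
        (a2 y ((a4 y).1 (.inr hy)).1 ((a4 y).1 (.inr hy)).2)).1⟩
  have a3 : Disjoint (s.filter fun x => ht x ≠ 0 ∧ A x x + Z x x = 8)
      (s.filter fun x => ht x ≠ 0 ∧ A x x + Z x x ≠ 8) :=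
    Finset.disjoint_filter.2 fun x _ e e' => e'.2 e.2
  have a4 : ∀ y, y ∈ (s.filter fun x => ht x ≠ 0 ∧ A x x + Z x x = 8) ∨
      y ∈ (s.filter fun x => ht x ≠ 0 ∧ A x x + Z x x ≠ 8) ↔ y ∈ s ∧ ht y ≠ 0 := fun y => by
    simp only [Finset.mem_filter]; tauto
  have a5 := h2 _ _ a3 a4
  have a6 : ∀ y ∈ s.filter fun x => ht x ≠ 0 ∧ A x x + Z x x ≠ 8,
      A y y + Z y y = 2 ^ (n + 2) ∧ Q y := fun y hy => by
    rw [Finset.mem_filter] at hy
    exact (hT y hy.1 hy.2.1).resolve_left hy.2.2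
  have a7 := sum_three (fun _ => Finset.mem_filter) a3 a4 fun x => A x x + Z x x
  rw [Finset.sum_add_distrib, cA.tr, cZ.tr, Finset.sum_congr rfl fun x hx => eq_sub_of_add_eq
    (hS x (Finset.mem_filter.1 hx).1 (Finset.mem_filter.1 hx).2),
    Finset.sum_congr rfl fun x hx => (a6 x hx).1,
    Finset.sum_congr (f := fun x => A x x + Z x x) rfl fun x hx => (Finset.mem_filter.1 hx).2.2] at a7
  simp only [Finset.sum_const, h0, nsmul_eq_mul, pow_succ] at a7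
  have a8 : (s.filter fun x => ht x ≠ 0 ∧ A x x + Z x x = 8).card + 1 = 2 ^ n := by
    have b1 : (4 : ℤ) ≤ 2 ^ n := pow_le_pow_right₀ (a := (2 : ℤ)) one_le_two hn'
    rw [a5] at hc
    generalize (s.filter fun x => ht x ≠ 0 ∧ A x x + Z x x = 8).card = k₁,
      (s.filter fun x => ht x ≠ 0 ∧ A x x + Z x x ≠ 8).card = k₂ at hc a7 ⊢
    zify at hc ⊢
    exact mul_left_cancel₀ (show (2 : ℤ) ^ n - 2 ≠ 0 by omega)
      (mul_left_cancel₀ four_ne_zero (by linear_combination a7 + 4 * 2 ^ n * hc))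
  exact ⟨_, _, ⟨cA, cZ, hn, fun _ => Finset.mem_filter, h0, a8, by omega, a3, a4,
    fun x hx => hS x (Finset.mem_filter.1 hx).1 (Finset.mem_filter.1 hx).2,
    fun y hy => h1 y (Finset.mem_filter.1 hy).1 (Finset.mem_filter.1 hy).2.1
      (Finset.mem_filter.1 hy).2.2, fun y hy => (a6 y hy).1⟩, fun y hy => .inr (a6 y hy).2⟩

namespace TN
variable (h : TN s S T₁ T₂ ht n l lz a A Z)
include h

theorem swap : TN s S T₁ T₂ ht n lz l a Z A :=
  ⟨h.cZ, h.cA, h.one, h.memS, h.cS, h.c1, by rw [h.c2, add_comm l], h.disj, h.un,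
    fun x hx => by rw [add_comm (Z x x), h.hS x hx],
    fun x hx => ⟨(h.h1 x hx).1, (h.h1 x hx).2.symm⟩, fun x hx => by rw [add_comm, h.h2 x hx]⟩

theorem sum (F : ι → ℤ) : ∑ x ∈ s, F x = ∑ x ∈ S, F x + ∑ x ∈ T₁, F x + ∑ x ∈ T₂, F x :=
  sum_three h.memS h.disj h.un F

theorem card : s.card = 2 ^ n + 3 + T₂.card := by
  have := h.c1
  have := h.sum fun _ => 1
  simp only [Finset.sum_const, h.cS, nsmul_eq_mul, mul_one] at this
  omega

theorem ne : S.Nonempty := Finset.card_pos.1 (by rw [h.cS]; omega)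

theorem pos (hx : x ∈ s) : 0 < A x x :=
  let ⟨y, hy⟩ := h.ne
  h.cA.pos hx ((h.memS y).1 hy).1 ((h.memS y).1 hy).2

theorem tr : ∑ x ∈ S, A x x + 4 * 2 ^ n + ∑ x ∈ T₂, A x x = 4 * 2 ^ n * l + 4 := by
  have h1 := h.sum fun x => A x x
  have h2 := h.c1
  rw [h.cA.tr, Finset.sum_congr rfl fun x hx => (h.h1 x hx).2.1, Finset.sum_const, nsmul_eq_mul] at h1
  zify at h2
  linear_combination -h1 - 4 * h2

theorem four_le : 4 ≤ ∑ x ∈ S, A x x := by
  simpa [h.cS] using Finset.card_nsmul_le_sum S (fun x => A x x) 1 fun x hx =>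
    h.pos ((h.memS x).1 hx).1

theorem l_pos : 1 ≤ l := by
  have := h.tr
  have := h.four_le
  have : 0 ≤ ∑ x ∈ T₂, A x x := Finset.sum_nonneg fun x hx => (h.pos ((h.un x).1 (.inr hx)).1).le
  rcases l with _ | l
  · have : (0 : ℤ) < 2 ^ n := by positivity
    omega
  · omega

theorem empty (h1 : l = 1) : T₂ = ∅ := by
  have h2 := h.tr
  have := h.four_le
  rw [h1] at h2
  by_contra h3
  have := Finset.sum_pos (fun x hx => h.pos ((h.un x).1 (.inr hx)).1)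
    (Finset.nonempty_iff_ne_empty.2 h3)
  omega

theorem ht_of_dvd (hx : x ∈ T₂) (h1 : ∀ y ∈ S, 2 ^ n ∣ A x y) : ht x = n := by
  obtain ⟨h2, h3⟩ := (h.un x).1 (.inr hx)
  obtain ⟨y, hy⟩ := h.ne
  obtain ⟨h4, h5⟩ := (h.memS y).1 hy
  refine le_antisymm (not_lt.1 fun e => ?_) (not_lt.1 fun e =>
    (h.cA.dvd' x h2 y h4).1 ((pow_dvd_pow _ e).trans (h1 y hy)) h5)
  have := Int.le_of_dvd (h.pos h2)
    ((pow_dvd_pow _ (show n + 2 ≤ ht x + 1 by omega)).trans ((h.cA.dvd' x h2 x h2).2 h3))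
  have := h.swap.pos h2
  have := h.h2 x hx
  omega

theorem ht_cases (h2 : ∀ x ∈ T₂, ht x = n) (hx : x ∈ s) : ht x = 0 ∨ ht x = 1 ∨ ht x = n := by
  by_cases h0 : ht x = 0
  · exact .inl h0
  · exact .inr (((h.un x).2 ⟨hx, h0⟩).imp (fun e => (h.h1 x e).1) (h2 x))

theorem card_one (h2 : ∀ x ∈ T₂, ht x = n) (hn : 2 ≤ n) :
    (s.filter (ht · = 1)).card = 2 ^ n - 1 := by
  rw [← h.c1, Nat.add_sub_cancel]
  congr 1
  ext x
  rw [Finset.mem_filter]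
  refine ⟨fun e => ((h.un x).2 ⟨e.1, by omega⟩).resolve_right fun e' => ?_,
    fun e => ⟨((h.un x).1 (.inl e)).1, (h.h1 x e).1⟩⟩
  have := h2 x e'
  omega

variable (h2 : ∀ x ∈ T₂, ht x = n)
include h2

theorem eq_two (hx : x ∈ T₂) : A x x = 2 * 2 ^ n := by
  obtain ⟨h3, h4⟩ := (h.un x).1 (.inr hx)
  have a1 := Int.le_of_dvd (h.pos h3) ((h.cA.dvd' x h3 x h3).2 h4)
  have a2 := Int.le_of_dvd (h.swap.pos h3) ((h.cZ.dvd' x h3 x h3).2 h4)
  have a3 := h.h2 x hx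
  rw [h2 x hx] at a1 a2
  simp only [pow_succ] at a1 a2 a3
  omega

theorem tr' : ∑ x ∈ S, A x x + 4 * 2 ^ n + T₂.card * (2 * 2 ^ n) = 4 * 2 ^ n * l + 4 := by
  rw [← h.tr, Finset.sum_congr rfl fun x hx => h.eq_two h2 hx, Finset.sum_const, nsmul_eq_mul]

theorem le_two_mul : T₂.card + 2 ≤ 2 * l := by
  have := h.tr' h2
  have := h.four_le
  have : (0 : ℤ) < 2 ^ n := by positivity
  zify
  nlinarith

theorem row (hx : x ∈ S) : T₂.card * (2 ^ n) ^ 2 ≤ (A x x - 1) * (4 * 2 ^ n - 1 - A x x) := by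
  have h3 := h.cA.row ((h.memS x).1 hx).1 ((h.memS x).1 hx).2
  have h4 := h.c1
  rw [h.sum, Finset.sum_congr rfl fun y hy => by rw [((h.memS y).1 hy).2],
    Finset.sum_congr (s₁ := T₁) rfl fun y hy => by rw [(h.h1 y hy).1],
    Finset.sum_congr (s₁ := T₂) rfl fun y hy => by rw [h2 y hy]] at h3
  simp only [Finset.sum_const, h.cS, nsmul_eq_mul, pow_succ] at h3
  zify at h4
  linear_combination h3 - 4 * h4

theorem add_le : T₂.card + a ≤ 2 := by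
  obtain ⟨x, hx⟩ := h.ne
  have key : ∀ {A Z : ι → ι → ℤ} {l lz : ℕ}, TN s S T₁ T₂ ht n l lz a A Z → A x x ≤ Z x x →
      T₂.card + a ≤ 2 := fun {A Z l lz} h e => by
    have a1 := h.row h2 hx
    have a2 := h.hS x hx
    have a3 := h.pos ((h.memS x).1 hx).1
    have a4 : (0 : ℤ) < 2 ^ n := by positivity
    rw [pow_succ] at a2
    generalize (2 : ℤ) ^ n = N at *
    generalize T₂.card = k at *
    obtain ⟨p, hp⟩ : ∃ p, A x x = p + 1 := ⟨A x x - 1, by ring⟩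
    rw [hp] at a1 a2 a3 e
    by_contra a5
    have a6 : (a : ℤ) ≤ 2 := by nlinarith
    have a7 : p ≠ 0 := by
      rintro rfl
      have : (1 : ℤ) ≤ k := by omega
      nlinarith
    have a8 : 0 < p := by omega
    rcases a with _ | _ | a
    · have : (3 : ℤ) ≤ k := by omega
      nlinarith [mul_nonneg (show 0 ≤ N - p by omega) (show 0 ≤ 3 * N - p by omega)]
    · have : (2 : ℤ) ≤ k := by omega
      nlinarith [mul_nonneg (show 0 ≤ N - 2 * p by omega) a4.le]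
    · push_cast at a2
      nlinarith
  rcases le_total (A x x) (Z x x) with e | e
  exacts [key h e, key h.swap e]

theorem sd (h0 : a = 0) (h3 : ∀ x ∈ S, 4 * 2 ^ n ∣ 4 * A x x + 2 * 2 ^ n - 4) :
    T₂.card ≤ 1 ∧ (l = 3 → T₂.card = 1) := by
  have a4 : (0 : ℤ) < 2 ^ n := by positivity
  have h4 : ∀ x ∈ S, 2 * (A x x - 1) = 2 ^ n ∨ 2 * (Z x x - 1) = 2 ^ n := fun x hx => by
    obtain ⟨q, hq⟩ := h3 x hx
    have a2 := h.hS x hx
    have a3 := h.pos ((h.memS x).1 hx).1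
    have a5 := h.swap.pos ((h.memS x).1 hx).1
    rw [h0, pow_succ] at a2
    generalize (2 : ℤ) ^ n = N at *
    have : 0 < q := by nlinarith
    have : q < 3 := by nlinarith
    obtain rfl | rfl : q = 1 ∨ q = 2 := by omega
    all_goals omega
  have h5 : T₂.card ≤ 1 := by
    obtain ⟨x, hx⟩ := h.ne
    by_contra a1
    have : (2 : ℤ) ≤ T₂.card := by omega
    rcases h4 x hx with e | e
    · have := h.row h2 hx
      nlinarith
    · have := h.swap.row h2 hx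
      nlinarith
  refine ⟨h5, fun a1 => by_contra fun a2 => ?_⟩
  have a3 := h.tr' h2
  have a5 := Finset.sum_le_card_nsmul S (fun x => 2 * A x x) (2 + 3 * 2 ^ n) fun x hx => by
    have := h.hS x hx
    rw [h0, pow_succ] at this
    have := h4 x hx
    omega
  rw [← Finset.mul_sum, h.cS] at a5
  rw [a1, show T₂.card = 0 by omega] at a3
  simp only [nsmul_eq_mul] at a5
  omega

theorem q (h3 : ∀ x ∈ s, A x x = Z x x) {ω : ι → ℤ} (h4 : ∀ x ∈ s, ω x = 1 ∨ ω x = -1)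
    (h5 : ∑ x ∈ s, ω x * A x x = 0) : l + a = 3 := by
  have a1 : l = lz := by
    have := (h.cA.tr.symm.trans (Finset.sum_congr rfl h3)).trans h.cZ.tr
    exact_mod_cast mul_left_cancel₀ (by positivity) this
  have a2 := h.add_le h2
  have a3 := h.c2
  have a4 := h.l_pos
  by_contra a5
  obtain ⟨rfl, a6⟩ : a = 0 ∧ T₂.card = 0 := by omega
  have a7 : ∀ T ⊆ s, 2 ∣ ∑ x ∈ T, ω x + T.card ∧ |∑ x ∈ T, ω x| ≤ T.card := fun T hT => by
    constructor
    · rw [Finset.card_eq_sum_ones, Nat.cast_sum, ← Finset.sum_add_distrib]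
      exact Finset.dvd_sum fun x hx => by rcases h4 x (hT hx) with e | e <;> simp [e]
    · refine (Finset.abs_sum_le_sum_abs _ _).trans ?_
      simpa using Finset.sum_le_card_nsmul T (fun x => |ω x|) 1 fun x hx => by
        rcases h4 x (hT hx) with e | e <;> simp [e]
  rw [h.sum, Finset.card_eq_zero.1 a6, Finset.sum_empty,
    Finset.sum_congr (s₁ := T₁) rfl fun x hx => by rw [(h.h1 x hx).2.1],
    Finset.sum_congr (s₁ := S) rfl fun x hx => by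
      rw [show A x x = 2 ^ n + 1 by
        have := h.hS x hx
        have := h3 x ((h.memS x).1 hx).1
        omega], ← Finset.sum_mul, ← Finset.sum_mul] at h5
  obtain ⟨b1, b2⟩ := a7 S fun x hx => ((h.memS x).1 hx).1
  obtain ⟨b3, b4⟩ := a7 T₁ fun x hx => ((h.un x).1 (.inl hx)).1
  have b5 := h.c1
  obtain ⟨k, rfl⟩ := Nat.exists_eq_add_of_le' h.one
  rw [h.cS, abs_le] at *
  zify at b5
  rw [pow_succ] at *
  generalize ∑ x ∈ S, ω x = σ at *
  obtain rfl | rfl | rfl | rfl | rfl : σ = -4 ∨ σ = -2 ∨ σ = 0 ∨ σ = 2 ∨ σ = 4 := by omega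
  all_goals omega

end TN

end Cfsg.Agent.Blk
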