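import Cfsg.Agent.Lib.Block.TameF

/-!
The principal 2-block of a group with dihedral Sylow 2-subgroups.
-/

set_option autoImplicit false

namespace Cfsg.Agent.Blk
open MonoidAlgebra
open Cfsg.Agent.Char hiding cj cj_mul cj_inv_cj cj_cj_inv sum_cj_eq om
open scoped ComplexConjugate
attribute [local instance] _root_.Classical.propDecidable
open Subgroup (zpowers mem_zpowers)
open Transfer (MC)

variable {G : Type*} [Group G] [Finite G] {P : Subgroup G} {a b : G} {n : ℕ}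

theorem DH.gam_eq (h : DH P a b n) (u : zpowers a) : gam h.toMC u = u⁻¹ := Subtype.ext (h.inv' u.2)

theorem DH.of_order (h : DH P a b n) (hn : 1 ≤ n) {σ : G} (h1 : σ ∈ P)
    (h2 : orderOf σ = 2 ^ (n + 1)) : DH P σ b n := by
  have h3 : σ ∈ zpowers a := by_contra fun h3 => by
    have := Nat.le_of_dvd two_pos (orderOf_dvd_of_pow_eq_one ((sq σ).trans (h.sq_out' h1 h3)))
    have := Nat.pow_le_pow_right (i := 2) two_pos (show 2 ≤ n + 1 by omega)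
    omega
  have h4 : zpowers σ = zpowers a := Subgroup.eq_of_le_of_card_ge (Subgroup.zpowers_le.2 h3) (by
    rw [Nat.card_zpowers, Nat.card_zpowers, h2, h.ord])
  exact ⟨⟨h2, h4 ▸ h.notMem, h4 ▸ h.eq, h4 ▸ h.sq, .inl (h.inv' h3)⟩, h.sq1, h.inv' h3⟩

theorem DH.principal (M : Ideal AlgInt) [PMod M 2] (h : DH P a b n) (hn : 1 ≤ n)
    (hP : IsSyl 2 P ⊤) : ∃ (χ₁ χ₂ χ₃ : IrrCharacter G) (δ₁ δ₂ δ₃ : ℤ)
      (ψ : LW (zpowers a) → IrrCharacter G),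
    (δ₁ = 1 ∨ δ₁ = -1) ∧ (δ₂ = 1 ∨ δ₂ = -1) ∧ (δ₃ = 1 ∨ δ₃ = -1) ∧
    (irrOne G ≠ χ₁ ∧ irrOne G ≠ χ₂ ∧ irrOne G ≠ χ₃ ∧ χ₁ ≠ χ₂ ∧ χ₁ ≠ χ₃ ∧ χ₂ ≠ χ₃) ∧
    (∀ χ, χ ∈ principalBlock M G ↔ χ = irrOne G ∨ χ = χ₁ ∨ χ = χ₂ ∨ χ = χ₃ ∨
      ∃ k, gW (gam h.toMC) k ≠ k ∧ χ = ψ k) ∧
    (∀ u : zpowers a, u ≠ 1 → χ₁.1 u = δ₁ ∧ χ₂.1 u = δ₂ * ev (nuW (aW a)) u ∧
      χ₃.1 u = δ₃ * ev (nuW (aW a)) u) ∧
    (∀ ρ, ¬ 2 ∣ orderOf ρ → 1 + δ₁ * χ₁.1 ρ = δ₂ * χ₂.1 ρ + δ₃ * χ₃.1 ρ) ∧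
    ∀ k, gW (gam h.toMC) k ≠ k → (ψ k ≠ irrOne G ∧ ψ k ≠ χ₁ ∧ ψ k ≠ χ₂ ∧ ψ k ≠ χ₃) ∧
      (∀ u : zpowers a, u ≠ 1 → (ψ k).1 u = δ₁ * (ev k u + (ev k u)⁻¹)) ∧
      (∀ l, gW (gam h.toMC) l ≠ l → (ψ k = ψ l ↔ Sim (gW (gam h.toMC)) k l)) ∧
      ∀ ρ, ¬ 2 ∣ orderOf ρ → 1 + δ₁ * χ₁.1 ρ = δ₁ * (ψ k).1 ρ := by
  have := Fintype.ofFinite G
  have := Fintype.ofFinite (zpowers a)
  have hc := mc_cw h.toMC hn
  have hm := mp_principal (M := M) hP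
  have h0 : ∀ u : zpowers a, (u : G) ∈ P := fun u => h.le u.2
  have h1 : ∀ u : zpowers a, u ≠ 1 → IsNilpotentBlock 2 M (sb 2 P (e0 M P) (u : G)) ∧
      (2 : ℂ) ^ blockDefect 2 (sb 2 P (e0 M P) (u : G)) =
        2 ^ (n + 1) * (1 + if u = gam h.toMC u then 1 else 0) := fun u hu => by
    by_cases h1 : u ∈ zW a n
    · obtain rfl := (hc.mem_z h1).resolve_left hu
      rw [if_pos hc.γz.symm]
      exact ⟨hm.dh_z h, ((hm.mc_z h.toMC).1.trans (hm.mc_z h.toMC).2).symm ▸ by ring⟩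
    · rw [mc_mem_zW h.toMC hn] at h1
      rw [if_neg fun e => h1 (h.fix u.2 (mul_inv_eq_iff_eq_mul.1 (congrArg Subtype.val e).symm)),
        add_zero, mul_one]
      exact (hm.mc_U h.toMC hn u.2 h1).2
  have h2 : ∀ u : zpowers a, u ≠ 1 → ∀ χ ∈ principalBlock M G, ∀ s : Ce1 (u : G), ¬ 2 ∣ orderOf s →
      χ.1 (u * s) = dn 2 (u : G) (sb 2 P (e0 M P) u) χ.1 := fun u hu χ hχ s hs => by
    have := (h1 u hu).1
    rw [sb_principal hP.pg (h0 u)] at this ⊢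
    exact principal_apply_of_nilp (hm.pelt (h0 u)) this hχ hs
  have h3 : ∀ u : zpowers a, u ≠ 1 → ∀ χ ∈ principalBlock M G,
      χ.1 u = dn 2 (u : G) (sb 2 P (e0 M P) u) χ.1 := fun u hu χ hχ => by
    simpa using h2 u hu χ hχ 1 preg_one
  have h4 : ∀ (χ : IrrCharacter G) u, χ.1 (gam h.toMC u) = χ.1 u := fun χ u =>
    χ.2.isClassFunction.apply_conj _ _
  have h5 : ∀ ρ, ¬ 2 ∣ orderOf ρ → ∀ u : zpowers a, u ∉ (⊥ : Subgroup (zpowers a)) →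
      ∑ χ ∈ fs (principalBlock M G), χ.1 u * χ.1 ρ = 0 := fun ρ hρ u hu => by
    have := hm.blk.isUB.orthogonality' (isPPart_self (hm.pelt (h0 u)))
      (isPPart_one_iff.2 (show ¬ 2 ∣ orderOf ρ⁻¹ by rwa [orderOf_inv]))
      fun e => hu (Subtype.ext (isConj_one_left.1 e))
    rw [finsum_fs] at this
    rw [← this]
    exact Finset.sum_congr rfl fun χ _ => by rw [χ.2.isCharacter.apply_inv, Complex.conj_conj]
  obtain ⟨c, t, e1, e2, e3⟩ := hc.exists_tc bot_le (s := fs (principalBlock M G))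
    (D := fun χ u => χ.1 u) (d := fun χ => charDegree χ.1) (fun χ _ => χ.2.isGen.res _)
    (fun χ _ => h4 χ) (fun u v hu hv => by
      by_cases e : v = u ∨ v = gam h.toMC u
      · rw [Finset.sum_congr rfl fun χ hχ => by
          rw [show χ.1 v = χ.1 u by rcases e with rfl | rfl; exacts [rfl, h4 χ u],
            h3 u hu χ (mem_fs.1 hχ)], hm.sum_dn_self (h0 u) (h1 u hu).1, Nat.cast_ofNat, (h1 u hu).2,
          hc.card]
        rcases e with rfl | rfl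
        · simp
        · simp [add_comm, eq_comm]
      · rw [Finset.sum_congr rfl fun χ hχ => by
          rw [h3 u hu χ (mem_fs.1 hχ), h3 v hv χ (mem_fs.1 hχ)],
          hm.sum_dn_of_not_fc (h0 v) (h1 v hv).1 (h0 u) (h1 u hu).1 fun e' => e
            (((hm.mc_fc h.toMC u.2 v.2).1 e').imp Subtype.ext Subtype.ext)]
        simp [not_or.1 e])
    (fun χ _ => Int.natCast_pos.2 (Nat.pos_of_ne_zero (charDegree_ne_zero χ))) fun u hu => by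
      simpa [cast_deg] using h5 1 preg_one u hu
  obtain ⟨k₀, k1, k2⟩ := hc.exists_self
  rw [EW_bot] at t
  obtain ⟨χ₁, χ₂, χ₃, δ₁, δ₂, δ₃, ψ, a1, a2, a3, a4, a5, a6, a7, a8, a9, a10, a11, a12, a13⟩ :=
    t.top (x₀ := irrOne G) (mem_fs.2 irrOne_mem_principal) (fun l => by
      have := e2 _ l (mem_fs.2 irrOne_mem_principal)
      have e := classInner_ev (W := zpowers a) 0 l
      exact Int.cast_injective (α := ℂ) (this.symm.trans (e.trans (by simp [eq_comm]))))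
      (by simpa using charDegree_of_eq (χ := irrOne G) (n := 1) (by simp [irrOne])) k1 k2
  refine ⟨χ₁, χ₂, χ₃, δ₁, δ₂, δ₃, ψ, a1, a2, a3, a4, fun χ => ⟨fun hχ => ?_, ?_⟩, fun u hu =>
    ⟨?_, ?_, ?_⟩, fun ρ hρ => ?_, fun k hk => ⟨(a11 k hk).2.1, fun u hu => ?_,
      fun l hl => ⟨fun e => ?_, fun e => by_contra fun e' => ?_⟩, fun ρ hρ => ?_⟩⟩
  · refine (a13 χ (mem_fs.2 hχ)).imp_right (Or.imp_right (Or.imp_right (Or.imp_right
      fun e => e.resolve_right fun e => ?_)))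
    have hz : aW a ^ 2 ^ n ≠ 1 := fun e => mc_z_ne h.toMC (congrArg Subtype.val e)
    obtain ⟨s, b1, b2, b3⟩ := hm.blk.exists_apply_mul_ne_zero hm.mp.isDef
      ⟨h.le h.z_mem, h.z_cent⟩ hχ
    refine b3 ((h2 _ hz χ hχ ⟨s, b1⟩ ((Subgroup.orderOf_mk s b1).symm ▸ b2)).trans ?_)
    rw [← h3 _ hz χ hχ, e1 χ (mem_fs.2 hχ)]
    exact sum_ev_eq_zero hc.comm (Z := ⊥) hz fun l m _ => by rw [e l, e m]
  · rintro (rfl | rfl | rfl | rfl | ⟨k, hk, rfl⟩)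
    exacts [irrOne_mem_principal, mem_fs.1 a5, mem_fs.1 a6, mem_fs.1 a7, mem_fs.1 (a11 k hk).1]
  · simpa using (e1 _ a5 u).trans (hc.sum_S (Z := ⊥) hu fun l m _ => (a8 l).trans (a8 m).symm)
  · exact (e1 _ a6 u).trans (hc.sum_S (Z := ⊥) hu fun l m _ => (a9 l).trans (a9 m).symm)
  · exact (e1 _ a7 u).trans (hc.sum_S (Z := ⊥) hu fun l m _ => (a10 l).trans (a10 m).symm)
  · have := (a12 _).symm.trans (e3 _ (h5 ρ hρ) _ _ (by simp [EW_bot]))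
    simp only [irrOne] at this
    linear_combination -this
  · simpa [h.gam_eq] using (e1 _ (a11 k hk).1 u).trans (hc.sum_T (Z := ⊥) hu hk fun l m _ =>
      ((a11 k hk).2.2.1 l).trans ((a11 k hk).2.2.1 m).symm)
  · have b1 := (a11 k hk).2.2.1 l
    have b2 := (a11 l hl).2.2.1 l
    rw [← e, if_pos (Sim.refl l)] at b2
    by_contra b3
    rw [if_neg b3] at b1
    omega
  · have b1 := (a11 k hk).2.2.2 fun χ => if χ = ψ k then 1 else 0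
    rw [Finset.sum_congr rfl fun χ hχ => by rw [t.c_sim hχ e], (a11 l hl).2.2.2] at b1
    rcases a1 with rfl | rfl <;> simp [Ne.symm e'] at b1
  · have := ((a11 k hk).2.2.2 _).symm.trans (e3 _ (h5 ρ hρ) _ _ (by simp [EW_bot]))
    simp only [irrOne] at this
    linear_combination -this

end Cfsg.Agent.Blk
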