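import Cfsg.Agent.Lib.Block.TameB

/-!
The invariants of blocks with dihedral, semidihedral and quaternion defect groups.
-/

set_option autoImplicit false

namespace Cfsg.Agent.Blk
open MonoidAlgebra
open Cfsg.Agent.Char hiding cj cj_mul cj_inv_cj cj_cj_inv sum_cj_eq om
open scoped ComplexConjugate
attribute [local instance] _root_.Classical.propDecidable
open Subgroup (zpowers mem_zpowers)
open Transfer (MC QD Xk)

variable {G : Type*} [Group G] [Finite G] {M : Ideal AlgInt} [PMod M 2]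
  {B : Set (IrrCharacter G)} {P L : Subgroup G} {e : (kk M)[G]} {a b u : G} {n : ℕ} {T : Finset G}
  {χ : IrrCharacter G} {S T₁ T₂ : Finset (IrrCharacter G)} {l lz k : ℕ}
  {A Z : IrrCharacter G → IrrCharacter G → ℤ}

omit [PMod M 2] in
theorem card_ht (B : Set (IrrCharacter G)) (k : ℕ) :
    Nat.card {χ : IrrCharacter G // χ ∈ B ∧ blockHeight 2 B χ.1 = k} =
      ((fs B).filter fun χ => blockHeight 2 B χ.1 = k).card := by
  rw [card_subtype_fs]
  congr 1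
  ext χ
  simp

theorem TN.card_zero (h : TN (fs B) S T₁ T₂ (fun χ => blockHeight 2 B χ.1) n l lz k A Z) :
    Nat.card {χ : IrrCharacter G // χ ∈ B ∧ blockHeight 2 B χ.1 = 0} = 4 := by
  rw [card_ht, ← h.cS]
  congr 1
  ext χ
  rw [h.memS, Finset.mem_filter]

theorem UT.fused (h : UT P e a T) (h0 : T.card = 0) (hu : u ∈ P) : ∃ c ∈ zpowers a, IsConj u c := by
  by_contra! h1
  obtain ⟨t, ht, -⟩ := h.uniq u hu fun c hc e => h1 c hc e.isConj
  simp [Finset.card_eq_zero.1 h0] at ht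

theorem MP.dih (h : MP 2 B P e) (hm : DH P a b n) (hn : 1 ≤ n) :
    Nat.card B = 2 ^ n + 3 ∧ 1 ≤ blockRank 2 B ∧ blockRank 2 B ≤ 3 ∧
      Nat.card {χ : IrrCharacter G // χ ∈ B ∧ blockHeight 2 B χ.1 = 0} = 4 ∧
      (∀ χ ∈ B, blockHeight 2 B χ.1 ≤ 1) ∧
      (blockRank 2 B = 3 → ∀ u ∈ P, ∃ c ∈ zpowers a, IsConj u c) := by
  have := Fintype.ofFinite G
  obtain ⟨T, hT⟩ := h.exists_UT hm.toMC
  obtain ⟨S, T₁, T₂, A, Z, t, -⟩ := h.exists_tn hm.toMC hn hT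
  rw [(h.dh_z hm).rank] at t
  obtain rfl := t.swap.empty rfl
  have h1 := t.c2
  have h2 := hT.card
  rw [Finset.card_empty] at h1
  refine ⟨by rw [card_fs, t.card]; rfl, t.l_pos, by omega, t.card_zero, fun χ hχ => ?_,
    fun e u => hT.fused (by omega)⟩
  by_cases h0 : blockHeight 2 B χ.1 = 0
  · omega
  · exact (t.h1 χ (((t.un χ).2 ⟨mem_fs.2 hχ, h0⟩).resolve_right (by simp))).1.le

theorem MP.sd (h : MP 2 B P e) (hm : QD P a b n) :
    (Nat.card B = 2 ^ n + 3 ∨ Nat.card B = 2 ^ n + 4) ∧ 1 ≤ blockRank 2 B ∧ blockRank 2 B ≤ 3 ∧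
      (blockRank 2 B = 3 → Nat.card B = 2 ^ n + 4) ∧ (blockRank 2 B = 1 → Nat.card B = 2 ^ n + 3) ∧
      Nat.card {χ : IrrCharacter G // χ ∈ B ∧ blockHeight 2 B χ.1 = 0} = 4 ∧
      Nat.card {χ : IrrCharacter G // χ ∈ B ∧ blockHeight 2 B χ.1 = 1} = 2 ^ n - 1 ∧
      (∀ χ ∈ B, blockHeight 2 B χ.1 = 0 ∨ blockHeight 2 B χ.1 = 1 ∨ blockHeight 2 B χ.1 = n) ∧
      (blockRank 2 B = 3 → ∀ u ∈ P, ∃ c ∈ zpowers a, IsConj u c) := by
  have := Fintype.ofFinite G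
  obtain ⟨T, hT⟩ := h.exists_UT hm.toMC
  obtain ⟨S, T₁, T₂, A, Z, t, -, -, h1⟩ := h.exists_tn hm.toMC hm.one hT
  obtain ⟨η, a1, a2, a3, a4, a5, a6⟩ := mc_exists_eta hm.toMC hm.one
  have b1 := hm.mc'.ix2_M hm.one
  have b2 := hm.mc'.a_notMem hm.one
  have b3 : ∀ c ∈ zpowers a, c ^ 4 = 1 → c ∈ Xk a 1 (a * b) := fun c hc e =>
    Subgroup.mem_sup_left (hm.pow_le_pow (show 1 ≤ n - 1 by have := hm.two; omega)
      ((hm.mem_pow_iff (by omega) hc).2 (by rwa [show n + 1 - (n - 1) = 2 by have := hm.two; omega])))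
  have b4 : IsGeneralizedCharacter P fun u : P => η u + if (u : G) ∈ Xk a 1 (a * b) then 2 else 0 := by
    convert a1.add (isGen_ix2 b1 hm.mem_a b2 isCharacter_one.isGen) using 2 with u
    simp only [Pi.add_apply, extendByZero_eq, ← Subgroup.mem_normalizer_iff.1 (b1.nn hm.mem_a) u]
    split_ifs <;> norm_num
  have b5 : ∀ u ∈ P, u ≠ 1 → u * u = 1 → (η u + if u ∈ Xk a 1 (a * b) then 2 else 0) = 0 :=
    fun u hu e1 e2 => by
      by_cases e3 : u ∈ zpowers a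
      · rw [(hm.inv_eq e3 e2).resolve_left e1, a4, if_pos (hm.mc'.z_mem_X hm.one)]
        norm_num
      · rw [a2 u e3, if_neg fun e => hm.z_ne ((hm.sq_Q e e3).symm.trans e2), add_zero]
  obtain ⟨h2, h3⟩ := h1 _ (h.stable_of hm.toMC b4 b5 fun u hu e => by
    rw [a5 u e, zero_add, if_pos]
    by_cases e3 : u ∈ zpowers a
    · exact b3 u e3 (by rw [show 4 = 2 * 2 from rfl, pow_mul, sq u, e, sq, hm.z_mul])
    · exact (hm.out_mem hu e3).resolve_left fun e' => hm.z_ne (e.symm.trans (hm.sq_D e' e3))) b4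
    (by rw [a3, if_pos (one_mem _)]; norm_num) (b5 _ (hm.le hm.z_mem) hm.z_ne hm.z_mul)
  have b6 : ∑ u : zpowers a, (if (u : G) ∈ Xk a 1 (a * b) then (2 : ℂ) else 0) = 2 * 2 ^ n := by
    have e : ∑ u : zpowers a, ((if (u : G) ∈ Xk a 1 (a * b) then (2 : ℂ) else 0) +
        if a * u ∈ Xk a 1 (a * b) then 2 else 0) = ∑ u : zpowers a, 2 :=
      Finset.sum_congr rfl fun u _ => by
        rw [b1.mul_iff hm.mem_a (hm.le u.2)]
        by_cases e : (u : G) ∈ Xk a 1 (a * b) <;> simp [e, b2]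
    rw [Finset.sum_add_distrib, Fintype.sum_equiv (Equiv.mulLeft (aW a))
      (fun u => if a * u ∈ Xk a 1 (a * b) then (2 : ℂ) else 0)
      (fun u => if (u : G) ∈ Xk a 1 (a * b) then 2 else 0) fun _ => rfl, Finset.sum_const,
      Finset.card_univ, Fintype.card_eq_nat_card, (mc_cw hm.toMC hm.one).card, nsmul_eq_mul] at e
    push_cast at e
    linear_combination e / 2
  have h4 : T.card = 0 → T₂.card ≤ 1 ∧ (blockRank 2 B = 3 → T₂.card = 1) := fun e =>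
    t.sd h2 e fun χ hχ => by
      obtain ⟨k, hk⟩ := h3 (Finset.card_eq_zero.1 e) χ hχ
      rw [Finset.sum_add_distrib, a6, b6, zero_add] at hk
      exact ⟨k, Int.cast_injective (α := ℂ) (by push_cast at hk ⊢; linear_combination -hk)⟩
  have h5 := t.add_le h2
  have h6 := t.le_two_mul h2
  have h7 := t.swap.le_two_mul h2
  have h8 := t.c2
  rw [card_fs, t.card]
  exact ⟨by omega, t.l_pos, by omega, by omega, by omega, t.card_zero,
    (card_ht B 1).trans (t.card_one h2 hm.two), fun χ hχ => t.ht_cases h2 (mem_fs.2 hχ),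
    fun e u => hT.fused (by omega)⟩

theorem MP.q_eta (h : MP 2 B P e) (hm : MC P a b n) (hn : 1 ≤ n)
    (hq : ∀ s ∈ P, s ∉ zpowers a → s * s = a ^ 2 ^ n) : ∃ η : G → ℂ,
      (∀ u v, FC 2 P e u v → η v = η u) ∧ IsGeneralizedCharacter P (fun u => η u) ∧ η 1 = 4 ∧
        η (a ^ 2 ^ n) = 0 := by
  have := Fintype.ofFinite G
  obtain ⟨η, a1, -, a3, a4, a5, -⟩ := mc_exists_eta hm hn
  have b1 : IsGeneralizedCharacter P fun u : P => η u + 2 := by
    convert a1.add (isCharacter_one.isGen.add isCharacter_one.isGen) using 2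
    simp [one_add_one_eq_two]
  refine ⟨fun u => η u + 2, h.stable_of hm b1 (fun u hu e1 e2 => ?_) fun u _ e => by
    rw [a5 u e, zero_add], b1, by simp only [a3]; norm_num, by simp [a4]⟩
  rw [(hm.inv_eq (by_contra fun e => mc_z_ne hm ((hq u hu e).symm.trans e2)) e2).resolve_left e1, a4]
  norm_num

theorem MP.cm_central [Fintype G] [Fintype (Ce1 u)] (h : MP 2 B P e) (hu : u ∈ P)
    (hc : u ∈ Subgroup.center G) (hχ : χ ∈ B) {ω : ℂ} (h1 : ∀ g, χ.1 (u * g) = ω * χ.1 g) :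
    classInner (loc 2 u (sb 2 P e u) χ) (loc 2 u (sb 2 P e u) χ) =
      ω * conj ω * classInner (reg 2 χ.1) χ := by
  rw [← h.locSet_eq hu fun x _ => by rw [Subgroup.mem_center_iff.1 hc x, mul_inv_cancel_right],
    h.blk.isUB.loc_locSet (h.pelt hu) hχ,
    show reg 2 (Ru u χ.1) = ω • fun s : Ce1 u => reg 2 χ.1 s by funext s; simp [reg, Ru, h1],
    classInner_smul_left, classInner_smul_right, ← classInner_reg_reg, mul_assoc]
  congr 2
  exact classInner_comp_equiv ((MulEquiv.subgroupCongr (top_le_iff.1 fun x _ =>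
    mem_Ce1.2 (Subgroup.mem_center_iff.1 hc x))).trans Subgroup.topEquiv) _ _

theorem MP.q_center (h : MP 2 B P e) (hm : MC P a b n) (hn : 1 ≤ n)
    (hq : ∀ s ∈ P, s ∉ zpowers a → s * s = a ^ 2 ^ n) (hT : UT P e a T)
    (hc : a ^ 2 ^ n ∈ Subgroup.center G) : blockRank 2 B + T.card = 3 := by
  have := Fintype.ofFinite G
  obtain ⟨S, T₁, T₂, A, Z, t, hA, hZ, h1⟩ := h.exists_tn hm hn hT
  obtain ⟨η, a1, a2, a3, a4⟩ := h.q_eta hm hn hq
  choose ω h2 h3 using fun χ : IrrCharacter G => show ∃ ω : ℤ, (ω = 1 ∨ ω = -1) ∧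
      ∀ g, χ.1 (a ^ 2 ^ n * g) = ω * χ.1 g by
    obtain ⟨ω, e1, e2⟩ := exists_root_mul χ.2 hc
    rw [hm.ord_z] at e1
    rcases sq_eq_one_iff.1 e1 with rfl | rfl
    exacts [⟨1, .inl rfl, by simpa using e2⟩, ⟨-1, .inr rfl, by simpa using e2⟩]
  have h4 : ∀ χ ∈ fs B, (A χ χ : ℂ) = 2 ^ (n + 2) * classInner (reg 2 χ.1) χ := fun χ hχ => by
    rw [← hA, h.cm_one (mem_fs.1 hχ) (mem_fs.1 hχ), am_cast (mem_fs.1 hχ), (h.mc_z hm).2,
      Nat.cast_ofNat]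
  refine t.q (h1 η a1 a2 a3 a4).1 (fun χ hχ => Int.cast_injective (α := ℂ) ?_) (fun χ _ => h2 χ)
    (Int.cast_injective (α := ℂ) ?_)
  · rw [h4 χ hχ, ← hZ, cm, h.cm_central (hm.le hm.z_mem) hc (mem_fs.1 hχ) (h3 χ), (h.mc_z hm).1,
      (h.mc_z hm).2]
    rcases h2 χ with e | e <;> simp [e]
  push_cast
  rw [Finset.sum_congr rfl fun χ hχ => by
    rw [h4 χ hχ, classInner, ← mul_assoc (2 ^ _), mul_left_comm, Finset.mul_sum], ← Finset.mul_sum,
    Finset.sum_comm, Finset.sum_eq_zero, mul_zero]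
  intro g _
  by_cases hg : 2 ∣ orderOf g
  · simp [reg_of_dvd hg]
  have := h.blk.isUB.orthogonality (p := 2) (isPPart_mul (Subgroup.mem_center_iff.1 hc g).symm
    (h.pelt (hm.le hm.z_mem)) hg) (isPPart_one_iff.2 hg) (by simpa using mc_z_ne hm)
  simpa only [sum_ite_fs, h3, reg_of_preg hg, mul_assoc] using this

theorem mc_sub (hm : MC P a b n) (h : P ≤ L) :
    MC (P.subgroupOf L) ⟨a, h hm.mem_a⟩ ⟨b, h hm.mem_b⟩ n := by
  have h1 : ∀ x : L, x ∈ zpowers (⟨a, h hm.mem_a⟩ : L) ↔ (x : G) ∈ zpowers a := fun x => by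
    simp [Subgroup.mem_zpowers_iff, Subtype.ext_iff]
  refine ⟨by rw [Subgroup.orderOf_mk, hm.ord], (h1 _).not.2 hm.notMem, ?_, (h1 _).2 hm.sq,
    hm.cnj.imp Subtype.ext (And.imp_right Subtype.ext)⟩
  apply Subgroup.map_injective L.subtype_injective
  rw [Subgroup.map_subgroupOf_eq_of_le h, Subgroup.map_sup, MonoidHom.map_zpowers,
    MonoidHom.map_zpowers]
  exact hm.eq

theorem MP.quat (h : MP 2 B P e) (hm : MC P a b n) (hn : 1 ≤ n)
    (hq : ∀ s ∈ P, s ∉ zpowers a → s * s = a ^ 2 ^ n) :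
    1 ≤ blockRank 2 B ∧ blockRank 2 B ≤ 3 ∧ Nat.card B = blockRank 2 B + 2 ^ n + 2 ∧
      Nat.card {χ : IrrCharacter G // χ ∈ B ∧ blockHeight 2 B χ.1 = 0} = 4 ∧
      (∀ χ ∈ B, blockHeight 2 B χ.1 = 0 ∨ blockHeight 2 B χ.1 = 1 ∨ blockHeight 2 B χ.1 = n) ∧
      (2 ≤ n → Nat.card {χ : IrrCharacter G // χ ∈ B ∧ blockHeight 2 B χ.1 = 1} = 2 ^ n - 1) := by
  have := Fintype.ofFinite G
  have hz := hm.le hm.z_mem
  have hL := mc_le_Ce1 hm
  have h1 := h.mp.local_Ce (h.sb_ple hz) (hL.trans (Ce_zpowers _).ge)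
  rw [top_inf_eq, Ce_zpowers] at h1
  have h2 := h1.mpL
  have hm' := mc_sub hm hL
  rw [(h.sb_blk hz).cb_barS] at h2
  obtain ⟨T, hT⟩ := h2.exists_UT hm'
  have h3 : ∀ x : Ce1 (a ^ 2 ^ n), x ∈ zpowers (⟨a, hL hm.mem_a⟩ : Ce1 _) ↔ (x : G) ∈ zpowers a :=
    fun x => by simp [Subgroup.mem_zpowers_iff, Subtype.ext_iff]
  have h4 := h2.q_center hm' hn (fun s hs hs' => Subtype.ext (hq s hs ((h3 s).not.1 hs'))) hT
    (mem_center_Ce1 _)
  have h5 : ∀ u v : Ce1 (a ^ 2 ^ n), (u : G) ∈ P → (u : G) ∉ zpowers a →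
      (FC 2 (P.subgroupOf _) (rs _ e) u v ↔ FC 2 P e u v) := fun u v hu hu' => by
    have e1 := hq u hu hu'
    have e2 : ∀ w : G, w * w = a ^ 2 ^ n → Ce1 w ≤ Ce1 (a ^ 2 ^ n) := fun w e x hx => by
      rw [← e, mem_Ce1, ← mul_assoc, mem_Ce1.1 hx, mul_assoc, mem_Ce1.1 hx, mul_assoc]
    have e3 : (v : G) ∈ P → IsConj (u : G) v → _ := fun hv hc =>
      h.fc_sub_iff h1 hu hv (e2 _ e1) (e2 _ (mc_sq_of_conj hm e1 hc hv)) fun x hx => by
        rw [mem_Ce1, ← mul_inv_eq_iff_eq_mul, ← e1, ← conj_mul, hx, e1,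
          mc_sq_of_conj hm e1 hc hv]
    exact ⟨fun e => (e3 e.right ((Ce1 _).subtype.map_isConj e.isConj)).1 e,
      fun e => (e3 e.right e.isConj).2 e⟩
  have h6 : ∀ t ∈ T, (t : G) ∉ zpowers a := fun t ht e =>
    hT.unf t ht t ((h3 t).2 e) (h2.bp.fc_refl (hT.mem t ht))
  have h7 : UT P e a (T.map (.subtype _)) := by
    refine ⟨Finset.forall_mem_map.2 hT.mem, Finset.forall_mem_map.2 fun t ht c hc e' =>
      hT.unf t ht ⟨c, hL (hm.le hc)⟩ ((h3 _).2 hc) ((h5 t _ (hT.mem t ht) (h6 t ht)).2 e'),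
      fun u hu e1 => ?_, by simpa using hT.card⟩
    have e2 : u ∉ zpowers a := fun e => e1 u e (h.bp.fc_refl hu)
    obtain ⟨t, ⟨e3, e4⟩, e5⟩ := hT.uniq ⟨u, hL hu⟩ hu fun c hc e =>
      e1 c ((h3 c).1 hc) ((h5 _ c hu e2).1 e)
    refine ⟨t, ⟨Finset.mem_map_of_mem _ e3, (h5 t _ (hT.mem t e3) (h6 t e3)).1 e4⟩, ?_⟩
    rintro _ ⟨e6, e7⟩
    obtain ⟨s, hs, rfl⟩ := Finset.mem_map.1 e6
    exact congrArg Subtype.val (e5 s ⟨hs, (h5 s ⟨u, hL hu⟩ (hT.mem s hs) (h6 s hs)).2 e7⟩)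
  obtain ⟨S, T₁, T₂, A, Z, t, -, -, h8⟩ := h.exists_tn hm hn h7
  obtain ⟨η, a1, a2, a3, a4⟩ := h.q_eta hm hn hq
  have b1 := (h8 η a1 a2 a3 a4).1
  have b2 := t.add_le b1
  have b3 := t.c2
  rw [Finset.card_map] at b3
  rw [card_fs, t.card]
  exact ⟨t.l_pos, by omega, by omega, t.card_zero, fun χ hχ => t.ht_cases b1 (mem_fs.2 hχ),
    fun e => (card_ht B 1).trans (t.card_one b1 e)⟩

theorem MP.of_fused (h : MP 2 B P e) (hm : MC P a b n) (hn : 1 ≤ n) (hb : b * b = 1)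
    (h2 : 2 ≤ n ∨ a * b * (a * b) = 1) (hf : ∀ u ∈ P, ∃ c ∈ zpowers a, IsConj u c) :
    Odd (Nat.card (Subgroup.center G)) ∧ ¬ IsSolvable G := by
  have h1 : ∀ s, s ∉ zpowers a → s * s = 1 → s ∈ P → IsConj s (a ^ 2 ^ n) := fun s hs e hs' => by
    obtain ⟨c, hc, e1⟩ := hf s hs'
    obtain ⟨x, rfl⟩ := isConj_iff.1 e1
    rwa [← (hm.inv_eq hc (by rw [conj_mul, e, conj_eq_one_iff])).resolve_left
      (conj_eq_one_iff.not.2 fun e => hs (e ▸ one_mem _))]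
  constructor
  · by_contra h3
    obtain ⟨t, ht⟩ := exists_prime_orderOf_dvd_card' 2 (Nat.not_odd_iff_even.1 h3).two_dvd
    rw [← Subgroup.orderOf_coe] at ht
    have h4 := h.blk.isBlock.le_of_isDef h.mp.isDef (isPGroup_zpowers ⟨1, ht⟩) le_top
      ((show _ ≤ Ce _ from fun x _ => by
        rw [Ce_zpowers, mem_Ce1]; exact Subgroup.mem_center_iff.1 t.2 x).trans (Ce_le_No _))
      (mem_zpowers _)
    have h5 : ∀ x, IsConj x (t : G) → x = t := fun x e => by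
      obtain ⟨y, rfl⟩ := isConj_iff.1 e.symm
      rw [Subgroup.mem_center_iff.1 t.2 y, mul_inv_cancel_right]
    have h6 := mul_self_of_two ht
    by_cases h7 : (t : G) ∈ zpowers a
    · rw [(hm.inv_eq h7 h6).resolve_left fun e => by simp [e] at ht] at h5
      exact hm.notMem (h5 b (h1 b hm.notMem hb hm.mem_b) ▸ hm.z_mem)
    · exact h7 (h5 _ (h1 _ h7 h6 h4).symm ▸ hm.z_mem)
  rintro ⟨k, hk⟩
  have h3 : ∀ k, P ≤ derivedSeries G k := fun k => by
    induction k with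
    | zero => exact le_top
    | succ k ih =>
      have e1 : zpowers (a * a) ≤ derivedSeries G (k + 1) :=
        hm.der hn ▸ Subgroup.commutator_mono ih ih
      have e2 : ∀ s c, IsConj s c → c ∈ zpowers (a * a) → s ∈ derivedSeries G (k + 1) :=
        fun s c e hc => by
          obtain ⟨x, rfl⟩ := isConj_iff.1 e.symm
          exact (derivedSeries_normal G _).conj_mem _ (e1 hc) x
      have e3 := hm.pow_le_sq hn (mem_zpowers _)
      have e4 := e2 _ _ (h1 b hm.notMem hb hm.mem_b) e3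
      have e5 : a * b ∈ derivedSeries G (k + 1) := by
        rcases h2 with h2 | h2
        · obtain ⟨c, hc, e⟩ := hf _ hm.mem_ab
          refine e2 _ c e (hm.pow_le_sq (show 1 ≤ n - 1 by omega) ((hm.mem_pow_iff (by omega) hc).2 ?_))
          obtain ⟨x, rfl⟩ := isConj_iff.1 e
          rw [show n + 1 - (n - 1) = 2 by omega, conj_pow, conj_eq_one_iff, sq, pow_mul, sq (a * b)]
          rcases hm.sq_out hm.mem_ab hm.ab_out with e | e <;> simp [e, sq, hm.z_mul]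
        · exact e2 _ _ (h1 _ hm.ab_out h2 hm.mem_ab) e3
      exact hm.eq ▸ sup_le (Subgroup.zpowers_le.2 ((Subgroup.mul_mem_cancel_right _ e4).1 e5))
        (Subgroup.zpowers_le.2 e4)
  exact mc_z_ne hm (Subgroup.mem_bot.1 (hk ▸ h3 k (hm.le hm.z_mem)))

end Cfsg.Agent.Blk
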