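import Cfsg.Agent.Lib.Block.TameL

/-!
Fourier coefficients on the cyclic maximal subgroup of a 2-group of maximal class.
-/

set_option autoImplicit false

namespace Cfsg.Agent.Blk
open MonoidAlgebra
open Cfsg.Agent.Char hiding cj cj_mul cj_inv_cj cj_cj_inv sum_cj_eq om
open scoped ComplexConjugate
attribute [local instance] _root_.Classical.propDecidable
open Subgroup (zpowers mem_zpowers)

section CW

/-- linear characters, written additively -/
def LW (W : Type*) [Group W] := Additive (W →* ℂˣ)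

variable {W : Type*} [Group W] {γ : MulAut W} {a u v : W} {n : ℕ} {Z : Subgroup W} {l m k : LW W}

noncomputable instance : AddCommGroup (LW W) := inferInstanceAs (AddCommGroup (Additive (W →* ℂˣ)))
noncomputable instance [Finite W] : Fintype (LW W) := inferInstanceAs (Fintype (W →* ℂˣ))

/-- the underlying homomorphism -/
def LW.hom (l : LW W) : W →* ℂˣ := l

/-- value of a character -/
def ev (l : LW W) (u : W) : ℂ := l.hom u

@[simp] theorem ev_add (l m : LW W) (u : W) : ev (l + m) u = ev l u * ev m u := Units.val_mul _ _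
@[simp] theorem ev_zero (u : W) : ev 0 u = 1 := rfl
@[simp] theorem ev_one (l : LW W) : ev l 1 = 1 := by simp [ev]
@[simp] theorem ev_mul (l : LW W) (u v : W) : ev l (u * v) = ev l u * ev l v := by simp [ev]
@[simp] theorem ev_pow (l : LW W) (u : W) (i : ℕ) : ev l (u ^ i) = ev l u ^ i := by simp [ev]
@[simp] theorem ev_inv (l : LW W) (u : W) : ev l u⁻¹ = (ev l u)⁻¹ := by simp [ev]
@[simp] theorem ev_ne_zero (l : LW W) (u : W) : ev l u ≠ 0 := Units.ne_zero _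

theorem ev_sub (l m : LW W) (u : W) : ev (l - m) u = ev l u / ev m u := by
  rw [eq_div_iff (ev_ne_zero _ _), ← ev_add, sub_add_cancel]

theorem ev_nsmul (l : LW W) (u : W) (i : ℕ) : ev (i • l) u = ev l u ^ i := by
  induction i with
  | zero => simp
  | succ i ih => rw [succ_nsmul, ev_add, ih, pow_succ]

theorem ev_pow_eq_one (l : LW W) (u : W) : ev l u ^ orderOf u = 1 := by
  rw [← ev_pow, pow_orderOf_eq_one, ev_one]

/-- the action of an automorphism on characters -/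
def gW (γ : MulAut W) : LW W →+ LW W where
  toFun l := lcomp l.hom γ
  map_zero' := rfl
  map_add' _ _ := rfl

@[simp] theorem ev_gW (γ : MulAut W) (l : LW W) (u : W) : ev (gW γ l) u = ev l (γ u) := rfl

/-- characters trivial on `Z` -/
def EW (Z : Subgroup W) : AddSubgroup (LW W) := (annih Z).toAddSubgroup

theorem mem_EW : l ∈ EW Z ↔ ∀ u ∈ Z, ev l u = 1 :=
  forall₂_congr fun _ _ => Units.val_eq_one.symm

theorem sub_mem_EW : l - m ∈ EW Z ↔ ∀ u ∈ Z, ev l u = ev m u := by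
  simp [mem_EW, ev_sub, div_eq_one_iff_eq]

theorem EW_bot : EW (⊥ : Subgroup W) = ⊤ := by ext; simp [mem_EW]

/-- the character of order two -/
noncomputable def nuW (a : W) : LW W := if h : ∃ l, ev l a = -1 then h.choose else 0

variable [Finite W]

theorem ev_mul_conj (l : LW W) (u : W) : ev l u * conj (ev l u) = 1 := lc_mul_conj _ _

theorem isIrr_ev (l : LW W) : IsIrrCharacter W (ev l) := isIrr_lc l.hom

theorem exists_EW_ne (hc : ∀ a b : W, a * b = b * a) (hu : u ∉ Z) : ∃ l ∈ EW Z, ev l u ≠ 1 := by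
  haveI : Z.Normal := ⟨fun x hx g => by rwa [hc g, mul_inv_cancel_right]⟩
  by_contra h
  push Not at h
  have h1 := sum_lc (W := W ⧸ Z) (fun a b => by
    obtain ⟨a, rfl⟩ := QuotientGroup.mk_surjective a
    obtain ⟨b, rfl⟩ := QuotientGroup.mk_surjective b
    rw [← QuotientGroup.mk_mul, hc, QuotientGroup.mk_mul]) u
  rw [if_neg (mt (QuotientGroup.eq_one_iff u).1 hu), Finset.sum_congr rfl fun l _ =>
    h (l.comp (QuotientGroup.mk' Z)) (mem_EW.2 fun v hv => by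
      simp [ev, LW.hom, (QuotientGroup.eq_one_iff v).2 hv])] at h1
  simp at h1

theorem sum_ev_eq_zero (hc : ∀ a b : W, a * b = b * a) (hu : u ∉ Z) {f : LW W → ℂ}
    (hf : ∀ l m, l - m ∈ EW Z → f l = f m) : ∑ l, f l * ev l u = 0 := by
  obtain ⟨k, h1, h2⟩ := exists_EW_ne hc hu
  have := Fintype.sum_equiv (Equiv.addRight k) (fun l => f l * ev l u * ev k u)
    (fun l => f l * ev l u) fun l => by
      rw [Equiv.coe_addRight, ev_add, hf (l + k) l (by simpa), mul_assoc]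
  rw [← Finset.sum_mul, ← sub_eq_zero, ← mul_sub_one] at this
  exact (mul_eq_zero.1 this).resolve_right (sub_ne_zero.2 h2)

theorem classInner_ev [Fintype W] (l m : LW W) :
    classInner (ev l) (ev m) = if l = m then 1 else 0 :=
  (classInner_lc l.hom m.hom).trans (by congr)

/-- a cyclic 2-group with an automorphism of order two whose fixed points have order two -/
structure CW (γ : MulAut W) (a : W) (n : ℕ) : Prop where
  gen : ∀ u, u ∈ zpowers a
  ord : orderOf a = 2 ^ (n + 1)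
  one : 1 ≤ n
  cnj : γ a = a⁻¹ ∨ (2 ≤ n ∧ γ a = a ^ 2 ^ n * a⁻¹)

namespace CW
variable (h : CW γ a n)
include h

theorem comm (u v : W) : u * v = v * u := by
  obtain ⟨i, rfl⟩ := h.gen u
  obtain ⟨j, rfl⟩ := h.gen v
  exact zpow_mul_comm _ _ _

theorem card : Nat.card W = 2 ^ (n + 1) := by
  rw [← h.ord, ← Nat.card_zpowers, (Subgroup.eq_top_iff' _).2 h.gen, Subgroup.card_top]

theorem ext (h1 : ev l a = ev m a) : l = m :=
  (MonoidHom.eq_iff_eq_on_generator h.gen l.hom m.hom).2 (Units.ext h1)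

theorem exists_ev {ζ : ℂ} (h1 : ζ ^ 2 ^ (n + 1) = 1) : ∃ l, ev l a = ζ :=
  ⟨monoidHomOfForallMemZpowers h.gen (g' := Units.ofPowEqOne ζ _ h1 (by positivity)) (by
    rw [h.ord, orderOf_dvd_iff_pow_eq_one]; exact Units.pow_ofPowEqOne _ _), by
      simp [ev, LW.hom]⟩

theorem ev_nu : ev (nuW a) a = -1 := by
  have : ∃ l, ev l a = -1 := h.exists_ev (by rw [pow_succ', pow_mul]; simp)
  rw [nuW, dif_pos this]
  exact this.choose_spec

theorem ev_a (l : LW W) : ev l a ^ 2 ^ (n + 1) = 1 := h.ord ▸ ev_pow_eq_one l a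

theorem ev_u (l : LW W) (u : W) : ev l u ^ 2 ^ (n + 1) = 1 := by
  rw [← ev_pow, ← h.card, pow_card_eq_one', ev_one]

theorem ev_z (l : LW W) : ev l a ^ 2 ^ n = 1 ∨ ev l a ^ 2 ^ n = -1 := by
  rw [← sq_eq_one_iff, ← h.ev_a l, pow_succ 2, pow_mul]

theorem z_mul : a ^ 2 ^ n * a ^ 2 ^ n = 1 := by
  rw [← sq, ← pow_mul, ← pow_succ, ← h.ord, pow_orderOf_eq_one]

theorem mem_z (hu : u ∈ zpowers (a ^ 2 ^ n)) : u = 1 ∨ u = a ^ 2 ^ n := by
  obtain ⟨i, rfl⟩ := hu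
  rcases Int.even_or_odd' i with ⟨j, rfl | rfl⟩ <;>
    simp only [zpow_add, zpow_mul, zpow_two, h.z_mul, one_zpow, zpow_one, one_mul, true_or, or_true]

theorem γz : γ (a ^ 2 ^ n) = a ^ 2 ^ n := by
  have h1 := inv_eq_of_mul_eq_one_left h.z_mul
  rcases h.cnj with e | ⟨h2, e⟩ <;> rw [map_pow, e]
  · rw [inv_pow, h1]
  · rw [Commute.mul_pow (h.comm _ _), inv_pow, h1, show 2 ^ n = 2 * 2 ^ (n - 1) by
      rw [← pow_succ', Nat.sub_add_cancel h.one], pow_mul _ 2, ← pow_succ', Nat.sub_add_cancel h.one,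
      sq, h.z_mul, one_pow, one_mul]

theorem γγ (u : W) : γ (γ u) = u := by
  have : γ (γ a) = a := by
    rcases h.cnj with e | ⟨-, e⟩
    · rw [e, map_inv, e, inv_inv]
    · rw [e, map_mul, h.γz, map_inv, e, mul_inv_rev, inv_inv, h.comm a, mul_inv_cancel_left]
  obtain ⟨i, rfl⟩ := h.gen u
  simp only [map_zpow, this]

theorem ev_γa (l : LW W) : ev l (γ a) * ev l a = 1 ∨
    (2 ≤ n ∧ ev l (γ a) * ev l a = ev l a ^ 2 ^ n) :=
  h.cnj.imp (fun e => by simp [e]) (And.imp_right fun e => by simp [e])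

theorem ev_γa' (h1 : ev l a ^ 4 = 1) : ev l (γ a) * ev l a = 1 := (h.ev_γa l).elim id fun e => by
  obtain ⟨k, rfl⟩ := Nat.exists_eq_add_of_le e.1
  rw [e.2, pow_add, pow_mul, show 2 ^ 2 = 4 from rfl, h1, one_pow]

theorem nu_z : ev (nuW a) a ^ 2 ^ n = 1 := by
  obtain ⟨k, hk⟩ := Nat.exists_eq_add_of_le h.one
  rw [h.ev_nu, hk, pow_add, pow_mul]; simp

theorem fix_of (h1 : ev l a * ev l a = 1) : l = 0 ∨ l = nuW a :=
  (mul_self_eq_one_iff.1 h1).imp (fun e => h.ext e) fun e => h.ext (e.trans h.ev_nu.symm)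

theorem tg (hZ : Z ≤ zpowers (a ^ 2 ^ n)) : TG (gW γ) (nuW a) (EW Z) := by
  have h1 := fun u (hu : u ∈ Z) => h.mem_z (hZ hu)
  refine ⟨fun l => h.ext (by simp [h.γγ]), fun l => ⟨fun e => h.fix_of ?_, ?_⟩,
    fun e => ?_, h.ext (by simp [h.ev_nu]), mem_EW.2 fun u hu => ?_,
    fun l => sub_mem_EW.2 fun u hu => ?_, fun l => h.fix_of (mul_self_eq_one_iff.2 ?_),
    fun l m hl hm => sub_mem_EW.2 fun u hu => ?_, fun l e => ?_⟩
  · have e1 : ev l (γ a) = ev l a := by rw [← ev_gW, e]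
    rw [← h.ev_γa' (l := l) ?_, e1]
    rcases h.ev_γa l with e2 | ⟨-, e2⟩ <;> rw [e1] at e2
    · linear_combination (ev l a * ev l a + 1) * e2
    · rw [← h.ev_a l, pow_succ 2, pow_mul, ← e2]; ring
  · rintro (rfl | rfl)
    · rfl
    · have := h.ev_γa' (l := nuW a) (by rw [h.ev_nu]; norm_num)
      exact h.ext (by rw [h.ev_nu] at this ⊢; rw [ev_gW]; linear_combination -this)
  · have := h.ev_nu
    rw [e] at this
    norm_num at this
  · rcases h1 u hu with rfl | rfl <;> simp [h.nu_z]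
  · rcases h1 u hu with rfl | rfl
    exacts [by simp, by rw [ev_gW, h.γz]]
  · rw [ev_add, ev_gW]
    rcases h.ev_γa l with e | ⟨-, e⟩
    exacts [.inl e, e ▸ h.ev_z l]
  · rcases h1 u hu with rfl | rfl
    · simp
    have k : ∀ l, l ∉ EW Z → ev l a ^ 2 ^ n = -1 := fun l hl => (h.ev_z l).resolve_left fun e =>
      hl (mem_EW.2 fun v hv => by rcases h1 v hv with rfl | rfl <;> simp [e])
    rw [ev_pow, ev_pow, k l hl, k m hm]
  · have e1 : ev l a ^ 3 = 1 := by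
      have := congrArg (ev · a) e
      simpa [pow_three, mul_assoc] using this
    have := pow_gcd_eq_one.2 ⟨e1, h.ev_a l⟩
    rw [Nat.Coprime.gcd_eq_one (Nat.Coprime.pow_right _ (by norm_num)), pow_one] at this
    exact h.ext this

theorem exists_tc [Fintype W] (hZ : Z ≤ zpowers (a ^ 2 ^ n)) {ι : Type*} {s : Finset ι}
    {D : ι → W → ℂ} {d : ι → ℤ} (h1 : ∀ x ∈ s, IsGeneralizedCharacter W (D x))
    (h2 : ∀ x ∈ s, ∀ u, D x (γ u) = D x u)
    (h3 : ∀ u v, u ∉ Z → v ∉ Z → ∑ x ∈ s, D x u * conj (D x v) =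
      Nat.card W * ((if v = u then 1 else 0) + if v = γ u then 1 else 0))
    (h4 : ∀ x ∈ s, 0 < d x) (h5 : ∀ u, u ∉ Z → ∑ x ∈ s, D x u * d x = 0) :
    ∃ c : ι → LW W → ℤ, TC (gW γ) (nuW a) (EW Z) s c d ∧
      (∀ x ∈ s, ∀ u, D x u = ∑ l, c x l * ev l u) ∧ (∀ x l, x ∈ s → classInner (D x) (ev l) = c x l) ∧
      ∀ f : ι → ℂ, (∀ u, u ∉ Z → ∑ x ∈ s, D x u * f x = 0) →
        ∀ l m, l - m ∈ EW Z → ∑ x ∈ s, (c x l - c x m : ℤ) * f x = 0 := by
  have h0 := card_ne_zero' W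
  have h6 : ∀ x l, ∃ c : ℤ, x ∈ s → classInner (D x) (ev l) = c := fun x l => by
    by_cases hx : x ∈ s
    · exact ((h1 x hx).classInner_eq_int (isIrr_ev l).isGen).imp fun _ e _ => e
    · exact ⟨0, fun e => absurd e hx⟩
  choose c hc using h6
  have h7 : ∀ x ∈ s, ∀ l m, ((c x l - c x m : ℤ) : ℂ) =
      (Nat.card W : ℂ)⁻¹ * ∑ u, D x u * conj (ev l u - ev m u) := fun x hx l m => by
    rw [Int.cast_sub, ← hc x l hx, ← hc x m hx, ← classInner_sub_right]; rfl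
  have h8 : ∀ f : ι → ℂ, (∀ u, u ∉ Z → ∑ x ∈ s, D x u * f x = 0) →
      ∀ l m, l - m ∈ EW Z → ∑ x ∈ s, (c x l - c x m : ℤ) * f x = 0 := fun f h5 l m e => by
    rw [Finset.sum_congr rfl fun x hx => by rw [h7 x hx, mul_assoc, Finset.sum_mul],
      ← Finset.mul_sum, Finset.sum_comm, Finset.sum_eq_zero fun u _ => ?_, mul_zero]
    by_cases hu : u ∈ Z
    · simp [sub_mem_EW.1 e u hu]
    · simp only [mul_right_comm (D _ _), ← Finset.sum_mul, h5 u hu, zero_mul]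
  refine ⟨c, ⟨h.tg hZ, fun x hx l => Int.cast_injective (α := ℂ) ?_,
    fun l₁ l₂ l₃ l₄ e1 e2 => Int.cast_injective (α := ℂ) ?_, h4,
    fun l₁ l₂ e => by exact_mod_cast h8 _ h5 l₁ l₂ e⟩, fun x hx u => ?_, hc, h8⟩
  · rw [← hc x _ hx, ← hc x _ hx]; exact classInner_lcomp (h2 x hx) l.hom
  · have e3 : ∀ x ∈ s, ((c x l₁ - c x l₂ : ℤ) : ℂ) * (c x l₃ - c x l₄ : ℤ) =
        ∑ u, ∑ v, (Nat.card W : ℂ)⁻¹ * (Nat.card W : ℂ)⁻¹ * (conj (ev l₃ u - ev l₄ u) *
          (ev l₁ v - ev l₂ v)) * (D x u * conj (D x v)) := fun x hx => by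
      rw [← map_intCast (starRingEnd ℂ) (c x l₁ - _), h7 x hx, h7 x hx]
      simp only [map_mul, map_sum, Complex.conj_conj, map_inv₀, map_natCast, Finset.mul_sum,
        Finset.sum_mul]
      exact Finset.sum_congr rfl fun u _ => Finset.sum_congr rfl fun v _ => by ring
    have e4 : ∀ l m, (br (gW γ) l m : ℂ) =
        (Nat.card W : ℂ)⁻¹ * ∑ u, (ev l u + ev l (γ u)) * conj (ev m u) := fun l m => by
      have := classInner_add_left (ev l) (ev (gW γ l)) (ev m)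
      rw [classInner_ev, classInner_ev] at this
      rw [br]; push_cast; exact this.symm
    push_cast [-Int.cast_sub]
    rw [Finset.sum_congr rfl e3, Finset.sum_comm]
    push_cast
    simp only [e4, ← mul_sub, ← mul_add, ← Finset.sum_sub_distrib, ← Finset.sum_add_distrib,
      Finset.mul_sum]
    refine Finset.sum_congr rfl fun u _ => ?_
    rw [Finset.sum_comm]
    simp only [← Finset.mul_sum]
    by_cases hu : u ∈ Z
    · simp [sub_mem_EW.1 e2 u hu]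
    rw [Finset.sum_congr rfl fun v _ => show _ = (Nat.card W : ℂ)⁻¹ * (conj (ev l₃ u - ev l₄ u) *
      ((if v = u then ev l₁ v - ev l₂ v else 0) + if v = γ u then ev l₁ v - ev l₂ v else 0)) by
        by_cases hv : v ∈ Z
        · simp [sub_mem_EW.1 e1 v hv]
        · rw [h3 u v hu hv]; split_ifs <;> field_simp <;> ring]
    simp only [← Finset.mul_sum, Finset.sum_add_distrib, Finset.sum_ite_eq', Finset.mem_univ,
      if_true, map_sub]
    ring
  · have := congrFun (eq_sum_lc h.comm (D x)) u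
    rw [Finset.sum_apply] at this
    exact this.trans (Finset.sum_congr rfl fun l _ => congrArg (· * _) (hc x l hx))

theorem sum_of_const (hu : u ∉ Z) {c f : LW W → ℤ} {δ : ℤ}
    (hc : ∀ l m, l - m ∈ EW Z → c l - δ * f l = c m - δ * f m) :
    ∑ l, c l * ev l u = δ * ∑ l, f l * ev l u := by
  have := sum_ev_eq_zero h.comm hu (f := fun l => (c l - δ * f l : ℤ)) fun l m e => by rw [hc l m e]
  push_cast at this
  simp only [sub_mul, Finset.sum_sub_distrib, mul_assoc, ← Finset.mul_sum] at this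
  exact sub_eq_zero.1 this

theorem sum_S (hu : u ∉ Z) {c : LW W → ℤ} {δ : ℤ} (hc : ∀ l m, l - m ∈ EW Z →
    c l - δ * (if l = k then 1 else 0) = c m - δ * if m = k then 1 else 0) :
    ∑ l, c l * ev l u = δ * ev k u := by
  rw [h.sum_of_const hu hc]; simp

theorem sum_T (hu : u ∉ Z) {c : LW W → ℤ} {δ : ℤ} (hk : gW γ k ≠ k) (hc : ∀ l m, l - m ∈ EW Z →
    c l - δ * (if Sim (gW γ) k l then 1 else 0) = c m - δ * if Sim (gW γ) k m then 1 else 0) :
    ∑ l, c l * ev l u = δ * (ev k u + ev k (γ u)) := by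
  rw [h.sum_of_const hu hc]; push_cast; rw [sum_sim hk, ev_gW]

theorem exists_self : ∃ k, gW γ k ≠ k ∧ Sim (gW γ) k (k + nuW a) := by
  obtain ⟨j, hj⟩ := Nat.exists_eq_add_of_le h.one
  obtain ⟨k, hk⟩ := h.exists_ev (ζ := Complex.I) (by
    rw [hj, add_right_comm, pow_add, pow_mul]; simp)
  have h1 := h.ev_γa' (l := k) (by rw [hk, Complex.I_pow_four])
  rw [hk] at h1
  have h2 : gW γ k = k + nuW a := h.ext (by
    rw [ev_gW, ev_add, h.ev_nu, hk]; linear_combination -Complex.I * h1 + ev k (γ a) * Complex.I_sq)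
  exact ⟨k, by simpa [h2] using (h.tg bot_le).ne, .inr h2⟩

end CW
end CW

section Top
variable {Λ ι : Type*} [AddCommGroup Λ] {g : Λ →+ Λ} {ν k : Λ} {E : AddSubgroup Λ}
  {s : Finset ι} {c : ι → Λ → ℤ} {d : ι → ℤ} {x₀ x₁ x₂ x₃ : ι}

theorem TC.eq_four (h : TC g ν E s c d) (h1 : x₀ ≠ x₁ ∧ x₀ ≠ x₂ ∧ x₀ ≠ x₃ ∧ x₁ ≠ x₂ ∧ x₁ ≠ x₃ ∧ x₂ ≠ x₃)
    (h2 : ∀ x ∈ ({x₀, x₁, x₂, x₃} : Finset ι), x ∈ s ∧ c x ν - c x 0 ≠ 0) :
    (c x₀ ν - c x₀ 0) * d x₀ + (c x₁ ν - c x₁ 0) * d x₁ + (c x₂ ν - c x₂ 0) * d x₂ +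
      (c x₃ ν - c x₃ 0) * d x₃ = 0 := by
  have h4 : {x₀, x₁, x₂, x₃} = s.filter fun x => c x ν - c x 0 ≠ 0 := Finset.eq_of_subset_of_card_le
    (fun x hx => Finset.mem_filter.2 (h2 x hx)) (by
      rw [h.card_S, Finset.card_insert_of_notMem (by simp [h1]),
        Finset.card_insert_of_notMem (by simp [h1]), Finset.card_pair h1.2.2.2.2.2])
  have h5 := h.deg ν 0 (by simpa using h.mem)
  rw [← Finset.sum_filter_of_ne fun x _ => left_ne_zero_of_mul, ← h4,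
    Finset.sum_insert (by simp [h1]), Finset.sum_insert (by simp [h1]),
    Finset.sum_pair h1.2.2.2.2.2] at h5
  linear_combination h5

variable (h : TC g ν ⊤ s c d) (h0 : x₀ ∈ s) (h1 : ∀ l, c x₀ l = if l = 0 then 1 else 0)
  (h2 : d x₀ = 1) (h3 : g k ≠ k) (h4 : Sim g k (k + ν))
include h h0 h1 h2 h3 h4

theorem TC.noExc_top (l : Λ) (hl : g l ≠ l) (x : ι) (hx : x ∈ s) (hv : c x ν - c x 0 ≠ 0) :
    c x l - c x (l + ν) = 0 := by
  by_contra a0
  have a1 := h.not_sim hx a0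
  have a3 : ¬ Sim g l k := fun e => a1 (h.trans (h.trans e h4) (h.sim_add'.2 (h.symm e)))
  have a4 : ¬ Sim g k (l + ν) := fun e => a3 (h.sim_add'.1 (h.trans (h.symm e) h4))
  obtain ⟨α, β, a2⟩ := h.dif hl (h.nf_add hl) trivial a1
  obtain ⟨α', β', a5⟩ := h.dif hl h3 trivial a3
  have a6 := h.g_dd hl h3 trivial (h.par_add l)
  rw [a5.sum' fun t => c t l - c t (l + ν), if_pos (Sim.refl l), if_neg a1, if_neg a4,
    if_neg (h.comm.not.1 a3)] at a6
  have b0 : ∀ m, g m ≠ m → c x₀ m = 0 := fun m hm => by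
    rw [h1, if_neg fun e => hm ((h.fix m).2 (.inl e))]
  have b1 := a2.congr (h.g_dv hl (h.nf_add hl) trivial) hx a0
  have b2 := a2.congr (h.deg _ _ (h.par_add l)) hx a0
  have b3 := (a5.congr (h.g_dv hl h3 trivial) a5.m1 (a5.left.trans_ne one_ne_zero)).2
  have b4 := (a5.congr (h.deg l k trivial) a5.m1 (a5.left.trans_ne one_ne_zero)).2
  have b5 := a2.left
  have b6 := a2.right
  have b7 := b0 _ hl
  have b8 := b0 _ (h.nf_add hl)
  have b9 := b0 _ h3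
  have key : ∀ t ∈ s, c t l - c t (l + ν) = 0 → c t l - c t k ≠ 0 → c t ν - c t 0 = c x ν - c x 0 →
      d t = d x → False := fun t ht e1 e2 e3 e4 => by
    have := h.eq_four (x₀ := x₀) (x₁ := α) (x₂ := β) (x₃ := t) (by
      refine ⟨?_, ?_, ?_, a2.ne, ?_, ?_⟩ <;> rintro rfl <;> omega) (by
      simp [h0, a2.m1, a2.m2, ht, b1, e3, hv, h1, h.ne])
    rw [b1.1, b1.2, b2.1, b2.2, e3, e4, h1, h1, h2, if_neg h.ne, if_pos rfl] at this
    omega
  have e5 := a5.left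
  have e6 := a5.right
  rcases a2.tri a5.m1 with e | e | e
  · obtain rfl := (a2.cases a5.m2 (by omega)).resolve_left (by rintro rfl; omega)
    exact key _ a5.m1 e (by omega) (by omega) (by omega)
  · obtain rfl := (a2.cases a5.m1 (by omega)).resolve_right (by rintro rfl; omega)
    exact key _ a5.m2 (by omega) (by omega) (by omega) (by omega)
  · have := a2.tri a5.m2
    omega

theorem TC.top : ∃ (x₁ x₂ x₃ : ι) (δ₁ δ₂ δ₃ : ℤ) (ψ : Λ → ι),
    (δ₁ = 1 ∨ δ₁ = -1) ∧ (δ₂ = 1 ∨ δ₂ = -1) ∧ (δ₃ = 1 ∨ δ₃ = -1) ∧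
    (x₀ ≠ x₁ ∧ x₀ ≠ x₂ ∧ x₀ ≠ x₃ ∧ x₁ ≠ x₂ ∧ x₁ ≠ x₃ ∧ x₂ ≠ x₃) ∧ x₁ ∈ s ∧ x₂ ∈ s ∧ x₃ ∈ s ∧
    (∀ l, c x₁ l - δ₁ * (if l = 0 then 1 else 0) = c x₁ ν) ∧
    (∀ l, c x₂ l - δ₂ * (if l = ν then 1 else 0) = c x₂ 0) ∧
    (∀ l, c x₃ l - δ₃ * (if l = ν then 1 else 0) = c x₃ 0) ∧
    (∀ k, g k ≠ k → ψ k ∈ s ∧ (ψ k ≠ x₀ ∧ ψ k ≠ x₁ ∧ ψ k ≠ x₂ ∧ ψ k ≠ x₃) ∧
      (∀ l, c (ψ k) l - δ₁ * (if Sim g k l then 1 else 0) = c (ψ k) 0) ∧ ∀ f : ι → ℂ,
        ∑ x ∈ s, (c x k - c x 0 : ℤ) * f x = -f x₀ - δ₁ * f x₁ + δ₁ * f (ψ k)) ∧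
    (∀ f : ι → ℂ, ∑ x ∈ s, (c x ν - c x 0 : ℤ) * f x =
      -f x₀ - δ₁ * f x₁ + δ₂ * f x₂ + δ₃ * f x₃) ∧
    ∀ x ∈ s, x = x₀ ∨ x = x₁ ∨ x = x₂ ∨ x = x₃ ∨ (∃ k, g k ≠ k ∧ x = ψ k) ∨ ∀ l, c x l = c x 0 := by
  have hn := h.noExc_top h0 h1 h2 h3 h4
  have hν := h.ne
  have nz : ∀ m, g m ≠ m → m ≠ 0 ∧ m ≠ ν := fun m hm => not_or.1 ((h.fix m).not.1 hm)
  have t0 : ∀ x ∈ s, c x ν - c x 0 ≠ 0 → c x k - c x 0 ≠ 0 → ∀ l,
      c x l - (c x 0 - c x ν) * (if l = 0 then 1 else 0) = c x ν := fun x hx hv e l => by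
    obtain ⟨_, rfl | rfl, δ, -, a⟩ := h.type_S hn hx hv
    · have := a l ν trivial
      have := a 0 ν trivial
      split_ifs at * <;> omega
    · have := a k 0 trivial
      simp [nz k h3, hν.symm, sub_ne_zero.1 e] at this
  have t1 : ∀ x ∈ s, c x ν - c x 0 ≠ 0 → c x k - c x 0 = 0 → ∀ l,
      c x l - (c x ν - c x 0) * (if l = ν then 1 else 0) = c x 0 := fun x hx hv e l => by
    obtain ⟨j, rfl | rfl, δ, -, a⟩ := h.type_S hn hx hv
    · have := a k ν trivial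
      rw [if_neg (nz k h3).1, if_neg hν] at this
      omega
    · have e1 := a l 0 trivial
      have e2 := a 0 j trivial
      rw [if_neg hν.symm] at e1
      rw [if_neg hν.symm, if_pos rfl] at e2
      split_ifs at e1 ⊢ <;> omega
  have v0 : c x₀ ν - c x₀ 0 = -1 := by simp [h1, hν]
  have w0 : ∀ m, g m ≠ m → c x₀ m - c x₀ 0 = -1 := fun m hm => by simp [h1, nz m hm]
  have c1 : ((s.filter fun x => c x ν - c x 0 ≠ 0).filter fun x => c x k - c x 0 ≠ 0).card = 2 := by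
    have := h.gram ν 0 k 0 trivial trivial
    simp only [h.br_fix, h.br_zero h3] at this
    rw [← Finset.sum_filter_of_ne fun x _ => left_ne_zero_of_mul,
      ← Finset.sum_filter_of_ne fun x _ => right_ne_zero_of_mul, Finset.sum_congr rfl
        (g := fun _ => 1) fun x hx => by
          simp only [Finset.mem_filter] at hx
          rw [((h.three_w h3 trivial).1 x hx.1.1 hx.1.2).resolve_left hx.2]
          rcases h.sign hx.1.1 hx.1.2 with e | e <;> rw [e] <;> rfl] at this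
    exact_mod_cast (by simpa using this : (Finset.card _ : ℤ) = 2)
  have c2 := Finset.card_filter_add_card_filter_not (s := s.filter fun x => c x ν - c x 0 ≠ 0)
    fun x => c x k - c x 0 ≠ 0
  rw [c1, h.card_S] at c2
  obtain ⟨x₂, x₃, a1, a2⟩ := Finset.card_eq_two.1 (Nat.add_left_cancel (n := 2) c2)
  obtain ⟨x₁, a3⟩ := Finset.card_eq_one.1 ((Finset.card_erase_of_mem (a := x₀) (by
    simp [h0, v0, w0 k h3])).trans (congrArg (· - 1) c1))
  simp only [Finset.ext_iff, Finset.mem_filter, Finset.mem_insert, Finset.mem_singleton,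
    Finset.mem_erase, not_not] at a2 a3
  obtain ⟨b1, ⟨b2, b3⟩, b4⟩ := (a3 x₁).2 rfl
  obtain ⟨⟨b5, b6⟩, b7⟩ := (a2 x₂).2 (.inl rfl)
  obtain ⟨⟨b8, b9⟩, b10⟩ := (a2 x₃).2 (.inr rfl)
  have cs : ∀ x ∈ s, c x ν - c x 0 ≠ 0 → x = x₀ ∨ x = x₁ ∨ x = x₂ ∨ x = x₃ := fun x hx hv => by
    have := a2 x
    have := a3 x
    tauto
  have := w0 k h3
  have ex : ∀ m, ∃ ψ, g m ≠ m → ψ ∈ s ∧ c ψ ν - c ψ 0 = 0 ∧ (∀ l, c ψ l - (c x₁ 0 - c x₁ ν) *
      (if Sim g m l then 1 else 0) = c ψ 0) ∧ (∀ f : ι → ℂ, ∑ x ∈ s, (c x m - c x 0 : ℤ) * f x =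
        -f x₀ - (c x₁ 0 - c x₁ ν : ℤ) * f x₁ + (c x₁ 0 - c x₁ ν : ℤ) * f ψ) ∧
        ∀ x ∈ s, c x ν - c x 0 = 0 → x ≠ ψ → c x m - c x 0 = 0 := fun m => by
    by_cases hm : g m = m
    · exact ⟨x₀, fun e => absurd hm e⟩
    obtain ⟨-, ψ, e1, e2, e3, e4⟩ := h.three_w hm trivial
    have e6 := t0 x₁ b2 b3 b4 m
    rw [if_neg (nz m hm).1] at e6
    have e0 : ∀ f : ι → ℂ, ∑ x ∈ s, (c x m - c x 0 : ℤ) * f x =
        -f x₀ - (c x₁ 0 - c x₁ ν : ℤ) * f x₁ + (c ψ m - c ψ 0 : ℤ) * f ψ := fun f => by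
      rw [← Finset.sum_subset (s₁ := {x₀, x₁, ψ}) (by simp [Finset.insert_subset_iff, h0, b2, e1])
        (fun x hx e => by
          simp only [Finset.mem_insert, Finset.mem_singleton, not_or] at e
          by_cases hv : c x ν - c x 0 = 0
          · simp [e4 x hx hv e.2.2]
          · have := t1 x hx hv (by have := a3 x; tauto) m
            rw [if_neg (nz m hm).2] at this
            simp [show c x m - c x 0 = 0 by omega]),
        Finset.sum_insert (by simp [b1.symm]; rintro rfl; omega),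
        Finset.sum_pair (by rintro rfl; omega), w0 m hm,
        show c x₁ m - c x₁ 0 = -(c x₁ 0 - c x₁ ν) by omega]
      push_cast; ring
    have e5 := e0 fun x => d x
    rw [h2] at e5
    norm_cast at e5
    rw [h.deg m 0 trivial] at e5
    have e7 := h.pos _ b2
    have e8 := h.pos _ e1
    have e9 : c ψ m - c ψ 0 = c x₁ 0 - c x₁ ν := by
      rcases e3 with e | e <;> rcases h.sign b2 b3 with e' | e' <;>
        rw [e, ← neg_sub (c x₁ ν), e'] at e5 <;> omega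
    refine ⟨ψ, fun _ => ⟨e1, e2, fun l => ?_, e9 ▸ e0, e4⟩⟩
    have := (h.type_psi hn e1 e2 hm trivial (by omega)).2 l 0 trivial
    rwa [e9, if_neg (show ¬ Sim g m 0 from fun e => e.elim (nz m hm).1 (nz _ (h.nf_g hm)).1),
      mul_zero, sub_zero] at this
  choose ψ hψ using ex
  have ds : x₀ ≠ x₁ ∧ x₀ ≠ x₂ ∧ x₀ ≠ x₃ ∧ x₁ ≠ x₂ ∧ x₁ ≠ x₃ ∧ x₂ ≠ x₃ := by
    refine ⟨b1.symm, ?_, ?_, ?_, ?_, a1⟩ <;> rintro rfl <;> omega
  refine ⟨x₁, x₂, x₃, _, _, _, ψ, by have := h.sign b2 b3; omega, h.sign b5 b6, h.sign b8 b9,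
    ds, b2, b5, b8, t0 x₁ b2 b3 b4, t1 x₂ b5 b6 b7, t1 x₃ b8 b9 b10,
    fun m hm => ⟨(hψ m hm).1, ?_, (hψ m hm).2.2.1, (hψ m hm).2.2.2.1⟩, fun f => ?_, fun x hx => ?_⟩
  · have := (hψ m hm).2.1
    refine ⟨?_, ?_, ?_, ?_⟩ <;> intro e <;> rw [e] at this <;> omega
  · rw [← Finset.sum_subset (s₁ := {x₀, x₁, x₂, x₃}) (by
      simp [Finset.insert_subset_iff, h0, b2, b5, b8]) (fun x hx e => by
        simp [show c x ν - c x 0 = 0 from by_contra fun hv => e (by simpa using cs x hx hv)]),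
      Finset.sum_insert (by simp [ds]), Finset.sum_insert (by simp [ds]), Finset.sum_pair a1, v0]
    push_cast; ring
  by_cases hv : c x ν - c x 0 = 0
  swap
  · have := cs x hx hv
    tauto
  by_cases e : ∃ m, g m ≠ m ∧ x = ψ m
  · simp [e]
  push Not at e
  refine .inr (.inr (.inr (.inr (.inr fun l => ?_))))
  by_cases hl : g l = l
  · rcases (h.fix l).1 hl with rfl | rfl <;> omega
  · exact sub_eq_zero.1 ((hψ l hl).2.2.2.2 x hx hv (e l hl))

end Top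

end Cfsg.Agent.Blk
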