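import Cfsg.Agent.Lib.Block.Sym

/-!
A weighted trace on cyclotomic integers of prime power conductor.
-/

set_option autoImplicit false

namespace Cfsg.Agent.Blk

open MonoidAlgebra
open Cfsg.Agent.Char hiding cj cj_mul cj_inv_cj cj_cj_inv sum_cj_eq om
open scoped ComplexConjugate Classical

theorem geom_root {y : ℂ} {q : ℕ} (h : y ^ q = 1) :
    ∑ k ∈ Finset.range q, y ^ k = if y = 1 then (q : ℂ) else 0 := by
  split_ifs with h1
  · simp [h1]
  · rw [geom_sum_eq h1, h, sub_self, zero_div]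

/-- The weighted trace. -/
structure Tau (q : ℕ) (η : ℂ) (τ : ℂ →ₗ[ℚ] ℂ) : Prop where
  ne : q ≠ 0
  pow : η ^ q = 1
  ne_one : η ≠ 1
  root : ∀ z, z ^ q = 1 → τ z = (if z = 1 then 1 else 0) -
    ((if z * η = 1 then 1 else 0) + (if z = η then 1 else 0)) / 2
  tp : ∀ z, TP z → ∃ r : ℝ, 0 ≤ r ∧ τ z = r ∧ (z ≠ 0 → r ≠ 0)

theorem exists_tau (p : ℕ) [hp : Fact p.Prime] {n : ℕ} (hn : n ≠ 0) :
    ∃ η τ, η ^ p = 1 ∧ Tau (p ^ n) η τ := by
  have hp0 := hp.out.ne_zero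
  have hq : p ^ n ≠ 0 := pow_ne_zero _ hp0
  have hη := Complex.isPrimitiveRoot_exp p hp0
  generalize Complex.exp (2 * Real.pi * Complex.I / p) = η at hη
  have h1 : η ≠ 1 := hη.ne_one hp.out.one_lt
  have h2 : η ^ p ^ n = 1 := (hη.pow_eq_one_iff_dvd _).2 (dvd_pow_self _ hn)
  have h0 : η ≠ 0 := hη.ne_zero hp0
  have : ∀ k : ℕ, ∃ σ : ℂ ≃+* ℂ, ¬ p ∣ k → ∀ z : ℂ, z ^ p ^ n = 1 → σ z = z ^ k := fun k => by
    by_cases hk : p ∣ k
    · exact ⟨RingEquiv.refl ℂ, fun h => (h hk).elim⟩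
    · obtain ⟨σ, h⟩ := exists_gal_pow hq
        (Nat.Coprime.pow_right n ((Nat.Prime.coprime_iff_not_dvd hp.out).2 hk).symm)
      exact ⟨σ, fun _ => h⟩
  choose σ hσ using this
  let w : ℕ → ℝ := fun k => ‖1 - η ^ k‖ ^ 2 / (2 * p ^ n)
  have hw : ∀ k, (w k : ℂ) = (2 - η ^ k - η⁻¹ ^ k) / (2 * p ^ n) := fun k => by
    have h3 : ((‖1 - η ^ k‖ ^ 2 : ℝ) : ℂ) = (1 - η ^ k) * conj (1 - η ^ k) := by
      rw [Complex.mul_conj, Complex.normSq_eq_norm_sq]
    simp only [w]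
    rw [Complex.ofReal_div, h3, map_sub, map_one, map_pow, conj_eq_inv_of_pow hp0 hη.pow_eq_one]
    push_cast
    congr 1
    have : η ^ k * η⁻¹ ^ k = 1 := by rw [← mul_pow, mul_inv_cancel₀ h0, one_pow]
    linear_combination this
  have hw0 : ∀ k, 0 ≤ w k := fun k => by positivity
  let τ : ℂ →ₗ[ℚ] ℂ :=
    { toFun := fun z => ∑ k ∈ Finset.range (p ^ n), w k * σ k z
      map_add' := fun a b => by simp only [map_add, mul_add, Finset.sum_add_distrib]
      map_smul' := fun c a => by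
        simp only [Rat.smul_def, map_mul, map_ratCast, RingHom.id_apply, Finset.mul_sum]
        exact Finset.sum_congr rfl fun k _ => by ring }
  refine ⟨η, τ, hη.pow_eq_one, hq, h2, h1, fun z hz => ?_, fun z hz => ?_⟩
  · have h3 : ∀ k, w k * σ k z = (2 * z ^ k - (z * η) ^ k - (z * η⁻¹) ^ k) / (2 * p ^ n) := by
      intro k
      by_cases hk : p ∣ k
      · have h4 : η ^ k = 1 := (hη.pow_eq_one_iff_dvd _).2 hk
        rw [hw, mul_pow, mul_pow, inv_pow, h4]; ring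
      · rw [hw, hσ k hk z hz, mul_pow, mul_pow]; ring
    change ∑ k ∈ Finset.range (p ^ n), w k * σ k z = _
    rw [Finset.sum_congr rfl fun k _ => h3 k, ← Finset.sum_div, Finset.sum_sub_distrib,
      Finset.sum_sub_distrib, ← Finset.mul_sum, geom_root hz,
      geom_root (by rw [mul_pow, hz, h2, mul_one]),
      geom_root (by rw [mul_pow, hz, inv_pow, h2, inv_one, mul_one])]
    have h5 : ((p : ℂ) ^ n) ≠ 0 := pow_ne_zero _ (Nat.cast_ne_zero.2 hp0)
    simp only [mul_inv_eq_one₀ h0]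
    push_cast
    split_ifs <;> field_simp <;> ring
  · choose r hr1 hr2 using hz
    refine ⟨∑ k ∈ Finset.range (p ^ n), w k * r (σ k),
      Finset.sum_nonneg fun k _ => mul_nonneg (hw0 k) (hr1 _), ?_, fun hz0 h => ?_⟩
    · change ∑ k ∈ Finset.range (p ^ n), w k * σ k z = _
      push_cast
      exact Finset.sum_congr rfl fun k _ => by rw [hr2]
    · rw [Finset.sum_eq_zero_iff_of_nonneg fun k _ => mul_nonneg (hw0 k) (hr1 _)] at h
      have h3 := h 1 (Finset.mem_range.2 (Nat.one_lt_pow hn hp.out.one_lt))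
      rcases mul_eq_zero.1 h3 with h4 | h4
      · simp only [w, pow_one, div_eq_zero_iff, pow_eq_zero_iff two_ne_zero, norm_eq_zero,
          sub_eq_zero] at h4
        rcases h4 with h4 | h4
        · exact h1 h4.symm
        · exact absurd h4 (by positivity)
      · have h5 := hr2 (σ 1)
        rw [h4, Complex.ofReal_zero, map_eq_zero] at h5
        exact hz0 h5

variable {q : ℕ} {η : ℂ} {τ : ℂ →ₗ[ℚ] ℂ}

theorem bilin_eq_zero {Λ : Type*} [AddCommGroup Λ] {β : Λ →ₗ[ℤ] Λ →ₗ[ℤ] ℤ}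
    (hs : ∀ v w, β v w = β w v) (h0 : ∀ v, 0 ≤ β v v) {v : Λ} (hv : β v v = 0) (w : Λ) :
    β v w = 0 := by
  by_contra h
  have h1 := h0 (w - ((β w w + 1) * β v w) • v)
  simp only [map_sub, map_smul, LinearMap.sub_apply, LinearMap.smul_apply, smul_eq_mul, hv,
    hs w v] at h1
  have h2 : 0 < β v w * β v w := mul_self_pos.2 h
  have h3 := h0 w
  nlinarith

namespace Tau

theorem one (h : Tau q η τ) : τ 1 = 1 := by
  rw [h.root 1 (one_pow _), if_pos rfl, one_mul, if_neg h.ne_one, if_neg h.ne_one.symm]; simp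

theorem int_mul (τ : ℂ →ₗ[ℚ] ℂ) (c : ℤ) (z : ℂ) : τ (c * z) = c * τ z := by
  rw [← zsmul_eq_mul, map_zsmul, zsmul_eq_mul]

theorem nat_mul (τ : ℂ →ₗ[ℚ] ℂ) (c : ℕ) (z : ℂ) : τ (c * z) = c * τ z := by
  rw [← nsmul_eq_mul, map_nsmul, nsmul_eq_mul]

theorem nat (h : Tau q η τ) (c : ℕ) : τ c = c := by
  simpa [h.one] using nat_mul τ c 1

theorem le_herm (h : Tau q η τ) {Λ ι : Type*} [AddCommGroup Λ] {β : Λ →ₗ[ℤ] Λ →ₗ[ℤ] ℤ}
    (hs : ∀ v w, β v w = β w v) {m : ℕ} (hm : ∀ v, β v v = 0 ∨ (m : ℤ) ≤ β v v) (I : Finset ι)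
    {ω : ι → ℂ} (hω : ∀ i ∈ I, ω i ^ q = 1) (a : ι → Λ)
    (h0 : ∑ i ∈ I, ∑ j ∈ I, ω i * conj (ω j) * β (a i) (a j) ≠ 0) :
    (m : ℝ) ≤ (τ (∑ i ∈ I, ∑ j ∈ I, ω i * conj (ω j) * β (a i) (a j))).re := by
  have hpos : ∀ v, 0 ≤ β v v := fun v => by rcases hm v with h | h <;> omega
  have hη0 : η ≠ 0 := fun h1 => by simpa [h1, h.ne] using h.pow
  let S : Finset ℂ := I.image ω ∪ I.image fun i => η * ω i
  let t : ℂ → ι → ℤ := fun z i => (if ω i = z then 1 else 0) - if η * ω i = z then 1 else 0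
  let b : ℂ → Λ := fun z => ∑ i ∈ I, t z i • a i
  have hS1 : ∀ i ∈ I, ω i ∈ S := fun i hi =>
    Finset.mem_union_left _ (Finset.mem_image_of_mem _ hi)
  have hS2 : ∀ i ∈ I, η * ω i ∈ S := fun i hi =>
    Finset.mem_union_right _ (Finset.mem_image_of_mem (fun i => η * ω i) hi)
  have hb : ∀ z w, β (b z) (b w) = ∑ i ∈ I, ∑ j ∈ I, t z i * t w j * β (a i) (a j) := by
    intro z w
    simp only [b, map_sum, map_smul, LinearMap.sum_apply, LinearMap.smul_apply, smul_eq_mul,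
      Finset.mul_sum]
    rw [Finset.sum_comm]
    exact Finset.sum_congr rfl fun i _ => Finset.sum_congr rfl fun j _ => by ring
  have ht : ∀ (F : ℂ → ℂ), ∀ i ∈ I, ∑ z ∈ S, t z i * F z = F (ω i) - F (η * ω i) := by
    intro F i hi
    simp only [t, Int.cast_sub, Int.cast_ite, Int.cast_one, Int.cast_zero, sub_mul, ite_mul,
      one_mul, zero_mul, Finset.sum_sub_distrib, Finset.sum_ite_eq, hS1 i hi, hS2 i hi, if_true]
  have h1 : τ (∑ i ∈ I, ∑ j ∈ I, ω i * conj (ω j) * β (a i) (a j)) * 2 =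
      ((∑ z ∈ S, β (b z) (b z) : ℤ) : ℂ) := by
    simp only [hb, map_sum]
    push_cast
    rw [Finset.sum_comm (s := S), Finset.sum_mul]
    refine Finset.sum_congr rfl fun i hi => ?_
    rw [Finset.sum_comm (s := S), Finset.sum_mul]
    refine Finset.sum_congr rfl fun j hj => ?_
    have hj0 : ω j ≠ 0 := fun h1 => by simpa [h1, h.ne] using hω j hj
    rw [← Finset.sum_mul, ht (fun z => t z j) i hi, mul_comm _ ((β (a i) (a j) : ℤ) : ℂ),
      int_mul, conj_eq_inv_of_pow h.ne (hω j hj),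
      h.root _ (by rw [mul_pow, inv_pow, hω i hi, hω j hj, inv_one, mul_one])]
    have e1 : ω i * (ω j)⁻¹ = 1 ↔ ω j = ω i := by rw [mul_inv_eq_one₀ hj0, eq_comm]
    have e2 : ω i * (ω j)⁻¹ * η = 1 ↔ ω j = η * ω i := by
      rw [mul_right_comm, mul_inv_eq_one₀ hj0, eq_comm, mul_comm]
    have e3 : ω i * (ω j)⁻¹ = η ↔ η * ω j = ω i := by rw [mul_inv_eq_iff_eq_mul₀ hj0, eq_comm]
    simp only [e1, e2, e3, t, mul_right_inj' hη0]
    push_cast
    ring
  have h2 : (1 - η) * conj (1 - η) * ∑ i ∈ I, ∑ j ∈ I, ω i * conj (ω j) * β (a i) (a j) =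
      ∑ z ∈ S, ∑ w ∈ S, z * conj w * β (b z) (b w) := by
    simp only [hb]
    push_cast
    simp only [Finset.mul_sum]
    symm
    rw [Finset.sum_congr rfl fun z _ => Finset.sum_comm, Finset.sum_comm]
    refine Finset.sum_congr rfl fun i hi => ?_
    rw [Finset.sum_congr rfl fun z _ => Finset.sum_comm, Finset.sum_comm]
    refine Finset.sum_congr rfl fun j hj => ?_
    have h3 := ht (fun z => z) i hi
    have h4 := ht (fun z => conj z) j hj
    calc _ = (∑ z ∈ S, t z i * z) * (∑ w ∈ S, t w j * conj w) * (β (a i) (a j) : ℂ) := by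
          rw [Finset.sum_mul_sum, Finset.sum_mul]
          refine Finset.sum_congr rfl fun z _ => ?_
          rw [Finset.sum_mul]
          exact Finset.sum_congr rfl fun w _ => by ring
      _ = _ := by rw [h3, h4, map_sub, map_one, map_mul]; ring
  have h3 : ∑ z ∈ S, b z = 0 := by
    simp only [b]
    rw [Finset.sum_comm]
    refine Finset.sum_eq_zero fun i hi => ?_
    have h4 := ht (fun _ => 1) i hi
    simp only [mul_one, sub_self] at h4
    rw [← Finset.sum_smul, show ∑ z ∈ S, t z i = 0 by exact_mod_cast h4, zero_smul]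
  have h4 : ∃ z ∈ S, β (b z) (b z) ≠ 0 := by
    by_contra hc
    push Not at hc
    rw [Finset.sum_eq_zero (s := S) fun z hz => Finset.sum_eq_zero fun w _ => by
      rw [bilin_eq_zero hs hpos (hc z hz), Int.cast_zero, mul_zero]] at h2
    have h5 : (1 - η) ≠ 0 := sub_ne_zero.2 h.ne_one.symm
    exact mul_ne_zero (mul_ne_zero h5 ((map_ne_zero _).2 h5)) h0 h2
  obtain ⟨z, hz, hz0⟩ := h4
  have h5 : ∃ w ∈ S.erase z, β (b w) (b w) ≠ 0 := by
    by_contra hc
    push Not at hc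
    have h6 := congrArg (fun v => β v (b z)) h3
    simp only [map_sum, LinearMap.sum_apply, map_zero, LinearMap.zero_apply] at h6
    rw [← Finset.add_sum_erase _ _ hz,
      Finset.sum_eq_zero fun w hw => bilin_eq_zero hs hpos (hc w hw) _, add_zero] at h6
    exact hz0 h6
  obtain ⟨w, hw, hw0⟩ := h5
  have h6 : 2 * (m : ℤ) ≤ ∑ z ∈ S, β (b z) (b z) := by
    rw [← Finset.add_sum_erase _ _ hz, ← Finset.add_sum_erase _ _ hw]
    have := Finset.sum_nonneg (s := (S.erase z).erase w) fun x _ => hpos (b x)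
    have := (hm (b z)).resolve_left hz0
    have := (hm (b w)).resolve_left hw0
    omega
  have h7 := congrArg Complex.re h1
  rw [Complex.intCast_re, Complex.mul_re] at h7
  have h8 : ((2 * (m : ℤ) : ℤ) : ℝ) ≤ ((∑ z ∈ S, β (b z) (b z) : ℤ) : ℝ) := by exact_mod_cast h6
  rw [← h7] at h8
  simp only [Complex.re_ofNat, Complex.im_ofNat, mul_zero, sub_zero] at h8
  push_cast at h8
  linarith

theorem re_nonneg (h : Tau q η τ) {z : ℂ} (hz : TP z) : 0 ≤ (τ z).re := by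
  obtain ⟨r, h1, h2, -⟩ := h.tp z hz
  rw [h2, Complex.ofReal_re]; exact h1

end Tau

/-- integral combinations of `q`-th roots of unity -/
def Zq (q : ℕ) : Subring ℂ := Subring.closure {z | z ^ q = 1}

theorem mem_Zq_of_pow {z : ℂ} (h : z ^ q = 1) : z ∈ Zq q := Subring.subset_closure h

theorem Zq_induction (hq : q ≠ 0) {P : ℂ → Prop} (h1 : ∀ z, z ^ q = 1 → P z) (h0 : P 0)
    (ha : ∀ z w, P z → P w → P (z + w)) (hn : ∀ z, P z → P (-z)) {z : ℂ} (hz : z ∈ Zq q) :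
    P z := by
  have h2 : z ∈ AddSubgroup.closure (Submonoid.closure {z : ℂ | z ^ q = 1} : Set ℂ) :=
    Subring.mem_closure_iff.1 hz
  clear hz
  induction h2 using AddSubgroup.closure_induction with
  | mem x hx =>
    refine h1 x ?_
    induction hx using Submonoid.closure_induction with
    | mem y hy => exact hy
    | one => exact one_pow _
    | mul y z _ _ hy hz => rw [mul_pow, hy, hz, mul_one]
  | zero => exact h0
  | add x y _ _ hx hy => exact ha _ _ hx hy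
  | neg x _ hx => exact hn _ hx

theorem conj_mem_Zq (hq : q ≠ 0) {z : ℂ} (hz : z ∈ Zq q) : conj z ∈ Zq q := by
  refine Zq_induction hq (P := fun z => conj z ∈ Zq q) (fun z h => ?_) ?_ (fun z w h1 h2 => ?_)
    (fun z h => ?_) hz
  · exact mem_Zq_of_pow (by rw [← map_pow, h, map_one])
  · simp
  · rw [map_add]; exact add_mem h1 h2
  · rw [map_neg]; exact neg_mem h

theorem Zq_le_CM (hq : q ≠ 0) : Zq q ≤ CM :=
  Subring.closure_le.2 fun _ h => mem_CM_of_pow hq h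

theorem mem_Zq_of_integral {p n : ℕ} [hp : Fact p.Prime] {z : ℂ} (hz : IsIntegral ℤ z) {c : ℕ}
    (hc : c ≠ 0) (h : c * z ∈ Zq (p ^ n)) : z ∈ Zq (p ^ n) := by
  have hq : p ^ n ≠ 0 := pow_ne_zero _ hp.out.ne_zero
  haveI : NeZero (p ^ n) := ⟨hq⟩
  have hζ := Complex.isPrimitiveRoot_exp (p ^ n) hq
  generalize Complex.exp (2 * Real.pi * Complex.I / (p ^ n : ℕ)) = ζ at hζ
  let K := IntermediateField.adjoin ℚ ({ζ} : Set ℂ)
  haveI : IsCyclotomicExtension {p ^ n} ℚ K := by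
    change IsCyclotomicExtension {p ^ n} ℚ (IntermediateField.adjoin ℚ {ζ}).toSubalgebra
    rw [IntermediateField.adjoin_simple_toSubalgebra_of_isAlgebraic
      (isIntegral_of_pow_eq_one hq hζ.pow_eq_one).tower_top.isAlgebraic]
    exact hζ.adjoin_isCyclotomicExtension ℚ
  have h1 : ζ ∈ K := IntermediateField.subset_adjoin _ _ rfl
  have h2 : ∀ w ∈ Zq (p ^ n), w ∈ K := fun w hw => by
    refine Zq_induction hq (P := fun z => z ∈ K) (fun z h => ?_) (zero_mem _)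
      (fun z w h1 h2 => add_mem h1 h2) (fun z h => neg_mem h) hw
    obtain ⟨i, -, rfl⟩ := hζ.eq_pow_of_pow_eq_one h
    exact pow_mem h1 _
  have h3 : z ∈ K := by
    have := mul_mem (inv_mem (natCast_mem K c)) (h2 _ h)
    rwa [← mul_assoc, inv_mul_cancel₀ (Nat.cast_ne_zero.2 hc), one_mul] at this
  have h4 : IsPrimitiveRoot (⟨ζ, h1⟩ : K) (p ^ n) :=
    IsPrimitiveRoot.of_map_of_injective (f := K.val) hζ K.val.injective
  haveI := IsCyclotomicExtension.Rat.isIntegralClosure_adjoin_singleton_of_prime_pow h4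
  have h5 : IsIntegral ℤ (⟨z, h3⟩ : K) :=
    (isIntegral_algHom_iff (K.val.restrictScalars ℤ) K.val.injective).1 hz
  obtain ⟨⟨y, hy⟩, h6⟩ := (IsIntegralClosure.isIntegral_iff
    (A := Algebra.adjoin ℤ ({(⟨ζ, h1⟩ : K)} : Set K))).1 h5
  have h7 : (y : ℂ) = z := congrArg Subtype.val h6
  rw [← h7]
  clear h6 h7
  induction hy using Algebra.adjoin_induction with
  | mem x hx => rw [Set.mem_singleton_iff.1 hx]; exact mem_Zq_of_pow hζ.pow_eq_one
  | algebraMap r => simp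
  | add x y _ _ hx hy => exact add_mem hx hy
  | mul x y _ _ hx hy => exact mul_mem hx hy

namespace Tau

theorem conj_eq (h : Tau q η τ) {z : ℂ} (hz : z ∈ Zq q) : τ (conj z) = τ z := by
  refine Zq_induction h.ne (P := fun z => τ (conj z) = τ z) (fun z hz => ?_) (by simp)
    (fun z w h1 h2 => by rw [map_add, map_add, map_add, h1, h2])
    (fun z h1 => by rw [map_neg, map_neg, map_neg, h1]) hz
  have h0 : z ≠ 0 := fun h1 => by simpa [h1, h.ne] using hz
  have e1 : z⁻¹ * η = 1 ↔ z = η := by rw [inv_mul_eq_one₀ h0]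
  have e2 : z⁻¹ = η ↔ z * η = 1 := by rw [eq_comm, mul_eq_one_iff_inv_eq₀ h0, eq_comm]
  rw [conj_eq_inv_of_pow h.ne hz, h.root _ hz, h.root _ (by rw [inv_pow, hz, inv_one])]
  simp only [inv_eq_one, e1, e2, add_comm]

theorem root_two (h : Tau q (-1) τ) {z : ℂ} (hz : z ^ q = 1) :
    τ z = (if z = 1 then 1 else 0) - if z = -1 then 1 else 0 := by
  rw [h.root z hz]
  simp only [mul_neg, mul_one, neg_eq_iff_eq_neg]
  ring

theorem exists_int (h : Tau q (-1) τ) {z : ℂ} (hz : z ∈ Zq q) : ∃ c : ℤ, τ z = c := by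
  refine Zq_induction h.ne (P := fun z => ∃ c : ℤ, τ z = c) (fun z hz => ?_) ⟨0, by simp⟩
    (fun z w ⟨a, h1⟩ ⟨b, h2⟩ => ⟨a + b, by rw [map_add, h1, h2, Int.cast_add]⟩)
    (fun z ⟨a, h1⟩ => ⟨-a, by rw [map_neg, h1, Int.cast_neg]⟩) hz
  exact ⟨(if z = 1 then 1 else 0) - if z = -1 then 1 else 0, by rw [h.root_two hz]; simp⟩

theorem exists_pos (h : Tau q (-1) τ) {z : ℂ} (hz : z ∈ Zq q) (h1 : TP z) (h0 : z ≠ 0) :
    ∃ c : ℕ, c ≠ 0 ∧ τ z = c := by
  obtain ⟨c, hc⟩ := h.exists_int hz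
  obtain ⟨r, h2, h3, h4⟩ := h.tp z h1
  have h5 : (c : ℝ) = r := by rw [hc] at h3; exact_mod_cast h3
  obtain ⟨c, rfl⟩ := Int.eq_ofNat_of_zero_le (a := c) (by rw [← h5] at h2; exact_mod_cast h2)
  exact ⟨c, fun h6 => h4 h0 (by rw [← h5, h6]; simp), by simpa using hc⟩

theorem expand {r : ℕ} (h : Tau (r + r) (-1) τ) {ζ : ℂ} (hζ : IsPrimitiveRoot ζ (r + r))
    (h1 : ζ ^ r = -1) {z : ℂ} (hz : z ∈ Zq (r + r)) :
    z = ∑ j ∈ Finset.range r, τ (z * ζ⁻¹ ^ j) * ζ ^ j := by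
  haveI : NeZero (r + r) := ⟨h.ne⟩
  have h0 : ζ ≠ 0 := hζ.ne_zero h.ne
  refine Zq_induction h.ne (P := fun z => z = ∑ j ∈ Finset.range r, τ (z * ζ⁻¹ ^ j) * ζ ^ j)
    (fun z hz => ?_) (by simp) (fun z w h2 h3 => ?_) (fun z h2 => ?_) hz
  · have h2 : ∀ j, τ (z * ζ⁻¹ ^ j) * ζ ^ j =
        (if ζ ^ j = z then ζ ^ j else 0) + if ζ ^ (r + j) = z then ζ ^ (r + j) else 0 := by
      intro j
      have h3 : ζ ^ j ≠ 0 := pow_ne_zero _ h0
      have e1 : z * ζ⁻¹ ^ j = 1 ↔ ζ ^ j = z := by rw [inv_pow, mul_inv_eq_one₀ h3, eq_comm]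
      have e2 : z * ζ⁻¹ ^ j = -1 ↔ -1 * ζ ^ j = z := by
        rw [inv_pow, mul_inv_eq_iff_eq_mul₀ h3, eq_comm]
      rw [h.root_two (by
        rw [mul_pow, hz, ← pow_mul, mul_comm j, pow_mul, inv_pow, hζ.pow_eq_one]; simp),
        pow_add, h1]
      simp only [e1, e2]
      split_ifs <;> ring
    rw [Finset.sum_congr rfl fun j _ => h2 j, Finset.sum_add_distrib,
      ← Finset.sum_range_add fun j => if ζ ^ j = z then ζ ^ j else 0]
    obtain ⟨i, hi, rfl⟩ := hζ.eq_pow_of_pow_eq_one hz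
    rw [Finset.sum_eq_single i, if_pos rfl]
    · exact fun j hj h3 => if_neg fun h4 => h3 (hζ.pow_inj (Finset.mem_range.1 hj) hi h4)
    · exact fun h3 => (h3 (Finset.mem_range.2 hi)).elim
  · simp only [add_mul, map_add, Finset.sum_add_distrib, ← h2, ← h3]
  · simp only [neg_mul, map_neg, Finset.sum_neg_distrib, ← h2]

theorem parity {M : Ideal AlgInt} [PMod M 2] {n : ℕ} (h : Tau (2 ^ n) (-1) τ) {z : ℂ}
    (hz : z ∈ Zq (2 ^ n)) (hr : conj z = z) {c : ℤ} (hc : τ z = c) :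
    z ∈ O M ∧ rd M z = c := by
  have hn : n ≠ 0 := by
    rintro rfl
    have := h.pow
    norm_num at this
  obtain ⟨n, rfl⟩ := Nat.exists_eq_succ_of_ne_zero hn
  have hζ := Complex.isPrimitiveRoot_exp _ h.ne
  generalize Complex.exp (2 * Real.pi * Complex.I / (2 ^ n.succ : ℕ)) = ζ at hζ
  have h0 : ζ ≠ 0 := hζ.ne_zero h.ne
  have h1 : ζ ^ 2 ^ n = -1 := (hζ.pow (by positivity) (pow_succ 2 n)).eq_neg_one_of_two_right
  have hq : 2 ^ n.succ = 2 ^ n + 2 ^ n := by rw [pow_succ, mul_two]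
  have hm : ∀ j, ζ⁻¹ ^ j ∈ Zq (2 ^ n.succ) := fun j =>
    pow_mem (mem_Zq_of_pow (by rw [inv_pow, hζ.pow_eq_one, inv_one])) _
  choose a ha using fun j => h.exists_int (mul_mem hz (hm j))
  have h2 : z = ∑ j ∈ Finset.range (2 ^ n), (a j : ℂ) * ζ ^ j := by
    simp only [← ha]
    exact (hq ▸ h).expand (hq ▸ hζ) h1 (hq ▸ hz)
  have hζO : ζ ∈ O M := mem_O_of_pow_eq_one M h.ne hζ.pow_eq_one
  have h3 : ∀ j, (a j : ℂ) * ζ ^ j ∈ O M := fun j => mul_mem (intCast_mem _ _) (pow_mem hζO _)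
  obtain ⟨r, hr'⟩ := Nat.exists_eq_succ_of_ne_zero (n := 2 ^ n) (by positivity)
  have h4 : ∀ j < r, a (r - 1 - j + 1) = - a (j + 1) := fun j hj => by
    have h5 : ζ⁻¹ ^ (r - 1 - j + 1) = - ζ ^ (j + 1) := by
      rw [inv_pow, inv_eq_iff_eq_inv, eq_comm, inv_eq_iff_eq_inv, eq_comm]
      refine inv_eq_of_mul_eq_one_right ?_
      rw [mul_neg, ← pow_add, show r - 1 - j + 1 + (j + 1) = 2 ^ n by omega, h1, neg_neg]
    have h6 := h.conj_eq (mul_mem hz (hm (j + 1)))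
    rw [map_mul, hr, map_pow, map_inv₀, conj_eq_inv_of_pow h.ne hζ.pow_eq_one, inv_inv] at h6
    apply Int.cast_injective (α := ℂ)
    rw [← ha, h5, mul_neg, map_neg, h6, ha, Int.cast_neg]
  have h5 : ∑ j ∈ Finset.range r, a (j + 1) = 0 := by
    have h6 := Finset.sum_range_reflect (fun j => a (j + 1)) r
    rw [Finset.sum_congr rfl fun j hj => h4 j (Finset.mem_range.1 hj),
      Finset.sum_neg_distrib] at h6
    omega
  have h6 : a 0 = c := by
    apply Int.cast_injective (α := ℂ)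
    rw [← ha, pow_zero, mul_one, hc]
  refine ⟨h2 ▸ sum_mem fun j _ => h3 j, ?_⟩
  rw [h2, rd_sum _ _ fun j _ => h3 j, Finset.sum_congr rfl (g := fun j => (a j : kk M))
    fun j _ => by
      rw [rd_mul (intCast_mem _ _) (pow_mem hζO _), rd_pow hζO,
        rd_eq_one_of_pow_eq_one (p := 2) hζ.pow_eq_one, rd_intCast, one_pow, mul_one],
    ← Int.cast_sum, hr', Finset.sum_range_succ', h5, zero_add, h6]

theorem LI_iff {M : Ideal AlgInt} [PMod M 2] {n : ℕ} (h : Tau (2 ^ n) (-1) τ) {z : ℂ}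
    (hz : z ∈ Zq (2 ^ n)) (hr : conj z = z) {c : ℕ} (hc : τ z = c) :
    MemLocalIdeal M z ↔ 2 ∣ c := by
  obtain ⟨h1, h2⟩ := h.parity (M := M) hz hr (c := c) (by simpa using hc)
  rw [← rd_eq_zero_iff h1, h2, Int.cast_natCast, CharP.cast_eq_zero_iff (kk M) 2]

end Tau

theorem exists_tau_two {n : ℕ} (hn : n ≠ 0) : ∃ τ, Tau (2 ^ n) (-1) τ := by
  obtain ⟨η, τ, h1, h2⟩ := exists_tau 2 hn
  obtain rfl : η = -1 := (sq_eq_one_iff.1 h1).resolve_left h2.ne_one
  exact ⟨τ, h2⟩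

theorem TP.conj_eq {z : ℂ} (h : TP z) : conj z = z := by
  obtain ⟨r, -, h1⟩ := h (RingEquiv.refl ℂ)
  rw [show z = r from h1, Complex.conj_ofReal]

end Cfsg.Agent.Blk
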