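import Cfsg.Agent.Lib.Block.Major

/-!
Trace forms in characteristic `p`.
-/

set_option autoImplicit false

namespace Cfsg.Agent.Blk

open MonoidAlgebra
open Cfsg.Agent.Char hiding cj cj_mul cj_inv_cj cj_cj_inv sum_cj_eq
open scoped ComplexConjugate

section Pow

theorem sum_pow_eq_sum_ofFn {A ι : Type*} [Semiring A] [Fintype ι] (a : ι → A) (n : ℕ) :
    (∑ i, a i) ^ n = ∑ w : Fin n → ι, (List.ofFn fun j => a (w j)).prod := by
  induction n with
  | zero => simp
  | succ n ih =>
    rw [pow_succ', ih, Finset.sum_mul_sum, ← Finset.sum_product', Finset.univ_product_univ]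
    refine Fintype.sum_equiv (Fin.consEquiv fun _ => ι) _ _ fun ⟨i, w⟩ => ?_
    simp [Fin.consEquiv, List.ofFn_succ]

/-- A trace form in characteristic `p` is additive on `p`-th powers. -/
theorem trace_sum_pow {A R ι : Type*} [Semiring A] [CommRing R] {p : ℕ} [hp : Fact p.Prime]
    [CharP R p] [Fintype ι] (τ : A →+ R) (hτ : ∀ a b, τ (a * b) = τ (b * a)) (a : ι → A) :
    τ ((∑ i, a i) ^ p) = ∑ i, τ (a i ^ p) := by
  classical
  obtain ⟨m, rfl⟩ : ∃ m, p = m + 1 := ⟨p - 1, (Nat.succ_pred_eq_of_pos hp.out.pos).symm⟩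
  rw [sum_pow_eq_sum_ofFn, map_sum]
  let π : Equiv.Perm (Fin (m + 1) → ι) := Equiv.arrowCongr (finRotate (m + 1)).symm (Equiv.refl ι)
  have h1 : ∀ w j, π w j = w (j + 1) := fun w j => by simp [π]
  have h2 : ∀ (n : ℕ) w j, (π ^ n) w j = w (j + Fin.ofNat _ n) := fun n => by
    induction n with
    | zero => intro w j; simp
    | succ n ih =>
      intro w j
      rw [pow_succ', Equiv.Perm.mul_apply, h1, ih, add_assoc]
      congr 2
      ext; simp [Fin.val_add, add_comm]
  rw [sum_eq_sum_fixed_perm (p := m + 1) π (e := 1) (by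
    ext w j; rw [pow_one, h2]; simp [Fin.ofNat])]
  · symm
    refine Finset.sum_bij (fun i _ => fun _ => i) (fun i _ => by simp [funext_iff, h1])
      (fun i _ j _ h => congrFun h 0) (fun w hw => ⟨w 0, Finset.mem_univ _, funext fun j => ?_⟩)
      fun i _ => by simp [pow_succ']
    have h3 := (Finset.mem_filter.1 hw).2
    induction j using Fin.induction with
    | zero => rfl
    | succ j ih => rw [ih, ← congrFun h3 j.castSucc, h1, Fin.coeSucc_eq_succ]
  · intro w
    rw [List.ofFn_succ', List.ofFn_succ (f := fun j => a (w j)), List.prod_concat, List.prod_cons,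
      hτ]
    simp [h1]

theorem trace_add_pow {A R : Type*} [Semiring A] [CommRing R] {p : ℕ} [hp : Fact p.Prime]
    [CharP R p] (τ : A →+ R) (hτ : ∀ a b, τ (a * b) = τ (b * a)) (a b : A) :
    τ ((a + b) ^ p) = τ (a ^ p) + τ (b ^ p) := by
  simpa using trace_sum_pow τ hτ ![a, b]

end Pow

variable {G : Type*} [Group G] {R : Type*} [CommRing R]

/-- Linear extension of a function on `G` to the group algebra. -/
noncomputable def chR (f : G → R) : R[G] →ₗ[R] R :=
  (Finsupp.linearCombination R f).comp (coeffLinearEquiv R).toLinearMap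

@[simp] theorem chR_single (f : G → R) (g : G) (c : R) : chR f (single g c) = c * f g := by
  simp [chR]

theorem chR_eq_sum [Fintype G] (f : G → R) (a : R[G]) : chR f a = ∑ g, a.coeff g * f g := by
  conv_lhs => rw [eq_sum_single a]
  simp only [map_sum, map_smul, chR_single, one_mul, smul_eq_mul]

theorem chR_mul_comm {f : G → R} (hf : ∀ g h, f (g * h) = f (h * g)) (a b : R[G]) :
    chR f (a * b) = chR f (b * a) := by
  induction a using MonoidAlgebra.induction_linear with
  | zero => simp
  | add a a' ha ha' => simp only [add_mul, mul_add, map_add, ha, ha']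
  | single g c =>
    induction b using MonoidAlgebra.induction_linear with
    | zero => simp
    | add b b' hb hb' => simp only [add_mul, mul_add, map_add, hb, hb']
    | single h d => simp [hf g h, mul_comm]

theorem eq_chR (τ : R[G] →ₗ[R] R) (a : R[G]) : τ a = chR (fun g => τ (single g 1)) a := by
  induction a using MonoidAlgebra.induction_linear with
  | zero => simp
  | add a a' ha ha' => simp only [map_add, ha, ha']
  | single g c => rw [chR_single, ← smul_eq_mul, ← map_smul, smul_single, smul_eq_mul, mul_one]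

theorem pow_eq_one_mul_comm (g h : G) (n : ℕ) : (g * h) ^ n = 1 ↔ (h * g) ^ n = 1 := by
  have : h * g = g⁻¹ * (g * h) * g⁻¹⁻¹ := by group
  rw [this, conj_pow, mul_inv_eq_one, inv_mul_eq_iff_eq_mul, mul_inv_cancel]

variable {p : ℕ} [hp : Fact p.Prime] [CharP R p] [Fintype G]

theorem chR_pow {f : G → R} (hf : ∀ g h, f (g * h) = f (h * g)) (a : R[G]) :
    chR f (a ^ p) = ∑ g, a.coeff g ^ p * f (g ^ p) := by
  conv_lhs => rw [eq_sum_single a]
  refine (trace_sum_pow (chR f).toAddMonoidHom (chR_mul_comm hf) _).trans ?_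
  simp [single_pow]

theorem chR_pow_pow (S : G → Prop) [DecidablePred S] (hS : ∀ g h, S (g * h) ↔ S (h * g)) (r : ℕ)
    (a : R[G]) : chR (fun g => if S g then (1 : R) else 0) (a ^ p ^ r) =
      chR (fun g => if S (g ^ p ^ r) then (1 : R) else 0) a ^ p ^ r := by
  induction r generalizing S with
  | zero => simp
  | succ r ih =>
    have h1 : ∀ g h, S ((g * h) ^ p) ↔ S ((h * g) ^ p) := fun g h => by
      have : h * g = g⁻¹ * (g * h) * g⁻¹⁻¹ := by group
      rw [this, conj_pow, hS (g⁻¹ * _), inv_inv, mul_inv_cancel_left]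
    rw [pow_succ, pow_mul, chR_pow fun g h => by simp only [hS g h], pow_mul]
    simp only [pow_mul]
    rw [← ih (fun g => S (g ^ p)) h1, chR_eq_sum, sum_pow_char]
    refine Finset.sum_congr rfl fun g _ => ?_
    split_ifs <;> simp [hp.out.ne_zero]

/-- The coefficients of a nilpotent element at the `p`-elements sum to zero. -/
theorem sum_coeff_pelt_eq_zero {k : Type*} [Field k] [CharP k p] {a : k[G]} (ha : IsNilpotent a)
    [DecidablePred fun g : G => ∃ n, orderOf g = p ^ n] :
    ∑ g, (if ∃ n, orderOf g = p ^ n then a.coeff g else 0) = 0 := by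
  classical
  obtain ⟨n, hn⟩ := ha
  have h1 := chR_pow_pow (p := p) (fun g : G => g = 1) (fun g h => by
    simpa using pow_eq_one_mul_comm g h 1) (n + Nat.card G) a
  rw [pow_eq_zero_of_le ((Nat.le_add_right _ _).trans (Nat.lt_pow_self hp.out.one_lt).le) hn,
    map_zero, eq_comm, pow_eq_zero_iff (pow_ne_zero _ hp.out.ne_zero), chR_eq_sum] at h1
  refine Eq.trans (Finset.sum_congr rfl fun g _ => ?_) h1
  have : (∃ n, orderOf g = p ^ n) ↔ g ^ p ^ (n + Nat.card G) = 1 := by
    refine ⟨fun ⟨m, hm⟩ => orderOf_dvd_iff_pow_eq_one.1 (hm ▸ pow_dvd_pow _ ?_),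
      fun h => pelt_iff.2 ⟨_, h⟩⟩
    have := (Nat.lt_pow_self hp.out.one_lt (n := m)).le.trans (hm ▸ orderOf_le_card (x := g))
    omega
  simp only [this]
  split_ifs <;> simp

end Cfsg.Agent.Blk
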