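import Cfsg.Agent.Lib.Block.Induct
import Cfsg.Agent.Lib.Block.PPart

/-!
The twisting argument: block orthogonality and Brauer's second main theorem.
-/

namespace Cfsg.Agent.Blk

open MonoidAlgebra Cfsg.Agent.Char
open scoped ComplexConjugate

theorem trace_twist {R A : Type*} [CommRing R] [Ring A] [Algebra R A] (τ : A → ℂ)
    (hτ : ∀ a b, τ (a * b) = τ (b * a)) {c : R} {c' : ℂ} (hc : ∀ a, τ (c • a) = c' * τ a)
    (hc' : c' ≠ 1) {e s t : A} (he : IsIdempotentElem e) (hse : Commute s e)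
    (hst : s * t = c • (t * s)) (hu : IsUnit (e * t * e + (1 - e))) : τ (s * e) = 0 := by
  obtain ⟨T, hT⟩ := hu
  have h1 : e * (1 - e) = 0 := by rw [mul_sub, mul_one, he.eq, sub_self]
  have h2 : (1 - e) * e = 0 := by rw [sub_mul, one_mul, he.eq, sub_self]
  have h3 : s * e * T = c • (T * (s * e)) := by
    rw [hT, mul_add, add_mul, mul_assoc s e (1 - e), h1, mul_zero, add_zero, hse.eq,
      ← mul_assoc (1 - e), h2, zero_mul, add_zero, ← hse.eq]
    calc s * e * (e * t * e) = e * (s * t) * e := by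
          rw [← mul_assoc, ← mul_assoc, mul_assoc s e e, he.eq, hse.eq, mul_assoc e s t]
      _ = c • (e * t * e * (s * e)) := by
          rw [hst, mul_smul_comm, smul_mul_assoc, hse.eq, ← mul_assoc (e * t * e),
            mul_assoc (e * t) e e, he.eq, mul_assoc (e * t), ← hse.eq]
          simp only [mul_assoc]
  have h4 : τ (s * e) = c' * τ (s * e) := by
    conv_lhs => rw [← mul_one (s * e), ← T.mul_inv, ← mul_assoc, h3, smul_mul_assoc, hc, hτ,
      ← mul_assoc, T.inv_mul, one_mul]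
  have h5 : (1 - c') * τ (s * e) = 0 := by rw [sub_mul, one_mul, ← h4, sub_self]
  exact (mul_eq_zero.1 h5).resolve_left (sub_ne_zero.2 hc'.symm)

theorem exists_twist_exp {X : Type*} (σ : Equiv.Perm X) (p : ℕ) :
    ∃ r : X → ℤ, ∀ g, (∀ n : ℤ, (σ ^ n) g = g → (p : ℤ) ∣ n) → (p : ℤ) ∣ r (σ g) - (r g + 1) := by
  let s := Equiv.Perm.SameCycle.setoid σ
  have h : ∀ g, ∃ n : ℤ, (σ ^ n) (Quotient.mk s g).out = g := fun g => Quotient.mk_out (s := s) g
  choose r hr using h
  refine ⟨r, fun g hg => hg _ ?_⟩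
  have h1 : Quotient.mk s (σ g) = Quotient.mk s g :=
    Quotient.sound (Equiv.Perm.sameCycle_apply_left.2 (Equiv.Perm.SameCycle.refl σ g))
  have h2 := hr (σ g)
  rw [h1] at h2
  calc (σ ^ (r (σ g) - (r g + 1))) g
      = (σ ^ (r (σ g) - (r g + 1))) ((σ ^ r g) (Quotient.mk s g).out) := by rw [hr]
    _ = σ⁻¹ ((σ ^ r (σ g)) (Quotient.mk s g).out) := by
        rw [← Equiv.Perm.mul_apply, ← Equiv.Perm.mul_apply, ← zpow_add, ← zpow_neg_one,
          ← zpow_add]
        congr 2; ring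
    _ = g := by rw [h2]; simp

variable {M : Ideal AlgInt} {p : ℕ} [PMod M p]

theorem exists_twist (M : Ideal AlgInt) {p : ℕ} [PMod M p] {X : Type*} (σ : Equiv.Perm X) :
    ∃ (ζ : O M) (ρ : X → O M), (ζ : ℂ) ≠ 1 ∧ (∀ g, res M (ρ g) = 1) ∧
      ∀ g, (∀ n : ℤ, (σ ^ n) g = g → (p : ℤ) ∣ n) → ρ (σ g) = ζ * ρ g := by
  have hp := PMod.prime M
  obtain ⟨r, hr⟩ := exists_twist_exp σ p
  have hζ := Complex.isPrimitiveRoot_exp p hp.ne_zero
  set z := Complex.exp (2 * Real.pi * Complex.I / p)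
  let ζ : O M := ⟨z, mem_O_of_pow_eq_one M hp.ne_zero hζ.pow_eq_one⟩
  have h1 : ζ ^ p = 1 := Subtype.ext hζ.pow_eq_one
  let u : (O M)ˣ := Units.ofPowEqOne ζ p h1 hp.ne_zero
  have hu : u ^ p = 1 := Units.ext h1
  have h2 : Units.map (res M).toMonoidHom u = 1 := Units.ext (by
    change res M ζ = 1
    rw [← rd_coe]; exact rd_eq_one_of_pow_eq_one (n := 1) (by rw [pow_one]; exact hζ.pow_eq_one))
  refine ⟨ζ, fun g => ((u ^ r g : (O M)ˣ) : O M), hζ.ne_one hp.one_lt, fun g => ?_, fun g hg => ?_⟩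
  · have := congrArg Units.val (map_zpow (Units.map (res M).toMonoidHom) u (r g))
    rw [h2, one_zpow] at this
    exact this
  · obtain ⟨c, hc⟩ := hr g hg
    have : r (σ g) = p * c + (1 + r g) := by linear_combination hc
    simp only [this, zpow_add, zpow_mul, zpow_natCast, hu, one_zpow, one_mul, zpow_one,
      Units.val_mul]
    rfl

variable {G : Type*} [Group G] [Finite G]

theorem isUnit_end_of_toK {T : Module.End (O M) (O M)[G]} (h : ∀ b, toK M (T b) = toK M b) :
    IsUnit T := by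
  have := Fintype.ofFinite G
  have hsurj : Function.Surjective T := by
    rw [← LinearMap.range_eq_top, eq_top_iff]
    apply Submodule.le_of_le_smul_of_le_jacobson_bot (I := IsLocalRing.maximalIdeal (O M))
      Module.Finite.fg_top (IsLocalRing.maximalIdeal_le_jacobson _)
    intro b _
    have h1 : b = T b + (b - T b) := by abel
    rw [h1]
    refine Submodule.add_mem_sup ⟨b, rfl⟩ ?_
    have h2 : toK M (b - T b) = 0 := by rw [map_sub, h, sub_self]
    rw [eq_sum_single (b - T b)]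
    exact Submodule.sum_mem _ fun g _ => Submodule.smul_mem_smul
      ((mem_maximalIdeal_iff _).2 (toK_eq_zero_iff.1 h2 g)) trivial
  exact (Module.End.isUnit_iff T).2
    ⟨OrzechProperty.injective_of_surjective_endomorphism _ hsurj, hsurj⟩

/-- Pointwise multiplication of coefficients. -/
noncomputable def diag {R : Type*} [CommRing R] (ρ : G → R) : R[G] →ₗ[R] R[G] where
  toFun a := ofFun fun g => ρ g * a.coeff g
  map_add' a b := ext' fun g => by simp only [coeff_ofFun, coeff_add', mul_add]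
  map_smul' c a := ext' fun g => by
    simp only [coeff_ofFun, coeff_smul', RingHom.id_apply]; ring

theorem coeff_diag {R : Type*} [CommRing R] (ρ : G → R) (a : R[G]) (g : G) :
    (diag ρ a).coeff g = ρ g * a.coeff g := coeff_ofFun _ _

theorem toK_diag {ρ : G → O M} (h : ∀ g, res M (ρ g) = 1) (a : (O M)[G]) :
    toK M (diag ρ a) = toK M a :=
  ext' fun g => by rw [coeff_cf, coeff_cf, coeff_diag, map_mul, h, one_mul]

/-- Orthogonality for an idempotent of `O[G]` commuting with `y`. -/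
theorem sum_coeff_eq_zero_of_idem [Fintype G] {f : (O M)[G]} (hf : IsIdempotentElem f)
    {x y x' y' : G} (hy : cj y f = f) (hx' : IsPPart p x x') (hy' : IsPPart p y y')
    (hc : ¬ IsConj x' y') : ∑ g, (f.coeff (g⁻¹ * x * g * y⁻¹) : ℂ) = 0 := by
  haveI : Fact p.Prime := ⟨PMod.prime M⟩
  let σ : Equiv.Perm G := Equiv.mulLeft x * Equiv.mulRight y⁻¹
  have hσ : ∀ g, σ g = x * g * y⁻¹ := fun g => by simp [σ, mul_assoc]
  have hσn : ∀ (n : ℤ) g, (σ ^ n) g = x ^ n * g * (y ^ n)⁻¹ := fun n g => by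
    have : Commute (Equiv.mulLeft x) (Equiv.mulRight y⁻¹) := by
      ext g; simp [mul_assoc]
    simp only [σ, this.mul_zpow, Equiv.zpow_mulLeft, Equiv.zpow_mulRight]
    simp [mul_assoc]
  obtain ⟨ζ, ρ, h1, h2, h3⟩ := exists_twist M σ
  have h4 : ∀ g, ρ (x * g * y⁻¹) = ζ * ρ g := fun g => by
    rw [← hσ]
    refine h3 g fun n hn => by_contra fun h => hc ?_
    rw [hσn] at hn
    refine isConj_iff.2 ⟨g⁻¹, hx'.conj_eq_of_zpow hy' h ?_⟩
    rw [inv_inv, mul_assoc, inv_mul_eq_iff_eq_mul, ← mul_inv_eq_iff_eq_mul, hn]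
  let τ : Module.End (O M) (O M)[G] → ℂ := fun T => ∑ g, ((T (single g 1)).coeff g : ℂ)
  let s : Module.End (O M) (O M)[G] :=
    LinearMap.mulLeft _ (single x⁻¹ 1) * LinearMap.mulRight _ (single y 1)
  have hs : ∀ a g, (s a).coeff g = a.coeff (x * g * y⁻¹) := fun a g => by
    simp [s, mul_assoc]
  have hτ : ∀ S T, τ (S * T) = ∑ g, ∑ h, ((T (single g 1)).coeff h : ℂ) *
      (S (single h 1)).coeff g := fun S T => by
    refine Finset.sum_congr rfl fun g _ => ?_
    rw [Module.End.mul_apply, eq_sum_single (T (single g 1)), map_sum, coeff_sum']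
    simp only [map_smul, coeff_smul', ← eq_sum_single]
    push_cast; rfl
  have key := trace_twist (R := O M) τ (c := ζ) (c' := ζ) (e := LinearMap.mulRight _ f) (s := s)
    (t := diag ρ) (fun S T => by
      rw [hτ, hτ, Finset.sum_comm]
      exact Finset.sum_congr rfl fun _ _ => Finset.sum_congr rfl fun _ _ => mul_comm _ _)
    (fun T => by
      simp only [τ, Finset.mul_sum, LinearMap.smul_apply, coeff_smul']
      push_cast; rfl) h1
    (LinearMap.ext fun a => by simp [mul_assoc, hf.eq])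
    (LinearMap.ext fun a => by
      simp only [s, Module.End.mul_apply, LinearMap.mulLeft_apply, LinearMap.mulRight_apply,
        mul_assoc, (cj_eq_iff_commute.1 hy).eq])
    (LinearMap.ext fun a => ext' fun g => by
      rw [Module.End.mul_apply, hs, coeff_diag, LinearMap.smul_apply, coeff_smul',
        Module.End.mul_apply, coeff_diag, hs, h4, mul_assoc])
    (isUnit_end_of_toK fun b => by
      simp only [LinearMap.add_apply, Module.End.mul_apply, LinearMap.mulRight_apply,
        LinearMap.sub_apply, Module.End.one_apply, map_add, map_sub, map_mul, toK_diag h2]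
      rw [mul_assoc, ← map_mul (toK M) f f, hf.eq]; abel)
  rw [← key]
  refine Finset.sum_congr rfl fun g _ => ?_
  rw [Module.End.mul_apply, hs, LinearMap.mulRight_apply]
  simp [mul_assoc]

open Classical in
/-- Block orthogonality. -/
theorem IsUB.orthogonality {A : Set (IrrCharacter G)} (hA : IsUB M A) {x y x' y' : G}
    (hx' : IsPPart p x x') (hy' : IsPPart p y y') (hc : ¬ IsConj x' y') :
    (∑ χ : IrrCharacter G, if χ ∈ A then (χ : G → ℂ) x * conj ((χ : G → ℂ) y) else 0) = 0 := by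
  have := Fintype.ofFinite G
  have h1 := sum_mul_conj_eq A (single x 1) y
  simp only [ch_single, one_mul] at h1
  rw [h1, ← sum_coeff_eq_zero_of_idem hA.fO_idem (mem_inv.1 (fO_mem A).2 x trivial) hy' hx'
    (fun h => hc h.symm), ← Equiv.sum_comp (Equiv.inv G)]
  refine Finset.sum_congr rfl fun g _ => ?_
  rw [hA.coeff_fO]
  simp

theorem IsUB.orthogonality' {A : Set (IrrCharacter G)} (hA : IsUB M A) {x y x' y' : G}
    (hx' : IsPPart p x x') (hy' : IsPPart p y y') (hc : ¬ IsConj x' y') :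
    ∑ᶠ χ ∈ A, (χ : G → ℂ) x * conj ((χ : G → ℂ) y) = 0 := by
  rw [finsum_mem_irr]; exact hA.orthogonality hx' hy' hc

open Classical in
/-- Weak block orthogonality. -/
theorem IsUB.weak_orthogonality {A : Set (IrrCharacter G)} (hA : IsUB M A) {x y : G}
    (hx : ¬ p ∣ orderOf x) (hy : p ∣ orderOf y) :
    (∑ χ : IrrCharacter G, if χ ∈ A then (χ : G → ℂ) x * conj ((χ : G → ℂ) y) else 0) = 0 := by
  haveI : Fact p.Prime := ⟨PMod.prime M⟩
  obtain ⟨y', hy'⟩ := exists_isPPart p y
  exact hA.orthogonality (isPPart_one_iff.2 hx) hy' fun h =>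
    hy'.eq_one_iff.1 (isConj_one_right.1 h) hy

theorem IsUB.blockCoeff_eq_zero {A : Set (IrrCharacter G)} (hA : IsUB M A) {y : G}
    (hy : p ∣ orderOf y) : blockCoeff A y = 0 := by
  haveI : Fact p.Prime := ⟨PMod.prime M⟩
  rw [blockCoeff_eq, hA.weak_orthogonality preg_one hy, mul_zero]

theorem IsUB.preg_of_coeff_bar {A : Set (IrrCharacter G)} (hA : IsUB M A) {y : G}
    (hy : (bar M A).coeff y ≠ 0) : ¬ p ∣ orderOf y := fun h =>
  hy (by rw [coeff_bar, hA.blockCoeff_eq_zero h, rd_zero])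

/-- Central idempotents of `k[K]` are supported on `p`-regular elements. -/
theorem preg_of_coeff_idem {K : Subgroup G} {e : (kk M)[G]} (he : e ∈ Z (kk M) K)
    (hei : IsIdempotentElem e) {y : G} (hy : e.coeff y ≠ 0) : ¬ p ∣ orderOf y := by
  obtain ⟨b, hb, rfl⟩ := exists_isUB_barS_eq he hei
  have h1 := mem_of_coeff_ne_zero he.1 hy
  rw [barS, coeff_es_of_mem _ h1] at hy
  have := hb.preg_of_coeff_bar hy
  rwa [← Subgroup.orderOf_coe] at this

theorem IsUB.blockPart_eq_zero {A : Set (IrrCharacter G)} (hA : IsUB M A) {θ : G → ℂ} {x : G}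
    (h : ∀ u z : G, IsPPart p u z → IsConj x z → θ u = 0) {u z : G} (hz : IsPPart p u z)
    (hxz : IsConj x z) : blockPart A θ u = 0 := by
  classical
  haveI : Fact p.Prime := ⟨PMod.prime M⟩
  have := Fintype.ofFinite G
  rw [blockPart_eq]
  have : ∀ χ : IrrCharacter G, (if χ ∈ A then classInner θ χ * (χ : G → ℂ) u else 0) =
      (Nat.card G : ℂ)⁻¹ * ∑ g, θ g *
        (if χ ∈ A then (χ : G → ℂ) u * conj ((χ : G → ℂ) g) else 0) := fun χ => by
    split_ifs
    · rw [classInner, mul_assoc, Finset.sum_mul]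
      congr 1
      exact Finset.sum_congr rfl fun g _ => by ring
    · simp
  simp only [this, ← Finset.mul_sum]
  rw [Finset.sum_comm]
  refine mul_eq_zero_of_right _ (Finset.sum_eq_zero fun g _ => ?_)
  rw [← Finset.mul_sum]
  obtain ⟨w, hw⟩ := exists_isPPart p g
  by_cases hc : IsConj z w
  · rw [h g w hw (hxz.trans hc), zero_mul]
  · rw [hA.orthogonality hz hw hc, mul_zero]

/-- Brauer's second main theorem, general idempotent form. -/
theorem second_main {L H : Subgroup G} {f ε : (O M)[G]} (hf : f ∈ sup (O M) L)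
    (hf' : f ∈ inv (O M) H) (hfi : IsIdempotentElem f) (hε : ε ∈ Z (O M) H)
    (hεi : IsIdempotentElem ε) (hnil : IsNilpotent (toK M (tr (H : Set G) f * ε)))
    {h x : G} (hh : h ∈ H) (hx : IsPPart p h x) (hC : L ⊓ Ce1 x ≤ H) {τ : G → ℂ}
    (hτ : IsClassFunction G τ) : ch τ (toC M (f * ε) * single h 1) = 0 := by
  haveI : Fact p.Prime := ⟨PMod.prime M⟩
  let σ : Equiv.Perm G := Equiv.mulLeft h⁻¹ * Equiv.mulRight h
  have hσn : ∀ (n : ℤ) g, (σ ^ n) g = (h ^ n)⁻¹ * g * h ^ n := fun n g => by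
    have : Commute (Equiv.mulLeft h⁻¹) (Equiv.mulRight h) := by
      ext g; simp [mul_assoc]
    simp only [σ, this.mul_zpow, Equiv.zpow_mulLeft, Equiv.zpow_mulRight]
    simp [mul_assoc]
  obtain ⟨ζ, ρ, h1, h2, h3⟩ := exists_twist M σ
  have h4 : ∀ g ∈ L, g ∉ H → ρ (h⁻¹ * g * h) = ζ * ρ g := fun g hgL hgH => by
    have := h3 g fun n hn => by_contra fun hd => hgH (hC ⟨hgL, ?_⟩)
    · simpa [σ, mul_assoc] using this
    rw [hσn] at hn
    have := hx.conj_eq_of_zpow hx hd (c := g) (by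
      rw [mul_inv_eq_iff_eq_mul, ← inv_mul_eq_iff_eq_mul, ← mul_assoc, hn])
    exact mem_Ce1.2 (mul_inv_eq_iff_eq_mul.1 this)
  have hfH : tr (H : Set G) f ∈ Z (O M) H := ⟨tr_mem_sup _ _, tr_mem_inv hf' (le_No H)⟩
  have hfε : Commute f ε := commute_of_mem hf' hε.1
  have he : IsIdempotentElem (f * ε) := hfi.mul_of_commute hfε hεi
  have hei : f * ε ∈ inv (O M) H := mul_mem hf' hε.2
  obtain ⟨u, hu⟩ := isUnit_one_sub_of_nilpotent_toK hnil
  have huZ : (u : (O M)[G]) ∈ Z (O M) H := by rw [hu]; exact sub_mem (one_mem _) (mul_mem hfH hε)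
  set v : (O M)[G] := ↑u⁻¹ with hv
  have hu' : v ∈ inv (O M) H := inv_mem_inv huZ.2 u.mul_inv u.inv_mul
  set f' := f - tr (H : Set G) f with hf'd
  have h5 : v * f' * (f * ε) = f * ε := by
    have : f' * (f * ε) = u * (f * ε) := by
      rw [hu, hf'd, sub_mul, sub_mul, one_mul, ← mul_assoc f f, hfi.eq, mul_assoc _ ε,
        ← mul_assoc ε f, ← hfε.eq, mul_assoc f ε ε, hεi.eq]
    rw [mul_assoc, this, ← mul_assoc, hv, u.inv_mul, one_mul]
  have h6 : cj h (diag ρ f') = ζ • diag ρ f' := ext' fun g => by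
    rw [coeff_cj, coeff_smul', coeff_diag, coeff_diag]
    have h7 : f'.coeff (h⁻¹ * g * h) = f'.coeff g := by
      rw [← coeff_cj, mem_inv.1 (sub_mem hf' hfH.2) h hh]
    rw [h7]
    by_cases hgH : g ∈ H
    · rw [hf'd, coeff_sub', coeff_tr_of_mem _ hgH, sub_self, mul_zero, mul_zero, mul_zero]
    by_cases hgL : g ∈ L
    · rw [h4 g hgL hgH, mul_assoc]
    · rw [hf'd, coeff_sub', coeff_tr_of_notMem _ hgH, mem_sup.1 hf g hgL, sub_self, mul_zero,
        mul_zero, mul_zero]
  have key := trace_twist (R := O M) (fun a => ch τ (toC M a)) (c := ζ) (c' := ζ) (e := f * ε)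
    (s := single h 1) (t := v * diag ρ f')
    (fun a b => by simp only [map_mul]; exact ch_mul_comm hτ _ _)
    (fun a => by simp only [toC_smul, map_smul, smul_eq_mul]) h1 he
    (cj_eq_iff_commute.1 (mem_inv.1 hei h hh))
    (by
      have h8 : cj h (v * diag ρ f') = ζ • (v * diag ρ f') := by
        rw [map_mul, mem_inv.1 hu' h hh, h6, mul_smul_comm]
      rw [← smul_mul_assoc, ← h8, cj_eq, mul_assoc _ (single h⁻¹ 1), single_mul_single,
        inv_mul_cancel, mul_one, ← one_def, mul_one])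
    (isUnit_of_toK_eq_one (by
      have h8 : toK M (f * ε * (v * diag ρ f') * (f * ε)) = toK M (f * ε) := by
        conv_rhs => rw [← he.eq, ← h5, ← mul_assoc, h5]
        simp only [map_mul, toK_diag h2]
      rw [map_add, h8, ← map_add, add_sub_cancel, map_one]))
  rw [ch_mul_comm hτ]
  simpa only [map_mul, cf_single, map_one] using key

end Cfsg.Agent.Blk
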