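import Mathlib

/-! Arithmetic for simple groups of order 6048. -/

set_option autoImplicit false
set_option synthInstance.maxSize 4096
set_option synthInstance.maxHeartbeats 200000

namespace Cfsg.Agent.Blk.U33

theorem ar : (∀ d < 78, 6048 % d = 0 → d % 7 = 1 ∨ d % 7 = 6 → d ≠ 1 → d ∈ [6, 8, 27, 36, 48]) ∧
    ∀ a ∈ [6, 8, 27, 36, 48], ∀ b ∈ [6, 8, 27, 36, 48], a ≤ b → ∀ δ ∈ [1, -1], ∀ e < 78, e ≠ 3 →
      6048 % e = 0 → δ * (e : ℕ) = 1 + ([a, b].map fun n : ℕ => (if n % 7 = 1 then 1 else -1 : ℤ) * n).sum →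
      27 ∣ ([a, b].map fun n : ℕ => (if n % 7 = 1 then 1 else -1 : ℤ) * if 9 ∣ n then n else 0).sum -
        δ * (if 9 ∣ e then e else 0) → a = 6 ∧ b = 27 ∧ e = 32 := by
  decide +kernel

end Cfsg.Agent.Blk.U33
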