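import Cfsg.Agent.Lib.Block.M12a
import Cfsg.Agent.Lib.Block.Rec1
import Cfsg.Agent.Lib.Block.U33a
import Cfsg.Agent.S3968

/-! Character degrees of simple groups of order 6048. -/

set_option autoImplicit false

namespace Cfsg.Agent.Blk.U33

open MonoidAlgebra Subgroup
open Cfsg.Agent.Char hiding cj cj_mul cj_inv_cj cj_cj_inv sum_cj_eq
open scoped ComplexConjugate
attribute [local instance] _root_.Classical.propDecidable

variable {G : Type*} [Group G] [Finite G] [IsSimpleGroup G] {x : G} {α β θ θ' : IrrCharacter G}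

instance : Fact (Nat.Prime 7) := ⟨by norm_num⟩

/-- the principal `7`-block -/
structure B7 (α β θ θ' : IrrCharacter G) : Prop where
  card : Nat.card G = 6048
  dα : dg α = 6
  dβ : dg β = 27
  dθ : dg θ = 32
  dθ' : dg θ' = 32
  nθ : θ ≠ θ'
  mem : ∀ χ, ¬ 7 ∣ dg χ → χ = irrOne G ∨ χ = α ∨ χ = β ∨ χ = θ ∨ χ = θ'
  vx : ∀ g, 7 ∣ orderOf g → α.1 g = -1 ∧ β.1 g = -1
  nc : ∀ c, (¬ ∀ g, 7 ∣ orderOf g → θ.1 g = c) ∧ ¬ ∀ g, 7 ∣ orderOf g → θ'.1 g = c

theorem exists_B7 (hG : Nat.card G = 6048) (hx : SC 7 x) : ∃ α β θ θ' : IrrCharacter G, B7 α β θ θ' := by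
  have hc := perfect_of (G := G) (by rw [hG]; norm_num)
  have h2 : ¬ 7 ^ 2 ∣ Nat.card G := by rw [hG]; norm_num
  have bd : ∀ χ : IrrCharacter G, dg χ < 78 ∧ 6048 % dg χ = 0 := fun χ => by
    refine ⟨?_, Nat.mod_eq_zero_of_dvd (hG ▸ deg_dvd_card χ)⟩
    have := sum_sq_sub {χ}
    rw [Finset.sum_singleton, hG] at this
    nlinarith
  obtain ⟨N, X, δ, a, h⟩ := exists_PB hx.ord h2
  have h7 := h.cN
  have h8 := h.cX
  have h9 : N.card = 3 := by
    have h3 := (⟨hx.prime, hx.ord, h2⟩ : S1 7 x).index_modEq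
    have h4 := (No (zpowers x)).card_mul_index
    rw [← h7, hx.cen, hx.card, hG] at h4
    have := Nat.le_of_dvd (by norm_num) (⟨X.card, by omega⟩ : N.card ∣ 6)
    unfold Nat.ModEq at h3
    generalize N.card = e at *
    interval_cases e <;> omega
  have hX : X.card = 2 := by rw [h9] at h8; omega
  obtain ⟨θ, θ', nθ, rfl⟩ := Finset.card_eq_two.1 hX
  have m : θ ∈ ({θ, θ'} : Finset _) := by simp
  have m' : θ' ∈ ({θ, θ'} : Finset _) := by simp
  obtain ⟨l, l1, l2, l3, l4⟩ := exists_sorted' h.one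
  obtain ⟨α, β, rfl⟩ := List.length_eq_two.1 (show l.length = 2 by omega)
  have n : ∀ χ ∈ [α, β], dg χ ∈ [6, 8, 27, 36, 48] ∧ a χ = if dg χ % 7 = 1 then 1 else -1 := fun χ k => by
    have h2 := h.cong χ ((l3 χ).1 k).1
    have h3 := ar.1 _ (bd χ).1 (bd χ).2
    have h4 := mt (dg_eq_one hc) ((l3 χ).1 k).2
    rcases h.sgn χ ((l3 χ).1 k).1 with k | k <;> rw [k] at h2 ⊢ <;> refine ⟨h3 (by omega) h4, ?_⟩ <;>
      split_ifs <;> omega
  obtain ⟨a1, b1⟩ := n α (by simp)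
  obtain ⟨a2, b2⟩ := n β (by simp)
  simp only [List.pairwise_cons, List.mem_cons, forall_eq_or_imp] at l2
  obtain ⟨d1, d2, d3⟩ := ar.2 _ a1 _ a2 l2.1.1 δ (by simpa using h.sd) _ (bd θ).1 (fun e =>
    S3968.result 3 Nat.prime_three θ (val_one e) (fun g k => ker_eq (h.ne_one m) (k.trans (cast_deg θ).symm))
      (by rw [hG]; norm_num) (center_bot hc)) (bd θ).2
    (by rw [h.rel_one m, l4]; simp [b1, b2, h.a_one, dg_one]) (by
      simpa [l4, b1, b2, dg_one] using h.bt_dvd (q := 3) (k := 2) (m := 224) hx h2 m hG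
        (by norm_num) (by norm_num))
  have v := fun χ k => h.val χ ((l3 χ).1 k).1
  refine ⟨α, β, θ, θ', hG, d1, d2, d3, (h.dg_exc m' m).trans d3, nθ, fun χ k => ?_, fun g hg => ?_,
    fun c => ⟨h.xnc (by omega) _ m c, h.xnc (by omega) _ m' c⟩⟩
  · refine or_iff_not_imp_left.2 fun k1 => ?_
    simpa [or_assoc] using (h.sc hx.cen χ k).imp_left fun k2 => (l3 χ).2 ⟨k2, k1⟩
  · simp [v α, v β, b1, b2, d1, d2, hg]

namespace B7
variable (h : B7 α β θ θ')
include h

omit [IsSimpleGroup G] in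
theorem dec [Fintype G] {φ : G → ℂ} (hφ : IsCharacter G φ) {d : ℕ} (h1 : φ 1 = d) (h2 : d < 64) {c : ℤ}
    (h3 : ∀ g, 7 ∣ orderOf g → φ g = c) : ∃ (n : IrrCharacter G → ℕ) (R : Finset (IrrCharacter G)),
      (∀ χ, classInner φ χ.1 = n χ) ∧ (∀ χ ∈ R, 7 ∣ dg χ) ∧ c = n (irrOne G) - n α - n β ∧
      d = n (irrOne G) + n α * 6 + n β * 27 + ∑ χ ∈ R, n χ * dg χ := by
  choose n hn using fun χ : IrrCharacter G => hφ.classInner_eq_nat χ.2.isCharacter
  have d0 := dg_one (G := G)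
  have d1 := h.dα; have d2 := h.dβ; have d3 := h.dθ; have d4 := h.dθ'
  let T : Finset (IrrCharacter G) := {irrOne G, α, β, θ, θ'}
  have hT : ∀ χ ∈ Tᶜ, 7 ∣ dg χ := fun χ k => by_contra fun k' => by
    have := h.mem χ k'
    simp only [T, Finset.mem_compl, Finset.mem_insert, Finset.mem_singleton] at k
    exact k this
  have e : ∀ g, φ g = n (irrOne G) + n α * α.1 g + n β * β.1 g + n θ * θ.1 g + n θ' * θ'.1 g +
      ∑ χ ∈ Tᶜ, n χ * χ.1 g := fun g => by
    have := h.nθ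
    rw [hφ.isClassFunction.apply_eq_sum g, ← Finset.sum_add_sum_compl T]
    repeat rw [Finset.sum_insert]
    · simp [hn, add_assoc]
    all_goals
      simp only [Finset.mem_insert, Finset.mem_singleton, not_or]
      repeat' apply And.intro
      all_goals first | exact ne_of_dg (by omega) | exact this
  have e1 := e 1
  simp only [h1, ← cast_deg] at e1
  replace e1 : d = n (irrOne G) + n α * dg α + n β * dg β + n θ * dg θ + n θ' * dg θ' +
    ∑ χ ∈ Tᶜ, n χ * dg χ := by exact_mod_cast e1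
  rw [d1, d2, d3, d4] at e1
  have e2 : ∀ g, 7 ∣ orderOf g → (c : ℂ) = n (irrOne G) - n α - n β + n θ * θ.1 g + n θ' * θ'.1 g :=
    fun g hg => by
      rw [← h3 g hg, e, (h.vx g hg).1, (h.vx g hg).2, Finset.sum_eq_zero fun χ k => by
        obtain ⟨m, hm⟩ := deg_dvd_card χ
        rw [dz hm (fun k' => absurd (h.card ▸ hm ▸ mul_dvd_mul (hT χ k) k') (by norm_num)) hg, mul_zero]]
      ring
  obtain ⟨x, hx⟩ := exists_prime_orderOf_dvd_card' (G := G) 7 (by rw [h.card]; norm_num)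
  rcases (by omega : n θ = 0 ∧ n θ' = 0 ∨ n θ = 1 ∧ n θ' = 0 ∨ n θ = 0 ∧ n θ' = 1) with
    ⟨a, b⟩ | ⟨a, b⟩ | ⟨a, b⟩ <;> simp only [a, b] at e1 e2
  · refine ⟨n, Tᶜ, hn, hT, ?_, by simpa using e1⟩
    exact_mod_cast (show (c : ℂ) = n (irrOne G) - n α - n β by simpa using e2 x hx.symm.dvd)
  · exact ((h.nc (c - (n (irrOne G) - n α - n β))).1 fun g hg => by
      push_cast at e2; linear_combination -e2 g hg).elim
  · exact ((h.nc (c - (n (irrOne G) - n α - n β))).2 fun g hg => by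
      push_cast at e2; linear_combination -e2 g hg).elim

omit [IsSimpleGroup G] in
theorem degs : ∃ χ ψ : IrrCharacter G, dg χ = 14 ∧ dg ψ = 21 := by
  have := Fintype.ofFinite G
  obtain ⟨n, R, k1, k2, k3, k4⟩ := h.dec (α.2.isCharacter.mul α.2.isCharacter.conj) (d := 36) (c := 1)
    (by simp [val_one h.dα, map_ofNat]; norm_num) (by norm_num) fun g hg => by simp [(h.vx g hg).1]
  have n1 : n (irrOne G) = 1 := by
    have := k1 (irrOne G)
    rw [← classInner_mul_right, show α.1 * (irrOne G).1 = α.1 from mul_one _, α.2.classInner_self] at this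
    exact_mod_cast this.symm
  have n7 : ∀ χ, n χ ≠ 0 → dg χ ≠ 7 := fun χ k e => by
    obtain ⟨m, -, j1, -, j3, -⟩ := h.dec (χ.2.isCharacter.mul α.2.isCharacter) (d := 42) (c := 0)
      (by simp [val_one h.dα, val_one e]; norm_num) (by norm_num) fun g hg => by
        simp [dz (m := 864) (by rw [h.card, e]) (by norm_num) hg]
    have a := j1 (irrOne G)
    have b := j1 α
    rw [classInner_mul_left, show _ * (irrOne G).1 = _ from mul_one _, χ.2.classInner_of_ne α.2.conj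
      fun k => by
        have := congrFun k 1
        simp [val_one e, val_one h.dα, map_ofNat] at this] at a
    rw [classInner_mul_left, mul_comm, ← conj_classInner, k1] at b
    have a' : m (irrOne G) = 0 := by exact_mod_cast a.symm
    have b' : n χ = m α := by simpa using b
    omega
  have bd : ∀ χ ∈ R, n χ ≠ 0 → n χ * dg χ ≤ 35 ∧ (dg χ = 14 ∨ dg χ = 21 ∨ dg χ = 28) := fun χ k k' => by
    have a := Finset.single_le_sum (f := fun χ => n χ * dg χ) (fun _ _ => Nat.zero_le _) k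
    have b := Nat.le_mul_of_pos_left (dg χ) k'.pos
    have c := n7 χ k'
    have d := k2 χ k
    have e : dg χ ∣ 6048 := h.card ▸ deg_dvd_card χ
    have f : dg χ ≠ 35 := fun k => by simp [k] at e
    have g : dg χ ≠ 0 := charDegree_ne_zero χ
    omega
  obtain ⟨ψ, p1, p2⟩ : ∃ ψ ∈ R, ¬ 2 ∣ n ψ * dg ψ := by
    by_contra! k
    have := Finset.dvd_sum k
    omega
  have p3 : n ψ ≠ 0 := fun e => by simp [e] at p2
  have p4 : dg ψ = 21 := by
    rcases (bd ψ p1 p3).2 with e | e | e <;> rw [e] at p2 ⊢ <;> omega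
  have p5 := (bd ψ p1 p3).1
  rw [← Finset.add_sum_erase _ _ p1, p4] at k4
  rw [p4] at p5
  obtain ⟨χ, q1, q2⟩ := Finset.exists_ne_zero_of_sum_ne_zero
    (show ∑ χ ∈ R.erase ψ, n χ * dg χ ≠ 0 by omega)
  have a := Finset.single_le_sum (f := fun χ => n χ * dg χ) (fun _ _ => Nat.zero_le _) q1
  have b := Nat.le_mul_of_pos_left (dg χ) (left_ne_zero_of_mul q2).pos
  have c := (bd χ (Finset.mem_of_mem_erase q1) (left_ne_zero_of_mul q2)).2
  exact ⟨χ, ψ, by omega, p4⟩

end B7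

end Cfsg.Agent.Blk.U33
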