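import Cfsg.Agent.Lib.Block.U33b
import Cfsg.Agent.Lib.PU.Ms14
import Cfsg.Prelude.Def_DegreeGraph

/-! Affine groups of finite rings; degree graphs. -/

set_option autoImplicit false

namespace Cfsg.Agent.Blk.U33

open Subgroup
open Cfsg.Agent.Char hiding cj cj_mul cj_inv_cj cj_cj_inv sum_cj_eq

variable (R : Type) [CommRing R]

/-- units acting by multiplication -/
def mulRep : Rˣ →* Module.End R R := (Algebra.lmul R R).toMonoidHom.comp (Units.coeHom R)

/-- the affine group of a ring -/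
abbrev Aff := PU.SD (mulRep R)

theorem card_Aff : Nat.card (Aff R) = Nat.card R * Nat.card Rˣ :=
  (Nat.card_congr SemidirectProduct.equivProd).trans (Nat.card_prod _ _)

theorem sol_Aff : Group.IsSolvable (Aff R) := PU.sol_SD _ inferInstance

variable {R}

theorem exists_deg [Finite R] {ψ : AddChar R ℂ} (h : ψ.IsPrimitive) :
    ∃ χ, IsIrrCharacter (Aff R) χ ∧ χ 1 = Nat.card Rˣ := by
  have := Fintype.ofFinite (Aff R)
  let N := (SemidirectProduct.rightHom : Aff R →* Rˣ).ker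
  let l : N →* ℂ := ⟨⟨fun n => ψ n.1.left.toAdd, by simp⟩, fun a b => by
    have : a.1.right = 1 := a.2
    simp [this, AddChar.map_add_eq_mul]⟩
  refine ⟨_, IsIrrCharacter.ind_of_inertia_le (isIrrCharacter_units l.toHomUnits) fun g hg => ?_, ?_⟩
  · refine Units.ext (sub_eq_zero.1 (by_contra fun k => h k (AddChar.ext _ _ fun r => ?_)))
    have := mem_inertia'.1 hg ⟨SemidirectProduct.inl (Multiplicative.ofAdd r), by simp [N]⟩
    have e : (g * SemidirectProduct.inl (Multiplicative.ofAdd r) * g⁻¹).left.toAdd = g.right * r := by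
      rw [SemidirectProduct.mul_left, SemidirectProduct.mul_left, SemidirectProduct.mul_right,
        SemidirectProduct.inv_left, SemidirectProduct.left_inl, SemidirectProduct.right_inl]
      simp [PU.act, mulRep]
    replace this : ψ _ = ψ r := this
    rw [e] at this
    rw [AddChar.mulShift_apply, sub_mul, AddChar.map_sub_eq_div, SemidirectProduct.rightHom_eq_right, this]
    simp [(ψ.val_isUnit r).ne_zero]
  · rw [indFun_one, index_ker, MonoidHom.range_eq_top.2 SemidirectProduct.rightHom_surjective]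
    simp

theorem graph_eq {G : Type*} [Group G] [Finite G] (hG : Nat.card G = 6048)
    (h1 : ∃ d ∈ charDegrees G, 6 ∣ d) (h2 : ∃ d ∈ charDegrees G, 14 ∣ d)
    (h3 : ∃ d ∈ charDegrees G, 21 ∣ d) : degreePrimes G = {2, 3, 7} ∧
      ∀ p q, (degreeGraph G).Adj p q ↔ p ≠ q ∧ p ∈ ({2, 3, 7} : Set ℕ) ∧ q ∈ ({2, 3, 7} : Set ℕ) := by
  have k : ∀ p : ℕ, p.Prime → ∀ d ∈ charDegrees G, p ∣ d → p ∈ ({2, 3, 7} : Set ℕ) := by
    rintro p hp _ ⟨χ, rfl⟩ e
    have := e.trans (deg_dvd_card χ)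
    rw [hG, show 6048 = 2 ^ 5 * (3 ^ 3 * 7) by norm_num, hp.dvd_mul, hp.dvd_mul] at this
    rcases this with e | e | e
    · exact .inl ((Nat.prime_dvd_prime_iff_eq hp Nat.prime_two).1 (hp.dvd_of_dvd_pow e))
    · exact .inr (.inl ((Nat.prime_dvd_prime_iff_eq hp Nat.prime_three).1 (hp.dvd_of_dvd_pow e)))
    · exact .inr (.inr ((Nat.prime_dvd_prime_iff_eq hp (by norm_num)).1 e))
  refine ⟨Set.ext fun p => ⟨fun ⟨a, d, b, c⟩ => k p a d b c, ?_⟩, fun p q => ⟨fun ⟨a, b, c, d, e, f⟩ =>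
    ⟨a, k p b d e ((dvd_mul_right _ _).trans f), k q c d e ((dvd_mul_left _ _).trans f)⟩, ?_⟩⟩
  · rintro (rfl | rfl | rfl)
    · exact ⟨by norm_num, h1.imp fun _ k => ⟨k.1, dvd_trans (by norm_num) k.2⟩⟩
    · exact ⟨by norm_num, h1.imp fun _ k => ⟨k.1, dvd_trans (by norm_num) k.2⟩⟩
    · exact ⟨by norm_num, h2.imp fun _ k => ⟨k.1, dvd_trans (by norm_num) k.2⟩⟩
  · rintro ⟨a, rfl | rfl | rfl, rfl | rfl | rfl⟩ <;> first
      | exact (a rfl).elim
      | exact ⟨a, by norm_num, by norm_num, by assumption⟩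

theorem exists_sol : ∃ (H : Type) (_ : Group H) (_ : Fintype H), Group.IsSolvable H ∧
    Nat.card H = 6048 ∧ 42 ∈ charDegrees H := by
  have := Fintype.ofFinite (GaloisField 2 3)
  have c : Nat.card (GaloisField 2 3) = 8 := GaloisField.card 2 3 (by norm_num)
  have c1 : Nat.card (GaloisField 2 3)ˣ = 7 := by rw [Nat.card_units, c]
  have c2 : Nat.card (ZMod 9)ˣ = 6 := by rw [Nat.card_eq_fintype_card, ZMod.card_units_eq_totient]; rfl
  obtain ⟨χ, a1, a2⟩ := exists_deg (AddChar.FiniteField.primitiveChar_to_Complex_isPrimitive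
    (GaloisField 2 3))
  obtain ⟨ψ, b1, b2⟩ := exists_deg (ZMod.isPrimitive_stdAddChar 9)
  have := sol_Aff (GaloisField 2 3)
  have := sol_Aff (ZMod 9)
  refine ⟨(Aff (GaloisField 2 3) × Aff (ZMod 9)) × Multiplicative (ZMod 2), inferInstance,
    Fintype.ofFinite _, inferInstance, ?_, ⟨_, (a1.prod b1).prod (irrOne _).2⟩, ?_⟩
  · rw [Nat.card_prod, Nat.card_prod, card_Aff, card_Aff, c, c1, c2]
    simp
  · rw [c1] at a2
    rw [c2] at b2
    simp [charDegree, a2, b2]
    norm_num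

end Cfsg.Agent.Blk.U33
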