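import Cfsg.Agent.Lib.Block.Loc

/-!
The basic algebra of a nilpotent block with abelian defect group.
-/

set_option autoImplicit false

namespace Cfsg.Agent.Blk

open MonoidAlgebra
open Cfsg.Agent.Char hiding cj cj_mul cj_inv_cj cj_cj_inv sum_cj_eq om
open scoped ComplexConjugate

theorem idem_mul_mul_of_trace {k V : Type*} [Field k] [CharZero k] [AddCommGroup V] [Module k V]
    [FiniteDimensional k V] {E : Module.End k V} (hE : IsIdempotentElem E)
    (h1 : LinearMap.trace k V E = 1) (a : Module.End k V) :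
    E * a * E = LinearMap.trace k V (E * a) • E := by
  have h2 := ((LinearMap.isProj_range_iff_isIdempotentElem E).2 hE).trace
  rw [h1, eq_comm, Nat.cast_eq_one, finrank_eq_one_iff'] at h2
  obtain ⟨v, -, h3⟩ := h2
  obtain ⟨c, hc⟩ := h3 ⟨E (a v), _, rfl⟩
  have h4 : E * a * E = c • E := by
    ext x
    obtain ⟨d, hd⟩ := h3 ⟨E x, _, rfl⟩
    have h5 : E x = d • (v : V) := (congrArg Subtype.val hd).symm
    have h6 : E (a v) = c • (v : V) := (congrArg Subtype.val hc).symm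
    simp only [Module.End.mul_apply, LinearMap.smul_apply, h5, map_smul, h6, smul_comm c d]
  have h5 : LinearMap.trace k V (E * a) = c := by
    rw [← hE.eq, mul_assoc, LinearMap.trace_mul_comm, h4, map_smul, h1, smul_eq_mul, mul_one]
  rw [h5, h4]

variable {G : Type*} [Group G] [Finite G] {M : Ideal AlgInt} {p : ℕ} [PMod M p]
  {B : Set (IrrCharacter G)} {P : Subgroup G} {e i j : (kk M)[G]} {θ : G → ℂ}
  {χ ψ : IrrCharacter G}

omit [Finite G] in
theorem ch_rank_one (hθ : IsCharacter G θ) {ι : ℂ[G]} (hi : IsIdempotentElem ι) (h1 : ch θ ι = 1)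
    (a b : ℂ[G]) : ch θ (ι * a * ι * b) = ch θ (ι * a) * ch θ (ι * b) := by
  obtain ⟨n, ρ, rfl⟩ := hθ
  simp only [ch_character, map_mul] at h1 ⊢
  rw [idem_mul_mul_of_trace (hi.map _) h1, smul_mul_assoc, map_smul, smul_eq_mul]

theorem eqv_of_rank (hB : IsUB M B) (h : blockRank p B = 1) (hi : Prim (TA M G) i)
    (hj : Prim (TA M G) j) (h1 : bar M B * i = i) (h2 : bar M B * j = j) : Eqv (TA M G) i j := by
  obtain ⟨I, hI⟩ := hB.exists_pts
  obtain ⟨a, ha⟩ := Finset.card_eq_one.1 (hI.card_eq.trans h)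
  obtain ⟨i', h3, h4⟩ := hI.ex i hi h1
  obtain ⟨j', h5, h6⟩ := hI.ex j hj h2
  rw [ha, Finset.mem_singleton] at h3 h5
  exact h4.trans (h5.trans h3.symm ▸ h6.symm) hi.idem hj.idem

theorem _root_.Cfsg.IsNilpotentBlock.dc_phi (hn : IsNilpotentBlock p M B) (hi : Prim (TA M G) i)
    (h1 : bar M B * i = i) : dc (phi p B) i = 1 := by
  have := Fintype.ofFinite G
  obtain ⟨I, hI⟩ := hn.blk.isUB.exists_pts
  obtain ⟨j, h3, h4⟩ := hI.ex i hi h1
  obtain ⟨a, ha⟩ := Finset.card_eq_one.1 (hI.card_eq.trans hn.rank)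
  have h5 : phi p B = (dm (hz p B) j : ℂ) • ibr B I ⟨j, h3⟩ := by
    rw [phi, hI.reg_eq hn.hz_mem, Finset.sum_eq_single ⟨j, h3⟩]
    · intro b _ hb
      exact absurd (Subtype.ext ((Finset.mem_singleton.1 (ha ▸ b.2)).trans
        (Finset.mem_singleton.1 (ha ▸ h3)).symm)) hb
    · simp
  obtain ⟨n, h6⟩ := hI.exists_int_inner ⟨j, h3⟩ ⟨j, h3⟩
  have h7 := hn.classInner_phi
  rw [h5, classInner_smul_left, classInner_smul_right, Complex.conj_natCast,
    ← mul_right_inj' (pow_ne_zero (blockDefect p B) (p_ne_zero M)),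
    mul_inv_cancel₀ (pow_ne_zero _ (p_ne_zero M)), mul_left_comm, mul_left_comm _ (dm _ _ : ℂ),
    h6] at h7
  have h8 : (dm (hz p B) j : ℤ) = 1 :=
    Int.eq_one_of_mul_eq_one_right (Int.natCast_nonneg _) (by exact_mod_cast h7)
  rw [dc_eqv (isClassFunction_phi _ _) h4 hi.idem (hI.prim j h3).idem, phi,
    dc_reg (hz p B).2.isClassFunction (hI.prim j h3).idem, ← dm_cast _ (hI.prim j h3).idem]
  exact_mod_cast h8

theorem _root_.Cfsg.IsNilpotentBlock.dc_eq_one (hn : IsNilpotentBlock p M B) (hi : Prim (TA M G) i)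
    (h1 : bar M B * i = i) (hχ : χ ∈ B) (h0 : blockHeight p B χ = 0) : dc χ.1 i = 1 := by
  rw [← dc_reg χ.2.isClassFunction hi.idem, hn.reg_eq_phi hχ h0, hn.dc_phi hi h1]

theorem MP.exists_equiv_lc (h : MP p B P e) (hn : IsNilp p ⊤ (bar M B)) (hc : P ≤ Ce P)
    (hχ : χ ∈ B) (h0 : blockHeight p B χ = 0) :
    ∃ Φ : (P →* ℂˣ) ≃ B, (∀ l, (Φ l).1.1 = st p P e (lc l) χ) ∧ ∀ l, (Φ l).1.1 1 = χ.1 1 := by
  obtain ⟨Φ, hΦ⟩ := h.exists_equiv_nilp hn hχ h0
  refine ⟨(lcEquiv (comm_of_le_Ce hc)).trans Φ, fun l => hΦ _, fun l => ?_⟩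
  rw [Equiv.trans_apply, hΦ, h.st_apply_one (h.stable_nilp hn
    (IsIrrCharacter.isClassFunction (Subtype.prop _))) (blockPart_irr_of_mem hχ), lcEquiv_apply]
  simp

theorem MP.height_nilp (h : MP p B P e) (hn : IsNilp p ⊤ (bar M B)) (hc : P ≤ Ce P)
    (hχ : χ ∈ B) : blockHeight p B χ = 0 := by
  obtain ⟨ψ, h1, h2⟩ := exists_height_zero p h.blk.nonempty
  obtain ⟨Φ, -, h3⟩ := h.exists_equiv_lc hn hc h1 h2
  rw [← h2]
  exact height_congr (by simpa using h3 (Φ.symm ⟨χ, hχ⟩))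

theorem sum_fourier {W : Type*} [Group W] [Fintype W] (c : (W →* ℂˣ) → ℂ) (l : W →* ℂˣ) :
    ∑ u, (Nat.card W : ℂ)⁻¹ * (∑ m : W →* ℂˣ, m u⁻¹ * c m) * l u = c l := by
  classical
  have h1 : ∀ m : W →* ℂˣ, ∑ u, (Nat.card W : ℂ)⁻¹ * (m u⁻¹ * c m) * l u =
      classInner (lc l) (lc m) * c m := fun m => by
    rw [classInner, Finset.mul_sum, Finset.sum_mul]
    refine Finset.sum_congr rfl fun u _ => ?_
    rw [map_inv, Units.val_inv_eq_inv_val, ← conj_eq_inv_of_pow (z := m u) (n := Nat.card W)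
      Nat.card_pos.ne' (by rw [← Units.val_pow_eq_pow_val, ← map_pow, pow_card_eq_one']; simp)]
    simp only [lc_apply]
    ring
  simp only [Finset.mul_sum, Finset.sum_mul]
  rw [Finset.sum_comm, Finset.sum_congr rfl fun m _ => h1 m]
  simp [classInner_lc]

/-- the group basis of the centre of a nilpotent block with abelian defect group -/
theorem MP.exists_basis [Fintype P] [DecidableEq P] (h : MP p B P e) (hn : IsNilp p ⊤ (bar M B)) (hc : P ≤ Ce P) :
    ∃ (Y : P → (O M)[G]) (c : O M), (∀ u, Y u ∈ Z (O M) (⊤ : Subgroup G)) ∧ Y 1 = fO M B ∧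
      (∀ u v, Y (u * v) = Y u * Y v) ∧ ∀ ι : (O M)[G], IsIdempotentElem ι → fO M B * ι = ι →
      (∀ χ ∈ B, ch χ.1 (toC M ι) = 1) → (∀ u, c * (Y u * ι).coeff 1 = if u = 1 then 1 else 0) ∧
        ∀ a, ι * a * ι = ∑ u, (c * (Y u⁻¹ * (ι * a)).coeff 1) • (Y u * ι) := by
  classical
  haveI : Fact p.Prime := ⟨PMod.prime M⟩
  have := Fintype.ofFinite G
  have inst : ∀ u : G, Fintype (Ce1 u) := fun _ => Fintype.ofFinite _
  obtain ⟨χ, hχ, h0⟩ := exists_height_zero p h.blk.nonempty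
  obtain ⟨Φ, h1, h2⟩ := h.exists_equiv_lc hn hc hχ h0
  obtain ⟨c, hc1, hc2, hc3⟩ := card_div_deg_eq M (p := p) hχ
  rw [h0, pow_zero, one_mul, ← Nat.cast_pow, ← h.card_eq] at hc3
  have c0 := χ.2.isClassFunction
  have hP := card_ne_zero' P
  have hc0 := ne_zero_of_not_LI hc2
  let Y : P → ℂ[G] := fun u => c⁻¹ • zf (sec p (u : G) (sb p P e u) χ.1)
  have y1 : ∀ u, IsInt M (Y u) := fun u g => by
    rw [coeff_smul']
    exact mul_mem (inv_mem_O_of_not_LI hc1 hc2)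
      (isInt_zf M (isIntegral_sec (h.pelt u.2) _ χ.2.isGen) g)
  have y2 : ∀ u, Y u ∈ Z ℂ (⊤ : Subgroup G) := fun u =>
    Subalgebra.smul_mem _ (zf_mem (isClassFunction_sec _ _)) _
  have y3 : ∀ l u, om (Φ l).1.1 (Y u) = l u := fun l u => by
    have h3 := h.cm_eq_one hn u.2 hχ h0
    rw [cm, h.pow_defect_sb_comm hc u.2] at h3
    rw [om_smul, om_zf, cast_deg, h2, ← cast_deg, hc3, ← conj_classInner,
      (h.sb_blk u.2).isUB.classInner_sec c0 (Φ l).1.2.isClassFunction, conj_classInner, h1,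
      h.loc_st (h.stable_nilp hn (isIrr_lc l).isClassFunction) c0, classInner_smul_left]
    field_simp
    exact h3
  have y4 : ∀ ψ : IrrCharacter G, ψ ∉ B → ∀ u, om ψ.1 (Y u) = 0 := fun ψ hψ u => by
    rw [om_smul, om_zf, ← h.blockPart_sec u.2, ← classInner_blockPart_comm,
      blockPart_irr_of_notMem hψ]
    simp [classInner]
  have y5 : ∀ {C : IrrCharacter G → Prop}, (∀ l, C (Φ l)) → (∀ ψ, ψ ∉ B → C ψ) → ∀ ψ, C ψ :=
    fun h3 h4 ψ => by
      by_cases h5 : ψ ∈ B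
      · simpa using h3 (Φ.symm ⟨ψ, h5⟩)
      · exact h4 ψ h5
  have y6 : ∀ ι : (O M)[G], fO M B * ι = ι → ∀ u a, c * ((liftO M (Y u) * (ι * a)).coeff 1 : ℂ) =
      (Nat.card P : ℂ)⁻¹ * ∑ l : P →* ℂˣ, l u * ch (Φ l).1.1 (toC M (ι * a)) := fun ι hι u a => by
    have h3 := sum_degree_mul_ch (toC M (liftO M (Y u) * (ι * a)))
    rw [map_mul, toC_liftO (y1 u), ← sum_fs_eq_univ B fun ψ hψ => by
      rw [ch_central_mul ψ.2 (y2 u), y4 ψ hψ, zero_mul, mul_zero],
      ← Finset.sum_bij (s := Finset.univ)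
        (f := fun l : P →* ℂˣ => χ.1 1 * (l u * ch (Φ l).1.1 (toC M (ι * a))))
        (fun l _ => (Φ l).1) (fun l _ => mem_fs.2 (Φ l).2)
        (fun _ _ _ _ h => Φ.injective (Subtype.ext h))
        (fun ψ hψ => ⟨Φ.symm ⟨ψ, mem_fs.1 hψ⟩, Finset.mem_univ _, by simp⟩) fun l _ => by
          rw [ch_central_mul (Φ l).1.2 (y2 u), y3, h2], ← Finset.mul_sum] at h3
    rw [← coeff_toC, map_mul, toC_liftO (y1 u)]
    have h4 : χ.1 1 ≠ 0 := by rw [← cast_deg]; exact Nat.cast_ne_zero.2 (charDegree_ne_zero _)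
    rw [cast_deg, div_eq_iff h4] at hc3
    rw [hc3] at h3
    rw [eq_inv_mul_iff_mul_eq₀ hP, ← mul_right_inj' h4, h3]
    ring
  refine ⟨fun u => liftO M (Y u), ⟨c, hc1⟩, fun u => liftO_mem_Z (y2 u) (y1 u), ?_, fun u v => ?_,
    fun ι h3 h4 h5 => ⟨fun u => ?_, fun a => ?_⟩⟩
  · apply toC_injective
    rw [toC_liftO (y1 1), h.blk.isUB.toC_fO]
    refine Z_ext_om (y2 1) (fC_mem B) (y5 (fun l => ?_) fun ψ hψ => ?_)
    · rw [y3, om_fC_of_mem (Φ l).2, map_one, Units.val_one]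
    · rw [y4 ψ hψ, om_fC_of_notMem hψ]
  · apply toC_injective
    rw [map_mul, toC_liftO (y1 _), toC_liftO (y1 _), toC_liftO (y1 _)]
    refine Z_ext_om (y2 _) (mul_mem (y2 _) (y2 _)) (y5 (fun l => ?_) fun ψ hψ => ?_)
    · rw [om_mul (Φ l).1.2 (y2 u), y3, y3, y3, map_mul, Units.val_mul]
    · rw [om_mul ψ.2 (y2 u), y4 ψ hψ, y4 ψ hψ, zero_mul]
  · apply Subtype.ext
    have h6 := y6 ι h4 u 1
    rw [mul_one, Finset.sum_congr rfl fun l _ => by rw [h5 _ (Φ l).2, mul_one],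
      sum_lc (comm_of_le_Ce hc)] at h6
    refine h6.trans ?_
    split_ifs <;> simp
  · apply toC_injective
    refine eq_of_forall_ch (y5 (fun l g => ?_) fun ψ hψ g => ?_)
    · rw [map_mul (toC M), map_mul (toC M),
        ch_rank_one (Φ l).1.2.isCharacter (h3.map _) (h5 _ (Φ l).2), map_sum,
        Finset.sum_mul, map_sum, Finset.sum_congr rfl fun u _ => by
          rw [toC_smul, smul_mul_assoc, map_smul, map_mul (toC M), toC_liftO (y1 u), mul_assoc,
            ch_central_mul (Φ l).1.2 (y2 u), y3, MulMemClass.coe_mul, y6 ι h4, smul_eq_mul,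
            ← mul_assoc], ← Finset.sum_mul, sum_fourier, map_mul (toC M)]
    · have h6 : ∀ a : (O M)[G], ch ψ.1 (toC M (ι * a) * single g 1) = 0 := fun a => by
        rw [← h4, mul_assoc, map_mul (toC M), h.blk.isUB.toC_fO, mul_assoc, ch_fC_mul_of_notMem hψ]
      rw [mul_assoc, h6, map_sum, Finset.sum_mul, map_sum, Finset.sum_eq_zero fun u _ => ?_]
      rw [toC_smul, smul_mul_assoc, map_smul, (Z_top_comm (liftO_mem_Z (y2 u) (y1 u)) ι).eq, h6,
        smul_zero]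

open Polynomial in
/-- the basic algebra of a nilpotent block with cyclic defect group is uniserial -/
theorem MP.exists_uniserial (h : MP p B P e) (hn : IsNilp p ⊤ (bar M B)) (hc : IsCyclic P)
    (hi : Prim (TA M G) i) (h1 : bar M B * i = i) : ∃ y : (kk M)[G], i * y = y ∧ y * i = y ∧
      IsNilpotent y ∧ ∀ a, ∃ q : (kk M)[X], i * a * i = aeval y q * i := by
  classical
  haveI : Fact p.Prime := ⟨PMod.prime M⟩
  have := Fintype.ofFinite P
  have hc' := le_Ce_self_of_isCyclic hc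
  obtain ⟨Y, c, h2, h3, h4, h5⟩ := h.exists_basis hn hc'
  obtain ⟨ι, -, -, h6, h7, h8, -⟩ := exists_idem_lift_le (K := ⊤) (L := ⊥) (mem_sup_top i)
    (mem_inv.2 fun x hx => by rw [Subgroup.mem_bot.1 hx, cj_one']) hi.idem (mem_sup_top (fO M B))
    (mem_inv.2 fun x hx => by rw [Subgroup.mem_bot.1 hx, cj_one']) h.blk.isUB.fO_idem h1
    (by rw [toK_fO, ← (commute_bar B i).eq, h1])
  have h9 := (h5 ι h6 h8 fun χ hχ => by
    rw [← dc_eq χ.2.isClassFunction h6, h7, (isNilpotentBlock_iff.2 ⟨h.blk, hn⟩).dc_eq_one hi h1 hχ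
      (h.height_nilp hn hc' hχ)]).2
  obtain ⟨u, hu⟩ := hc.exists_monoid_generator
  have h10 : ∀ a, Commute (toK M (Y u)) a := Z_top_comm (toK_mem_Z (h2 u))
  have h11 : ∀ n, toK M (Y (u ^ n)) * i = toK M (Y u) ^ n * i := fun n => by
    induction n with
    | zero => rw [pow_zero, h3, toK_fO, h1, pow_zero, one_mul]
    | succ n ih => rw [pow_succ', h4, map_mul, mul_assoc, ih, pow_succ', mul_assoc]
  have h12 : ∀ q : (kk M)[X], aeval ((toK M (Y u) - 1) * i) q * i =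
      aeval (toK M (Y u) - 1) q * i := fun q => by
    induction q using Polynomial.induction_on' with
    | add a b ha hb => simp only [map_add, add_mul, ha, hb]
    | monomial n a =>
      rw [aeval_monomial, aeval_monomial, mul_assoc, mul_assoc,
        (((h10 i).sub_left (Commute.one_left i)).mul_pow n), mul_assoc, ← pow_succ,
        hi.idem.pow_succ_eq]
  refine ⟨(toK M (Y u) - 1) * i, ?_, by rw [mul_assoc, hi.idem.eq], ?_, fun a => ?_⟩
  · rw [← mul_assoc, ← ((h10 i).sub_left (Commute.one_left i)).eq, mul_assoc, hi.idem.eq]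
  · haveI : CharP (kk M)[G] p := charP_of_injective_algebraMap (algebraMap (kk M) _).injective p
    refine ⟨p ^ blockDefect p B + 1, ?_⟩
    rw [((h10 i).sub_left (Commute.one_left i)).mul_pow, hi.idem.pow_succ_eq, pow_succ', mul_assoc,
      sub_pow_char_pow_of_commute p _ (h10 1), sub_mul (_ ^ _), ← h11, ← h.card_eq, pow_card_eq_one', h3,
      toK_fO, h1, one_pow, one_mul, sub_self, mul_zero]
  · obtain ⟨a, rfl⟩ := toK_surjective a
    choose n hn using fun v : P => (Submonoid.mem_powers_iff _ _).1 (hu v)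
    refine ⟨∑ v, C (rd M (c * (Y v⁻¹ * (ι * a)).coeff 1 : O M)) * (X + 1) ^ n v, ?_⟩
    rw [h12, ← h7, ← map_mul, ← map_mul, h9, map_sum, map_sum, Finset.sum_mul]
    refine Finset.sum_congr rfl fun v _ => ?_
    rw [toK_smul, map_mul, h7, map_mul, map_pow, map_add, aeval_X, map_one (aeval _), sub_add_cancel, aeval_C,
      mul_assoc, ← h11, hn, Algebra.smul_def]

end Cfsg.Agent.Blk
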