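import Cfsg.Agent.Lib.Block.Loc
import Cfsg.Agent.Lib.Block.Res

set_option autoImplicit false

/-! Watanabe's theorem on blocks with abelian defect groups. -/

namespace Cfsg.Agent.Blk

open MonoidAlgebra
open Cfsg.Agent.Char hiding cj cj_mul cj_inv_cj cj_cj_inv sum_cj_eq om
open scoped ComplexConjugate
attribute [local instance] _root_.Classical.propDecidable
open Subgroup (zpowers mem_zpowers)

section Aut

variable {W : Type*} [Group W] {E : Subgroup (MulAut W)}

/-- The commutator of a group with a group of automorphisms. -/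
def cmA (E : Subgroup (MulAut W)) : Subgroup W := Subgroup.closure {y | ∃ σ ∈ E, ∃ x, y = x⁻¹ * σ x}

theorem mem_cmA {σ : MulAut W} (hσ : σ ∈ E) (x : W) : x⁻¹ * σ x ∈ cmA E :=
  Subgroup.subset_closure ⟨σ, hσ, x, rfl⟩

theorem eq_one_of_mem_cmA [Finite W] (hc : ∀ a b : W, a * b = b * a)
    (h : (Nat.card E).Coprime (Nat.card W)) {y : W} (hy : y ∈ cmA E) (hf : ∀ σ ∈ E, σ y = y) :
    y = 1 := by
  letI : CommGroup W := { (inferInstance : Group W) with mul_comm := hc }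
  have := Fintype.ofFinite E
  let ν : W →* W := ∏ σ : E, (σ.1 : W →* W)
  have hν : ∀ x, ν x = ∏ σ : E, σ.1 x := fun x => by simp [ν]
  have h1 : cmA E ≤ ν.ker := (Subgroup.closure_le _).2 (by
    rintro _ ⟨τ, hτ, x, rfl⟩
    rw [SetLike.mem_coe, MonoidHom.mem_ker, map_mul, map_inv, inv_mul_eq_one, hν, hν]
    exact (Fintype.prod_equiv (Equiv.mulRight (⟨τ, hτ⟩ : E)) _ _ fun σ => rfl).symm)
  have h2 := h1 hy
  rw [MonoidHom.mem_ker, hν, Finset.prod_congr rfl fun σ _ => hf σ.1 σ.2, Finset.prod_const,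
    Finset.card_univ, ← Nat.card_eq_fintype_card] at h2
  rw [← orderOf_eq_one_iff]
  exact Nat.eq_one_of_dvd_coprimes h (orderOf_dvd_of_pow_eq_one h2) (orderOf_dvd_natCard y)

theorem cS_eq_of_orth [Fintype W] (hc : ∀ a b : W, a * b = b * a) (N : Subgroup W) {F : W → ℂ}
    [Fintype N] (h : ∀ l ∈ annih N, l ≠ 1 → ∑ w, F w * l w = 0) (g : W) :
    ∑ n : N, F (n * g) = ∑ n : N, F n := by
  haveI : N.Normal := ⟨fun n hn g => by rwa [hc g, mul_assoc, mul_inv_cancel, mul_one]⟩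
  have h1 : ∀ g, (Nat.card N : ℂ)⁻¹ * ∑ n : N, F (n * g) = classInner F (irrOne W).1 := by
    intro g
    rw [coset_average (isClassFunction_of_comm hc F), Finset.sum_eq_single (irrOne W)]
    · simp
    · intro β hβ hne
      obtain ⟨l, rfl⟩ := (lcEquiv hc).surjective β
      have h2 : N ≤ charKer (lc l) := by simpa [lcEquiv_apply] using hβ
      have h3 := h l⁻¹ (mem_annih.2 fun x hx => Units.ext (by simpa using h2 hx 1))
        fun h3 => hne (by 
          rw [show l = 1 from MonoidHom.ext fun x => inv_eq_one.1 (DFunLike.congr_fun h3 x)]; rfl)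
      rw [classInner, lcEquiv_apply]
      simp only [conj_units_hom]
      simp only [MonoidHom.inv_apply, Units.val_inv_eq_inv_val] at h3
      simp [h3]
    · intro h1
      exact absurd (Finset.mem_filter.2 ⟨Finset.mem_univ _, fun _ _ _ => rfl⟩) h1
  simpa using mul_left_cancel₀ (inv_ne_zero (card_ne_zero' N)) ((h1 g).trans (h1 1).symm)

end Aut

section Rk

variable {G : Type*} [Group G] [Finite G] {M : Ideal AlgInt} {p : ℕ} [PMod M p]
  {B : Set (IrrCharacter G)} {P Q : Subgroup G} {e f : (kk M)[G]} {u w : G}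

theorem rank_image {H : Type*} [Group H] [Finite H] (ε : G ≃* H) {A : Set (IrrCharacter G)}
    (hA : IsUB M A) : blockRank p (irrMap ε '' A) = blockRank p A := by
  have := Fintype.ofFinite G
  have := Fintype.ofFinite H
  apply Nat.cast_injective (R := ℂ)
  rw [hA.blockRank_eq_sum, ((isUB_image_iff ε).2 hA).blockRank_eq_sum]
  refine (Finset.sum_equiv (irrMap ε) (fun χ => by simp) fun χ _ => ?_).symm
  rw [classInner, classInner, Nat.card_congr ε.toEquiv]
  congr 1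
  exact Fintype.sum_equiv ε.toEquiv _ _ fun x => by simp [reg, irrMap_apply']

variable (p) in
/-- The rank of the local block. -/
noncomputable def rk (P : Subgroup G) (e : (kk M)[G]) (R : Subgroup G) : ℕ :=
  blockRank p (cb M (Ce R) (lb p P e R))

theorem MP.rank_sb (h : MP p B P e) (hu : u ∈ P) :
    blockRank p (sb p P e u) = rk p P e (zpowers u) := by
  rw [rk, ← h.barS_sb hu, Ce_zpowers, (h.sb_blk hu).cb_barS]

theorem MP.rank_sb_sub (h : MP p B P e) (hf : PLe p ⊤ Q f P e) (hc : P ≤ Ce P) {u : Ce Q}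
    (hu : (u : G) ∈ P) : blockRank p (sb p (P.subgroupOf (Ce Q)) (rs (Ce Q) e) u) =
      rk p P e (Q ⊔ zpowers (u : G)) := by
  have h1 := h.sub hf (hc.trans (Ce_anti hf.le))
  obtain ⟨ε, hε⟩ := exists_iso_map (Ce Q).subtype_injective (map_Ce1_Ce u)
  rw [rk, ← h.es_sb hf hc hu, cb_emb (Ce Q).subtype_injective (map_Ce1_Ce u) ε hε
    (h1.sb_blk hu).isBlockS, (h1.sb_blk hu).cb_barS, rank_image _ (h1.sb_blk hu).isUB]

theorem mem_stab_sub {K : Subgroup G} (hP : P ≤ K) (he : e ∈ sup (kk M) K) {t : K} :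
    t ∈ stab (⊤ ⊓ No (P.subgroupOf K)) (rs K e) ↔ (t : G) ∈ stab (⊤ ⊓ No P) e := by
  simp only [mem_stab, top_inf_eq, mem_No]
  refine and_congr ?_ ?_
  · rw [← (Subgroup.map_injective K.subtype_injective).eq_iff, map_cs,
      Subgroup.map_subgroupOf_eq_of_le hP]
    rfl
  · rw [← (es_injective K).eq_iff, emb_cj, ← es, es_rs_of_mem he]
    rfl

theorem MP.fc_iff_stab (h : MP p B P e) (hc : P ≤ Ce P) (hu : u ∈ P) :
    FC p P e u w ↔ ∃ t ∈ stab (⊤ ⊓ No P) e, t * u * t⁻¹ = w := by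
  constructor
  · intro h1
    obtain ⟨σ, hσ, h2⟩ := (h.fc_iff_comm hc ⟨u, hu⟩ ⟨w, h1.right⟩).1 h1
    obtain ⟨t, ht, h3⟩ := mem_autE.1 hσ
    exact ⟨t, ht, (h3 _).symm.trans (congrArg Subtype.val h2)⟩
  · rintro ⟨t, ht, rfl⟩
    obtain ⟨σ, hσ, h2⟩ := exists_autE ht
    have := (h.fc_iff_comm hc ⟨u, hu⟩ _).2 ⟨σ, hσ, rfl⟩
    rwa [h2] at this

theorem MP.sum_lc_rank [Fintype P] (h : MP p B P e) (hc : P ≤ Ce P) {l : P →* ℂˣ}
    (hl : Stable p P e (lc l)) (h1 : l ≠ 1) :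
    ∑ w : P, (nF p P e (w : G) : ℂ)⁻¹ * blockRank p (sb p P e (w : G)) * l w = 0 := by
  have := Fintype.ofFinite G
  have : ∀ u : G, Fintype (Ce1 u) := fun _ => Fintype.ofFinite _
  have h2 : ∀ χ ∈ fs B, classInner (st p P e (lc l) χ.1) (st p P e (fun _ => 1) χ.1) = 0 := by
    intro χ hχ
    rw [h.st_one χ.2.isClassFunction, blockPart_irr_of_mem (mem_fs.1 hχ)]
    refine (h.isIrr_st_lc hl (mem_fs.1 hχ)).classInner_of_ne χ.2 fun h2 => h1 ?_
    ext u
    exact h.eq_one_of_st_eq hl χ.2.isClassFunction h2 u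
      (h.loc_ne_zero_of_central ⟨u.2, hc u.2⟩ (mem_fs.1 hχ))
  rw [← Finset.sum_eq_zero h2, Finset.sum_congr rfl fun χ _ => h.classInner_st hl
    (fun _ _ _ => rfl) χ.2.isClassFunction χ.2.isClassFunction, Finset.sum_comm]
  refine Finset.sum_congr rfl fun w _ => ?_
  rw [← Finset.mul_sum, ← Finset.mul_sum, (h.sb_ind w.2).sum_classInner_loc (h.pelt w.2)]
  simp only [lc_apply, map_one]
  ring

end Rk

universe v in
theorem MP.watanabe_aux {M : Ideal AlgInt} {p : ℕ} [PMod M p] (n : ℕ) :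
    ∀ {G : Type v} [Group G] [Finite G] {B : Set (IrrCharacter G)} {P : Subgroup G}
      {e : (kk M)[G]} {u : G}, Nat.card G ≤ n → MP p B P e → P ≤ Ce P → u ∈ P →
      (∀ t ∈ stab (⊤ ⊓ No P) e, t * u * t⁻¹ = u) →
      blockRank p (sb p P e u) = blockRank p B := by
  haveI hp : Fact p.Prime := ⟨PMod.prime M⟩
  induction n with
  | zero => intro G _ _ _ _ _ _ h; exact absurd h (Nat.card_pos (α := G)).not_ge
  | succ n ih =>
    intro G _ _ B P e u hn h hc hu hT
    have := Fintype.ofFinite P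
    have hE : (Nat.card (autE P e)).Coprime (Nat.card P) := by
      rw [h.card_eq]
      exact ((hp.out.coprime_iff_not_dvd.2 (h.not_dvd_autE hc)).symm).pow_right _
    have key : ∀ w ∈ P, Ce (zpowers w) ≠ ⊤ → rk p P e (zpowers w ⊔ zpowers u) =
        rk p P e (zpowers w) := by
      intro w hw hne
      have h1 := h.bp.lb_ple (Subgroup.zpowers_le_of_mem hw)
      have h2 : P ≤ Ce (zpowers w) := hc.trans (Ce_anti h1.le)
      rw [← h.rank_sb_sub h1 hc (u := ⟨u, h2 hu⟩) hu]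
      refine ih ?_ (h.sub h1 h2) (fun x hx => mem_Ce.2 fun y hy =>
        Subtype.ext (mem_Ce.1 (hc hx) y hy)) hu fun t ht => Subtype.ext (hT _ ?_)
      · have := (Subgroup.card_le_card_group (Ce (zpowers w))).lt_of_ne
          fun h => hne (Subgroup.eq_top_of_card_eq _ h)
        omega
      · exact (mem_stab_sub h2 (sup_mono (inf_le_right.trans (Ce_anti h1.le)) h.bp.blk.sup)).1 ht
    set N := cmA (autE P e)
    have := Fintype.ofFinite N
    have h1 := cS_eq_of_orth (comm_of_le_Ce hc) N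
      (F := fun w : P => (nF p P e (w : G) : ℂ)⁻¹ * blockRank p (sb p P e (w : G)))
      (fun l hl h1 => h.sum_lc_rank hc ((h.stable_iff hc).2 fun σ hσ x => by
        have := mem_annih.1 hl _ (mem_cmA hσ x)
        rw [map_mul, map_inv, inv_mul_eq_one] at this
        simp [this]) h1) ⟨u, hu⟩
    have hfix : ∀ (w : N), w ≠ 1 → ∀ z ∈ P, (∀ t ∈ stab (⊤ ⊓ No P) e, t * z * t⁻¹ = z) →
        Ce (zpowers ((w : P) * z : G)) ≠ ⊤ := by
      intro w hw z hz hz' h2
      refine hw (Subtype.ext (eq_one_of_mem_cmA (comm_of_le_Ce hc) hE w.2 fun σ hσ => ?_))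
      obtain ⟨t, ht, h3⟩ := mem_autE.1 hσ
      have h4 := conj_eq_of_mem_Ce (h2 ▸ Subgroup.mem_top t) (mem_zpowers _)
      rw [← conj_mul, hz' t ht, mul_left_inj] at h4
      exact Subtype.ext ((h3 _).trans h4)
    have h2 : ∀ w : N, nF p P e ((w : P) * u : G) = nF p P e ((w : P) : G) := fun w => by
      refine (Nat.card_congr (Equiv.subtypeEquiv (Equiv.mulRight u) fun v => ?_)).symm
      rw [h.fc_iff_stab hc w.1.2, h.fc_iff_stab hc (P.mul_mem w.1.2 hu)]
      refine exists_congr fun t => and_congr_right fun ht => ?_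
      rw [← conj_mul, hT t ht, Equiv.coe_mulRight, mul_left_inj]
    rw [← Finset.add_sum_erase _ _ (Finset.mem_univ 1),
      ← Finset.add_sum_erase _ _ (Finset.mem_univ 1), Finset.sum_congr rfl
      (g := fun w : N => (nF p P e ((w : P) : G) : ℂ)⁻¹ * blockRank p (sb p P e ((w : P) : G)))
      fun w hw => ?_, add_left_inj] at h1
    · have h3 := h2 1
      simp only [OneMemClass.coe_one, one_mul] at h1 h3
      rw [h3, h.bp.nF_one, h.rank_sb_one] at h1
      have h4 : blockRank p (sb p P e (1 * u)) = blockRank p B := by simpa using h1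
      rwa [one_mul] at h4
    · have h3 := Finset.ne_of_mem_erase hw
      have h4 := key _ w.1.2 (by simpa using hfix w h3 1 P.one_mem (by simp))
      have h5 := key _ (P.mul_mem w.1.2 hu) (hfix w h3 u hu hT)
      have h6 : zpowers ((w : P) * u : G) ⊔ zpowers u = zpowers ((w : P) : G) ⊔ zpowers u := by
        refine le_antisymm (sup_le (Subgroup.zpowers_le_of_mem (Subgroup.mul_mem_sup
          (mem_zpowers _) (mem_zpowers _))) le_sup_right) (sup_le
          (Subgroup.zpowers_le_of_mem ?_) le_sup_right)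
        simpa using Subgroup.mul_mem_sup (mem_zpowers ((w : P) * u : G))
          ((zpowers u).inv_mem (mem_zpowers u))
      simp only [Subgroup.coe_mul]
      rw [h2, h.rank_sb (P.mul_mem w.1.2 hu), h.rank_sb w.1.2, ← h4, ← h5, h6]

section Final

variable {G : Type*} [Group G] [Finite G] {M : Ideal AlgInt} {p : ℕ} [PMod M p]
  {B : Set (IrrCharacter G)} {P Q : Subgroup G} {e f : (kk M)[G]} {u w : G}

theorem MP.watanabe (h : MP p B P e) (hc : P ≤ Ce P) (hu : u ∈ P)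
    (hT : ∀ t ∈ stab (⊤ ⊓ No P) e, t * u * t⁻¹ = u) : blockRank p (sb p P e u) = blockRank p B :=
  MP.watanabe_aux _ le_rfl h hc hu hT

theorem MP.rk_sup (h : MP p B P e) (hc : P ≤ Ce P) (hQ : Q ≤ P) (hu : u ∈ P)
    (hT : ∀ t ∈ stab (⊤ ⊓ No P) e, t ∈ Ce Q → t * u * t⁻¹ = u) :
    rk p P e (Q ⊔ zpowers u) = rk p P e Q := by
  have h1 := h.bp.lb_ple hQ
  have h2 : P ≤ Ce Q := hc.trans (Ce_anti hQ)
  rw [← h.rank_sb_sub h1 hc (u := ⟨u, h2 hu⟩) hu]
  exact (h.sub h1 h2).watanabe (fun x hx => mem_Ce.2 fun y hy =>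
    Subtype.ext (mem_Ce.1 (hc hx) y hy)) hu fun t ht => Subtype.ext (hT _
      ((mem_stab_sub h2 (sup_mono (inf_le_right.trans (Ce_anti hQ)) h.bp.blk.sup)).1 ht) t.2)

theorem MP.card_watanabe (h : MP p B P e) (hc : P ≤ Ce P) (hu : u ∈ P)
    (hT : ∀ t ∈ stab (⊤ ⊓ No P) e, t * u * t⁻¹ = u) :
    (fs (cb M (Ce (zpowers u)) (lb p P e (zpowers u)))).card = (fs B).card := by
  have h1 := h.bp.lb_ple (Subgroup.zpowers_le_of_mem hu)
  have h2 : P ≤ Ce (zpowers u) := hc.trans (Ce_anti h1.le)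
  have h3 := h.sub h1 h2
  have h4 := sup_mono (inf_le_right.trans (Ce_anti h1.le)) h.bp.blk.sup
  have := Fintype.ofFinite P
  have := Fintype.ofFinite (P.subgroupOf (Ce (zpowers u)))
  apply Nat.cast_injective (R := ℂ)
  rw [h.card_eq_sum, h3.card_eq_sum]
  refine Fintype.sum_equiv (Subgroup.subgroupOfEquivOfLe h2).toEquiv _ _ fun w => ?_
  have hw : ((w : Ce (zpowers u)) : G) ∈ P := w.2
  have h5 : nF p (P.subgroupOf (Ce (zpowers u))) (rs _ e) (w : Ce (zpowers u)) =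
      nF p P e ((w : Ce (zpowers u)) : G) := by
    have h5 : ∀ t ∈ stab (⊤ ⊓ No P) e, t ∈ Ce (zpowers u) := fun t ht => by
      rw [Ce_zpowers, mem_Ce1, ← mul_inv_eq_iff_eq_mul, hT t ht]
    have h6 : ∀ v : Ce (zpowers u), FC p (P.subgroupOf (Ce (zpowers u))) (rs _ e) w v ↔
        FC p P e ((w : Ce (zpowers u)) : G) v := fun v => by
      rw [h.fc_iff_stab hc hw, h3.fc_iff_stab (fun x hx => mem_Ce.2 fun y hy =>
        Subtype.ext (mem_Ce.1 (hc hx) y hy)) w.2]
      exact ⟨fun ⟨t, ht, h6⟩ => ⟨t, (mem_stab_sub h2 h4).1 ht, congrArg Subtype.val h6⟩,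
        fun ⟨t, ht, h6⟩ => ⟨⟨t, h5 t ht⟩, (mem_stab_sub h2 h4).2 ht, Subtype.ext h6⟩⟩
    exact Nat.card_congr ⟨fun v => ⟨v.1, (h6 _).1 v.2⟩,
      fun v => ⟨⟨v.1, h2 v.2.right⟩, (h6 _).2 v.2⟩, fun _ => rfl, fun _ => rfl⟩
  rw [h5, h.rank_sb_sub h1 hc hw, sup_comm,
    h.rk_sup hc (Subgroup.zpowers_le_of_mem hw) hu fun t ht _ => hT t ht, ← h.rank_sb hw]
  rfl

end Final

end Cfsg.Agent.Blk
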